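import Mathlib.AlgebraicGeometry.Morphisms.UniversallyOpen
import Mathlib.AlgebraicGeometry.Morphisms.UnderlyingMap
import Mathlib.AlgebraicGeometry.Morphisms.Etale
import Mathlib.AlgebraicGeometry.Morphisms.Flat
import Mathlib.AlgebraicGeometry.Morphisms.Smooth
import Groth.Prelude.Def_AlgSp4
import Groth.Prelude.Def_AlgSpDec

/-!
Calculus of points of sheaves on the fppf site: points of fibre products, surjectivity and
openness criteria for representable maps.
-/

universe u

set_option autoImplicit false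

open CategoryTheory CategoryTheory.Limits AlgebraicGeometry Opposite Topology
open AlgSp

namespace Groth.Agent.SpPts86

variable {S : Scheme.{u}} {F G H P : Sp S}

/-- Points of a fibre product surject onto the fibre product of points. -/
theorem exists_of_isPullback {fst : P ⟶ F} {snd : P ⟶ G} {f : F ⟶ H} {g : G ⟶ H}
    (sq : IsPullback fst snd f g) (x : Points F) (y : Points G)
    (e : Points.map f x = Points.map g y) :
    ∃ z : Points P, Points.map fst z = x ∧ Points.map snd z = y := by
  induction x using Points.ind with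
  | h p => induction y using Points.ind with
    | h q =>
      rw [Points.map_mk, Points.map_mk, Points.mk_eq_mk_iff] at e
      obtain ⟨Ω, _, w, a, b, hab⟩ := e
      have hab' : f.hom.app _ (F.obj.map a.op p.val) = g.hom.app _ (G.obj.map b.op q.val) :=
        (NatTrans.naturality_apply f.hom a.op p.val).trans
          (hab.trans (NatTrans.naturality_apply g.hom b.op q.val).symm)
      have sqv := (sq.map (sheafToPresheaf (J S) (Type (u + 1)))).map
        ((evaluation _ _).obj (op (Over.mk w)))
      obtain ⟨v, hv₁, hv₂⟩ := Types.exists_of_isPullback sqv _ _ hab'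
      refine ⟨Points.mk ⟨Ω, w, v⟩, ?_, ?_⟩
      · refine Points.sound ⟨Ω, inferInstance, w, 𝟙 _, a, ?_⟩
        erw [Functor.map_id_apply]
        exact hv₁
      · refine Points.sound ⟨Ω, inferInstance, w, 𝟙 _, b, ?_⟩
        erw [Functor.map_id_apply]
        exact hv₂

theorem ofPt_yon_map {T T' : Over S} (φ : T ⟶ T') (t : ↥T.left) :
    Points.ofPt ((yon S).map φ) t = Points.ofScheme T' (φ.left t) := by
  rw [← Points.toScheme_ofPt φ t, Points.ofScheme_toScheme]

theorem ofPt_comp {T T' : Over S} (φ : T ⟶ T') (g : (yon S).obj T' ⟶ F) (t : ↥T.left) :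
    Points.ofPt ((yon S).map φ ≫ g) t = Points.ofPt g (φ.left t) := by
  rw [← Points.map_ofPt, ofPt_yon_map, ← Points.ofPt_eq_map_ofScheme]

/-- Every point is hit by a morphism from the spectrum of a field. -/
theorem exists_ofPt_eq (x : Points F) :
    ∃ (T : Over S) (g : (yon S).obj T ⟶ F) (t : ↥T.left),
      Points.ofPt g t = x ∧ Subsingleton ↥T.left := by
  induction x using Points.ind with
  | h p => exact ⟨p.pt, p.toHom, IsLocalRing.closedPoint p.K, Points.ofPt_toHom p _,
      inferInstanceAs (Subsingleton (PrimeSpectrum p.K))⟩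

theorem range_map_yon {T : Over S} (g : (yon S).obj T ⟶ F) :
    Set.range (Points.map g) = Set.range (Points.ofPt g) := by
  ext x
  constructor
  · rintro ⟨y, rfl⟩
    obtain ⟨t, rfl⟩ := (Points.schemeHomeo T).surjective y
    exact ⟨t, Points.ofPt_eq_map_ofScheme g t⟩
  · rintro ⟨t, rfl⟩
    exact ⟨_, (Points.ofPt_eq_map_ofScheme g t).symm⟩

section Square

variable {U V : Over S} {fst : (yon S).obj V ⟶ F} {snd : V ⟶ U} {f : F ⟶ G}
  {g : (yon S).obj U ⟶ G}

theorem map_ofPt_fst (sq : IsPullback fst ((yon S).map snd) f g) (v : ↥V.left) :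
    Points.map f (Points.ofPt fst v) = Points.ofPt g (snd.left v) := by
  rw [Points.map_ofPt, sq.w, ofPt_comp]

/-- The scheme representing a fibre product surjects onto pairs of compatible points. -/
theorem exists_pt_of_isPullback (sq : IsPullback fst ((yon S).map snd) f g)
    (x : Points F) (u : ↥U.left) (e : Points.map f x = Points.ofPt g u) :
    ∃ v : ↥V.left, Points.ofPt fst v = x ∧ snd.left v = u := by
  rw [Points.ofPt_eq_map_ofScheme] at e
  obtain ⟨z, hz₁, hz₂⟩ := exists_of_isPullback sq x (Points.ofScheme U u) e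
  obtain ⟨v, rfl⟩ := (Points.schemeHomeo V).surjective z
  refine ⟨v, ?_, ?_⟩
  · rw [Points.ofPt_eq_map_ofScheme]; exact hz₁
  · rw [Points.map_yon_map_apply] at hz₂
    exact (Points.schemeHomeo U).injective hz₂

theorem preimage_ofPt_image_map (sq : IsPullback fst ((yon S).map snd) f g)
    (A : Set (Points F)) :
    Points.ofPt g ⁻¹' (Points.map f '' A) = snd.left '' (Points.ofPt fst ⁻¹' A) := by
  ext u
  constructor
  · rintro ⟨x, hx, e⟩
    obtain ⟨v, hv₁, hv₂⟩ := exists_pt_of_isPullback sq x u e
    exact ⟨v, show Points.ofPt fst v ∈ A by rwa [hv₁], hv₂⟩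
  · rintro ⟨v, hv, rfl⟩
    exact ⟨_, hv, map_ofPt_fst sq v⟩

theorem preimage_ofPt_range_map (sq : IsPullback fst ((yon S).map snd) f g) :
    Points.ofPt g ⁻¹' Set.range (Points.map f) = Set.range snd.left := by
  rw [← Set.image_univ, preimage_ofPt_image_map sq, Set.preimage_univ, Set.image_univ]

end Square

theorem exists_pt_of_isPullback' {U U' V : Over S} {fst : V ⟶ U'} {snd : V ⟶ U}
    {a : (yon S).obj U' ⟶ G} {b : (yon S).obj U ⟶ G}
    (sq : IsPullback ((yon S).map fst) ((yon S).map snd) a b) (u' : ↥U'.left) (u : ↥U.left)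
    (e : Points.ofPt a u' = Points.ofPt b u) :
    ∃ v : ↥V.left, fst.left v = u' ∧ snd.left v = u := by
  rw [Points.ofPt_eq_map_ofScheme a] at e
  obtain ⟨v, hv₁, hv₂⟩ := exists_pt_of_isPullback sq _ u e
  rw [ofPt_yon_map] at hv₁
  exact ⟨v, (Points.schemeHomeo U').injective hv₁, hv₂⟩

theorem ofPt_eq_of_isPullback {U U' V : Over S} {fst : V ⟶ U'} {snd : V ⟶ U}
    {a : (yon S).obj U' ⟶ G} {b : (yon S).obj U ⟶ G}
    (sq : IsPullback ((yon S).map fst) ((yon S).map snd) a b) (v : ↥V.left) :
    Points.ofPt a (fst.left v) = Points.ofPt b (snd.left v) := by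
  rw [← ofPt_comp, sq.w, ofPt_comp]

section Criteria

variable {f : F ⟶ G}

theorem isSurjectiveMor_of_repWith (hf : RepWith @Surjective f) : IsSurjectiveMor f := by
  intro y
  obtain ⟨T, g, t, rfl, -⟩ := exists_ofPt_eq y
  obtain ⟨V, snd, fst, sq⟩ := hf.1 g
  have hs : Surjective snd.left := hf.2 g fst snd sq
  obtain ⟨v, hv⟩ := snd.left.surjective t
  exact ⟨Points.ofPt fst v, by rw [map_ofPt_fst sq, hv]⟩

theorem repWith_surjective_iff (hf : Representable f) :
    RepWith @Surjective f ↔ IsSurjectiveMor f := by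
  refine ⟨isSurjectiveMor_of_repWith, fun h => ⟨hf, fun U V g fst snd sq => ⟨fun u => ?_⟩⟩⟩
  obtain ⟨x, hx⟩ := h (Points.ofPt g u)
  obtain ⟨v, -, hv⟩ := exists_pt_of_isPullback sq x u hx
  exact ⟨v, hv⟩

theorem isOpenMap_map_of_repWith (hf : RepWith @UniversallyOpen f) :
    IsOpenMap (Points.map f) := by
  intro A hA
  refine Points.isOpen_iff.2 fun T g => ?_
  obtain ⟨V, snd, fst, sq⟩ := hf.1 g
  have : UniversallyOpen snd.left := hf.2 g fst snd sq
  rw [preimage_ofPt_image_map sq]
  exact snd.left.isOpenMap _ (hA.preimage (Points.continuous_ofPt fst))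

theorem etale_le_universallyOpen : @Etale ≤ @UniversallyOpen := fun _ _ f _ => by
  infer_instance

theorem repWith_mono {P Q : MorphismProperty Scheme.{u}} (h : P ≤ Q) (hf : RepWith P f) :
    RepWith Q f :=
  MorphismProperty.relative_monotone (fun _ _ _ hg => h _ hg) f hf

end Criteria

theorem isOpenMap_ofPt_of_repWith {U : Over S} {a : (yon S).obj U ⟶ F}
    (ha : RepWith @UniversallyOpen a) : IsOpenMap (Points.ofPt a) := by
  have : Points.ofPt a = Points.map a ∘ Points.schemeHomeo U :=
    funext fun t => Points.ofPt_eq_map_ofScheme a t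
  rw [this]
  exact (isOpenMap_map_of_repWith ha).comp (Points.schemeHomeo U).isOpenMap

theorem isOpenMap_ofPt {U : Over S} {a : (yon S).obj U ⟶ F} (ha : RepWith @Etale a) :
    IsOpenMap (Points.ofPt a) :=
  isOpenMap_ofPt_of_repWith (repWith_mono etale_le_universallyOpen ha)

theorem surjective_ofPt {U : Over S} {a : (yon S).obj U ⟶ F} (ha : RepWith @Surjective a) :
    Function.Surjective (Points.ofPt a) := fun x => by
  obtain ⟨y, rfl⟩ := isSurjectiveMor_of_repWith ha x
  obtain ⟨t, rfl⟩ := (Points.schemeHomeo U).surjective y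
  exact ⟨t, Points.ofPt_eq_map_ofScheme a t⟩

theorem isOpenQuotientMap_ofPt {U : Over S} {a : (yon S).obj U ⟶ F} (ha : RepWith @Etale a)
    (hs : RepWith @Surjective a) : IsOpenQuotientMap (Points.ofPt a) :=
  ⟨surjective_ofPt hs, Points.continuous_ofPt a, isOpenMap_ofPt ha⟩

end Groth.Agent.SpPts86
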