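import Groth.Prelude.Def_AlgSp4
import Groth.Agent.SpFP87.LocP
import Groth.Agent.SpPts86.Basic

/-!
Common refinements of two etale charts.
-/

universe u

set_option autoImplicit false

open CategoryTheory CategoryTheory.Limits AlgebraicGeometry
open AlgSp Groth.Agent.SpFP87

namespace Groth.Agent.SpPts86

variable {S : Scheme.{u}} {F : Sp S}

/-- Two etale charts of an algebraic space have a common etale refinement, a fibre product. -/
theorem exists_common_chart (hF : IsAlgSpace F) {U V : Over S} {a : (yon S).obj U ⟶ F}
    {b : (yon S).obj V ⟶ F} (ha : RepWith @Etale a) (hb : RepWith @Etale b) :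
    ∃ (W : Over S) (p : W ⟶ U) (q : W ⟶ V), Etale p.left ∧ Etale q.left ∧
      IsPullback ((yon S).map p) ((yon S).map q) a b ∧
      (RepWith @Surjective b → Surjective p.left) ∧ (RepWith @Surjective a → Surjective q.left) ∧
      RepWith @Etale ((yon S).map p ≫ a) := by
  obtain ⟨W, p, q, sq⟩ := exists_isPullback_yon hF.diag a b
  have hp : Etale p.left := etale_snd_of_isPullback sq.flip hb
  refine ⟨W, p, q, hp, etale_snd_of_isPullback sq ha, sq, fun h => etale_snd_of_isPullback sq.flip h,
    fun h => etale_snd_of_isPullback sq h, ?_⟩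
  exact (repWith_isMultiplicative (S := S) @Etale).comp_mem _ _
    ((repWith_yon_map_iff _ _).2 hp) ha

/-- A point reached by two charts is reached by their common refinement. -/
theorem exists_pt_common_chart {U V W : Over S} {a : (yon S).obj U ⟶ F}
    {b : (yon S).obj V ⟶ F} {p : W ⟶ U} {q : W ⟶ V}
    (sq : IsPullback ((yon S).map p) ((yon S).map q) a b) (u : ↥U.left) (v : ↥V.left)
    (h : Points.ofPt a u = Points.ofPt b v) : ∃ w : ↥W.left, p.left w = u ∧ q.left w = v := by
  obtain ⟨w, h1, h2⟩ := exists_pt_of_isPullback' sq u v h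
  exact ⟨w, h1, h2⟩

end Groth.Agent.SpPts86

namespace Groth.Agent.SpPts86

variable {S : Scheme.{u}}

/-- A represented fibre product is jointly monic into the product over the base. -/
theorem mono_lift_of_isPullback {F : Sp S} {U V W : Over S} {p : W ⟶ U} {q : W ⟶ V}
    {a : (yon S).obj U ⟶ F} {b : (yon S).obj V ⟶ F}
    (sq : IsPullback ((yon S).map p) ((yon S).map q) a b) :
    Mono (pullback.lift p.left q.left ((Over.w p).trans (Over.w q).symm) :
      W.left ⟶ pullback U.hom V.hom) := by
  constructor
  intro T x y h
  have h1 : x ≫ p.left = y ≫ p.left := by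
    have := congrArg (· ≫ pullback.fst U.hom V.hom) h
    rwa [Category.assoc, Category.assoc, pullback.lift_fst] at this
  have h2 : x ≫ q.left = y ≫ q.left := by
    have := congrArg (· ≫ pullback.snd U.hom V.hom) h
    rwa [Category.assoc, Category.assoc, pullback.lift_snd] at this
  let x' : Over.mk (x ≫ W.hom) ⟶ W := Over.homMk x rfl
  let y' : Over.mk (x ≫ W.hom) ⟶ W := Over.homMk y (by
    show y ≫ W.hom = x ≫ W.hom
    rw [← Over.w p, ← Category.assoc, ← Category.assoc, h1])
  have : (yon S).map x' = (yon S).map y' := by
    apply sq.hom_ext <;> rw [← Functor.map_comp, ← Functor.map_comp] <;> congr 1 <;>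
      apply Over.OverMorphism.ext
    · exact h1
    · exact h2
  exact congrArg CommaMorphism.left ((yon S).map_injective this)

end Groth.Agent.SpPts86
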