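import Mathlib.AlgebraicGeometry.Morphisms.LocalFlatDescent
import Mathlib.AlgebraicGeometry.Morphisms.FlatDescent
import Mathlib.AlgebraicGeometry.Cover.Sigma
import Mathlib.AlgebraicGeometry.Limits
import Mathlib.AlgebraicGeometry.Sites.Fpqc

/-!
Zariski local properties descending along fppf morphisms are local on the target for the fppf
precoverage.
-/

universe u

set_option autoImplicit false

open CategoryTheory CategoryTheory.Limits AlgebraicGeometry MorphismProperty

namespace Groth.Agent.SpPts86

/-- Surjective, flat, locally of finite presentation. -/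
abbrev fppfMor : MorphismProperty Scheme.{u} := @Surjective ⊓ @Flat ⊓ @LocallyOfFinitePresentation

theorem of_forall_pullbackSnd_fppf (P : MorphismProperty Scheme.{u}) [P.IsStableUnderBaseChange]
    [IsZariskiLocalAtTarget P] [P.DescendsAlong fppfMor] {X Y : Scheme.{u}} (f : Y ⟶ X)
    {R : Presieve X} (hR : R ∈ Scheme.fppfPrecoverage X)
    (h : ∀ {U : Scheme.{u}} {g : U ⟶ X} [HasPullback f g], R g → P (pullback.snd f g)) : P f := by
  obtain ⟨(𝒰₀ : X.Cover (Scheme.precoverage (@Flat ⊓ @LocallyOfFinitePresentation))), rfl⟩ :=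
    Precoverage.mem_iff_exists_zeroHypercover.1 hR
  let 𝒰 := 𝒰₀.ulift
  have h' : ∀ i, P (pullback.snd f (𝒰.f i)) := fun i => h (Presieve.ofArrows.mk _)
  let σ : (∐ 𝒰.X) ⟶ X := Sigma.desc 𝒰.f
  have hfl : Flat σ := by
    have : IsZariskiLocalAtSource (@Flat : MorphismProperty Scheme.{u}) :=
      HasRingHomProperty.instIsZariskiLocalAtSource
    exact IsZariskiLocalAtSource.sigmaDesc fun i => (𝒰.map_prop i).1
  have hfp : LocallyOfFinitePresentation σ := by
    have : IsZariskiLocalAtSource (@LocallyOfFinitePresentation : MorphismProperty Scheme.{u}) :=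
      HasRingHomProperty.instIsZariskiLocalAtSource
    exact IsZariskiLocalAtSource.sigmaDesc fun i => (𝒰.map_prop i).2
  have hsurj : Surjective σ := Surjective.sigmaDesc_of_union_range_eq_univ 𝒰.iUnion_range
  refine MorphismProperty.of_pullback_snd_of_descendsAlong (Q := fppfMor) (f := f) (g := σ)
    ⟨⟨hsurj, hfl⟩, hfp⟩ ?_
  refine IsZariskiLocalAtTarget.of_openCover (sigmaOpenCover 𝒰.X) fun i => ?_
  change P (pullback.snd (pullback.snd f σ) (Sigma.ι 𝒰.X i))
  refine (MorphismProperty.arrow_mk_iso_iff P ?_).1 (h' i)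
  refine Arrow.isoMk ((pullbackLeftPullbackSndIso f σ (Sigma.ι 𝒰.X i)) ≪≫
    pullback.congrHom rfl (by simp [σ])).symm (Iso.refl _) ?_
  simp only [Iso.symm_hom, Iso.trans_inv, Iso.refl_hom]
  rw [Category.assoc]
  erw [pullbackLeftPullbackSndIso_inv_snd_snd, pullback.congrHom_inv, pullback.lift_snd,
    Category.comp_id]

theorem isLocalAtTarget_fppf (P : MorphismProperty Scheme.{u}) [P.IsStableUnderBaseChange]
    [IsZariskiLocalAtTarget P] [P.DescendsAlong fppfMor] :
    P.IsLocalAtTarget Scheme.fppfPrecoverage :=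
  have : P.RespectsIso := MorphismProperty.IsStableUnderBaseChange.respectsIso
  { pullbackSnd := fun {_ _ f _ _ g} _ _ hf => P.pullback_snd f g hf
    of_forall_pullbackSnd := fun {_ _ f _} hR h => of_forall_pullbackSnd_fppf P f hR h }

end Groth.Agent.SpPts86
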