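import Mathlib.RingTheory.RingHom.Flat
import Groth.Agent.Unr55.DescProps
import Groth.Agent.SpPts86.FppfLocal
import Groth.Agent.SpFP87.LocPRep
import Groth.Agent.SpFP87.EtLocInst

/-!
Descent along fppf morphisms for the standard properties, packaged for `RepWith` and `LocP`.
-/

universe u

set_option autoImplicit false

open CategoryTheory CategoryTheory.Limits AlgebraicGeometry MorphismProperty TensorProduct
open AlgSp Groth.Agent.SpFP87

namespace Groth.Agent.SpPts86

set_option backward.isDefEq.respectTransparency.types false in
/-- Descent along quasi-compact fpqc maps gives descent along fppf maps. -/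
theorem descends_fppf_of_fpqc (P : MorphismProperty Scheme.{u}) [IsZariskiLocalAtTarget P]
    (h : P.DescendsAlong Unr55.fpqc.{u}) : P.DescendsAlong fppfSurj := by
  have := h
  unfold fppfSurj
  infer_instance

set_option backward.isDefEq.respectTransparency.types false in
theorem flat_codescendsAlong :
    RingHom.CodescendsAlong (@RingHom.Flat.{u, u}) RingHom.FaithfullyFlat := by
  refine .mk _ RingHom.Flat.respectsIso fun R S T _ _ _ _ _ h h' ↦ ?_
  rw [RingHom.faithfullyFlat_algebraMap_iff] at h
  rw [RingHom.flat_algebraMap_iff] at h' ⊢
  exact Module.Flat.of_flat_tensorProduct R T S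

set_option backward.isDefEq.respectTransparency.types false in
theorem flat_fpqc : DescendsAlong (@Flat : MorphismProperty Scheme.{u}) Unr55.fpqc.{u} :=
  HasRingHomProperty.descendsAlong_flat flat_codescendsAlong

set_option backward.isDefEq.respectTransparency.types false in
theorem flat_descends : DescendsAlong (@Flat : MorphismProperty Scheme.{u}) fppfSurj :=
  descends_fppf_of_fpqc _ flat_fpqc

set_option backward.isDefEq.respectTransparency.types false in
theorem lft_descends : DescendsAlong (@LocallyOfFiniteType : MorphismProperty Scheme.{u}) fppfSurj :=
  descends_fppf_of_fpqc _ inferInstance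

set_option backward.isDefEq.respectTransparency.types false in
theorem lfp_descends :
    DescendsAlong (@LocallyOfFinitePresentation : MorphismProperty Scheme.{u}) fppfSurj :=
  descends_fppf_of_fpqc _ inferInstance

set_option backward.isDefEq.respectTransparency.types false in
theorem smooth_descends : DescendsAlong (@Smooth : MorphismProperty Scheme.{u}) fppfSurj :=
  descends_fppf_of_fpqc _ inferInstance

set_option backward.isDefEq.respectTransparency.types false in
theorem etale_descends : DescendsAlong (@Etale : MorphismProperty Scheme.{u}) fppfSurj :=
  descends_fppf_of_fpqc _ inferInstance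

set_option backward.isDefEq.respectTransparency.types false in
theorem formallyUnramified_descends :
    DescendsAlong (@FormallyUnramified : MorphismProperty Scheme.{u}) fppfSurj :=
  descends_fppf_of_fpqc _ inferInstance

set_option backward.isDefEq.respectTransparency.types false in
theorem lqf_descends : DescendsAlong (@LocallyQuasiFinite : MorphismProperty Scheme.{u}) fppfSurj :=
  descends_fppf_of_fpqc _ Unr55.locallyQuasiFinite

/-- The two conjunction properties used in the statements. -/
abbrev lqfLft : MorphismProperty Scheme.{u} := @LocallyQuasiFinite ⊓ @LocallyOfFiniteType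

/-- Unramified morphisms. -/
abbrev unram : MorphismProperty Scheme.{u} := @LocallyOfFiniteType ⊓ @FormallyUnramified

/-- The seven standard etale local properties are etale local and descend. -/
theorem etLoc_descends_of_cases (P : MorphismProperty Scheme.{u})
    (hP : P = @LocallyOfFiniteType ∨ P = @LocallyOfFinitePresentation ∨ P = @Flat ∨ P = @Smooth ∨
      P = @Etale ∨
      (∀ ⦃A B : Scheme.{u}⦄ (g : A ⟶ B), P g ↔ (LocallyQuasiFinite g ∧ LocallyOfFiniteType g)) ∨
      (∀ ⦃A B : Scheme.{u}⦄ (g : A ⟶ B), P g ↔ (LocallyOfFiniteType g ∧ FormallyUnramified g))) :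
    EtLoc P ∧ P.DescendsAlong fppfSurj := by
  have := lft_descends.{u}
  have := lqf_descends.{u}
  have := formallyUnramified_descends.{u}
  rcases hP with rfl | rfl | rfl | rfl | rfl | h | h
  · exact ⟨inferInstance, lft_descends⟩
  · exact ⟨inferInstance, lfp_descends⟩
  · exact ⟨inferInstance, flat_descends⟩
  · exact ⟨inferInstance, smooth_descends⟩
  · exact ⟨inferInstance, etale_descends⟩
  · obtain rfl : P = lqfLft := by ext A B g; exact h g
    exact ⟨etLoc_inf _ _, DescendsAlong.inf⟩
  · obtain rfl : P = unram := by ext A B g; exact h g
    exact ⟨etLoc_inf _ _, DescendsAlong.inf⟩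

end Groth.Agent.SpPts86
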