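import Mathlib.AlgebraicGeometry.Noetherian
import Groth.Agent.SpPts86.Props

/-!
Cancellation and Noetherian facts for `LocP`.
-/

universe u

set_option autoImplicit false

open CategoryTheory CategoryTheory.Limits AlgebraicGeometry MorphismProperty
open AlgSp Groth.Agent.SpFP87

namespace Groth.Agent.SpPts86

section Schemes

variable {X Y Z : Scheme.{u}}

/-- Over a locally Noetherian base, locally of finite type is locally of finite presentation. -/
theorem lfp_of_lft (f : X ⟶ Y) [LocallyOfFiniteType f] [IsLocallyNoetherian Y] :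
    LocallyOfFinitePresentation f := by
  refine HasRingHomProperty.iff_appLE.2 fun U V e => ?_
  have : IsNoetherianRing Γ(Y, U.1) := IsLocallyNoetherian.component_noetherian U
  exact RingHom.FinitePresentation.of_finiteType.1
    (HasRingHomProperty.appLE (P := @LocallyOfFiniteType) f inferInstance U V e)

set_option backward.isDefEq.respectTransparency.types false in
/-- Cancellation for finite presentation. -/
theorem lfp_of_comp (f : X ⟶ Y) (g : Y ⟶ Z) [LocallyOfFinitePresentation (f ≫ g)]
    [LocallyOfFiniteType g] : LocallyOfFinitePresentation f := by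
  rename_i h hg
  wlog hZ : IsAffine Z generalizing X Y Z
  · rw [IsZariskiLocalAtTarget.iff_of_iSup_eq_top (P := @LocallyOfFinitePresentation) _
      (g.iSup_preimage_eq_top (iSup_affineOpens_eq_top Z))]
    intro U
    have H : LocallyOfFinitePresentation ((f ≫ g) ∣_ U.1) := IsZariskiLocalAtTarget.restrict h U.1
    rw [morphismRestrict_comp] at H
    exact this (hg := inferInstance) (h := H) (hZ := U.2)
  wlog hY : IsAffine Y generalizing X Y
  · rw [IsZariskiLocalAtTarget.iff_of_iSup_eq_top (P := @LocallyOfFinitePresentation) _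
      (iSup_affineOpens_eq_top Y)]
    intro U
    have H : LocallyOfFinitePresentation ((f ⁻¹ᵁ U.1).ι ≫ f ≫ g) :=
      HasRingHomProperty.comp_of_isOpenImmersion _ _ _ h
    rw [← morphismRestrict_ι_assoc] at H
    exact this (hg := HasRingHomProperty.comp_of_isOpenImmersion _ _ _ hg) (h := H) (hY := U.2)
  wlog hX : IsAffine X generalizing X
  · rw [IsZariskiLocalAtSource.iff_of_iSup_eq_top (P := @LocallyOfFinitePresentation) _
      (iSup_affineOpens_eq_top X)]
    intro U
    have H : LocallyOfFinitePresentation (U.1.ι ≫ f ≫ g) :=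
      HasRingHomProperty.comp_of_isOpenImmersion _ _ _ h
    rw [← Category.assoc] at H
    exact this (h := H) (hX := U.2)
  rw [HasRingHomProperty.iff_of_isAffine (P := @LocallyOfFinitePresentation)] at h ⊢
  rw [HasRingHomProperty.iff_of_isAffine (P := @LocallyOfFiniteType)] at hg
  exact RingHom.FinitePresentation.of_comp_finiteType _ h hg

end Schemes

variable {S : Scheme.{u}} {X Y Z : Sp S}

/-- Cancellation for `LocP`. -/
theorem locP_of_comp {P Q R : MorphismProperty Scheme.{u}} [EtLoc P] [R.IsStableUnderBaseChange]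
    (hcancel : ∀ {A B C : Scheme.{u}} (f : A ⟶ B) (g : B ⟶ C), R (f ≫ g) → Q g → P f)
    {f : X ⟶ Y} {g : Y ⟶ Z} (hX : IsAlgSpace X) (hY : IsAlgSpace Y) (hZ : IsAlgSpace Z)
    (h : LocP R (f ≫ g)) (hg : LocP Q g) : LocP P f := by
  obtain ⟨W, c, hc, hcs⟩ := hZ.atlas
  obtain ⟨V, b, k, hb, hbs, w⟩ := exists_compatible_chart g hY hZ.diag hc hcs
  obtain ⟨U, a, m, ha, has, w'⟩ := exists_compatible_chart f hX hY.diag hb hbs
  refine locP_of_chart hX.diag hY.diag ha has hb w' (hcancel m.left k.left ?_ (hg b c k hb hc w))
  rw [← Over.comp_left]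
  exact h a c (m ≫ k) ha hc (by rw [← Category.assoc, w', Category.assoc, w, Functor.map_comp_assoc])

end Groth.Agent.SpPts86
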