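import Mathlib.AlgebraicGeometry.Morphisms.FinitePresentation

/-!
Locally constructible sets under morphisms of schemes: preimage, and descent along open
surjective morphisms locally of finite presentation.
-/

universe u

set_option autoImplicit false

open CategoryTheory AlgebraicGeometry Topology

namespace Groth.Agent.SpPts86

variable {X Y : Scheme.{u}}

theorem isLocallyConstructible_preimage (f : X ⟶ Y) {t : Set ↥Y} (ht : IsLocallyConstructible t) :
    IsLocallyConstructible (f ⁻¹' t) := by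
  intro x
  obtain ⟨V, hV, hxV, -⟩ := exists_isAffineOpen_mem_and_subset (x := f x) (U := ⊤) trivial
  obtain ⟨U, hU, hxU, hUV⟩ := exists_isAffineOpen_mem_and_subset (x := x) (U := f ⁻¹ᵁ V) hxV
  refine ⟨(U : Set ↥X), U.2.mem_nhds hxU, U.2, ?_⟩
  have : IsAffine V := hV
  have : IsAffine U := hU
  have h1 : IsConstructible (V.ι ⁻¹' t) :=
    (ht.preimage_of_isOpenEmbedding V.ι.isOpenEmbedding).isConstructible
  have h2 := (f.resLE V U hUV).isConstructible_preimage h1
  rwa [← Set.preimage_comp, ← TopCat.coe_comp, ← Scheme.Hom.comp_base, Scheme.Hom.resLE_comp_ι] at h2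

theorem isLocallyConstructible_of_preimage (f : X ⟶ Y) [LocallyOfFinitePresentation f]
    (ho : IsOpenMap f) (hs : Function.Surjective f) {t : Set ↥Y}
    (h : IsLocallyConstructible (f ⁻¹' t)) : IsLocallyConstructible t := by
  intro y
  obtain ⟨x, rfl⟩ := hs y
  obtain ⟨V, hV, hxV, -⟩ := exists_isAffineOpen_mem_and_subset (x := f x) (U := ⊤) trivial
  obtain ⟨U, hU, hxU, hUV⟩ := exists_isAffineOpen_mem_and_subset (x := x) (U := f ⁻¹ᵁ V) hxV
  have : IsAffine V := hV
  have : IsAffine U := hU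
  set g := f.resLE V U hUV with hg
  have hgv : ∀ z, V.ι (g z) = f (U.ι z) := fun z => by
    rw [← Scheme.Hom.comp_apply, ← Scheme.Hom.comp_apply, hg, Scheme.Hom.resLE_comp_ι]
  refine ⟨f '' (U : Set ↥X), (ho _ U.2).mem_nhds ⟨x, hxU, rfl⟩, ho _ U.2, ?_⟩
  have h1 : IsConstructible (U.ι ⁻¹' (f ⁻¹' t)) :=
    (h.preimage_of_isOpenEmbedding U.ι.isOpenEmbedding).isConstructible
  have h2 : IsConstructible (g '' (U.ι ⁻¹' (f ⁻¹' t))) := g.isConstructible_image h1
  have hsub : f '' (U : Set ↥X) ⊆ (V : Set ↥Y) := by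
    rintro _ ⟨z, hz, rfl⟩
    exact hUV hz
  have h3 := h2.preimage_of_isOpenEmbedding
    (IsOpenEmbedding.inclusion hsub ((ho _ U.2).preimage continuous_subtype_val))
  convert h3 using 1
  ext ⟨z, z', hz', rfl⟩
  constructor
  · intro hzt
    exact ⟨⟨z', hz'⟩, hzt, Subtype.ext (hgv ⟨z', hz'⟩)⟩
  · rintro ⟨w, hw, hwz⟩
    have := congrArg Subtype.val hwz
    show f z' ∈ t
    rw [show f z' = f (U.ι w) from this.symm.trans (hgv w)]
    exact hw

end Groth.Agent.SpPts86
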