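import Mathlib.AlgebraicGeometry.Limits
import Groth.Agent.SpPts86.Basic

/-!
Charts built from open subschemes of a chart; compactness of the space of points.
-/

universe u

set_option autoImplicit false

open CategoryTheory CategoryTheory.Limits AlgebraicGeometry Opposite Topology
open AlgSp

namespace Groth.Agent.SpPts86

variable {S : Scheme.{u}} {F : Sp S}

/-- The disjoint union of a family of open subschemes of `U`, over `S`. -/
noncomputable def sigmaOpens (U : Over S) {ι : Type u} (V : ι → U.left.Opens) : Over S :=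
  Over.mk (Sigma.desc fun i => (V i).ι ≫ U.hom)

/-- The canonical map from the disjoint union of open subschemes of `U` to `U`. -/
noncomputable def sigmaOpensMap (U : Over S) {ι : Type u} (V : ι → U.left.Opens) :
    sigmaOpens U V ⟶ U :=
  Over.homMk (Sigma.desc fun i => (V i).ι) (by
    change Sigma.desc _ ≫ U.hom = Sigma.desc _
    apply Sigma.hom_ext
    intro i
    simp)

instance etale_sigmaOpensMap (U : Over S) {ι : Type u} (V : ι → U.left.Opens) :
    Etale (sigmaOpensMap U V).left := by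
  change Etale (Sigma.desc fun i => (V i).ι)
  have : IsZariskiLocalAtSource (@Etale : MorphismProperty Scheme.{u}) :=
    HasRingHomProperty.instIsZariskiLocalAtSource
  exact IsZariskiLocalAtSource.sigmaDesc (P := (@Etale : MorphismProperty Scheme.{u}))
    fun i => (inferInstance : Etale (V i).ι)

theorem range_sigmaOpensMap (U : Over S) {ι : Type u} (V : ι → U.left.Opens) :
    Set.range (sigmaOpensMap U V).left = ⋃ i, ((V i : U.left.Opens) : Set ↥U.left) := by
  ext x
  simp only [Set.mem_iUnion]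
  constructor
  · rintro ⟨y, rfl⟩
    obtain ⟨⟨i, y⟩, rfl⟩ := (sigmaMk (fun i => (V i).toScheme)).surjective y
    refine ⟨i, ?_⟩
    rw [sigmaMk_mk]
    change (Sigma.ι (fun i => (V i).toScheme) i ≫ Sigma.desc fun i => (V i).ι) y ∈ (V i : Set _)
    rw [Sigma.ι_desc]
    exact y.2
  · rintro ⟨i, hi⟩
    refine ⟨Sigma.ι (fun i => (V i).toScheme) i ⟨x, hi⟩, ?_⟩
    change (Sigma.ι (fun i => (V i).toScheme) i ≫ Sigma.desc fun i => (V i).ι) ⟨x, hi⟩ = x
    rw [Sigma.ι_desc]
    rfl

theorem isAffine_sigmaOpens (U : Over S) {ι : Type u} [Finite ι] (V : ι → U.left.Opens)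
    (hV : ∀ i, IsAffineOpen (V i)) : IsAffine (sigmaOpens U V).left := by
  have : ∀ i, IsAffine (V i).toScheme := hV
  exact inferInstanceAs (IsAffine (∐ fun i => (V i).toScheme))

theorem repWith_etale_comp {U U' : Over S} (φ : U' ⟶ U) [Etale φ.left]
    {p : (yon S).obj U ⟶ F} (hp : RepWith @Etale p) : RepWith @Etale ((yon S).map φ ≫ p) :=
  (repWith_isMultiplicative (S := S) @Etale).comp_mem _ _
    ((repWith_yon_map_iff _ _).2 (show Etale φ.left from inferInstance)) hp

theorem repWith_surjective_of_surjective_ofPt {U : Over S} {p : (yon S).obj U ⟶ F}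
    (hp : Representable p) (h : Function.Surjective (Points.ofPt p)) :
    RepWith @Surjective p := by
  refine (repWith_surjective_iff hp).2 fun x => ?_
  obtain ⟨t, rfl⟩ := h x
  exact ⟨_, (Points.ofPt_eq_map_ofScheme p t).symm⟩

/-- A family of opens of a chart whose images cover gives a chart. -/
theorem sigmaOpens_chart {U : Over S} {p : (yon S).obj U ⟶ F} (hp : RepWith @Etale p)
    {ι : Type u} (V : ι → U.left.Opens)
    (hV : ∀ x : Points F, ∃ i, x ∈ Points.ofPt p '' (V i : Set ↥U.left)) :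
    RepWith @Etale ((yon S).map (sigmaOpensMap U V) ≫ p) ∧
      RepWith @Surjective ((yon S).map (sigmaOpensMap U V) ≫ p) := by
  have he := repWith_etale_comp (sigmaOpensMap U V) hp
  refine ⟨he, repWith_surjective_of_surjective_ofPt he.1 fun x => ?_⟩
  obtain ⟨i, u, hu, rfl⟩ := hV x
  have : u ∈ Set.range (sigmaOpensMap U V).left := by
    rw [range_sigmaOpensMap]
    exact Set.mem_iUnion.2 ⟨i, hu⟩
  obtain ⟨v, rfl⟩ := this
  exact ⟨v, ofPt_comp _ _ _⟩

theorem compactSpace_points_of_isQuasiCompactSp (h : IsQuasiCompactSp F) :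
    CompactSpace (Points F) := by
  obtain ⟨U, p, -, hs, hU⟩ := h
  exact (surjective_ofPt hs).compactSpace (Points.continuous_ofPt p)

theorem exists_affine_chart_of_compactSpace (hF : IsAlgSpace F) [CompactSpace (Points F)] :
    ∃ (U : Over S) (p : (yon S).obj U ⟶ F),
      IsAffine U.left ∧ RepWith @Etale p ∧ RepWith @Surjective p := by
  obtain ⟨U, p, he, hs⟩ := hF.atlas
  let O : U.left.affineOpens → Set (Points F) := fun V =>
    Points.ofPt p '' ((V.1 : U.left.Opens) : Set ↥U.left)
  have hO : (⋃ V, O V) = Set.univ := by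
    refine Set.eq_univ_iff_forall.2 fun x => ?_
    obtain ⟨t, rfl⟩ := surjective_ofPt hs x
    obtain ⟨V, hV, htV, -⟩ := exists_isAffineOpen_mem_and_subset
      (x := t) (U := ⊤) (Set.mem_univ t)
    exact Set.mem_iUnion.2 ⟨⟨V, hV⟩, t, htV, rfl⟩
  obtain ⟨s, hsub⟩ := isCompact_univ.elim_finite_subcover O
    (fun V => isOpenMap_ofPt he _ V.1.isOpen) hO.ge
  refine ⟨sigmaOpens U (fun V : s => V.1.1), _, isAffine_sigmaOpens _ _ fun V => V.1.2,
    sigmaOpens_chart he _ fun x => ?_⟩
  obtain ⟨V, hV, hx⟩ := Set.mem_iUnion₂.1 (hsub (Set.mem_univ x))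
  exact ⟨⟨V, hV⟩, hx⟩

theorem isQuasiCompactSp_of_compactSpace (hF : IsAlgSpace F) [CompactSpace (Points F)] :
    IsQuasiCompactSp F := by
  obtain ⟨U, p, hU, he, hs⟩ := exists_affine_chart_of_compactSpace hF
  exact ⟨U, p, he, hs, inferInstance⟩

theorem isQuasiCompactSp_iff_compactSpace (hF : IsAlgSpace F) :
    IsQuasiCompactSp F ↔ CompactSpace (Points F) :=
  ⟨compactSpace_points_of_isQuasiCompactSp, fun _ => isQuasiCompactSp_of_compactSpace hF⟩

theorem exists_isOpen_isCompact_nhd (hF : IsAlgSpace F) {x : Points F} {W : Set (Points F)}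
    (hW : IsOpen W) (hx : x ∈ W) :
    ∃ V : Set (Points F), IsOpen V ∧ IsCompact V ∧ x ∈ V ∧ V ⊆ W := by
  obtain ⟨U, p, he, hs⟩ := hF.atlas
  obtain ⟨t, rfl⟩ := surjective_ofPt hs x
  obtain ⟨V, hV, htV, hVW⟩ := exists_isAffineOpen_mem_and_subset
    (U := ⟨_, hW.preimage (Points.continuous_ofPt p)⟩) (x := t) hx
  refine ⟨Points.ofPt p '' (V : Set ↥U.left), isOpenMap_ofPt he _ V.isOpen,
    hV.isCompact.image (Points.continuous_ofPt p), ⟨t, htV, rfl⟩, ?_⟩
  rintro - ⟨v, hv, rfl⟩
  exact hVW hv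

end Groth.Agent.SpPts86
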