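import Groth.Agent.SpPts86.DiagProps

/-!
Relative diagonals, sections, graphs and cancellation for representable properties.
-/

universe u

set_option autoImplicit false

open CategoryTheory CategoryTheory.Limits AlgebraicGeometry Opposite
open AlgSp Groth.Agent.SpFP87

namespace Groth.Agent.SpPts86

variable {S : Scheme.{u}} {F G H : Sp S}

/-- The map from the fibre product to the product. -/
noncomputable def toProd (f : F ⟶ H) (g : G ⟶ H) : pullback f g ⟶ F ⨯ G :=
  prod.lift (pullback.fst f g) (pullback.snd f g)

instance mono_toProd (f : F ⟶ H) (g : G ⟶ H) : Mono (toProd f g) :=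
  ⟨fun a b e => pullback.hom_ext
    (by have h := congrArg (· ≫ prod.fst) e
        simp only [toProd, Category.assoc, prod.lift_fst] at h
        exact h)
    (by have h := congrArg (· ≫ prod.snd) e
        simp only [toProd, Category.assoc, prod.lift_snd] at h
        exact h)⟩

theorem diagonal_comp_toProd (f : F ⟶ G) : pullback.diagonal f ≫ toProd f f = Limits.diag F := by
  apply Limits.prod.hom_ext <;> simp [toProd]

theorem repWith_diagonal {P : MorphismProperty Scheme.{u}} {f : F ⟶ G}
    (h : RepWith P (Limits.diag F)) : RepWith P (pullback.diagonal f) :=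
  repWith_of_comp_mono (toProd f f) (by rwa [diagonal_comp_toProd])

theorem representable_diagonal (hF : Representable (Limits.diag F)) (f : F ⟶ G) :
    Representable (pullback.diagonal f) :=
  representable_of_comp_mono _ (toProd f f) (by rwa [diagonal_comp_toProd])

/-- The properties shared by all diagonals of algebraic spaces. -/
def diagLike : MorphismProperty Scheme.{u} :=
  MorphismProperty.monomorphisms Scheme.{u} ⊓ @LocallyOfFiniteType

theorem repWith_diagLike_diagonal (hF : IsAlgSpace F) (f : F ⟶ G) :
    RepWith diagLike (pullback.diagonal f) :=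
  repWith_diagonal (repWith_inf (repWith_mono_diag hF) (repWith_lft_diag hF))

theorem diagLike_le_lft : diagLike.{u} ≤ @LocallyOfFiniteType := fun _ _ _ h => h.2

theorem diagLike_le_mono : diagLike.{u} ≤ MorphismProperty.monomorphisms Scheme.{u} :=
  fun _ _ _ h => h.1

theorem diagLike_le_separated : diagLike.{u} ≤ @IsSeparated := fun _ _ _ h =>
  monomorphisms_le_isSeparated _ h.1

theorem diagLike_le_lqf : diagLike.{u} ≤ @LocallyQuasiFinite := fun _ _ _ h =>
  mono_inf_lft_le_lqf _ h

theorem diagLike_le_lqf_inf_lft :
    diagLike.{u} ≤ (@LocallyQuasiFinite ⊓ @LocallyOfFiniteType : MorphismProperty Scheme.{u}) :=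
  fun _ _ _ h => ⟨mono_inf_lft_le_lqf _ h, h.2⟩

theorem isPullback_section {f : F ⟶ G} {s : G ⟶ F} (hs : s ≫ f = 𝟙 G) :
    IsPullback s s (pullback.diagonal f)
      (pullback.lift (f ≫ s) (𝟙 F) (by simp [hs])) := by
  have w : s ≫ pullback.diagonal f = s ≫ pullback.lift (f ≫ s) (𝟙 F) (by simp [hs]) := by
    apply pullback.hom_ext
    · simp only [Category.assoc, pullback.diagonal_fst, pullback.lift_fst, reassoc_of% hs,
        Category.comp_id]
    · simp only [Category.assoc, pullback.diagonal_snd, pullback.lift_snd]
  have hc : ∀ c : PullbackCone (pullback.diagonal f)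
      (pullback.lift (f ≫ s) (𝟙 F) (by simp [hs] : (f ≫ s) ≫ f = 𝟙 F ≫ f)),
      c.fst = c.snd ∧ c.snd ≫ f ≫ s = c.snd := fun c => by
    have h1 := congrArg (· ≫ pullback.fst f f) c.condition
    have h2 := congrArg (· ≫ pullback.snd f f) c.condition
    simp only [Category.assoc, pullback.diagonal_fst, pullback.diagonal_snd, pullback.lift_fst,
      pullback.lift_snd, Category.comp_id] at h1 h2
    exact ⟨h2, by rw [← h1, h2]⟩
  refine ⟨⟨w⟩, ⟨PullbackCone.IsLimit.mk _ (fun c => c.snd ≫ f)
    (fun c => (Category.assoc _ _ _).trans ((hc c).2.trans (hc c).1.symm))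
    (fun c => (Category.assoc _ _ _).trans (hc c).2) (fun c m _ h => ?_)⟩⟩
  exact ((congrArg (· ≫ f) h).symm.trans (by simp [hs])).symm

theorem repWith_section {P : MorphismProperty Scheme.{u}} {f : F ⟶ G} {s : G ⟶ F}
    (hs : s ≫ f = 𝟙 G) (h : RepWith P (pullback.diagonal f)) : RepWith P s :=
  (repWith_isStableUnderBaseChange P).of_isPullback (isPullback_section hs) h

theorem representable_section {f : F ⟶ G} {s : G ⟶ F}
    (hs : s ≫ f = 𝟙 G) (h : Representable (pullback.diagonal f)) : Representable s :=
  MorphismProperty.of_isPullback (isPullback_section hs) h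

theorem isPullback_mapDesc {X Y Z T : Sp S} (f : X ⟶ Z) (g : Y ⟶ Z) (i : Z ⟶ T) :
    IsPullback (pullback.fst f g ≫ f) (pullback.mapDesc f g i) (pullback.diagonal i)
      (pullback.map (f ≫ i) (g ≫ i) i i f g (𝟙 T) (Category.comp_id _) (Category.comp_id _)) :=
  pullback_map_diagonal_isPullback f g i

theorem repWith_mapDesc {P : MorphismProperty Scheme.{u}} {X Y Z T : Sp S} (f : X ⟶ Z) (g : Y ⟶ Z)
    (i : Z ⟶ T) (h : RepWith P (pullback.diagonal i)) : RepWith P (pullback.mapDesc f g i) :=
  (repWith_isStableUnderBaseChange P).of_isPullback (isPullback_mapDesc f g i) h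

theorem representable_mapDesc {X Y Z T : Sp S} (f : X ⟶ Z) (g : Y ⟶ Z)
    (i : Z ⟶ T) (h : Representable (pullback.diagonal i)) :
    Representable (pullback.mapDesc f g i) :=
  MorphismProperty.of_isPullback (isPullback_mapDesc f g i) h

/-- Cancellation: a map `a` has `P` when `a ≫ b` and the diagonal of `b` do. -/
theorem repWith_of_comp {P : MorphismProperty Scheme.{u}} [P.IsStableUnderBaseChange]
    [P.IsStableUnderComposition] {a : F ⟶ G} {b : G ⟶ H} (hd : RepWith P (pullback.diagonal b))
    (h : RepWith P (a ≫ b)) : RepWith P a := by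
  have hsec : RepWith P (pullback.lift (𝟙 F) a (by simp) : F ⟶ pullback (a ≫ b) b) := by
    let m : pullback (a ≫ b) b ⟶ pullback b b :=
      pullback.map (a ≫ b) b b b a (𝟙 G) (𝟙 H) (by simp) (by simp)
    have sq : IsPullback a (pullback.lift (𝟙 F) a (by simp) : F ⟶ pullback (a ≫ b) b)
        (pullback.diagonal b) m := by
      have hc : ∀ c : PullbackCone (pullback.diagonal b) m,
          c.fst = c.snd ≫ pullback.fst _ _ ≫ a ∧ c.fst = c.snd ≫ pullback.snd _ _ := fun c => by
        have h1 := congrArg (· ≫ pullback.fst b b) c.condition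
        have h2 := congrArg (· ≫ pullback.snd b b) c.condition
        simp only [m, Category.assoc, pullback.diagonal_fst, pullback.diagonal_snd, pullback.lift_fst,
          pullback.lift_snd, Category.comp_id] at h1 h2
        exact ⟨h1, h2⟩
      refine ⟨⟨by
          apply pullback.hom_ext
          · simp only [m, Category.assoc, pullback.diagonal_fst, Category.comp_id]
            erw [pullback.lift_fst, pullback.lift_fst_assoc, Category.id_comp]
          · simp only [m, Category.assoc, pullback.diagonal_snd, Category.comp_id]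
            erw [pullback.lift_snd, pullback.lift_snd_assoc, Category.comp_id]⟩,
        ⟨PullbackCone.IsLimit.mk _
        (fun c => c.snd ≫ pullback.fst _ _) (fun c => by rw [Category.assoc, ← (hc c).1])
        (fun c => ?_) (fun c x _ hx => ?_)⟩⟩
      · apply pullback.hom_ext
        · simp only [Category.assoc, pullback.lift_fst, Category.comp_id]
        · simp only [Category.assoc, pullback.lift_snd, ← (hc c).1, ← (hc c).2]
      · rw [← hx, Category.assoc, pullback.lift_fst, Category.comp_id]
    exact (repWith_isStableUnderBaseChange P).of_isPullback sq hd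
  have hsnd : RepWith P (pullback.snd (a ≫ b) b) :=
    (repWith_isStableUnderBaseChange P).of_isPullback (IsPullback.of_hasPullback _ _) h
  have := (MorphismProperty.relative_isStableUnderComposition (F := yon S)
    (P := P.inverseImage (Over.forget S))).comp_mem _ _ hsec hsnd
  rwa [pullback.lift_snd] at this

end Groth.Agent.SpPts86
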