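import Groth.Prelude.Def_AlgSpEt
import Groth.Agent.SpPts86.Compact
import Groth.Agent.SpPts86.Graph
import Groth.Agent.SpFP87.LocPRep
import Groth.Agent.SpFP87.EtLocInst

/-!
Calculus of etale morphisms of algebraic spaces.
-/

universe u

set_option autoImplicit false

open CategoryTheory CategoryTheory.Limits AlgebraicGeometry Opposite Topology
open AlgSp Groth.Agent.SpFP87

namespace Groth.Agent.SpPts86

variable {S : Scheme.{u}} {X Y Z : Sp S}

set_option backward.isDefEq.respectTransparency.types false in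
instance etale_descendsAlong_fppfSurj :
    MorphismProperty.DescendsAlong (@Etale : MorphismProperty Scheme.{u}) fppfSurj := by
  unfold fppfSurj
  infer_instance

/-- A commutative square of etale maps from schemes has etale top map. -/
theorem etale_of_comm {U V : Over S} {a : (yon S).obj U ⟶ X} {b : (yon S).obj V ⟶ X} {h : U ⟶ V}
    (ha : RepWith @Etale a) (hb : RepWith @Etale b) (w : (yon S).map h ≫ b = a) : Etale h.left :=
  EtOver.etale_left (EtOver.homMk (E := EtOver.mk a ha) (E' := EtOver.mk b hb) h w)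

theorem locP_etale_of_isEtaleMor {f : X ⟶ Y} (hf : IsEtaleMor f) : LocP @Etale f :=
  fun _ _ a _ _ ha hb w => etale_of_comm (hf a ha) hb w.symm

theorem isEtaleMor_of_locP_etale {f : X ⟶ Y} (hY : IsAlgSpace Y) (hf : LocP @Etale f) :
    IsEtaleMor f := fun U φ hφ => by
  obtain ⟨V, b, hb, hbs⟩ := hY.atlas
  obtain ⟨W, p, q, sq⟩ := exists_isPullback_yon hY.diag (φ ≫ f) b
  have hp : Etale p.left := etale_snd_of_isPullback sq.flip hb
  have hP : Etale q.left := hf ((yon S).map p ≫ φ) b q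
    (repWith_etale_comp p hφ) hb (by rw [Category.assoc, sq.w])
  exact repWith_of_baseChange sq (locLift_of_atlas hb hbs) (hY.representable_from_yon _)
    ((repWith_yon_map_iff _ _).2 hP)

theorem isEtaleMor_iff_locP {f : X ⟶ Y} (hY : IsAlgSpace Y) :
    IsEtaleMor f ↔ LocP @Etale f :=
  ⟨locP_etale_of_isEtaleMor, isEtaleMor_of_locP_etale hY⟩

theorem isEtaleMor_comp {f : X ⟶ Y} {g : Y ⟶ Z} (hf : IsEtaleMor f) (hg : IsEtaleMor g) :
    IsEtaleMor (f ≫ g) := fun U φ hφ => by
  rw [← Category.assoc]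
  exact hg _ (hf φ hφ)

theorem isEtaleMor_baseChange {X' Y' : Sp S} {fst : X' ⟶ X} {snd : X' ⟶ Y'} {f : X ⟶ Y}
    {g : Y' ⟶ Y} (sq : IsPullback fst snd f g) (hX : IsAlgSpace X) (hY : IsAlgSpace Y)
    (hY' : IsAlgSpace Y') (hf : IsEtaleMor f) : IsEtaleMor snd :=
  isEtaleMor_of_locP_etale hY' (locP_baseChange sq hX hY hY' (locP_etale_of_isEtaleMor hf))

theorem isEtaleMor_of_comp {f : X ⟶ Y} {g : Y ⟶ Z} (hY : IsAlgSpace Y) (hg : IsEtaleMor g)
    (h : IsEtaleMor (f ≫ g)) : IsEtaleMor f := by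
  refine isEtaleMor_of_locP_etale hY fun U V a b k ha hb w => ?_
  exact etale_of_comm (h a ha) (hg b hb) (by rw [← Category.assoc, ← w, Category.assoc])

theorem isEtaleMor_of_chart {f : X ⟶ Y} (hX : IsAlgSpace X) (hY : IsAlgSpace Y) {U V : Over S}
    {a : (yon S).obj U ⟶ X} {b : (yon S).obj V ⟶ Y} {h : U ⟶ V} (ha : RepWith @Etale a)
    (has : RepWith @Surjective a) (hb : RepWith @Etale b) (w : a ≫ f = (yon S).map h ≫ b)
    (hh : Etale h.left) : IsEtaleMor f :=
  isEtaleMor_of_locP_etale hY (locP_of_chart hX.diag hY.diag ha has hb w hh)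

theorem repWith_etale_of_isEtaleMor {f : X ⟶ Y} (hY : IsAlgSpace Y) (hf : Representable f)
    (h : IsEtaleMor f) : RepWith @Etale f :=
  repWith_of_locP hY hf (locP_etale_of_isEtaleMor h)

theorem isEtaleMor_of_repWith_etale {f : X ⟶ Y} (h : RepWith @Etale f) : IsEtaleMor f :=
  fun _ _ hφ => (repWith_isMultiplicative (S := S) @Etale).comp_mem _ _ hφ h

theorem repWith_etale_of_precomp {U U' : Over S} (hX : IsAlgSpace X) (χ : U ⟶ U') [Etale χ.left]
    [Surjective χ.left] {φ : (yon S).obj U' ⟶ X}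
    (h : RepWith @Etale ((yon S).map χ ≫ φ)) : RepWith @Etale φ := by
  refine repWith_etale_of_isEtaleMor hX (hX.representable_from_yon φ)
    (isEtaleMor_of_chart (IsAlgSpace.yon_obj U') hX (h := 𝟙 U)
      ((repWith_yon_map_iff _ χ).2 inferInstance) ((repWith_yon_map_iff _ χ).2 inferInstance) h
      (by simp) (by rw [Over.id_left]; infer_instance))

theorem isOpenMap_of_isEtaleMor {f : X ⟶ Y} (hX : IsAlgSpace X) (hf : IsEtaleMor f) :
    IsOpenMap (Points.map f) := by
  obtain ⟨U, a, ha, has⟩ := hX.atlas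
  intro W hW
  have : Points.map f '' W = Points.ofPt (a ≫ f) '' (Points.ofPt a ⁻¹' W) := by
    ext y
    constructor
    · rintro ⟨x, hx, rfl⟩
      obtain ⟨t, rfl⟩ := surjective_ofPt has x
      exact ⟨t, hx, (Points.map_ofPt a f t).symm⟩
    · rintro ⟨t, ht, rfl⟩
      exact ⟨_, ht, Points.map_ofPt a f t⟩
  rw [this]
  exact isOpenMap_ofPt (hf a ha) _ (hW.preimage (Points.continuous_ofPt a))

end Groth.Agent.SpPts86
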