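import Mathlib.AlgebraicGeometry.AffineScheme
import Mathlib.Algebra.Category.Ring.Epi
import Mathlib.LinearAlgebra.Basis.VectorSpace
import Mathlib.AlgebraicGeometry.Cover.Open

/-!
A monomorphism from a nonempty scheme to the spectrum of a field is an isomorphism.
-/

universe u

set_option autoImplicit false

open CategoryTheory AlgebraicGeometry TensorProduct

namespace Groth.Agent.SpPts86

theorem surjective_of_isEpi_field (L A : Type u) [Field L] [CommRing A] [Nontrivial A] [Algebra L A]
    [Algebra.IsEpi L A] : Function.Surjective (algebraMap L A) := by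
  obtain ⟨φ, hφ⟩ := (Algebra.linearMap L A).exists_leftInverse_of_injective
    (LinearMap.ker_eq_bot.2 (algebraMap L A).injective)
  intro a
  have h := (Algebra.isEpi_iff_forall_one_tmul_eq L A).1 inferInstance a
  have h' := congrArg (fun x => TensorProduct.lid L A (φ.rTensor A x)) h
  simp only [LinearMap.rTensor_tmul, TensorProduct.lid_tmul] at h'
  have h1 : φ 1 = 1 := by simpa using LinearMap.congr_fun hφ 1
  rw [h1, one_smul, ← Algebra.algebraMap_eq_smul_one] at h'
  exact ⟨φ a, h'.symm⟩

theorem isIso_of_mono_spec_field {L : Type u} [Field L] {W : Scheme.{u}}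
    (f : W ⟶ Spec (CommRingCat.of L)) [Mono f] [Nonempty W] : IsIso f := by
  let w : ↥W := Classical.arbitrary _
  obtain ⟨i, z, hz⟩ := W.affineCover.exists_eq w
  let j := W.affineCover.f i
  obtain ⟨R, hR⟩ : ∃ R : CommRingCat.{u}, W.affineCover.X i = Spec R := ⟨_, rfl⟩
  let g : Spec R ⟶ Spec (CommRingCat.of L) := eqToHom hR.symm ≫ j ≫ f
  have : Mono (Spec.map (Spec.preimage g)) := by
    rw [Spec.map_preimage]; infer_instance
  have hm : Mono (Spec.preimage g).op :=
    Scheme.Spec.mono_of_mono_map (f := (Spec.preimage g).op) this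
  have : Epi (Spec.preimage g) := @unop_epi_of_mono _ _ _ _ _ hm
  let φ := Spec.preimage g
  let _ : Algebra L R := φ.hom.toAlgebra
  have : Nontrivial R := (PrimeSpectrum.nonempty_iff_nontrivial).1 ⟨(eqToHom hR) z⟩
  have : Algebra.IsEpi L R := CommRingCat.epi_iff_epi.1 (inferInstanceAs (Epi φ))
  have : IsIso φ := (ConcreteCategory.isIso_iff_bijective φ).2
    ⟨φ.hom.injective, surjective_of_isEpi_field L R⟩
  have : IsIso g := by rw [← Spec.map_preimage g]; infer_instance
  refine ⟨inv g ≫ eqToHom hR.symm ≫ j, ?_, ?_⟩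
  · rw [← cancel_mono f]
    simp [g]
  · simp [g]

end Groth.Agent.SpPts86
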