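import Groth.Agent.SpPts86.DiagProps
import Groth.Agent.SpPts86.FppfLocal
import Groth.Agent.SpPts86.Charts
import Groth.Agent.SpPts86.Props
import Mathlib.AlgebraicGeometry.Morphisms.Affine

/-!
Properties of the diagonal of an algebraic space, read on fibre products of schemes over it.
-/

universe u

set_option autoImplicit false

open CategoryTheory CategoryTheory.Limits AlgebraicGeometry
open AlgSp Groth.Agent.SpFP87

namespace Groth.Agent.SpPts86

variable {S : Scheme.{u}} {X : Sp S}

theorem isPullback_prodLift {A B C : Sp S} {f : C ⟶ A} {g : C ⟶ B} {a : A ⟶ X} {b : B ⟶ X}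
    (sq : IsPullback f g a b) :
    IsPullback (f ≫ a) (prod.lift f g) (Limits.diag X) (prod.map a b) := by
  have w : (f ≫ a) ≫ Limits.diag X = prod.lift f g ≫ prod.map a b := by
    apply Limits.prod.hom_ext
    · simp only [Category.assoc, prod.lift_fst, prod.map_fst, prod.lift_fst_assoc, Category.comp_id]
    · simp only [Category.assoc, prod.lift_snd, prod.map_snd, prod.lift_snd_assoc, Category.comp_id,
        sq.w]
  have hc : ∀ c : PullbackCone (Limits.diag X) (prod.map a b),
      c.fst = c.snd ≫ prod.fst ≫ a ∧ c.fst = c.snd ≫ prod.snd ≫ b := fun c => by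
    have h1 := congrArg (· ≫ prod.fst) c.condition
    have h2 := congrArg (· ≫ prod.snd) c.condition
    simp only [Category.assoc, prod.lift_fst, prod.lift_snd, prod.map_fst, prod.map_snd,
      Category.comp_id] at h1 h2
    exact ⟨h1, h2⟩
  refine ⟨⟨w⟩, ⟨PullbackCone.IsLimit.mk _
    (fun c => sq.lift (c.snd ≫ prod.fst) (c.snd ≫ prod.snd)
      (by rw [Category.assoc, Category.assoc, ← (hc c).1, ← (hc c).2]))
    (fun c => by rw [← Category.assoc, sq.lift_fst, Category.assoc, ← (hc c).1])
    (fun c => ?_) (fun c m _ h₂ => ?_)⟩⟩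
  · apply Limits.prod.hom_ext
    · simp only [Category.assoc, prod.lift_fst, sq.lift_fst]
    · simp only [Category.assoc, prod.lift_snd, sq.lift_snd]
  · apply sq.hom_ext
    · rw [sq.lift_fst, ← h₂, Category.assoc, prod.lift_fst]
    · rw [sq.lift_snd, ← h₂, Category.assoc, prod.lift_snd]

/-- The map of schemes from a fibre product over a sheaf to the product over the base. -/
noncomputable def schLift {U V W : Over S} (p : W ⟶ U) (q : W ⟶ V) :
    W.left ⟶ pullback U.hom V.hom :=
  pullback.lift p.left q.left ((Over.w p).trans (Over.w q).symm)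

@[reassoc (attr := simp)]
theorem schLift_fst {U V W : Over S} (p : W ⟶ U) (q : W ⟶ V) :
    schLift p q ≫ pullback.fst U.hom V.hom = p.left := pullback.lift_fst _ _ _

@[reassoc (attr := simp)]
theorem schLift_snd {U V W : Over S} (p : W ⟶ U) (q : W ⟶ V) :
    schLift p q ≫ pullback.snd U.hom V.hom = q.left := pullback.lift_snd _ _ _

theorem repWith_prodLift_iff (P : MorphismProperty Scheme.{u}) [P.IsStableUnderBaseChange]
    {U V W : Over S} (p : W ⟶ U) (q : W ⟶ V) :
    RepWith P (prod.lift ((yon S).map p) ((yon S).map q)) ↔ P (schLift p q) := by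
  have : P.RespectsIso := MorphismProperty.IsStableUnderBaseChange.respectsIso
  have e : prod.lift ((yon S).map p) ((yon S).map q) =
      (yon S).map (prod.lift p q) ≫ prodComparison (yon S) U V := by
    apply Limits.prod.hom_ext
    · simp only [Category.assoc, prodComparison_fst, ← Functor.map_comp, prod.lift_fst]
    · simp only [Category.assoc, prodComparison_snd, ← Functor.map_comp, prod.lift_snd]
  have e' : (prod.lift p q).left ≫ (Over.prodLeftIsoPullback U V).hom = schLift p q := by
    apply pullback.hom_ext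
    · simp only [Category.assoc, Over.prodLeftIsoPullback_hom_fst, schLift_fst]
      rw [← Over.comp_left, prod.lift_fst]
    · simp only [Category.assoc, Over.prodLeftIsoPullback_hom_snd, schLift_snd]
      rw [← Over.comp_left, prod.lift_snd]
  rw [e, MorphismProperty.cancel_right_of_respectsIso (RepWith P), repWith_yon_map_iff, ← e',
    P.cancel_right_of_respectsIso]

theorem schLift_of_repWith_diag (P : MorphismProperty Scheme.{u}) [P.IsStableUnderBaseChange]
    (h : RepWith P (Limits.diag X)) {U V W : Over S} {p : W ⟶ U} {q : W ⟶ V}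
    {a : (yon S).obj U ⟶ X} {b : (yon S).obj V ⟶ X}
    (sq : IsPullback ((yon S).map p) ((yon S).map q) a b) : P (schLift p q) :=
  (repWith_prodLift_iff P p q).1
    ((repWith_isStableUnderBaseChange P).of_isPullback (isPullback_prodLift sq) h)

theorem repWith_diag_of_chart (P : MorphismProperty Scheme.{u}) [P.IsStableUnderBaseChange]
    [IsZariskiLocalAtTarget P] [P.DescendsAlong fppfMor] (hX : IsAlgSpace X)
    {R U : Over S} {p : (yon S).obj U ⟶ X} (hp : RepWith @Etale p) (hs : RepWith @Surjective p)
    {s t : R ⟶ U} (sq : IsPullback ((yon S).map t) ((yon S).map s) p p)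
    (h : P (schLift t s)) : RepWith P (Limits.diag X) :=
  have := isLocalAtTarget_fppf P
  repWith_of_locLift P hX.diag (locLift_prod_map (locLift_of_atlas hp hs) (locLift_of_atlas hp hs))
    (isPullback_diag_of_kernelPair sq) ((repWith_prodLift_iff P t s).2 h)

/-- Restricting a fibre product over the space along maps to the factors. -/
theorem isPullback_schLift {U V W U' V' W' : Over S} {p : W ⟶ U} {q : W ⟶ V}
    {p' : W' ⟶ U'} {q' : W' ⟶ V'} {i : U' ⟶ U} {j : V' ⟶ V}
    {a : (yon S).obj U ⟶ X} {b : (yon S).obj V ⟶ X}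
    (sq : IsPullback ((yon S).map p) ((yon S).map q) a b)
    (sq' : IsPullback ((yon S).map p') ((yon S).map q') ((yon S).map i ≫ a) ((yon S).map j ≫ b)) :
    ∃ k : W' ⟶ W, IsPullback k.left (schLift p' q') (schLift p q)
      (pullback.map U'.hom V'.hom U.hom V.hom i.left j.left (𝟙 S)
        (by simp) (by simp)) := by
  obtain ⟨k, hk⟩ := (yon S).map_surjective
    (sq.lift ((yon S).map p' ≫ (yon S).map i) ((yon S).map q' ≫ (yon S).map j)
      (by rw [Category.assoc, Category.assoc, sq'.w]))
  have kp : k ≫ p = p' ≫ i := (yon S).map_injective (by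
    rw [Functor.map_comp, Functor.map_comp, hk, sq.lift_fst])
  have kq : k ≫ q = q' ≫ j := (yon S).map_injective (by
    rw [Functor.map_comp, Functor.map_comp, hk, sq.lift_snd])
  have kp' : k.left ≫ p.left = p'.left ≫ i.left := congrArg CommaMorphism.left kp
  have kq' : k.left ≫ q.left = q'.left ≫ j.left := congrArg CommaMorphism.left kq
  have hm := mono_lift_of_isPullback sq
  change Mono (schLift p q) at hm
  have mf : pullback.map U'.hom V'.hom U.hom V.hom i.left j.left (𝟙 S) (by simp) (by simp) ≫ pullback.fst U.hom V.hom = pullback.fst U'.hom V'.hom ≫ i.left :=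
    pullback.lift_fst _ _ _
  have ms : pullback.map U'.hom V'.hom U.hom V.hom i.left j.left (𝟙 S) (by simp) (by simp) ≫ pullback.snd U.hom V.hom = pullback.snd U'.hom V'.hom ≫ j.left :=
    pullback.lift_snd _ _ _
  refine ⟨k, ⟨⟨?_⟩, ⟨?_⟩⟩⟩
  · apply pullback.hom_ext <;> simp only [Category.assoc, schLift_fst, schLift_snd, mf, ms,
      schLift_fst_assoc, schLift_snd_assoc, kp', kq']
  have key : ∀ {T : Scheme.{u}} (x : T ⟶ W.left) (y : T ⟶ pullback U'.hom V'.hom),
      x ≫ schLift p q = y ≫ pullback.map U'.hom V'.hom U.hom V.hom i.left j.left (𝟙 S)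
        (by simp) (by simp) → ∃ l : T ⟶ W'.left, l ≫ schLift p' q' = y := by
    intro T x y e
    have e1 : x ≫ p.left = (y ≫ pullback.fst _ _) ≫ i.left := by
      simpa only [Category.assoc, schLift_fst, mf] using congrArg (· ≫ pullback.fst U.hom V.hom) e
    have e2 : x ≫ q.left = (y ≫ pullback.snd _ _) ≫ j.left := by
      simpa only [Category.assoc, schLift_snd, ms] using congrArg (· ≫ pullback.snd U.hom V.hom) e
    let T' : Over S := Over.mk (y ≫ pullback.fst U'.hom V'.hom ≫ U'.hom)
    let y₁ : T' ⟶ U' := Over.homMk (y ≫ pullback.fst _ _) (Category.assoc _ _ _)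
    let y₂ : T' ⟶ V' := Over.homMk (y ≫ pullback.snd _ _) (by
      change (y ≫ pullback.snd _ _) ≫ V'.hom = y ≫ pullback.fst U'.hom V'.hom ≫ U'.hom
      rw [Category.assoc, pullback.condition])
    let x' : T' ⟶ W := Over.homMk x (by
      change x ≫ W.hom = y ≫ pullback.fst U'.hom V'.hom ≫ U'.hom
      rw [← Over.w p, ← Category.assoc, e1, Category.assoc, Category.assoc, Over.w i])
    have h1 : x' ≫ p = y₁ ≫ i := Over.OverMorphism.ext e1
    have h2 : x' ≫ q = y₂ ≫ j := Over.OverMorphism.ext e2
    obtain ⟨l, hl⟩ := (yon S).map_surjective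
      (sq'.lift ((yon S).map y₁) ((yon S).map y₂) (by
        rw [← Category.assoc, ← Category.assoc, ← Functor.map_comp, ← Functor.map_comp, ← h1, ← h2,
          Functor.map_comp, Functor.map_comp, Category.assoc, Category.assoc, sq.w]))
    have l1 : l ≫ p' = y₁ := (yon S).map_injective (by rw [Functor.map_comp, hl, sq'.lift_fst])
    have l2 : l ≫ q' = y₂ := (yon S).map_injective (by rw [Functor.map_comp, hl, sq'.lift_snd])
    refine ⟨l.left, ?_⟩
    apply pullback.hom_ext
    · rw [Category.assoc, schLift_fst, ← Over.comp_left, l1]; rfl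
    · rw [Category.assoc, schLift_snd, ← Over.comp_left, l2]; rfl
  have hm' := mono_lift_of_isPullback sq'
  change Mono (schLift p' q') at hm'
  choose l hl using fun c : PullbackCone (schLift p q)
    (pullback.map U'.hom V'.hom U.hom V.hom i.left j.left (𝟙 S) (by simp) (by simp)) =>
      key c.fst c.snd c.condition
  refine PullbackCone.IsLimit.mk _ l (fun c => ?_) hl (fun c m _ hm2 => ?_)
  · rw [← cancel_mono (schLift p q), c.condition, ← hl c, Category.assoc, Category.assoc]
    congr 1
    apply pullback.hom_ext <;> simp only [Category.assoc, schLift_fst, schLift_snd, mf, ms,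
      schLift_fst_assoc, schLift_snd_assoc, kp', kq']
  · rw [← cancel_mono (schLift p' q'), hm2, hl]

/-- A Zariski local property of the diagonal may be tested on pairs of affine schemes over the space. -/
theorem repWith_diag_of_affine (P : MorphismProperty Scheme.{u}) [P.IsStableUnderBaseChange]
    [IsZariskiLocalAtTarget P] [P.DescendsAlong fppfMor] (hX : IsAlgSpace X)
    (h : ∀ (U V W : Over S) (a : (yon S).obj U ⟶ X) (b : (yon S).obj V ⟶ X) (p : W ⟶ U) (q : W ⟶ V),
      IsAffine U.left → IsAffine V.left →
      IsPullback ((yon S).map p) ((yon S).map q) a b → P (schLift p q)) :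
    RepWith P (Limits.diag X) := by
  have : P.RespectsIso := MorphismProperty.IsStableUnderBaseChange.respectsIso
  obtain ⟨U, p, hp, hs⟩ := hX.atlas
  obtain ⟨R, t, s, sq⟩ := exists_isPullback_yon hX.diag p p
  refine repWith_diag_of_chart P hX hp hs sq ?_
  refine IsZariskiLocalAtTarget.of_openCover
    (Scheme.Pullback.openCoverOfLeftRight U.left.affineCover U.left.affineCover U.hom U.hom) ?_
  rintro ⟨m, n⟩
  let U₁ : Over S := Over.mk (U.left.affineCover.f m ≫ U.hom)
  let V₁ : Over S := Over.mk (U.left.affineCover.f n ≫ U.hom)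
  let i : U₁ ⟶ U := Over.homMk (U.left.affineCover.f m) rfl
  let j : V₁ ⟶ U := Over.homMk (U.left.affineCover.f n) rfl
  obtain ⟨W, p', q', sq'⟩ := exists_isPullback_yon hX.diag ((yon S).map i ≫ p) ((yon S).map j ≫ p)
  obtain ⟨k, hk⟩ := isPullback_schLift sq sq'
  have hP : P (schLift p' q') :=
    h U₁ V₁ W _ _ p' q' (inferInstanceAs (IsAffine (U.left.affineCover.X m)))
      (inferInstanceAs (IsAffine (U.left.affineCover.X n))) sq'
  have := P.cancel_left_of_respectsIso hk.isoPullback.hom
    (pullback.snd (schLift t s) (pullback.map U₁.hom V₁.hom U.hom U.hom i.left j.left (𝟙 S)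
      (by simp) (by simp)))
  rw [hk.isoPullback_hom_snd] at this
  exact this.1 hP

end Groth.Agent.SpPts86
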