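import Groth.Agent.SpPts86.Props
import Groth.Agent.SpPts86.FppfLocal

/-!
Descent instances for quasi-compact morphisms and closed immersions in the form the criteria need.
-/

universe u

set_option autoImplicit false

open CategoryTheory AlgebraicGeometry MorphismProperty

namespace Groth.Agent.SpPts86

set_option backward.isDefEq.respectTransparency.types false in
theorem quasiCompact_descends :
    DescendsAlong (@QuasiCompact : MorphismProperty Scheme.{u}) fppfMor :=
  descends_fppf_of_fpqc _ Unr55.quasiCompact

set_option backward.isDefEq.respectTransparency.types false in
theorem isClosedImmersion_descends :
    DescendsAlong (@IsClosedImmersion : MorphismProperty Scheme.{u}) fppfMor :=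
  descends_fppf_of_fpqc _ Unr55.isClosedImmersion

end Groth.Agent.SpPts86
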