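import Mathlib.CategoryTheory.Sites.Subsheaf
import Groth.Agent.SpPts86.Compact

/-!
Monomorphic representable maps into algebraic spaces; open subsheaves cut out by open sets of
points.
-/

universe u

set_option autoImplicit false

open CategoryTheory CategoryTheory.Limits AlgebraicGeometry Opposite Topology
open AlgSp

namespace Groth.Agent.SpPts86

variable {S : Scheme.{u}} {F G H : Sp S}

/-- A covering sieve of the fppf site is jointly surjective. -/
theorem exists_mem_of_mem_J {T : Over S} {R : Sieve T} (hR : R ∈ J S T) (t : ↥T.left) :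
    ∃ (V : Over S) (g : V ⟶ T) (v : ↥V.left), R g ∧ g.left v = t := by
  have h : Sieve.overEquiv T R ∈ Scheme.fppfTopology T.left :=
    (GrothendieckTopology.mem_over_iff _ _).1 hR
  have : (@Flat ⊓ @LocallyOfFinitePresentation :
      MorphismProperty Scheme.{u}).IsStableUnderBaseChange :=
    MorphismProperty.IsStableUnderBaseChange.inf
  have : MorphismProperty.IsMultiplicative
      (@Flat ⊓ @LocallyOfFinitePresentation : MorphismProperty Scheme.{u}) :=
    { id_mem := fun X => ⟨(inferInstance : Flat (𝟙 X)),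
        (inferInstance : LocallyOfFinitePresentation (𝟙 X))⟩
      comp_mem := fun f g ⟨_, _⟩ ⟨_, _⟩ => ⟨(inferInstance : Flat (f ≫ g)),
        (inferInstance : LocallyOfFinitePresentation (f ≫ g))⟩ }
  obtain ⟨𝒰, h𝒰⟩ := Scheme.exists_cover_of_mem_grothendieckTopology
    (P := @Flat ⊓ @LocallyOfFinitePresentation) h
  obtain ⟨i, y, hy⟩ := 𝒰.exists_eq t
  exact ⟨_, _, y, (Sieve.overEquiv_iff R _).1 (h𝒰 _ _ ⟨i⟩), hy⟩

/-- A morphism of sheaves is a monomorphism when it is injective on maps from schemes. -/
theorem mono_of_forall_yon {f : F ⟶ G}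
    (h : ∀ (T : Over S) (a b : (yon S).obj T ⟶ F), a ≫ f = b ≫ f → a = b) : Mono f := by
  refine ⟨fun {Q} g₁ g₂ e => ?_⟩
  apply Sheaf.hom_ext
  ext T x
  obtain ⟨T⟩ := T
  have := h T ((J S).uliftYonedaEquiv.symm x ≫ g₁) ((J S).uliftYonedaEquiv.symm x ≫ g₂)
    (by simp only [Category.assoc, e])
  simpa [GrothendieckTopology.uliftYonedaEquiv_comp] using congrArg (J S).uliftYonedaEquiv this

theorem mono_of_repWith {f : F ⟶ G} (hf : RepWith (MorphismProperty.monomorphisms Scheme.{u}) f) :
    Mono f := by
  refine mono_of_forall_yon fun T a b e => ?_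
  obtain ⟨V, snd, fst, sq⟩ := hf.1 (a ≫ f)
  have : Mono snd.left := hf.2 _ fst snd sq
  have : Mono snd := ((Over.forget S).mono_of_mono_map (f := snd) this)
  obtain ⟨l, hl⟩ := (yon S).map_surjective (sq.lift a (𝟙 _) (by rw [Category.id_comp]))
  obtain ⟨m, hm⟩ := (yon S).map_surjective (sq.lift b (𝟙 _) (by rw [Category.id_comp, e]))
  have hlm : l = m := by
    rw [← cancel_mono snd]
    apply (yon S).map_injective
    rw [(yon S).map_comp, (yon S).map_comp, hl, hm, sq.lift_snd, sq.lift_snd]
  rw [← sq.lift_fst a (𝟙 _) (by rw [Category.id_comp]),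
    ← sq.lift_fst b (𝟙 _) (by rw [Category.id_comp, e]), ← hl, ← hm, hlm]

theorem mono_of_repWith_le {P : MorphismProperty Scheme.{u}}
    (hP : P ≤ MorphismProperty.monomorphisms Scheme.{u}) {f : F ⟶ G} (hf : RepWith P f) :
    Mono f :=
  mono_of_repWith (repWith_mono hP hf)

theorem isImmersion_le_monomorphisms :
    @IsImmersion ≤ MorphismProperty.monomorphisms Scheme.{u} :=
  fun _ _ f _ => inferInstanceAs (Mono f)

theorem isOpenImmersion_le_monomorphisms :
    @IsOpenImmersion ≤ MorphismProperty.monomorphisms Scheme.{u} :=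
  fun _ _ f _ => inferInstanceAs (Mono f)

theorem isClosedImmersion_le_monomorphisms :
    @IsClosedImmersion ≤ MorphismProperty.monomorphisms Scheme.{u} :=
  fun _ _ f _ => inferInstanceAs (Mono f)

/-- A morphism lifts uniquely through a monomorphism as soon as it does so on maps from schemes. -/
theorem exists_factor_of_forall_yon {j : F ⟶ G} [Mono j] (f : H ⟶ G)
    (h : ∀ (T : Over S) (a : (yon S).obj T ⟶ H), ∃ b : (yon S).obj T ⟶ F, b ≫ j = a ≫ f) :
    ∃ g : H ⟶ F, g ≫ j = f := by
  have hinj : ∀ (T : (Over S)ᵒᵖ), Function.Injective (j.hom.app T) := by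
    rintro ⟨T⟩ x y e
    apply (GrothendieckTopology.uliftYonedaEquiv.{u + 1} (J S)).symm.injective
    rw [← cancel_mono j]
    apply (J S).uliftYonedaEquiv.injective
    simpa [GrothendieckTopology.uliftYonedaEquiv_comp] using e
  have hex : ∀ (T : (Over S)ᵒᵖ) (x : H.obj.obj T), ∃ y, j.hom.app T y = f.hom.app T x := by
    rintro ⟨T⟩ x
    obtain ⟨b, hb⟩ := h T ((J S).uliftYonedaEquiv.symm x)
    exact ⟨(J S).uliftYonedaEquiv b, by
      simpa [GrothendieckTopology.uliftYonedaEquiv_comp] using
        congrArg (J S).uliftYonedaEquiv hb⟩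
  choose g hg using hex
  refine ⟨⟨{ app := fun T => ↾(g T), naturality := ?_ }⟩, ?_⟩
  · intro T T' φ
    ext x
    apply hinj T'
    change j.hom.app T' (g T' (H.obj.map φ x)) = j.hom.app T' (F.obj.map φ (g T x))
    rw [hg, NatTrans.naturality_apply, NatTrans.naturality_apply, hg]
  · apply Sheaf.hom_ext
    ext T x
    exact hg T x

/-- A monomorphism which is representable, into an algebraic space, has algebraic space source. -/
theorem isAlgSpace_of_representable_mono {j : F ⟶ G} [Mono j] (hj : Representable j)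
    (hG : IsAlgSpace G) : IsAlgSpace F where
  diag := by
    have sq : IsPullback j (Limits.diag F) (Limits.diag G) (prod.map j j) := by
      have w : j ≫ Limits.diag G = Limits.diag F ≫ prod.map j j := by simp
      refine ⟨⟨w⟩, ⟨PullbackCone.IsLimit.mk _ (fun s => s.snd ≫ prod.fst) ?_ ?_ ?_⟩⟩
      · intro s
        have := congrArg (· ≫ prod.fst) s.condition
        simp only [Category.assoc, prod.lift_fst, prod.map_fst, Category.comp_id] at this
        rw [Category.assoc]
        exact this.symm
      · intro s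
        have h1 := congrArg (· ≫ prod.fst) s.condition
        have h2 := congrArg (· ≫ prod.snd) s.condition
        simp only [Category.assoc, prod.lift_fst, prod.lift_snd, prod.map_fst, prod.map_snd,
          Category.comp_id] at h1 h2
        apply Limits.prod.hom_ext
        · simp only [Category.assoc, prod.lift_fst, Category.comp_id]
        · rw [← cancel_mono j]
          simp only [Category.assoc, prod.lift_snd, Category.comp_id]
          rw [← h2, h1]
      · intro s m hm1 hm2
        rw [← hm2]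
        simp only [Category.assoc, prod.lift_fst, Category.comp_id]
    exact MorphismProperty.of_isPullback sq hG.diag
  atlas := by
    obtain ⟨U, p, he, hs⟩ := hG.atlas
    obtain ⟨V, snd, fst, sq⟩ := hj p
    exact ⟨V, fst, (repWith_isStableUnderBaseChange _).of_isPullback sq.flip he,
      (repWith_isStableUnderBaseChange _).of_isPullback sq.flip hs⟩

/-- A morphism into `G` lifts through a representable open immersion as soon as the
underlying points do. -/
theorem exists_factor_of_range_subset {j : F ⟶ G} (hj : RepWith @IsOpenImmersion j) (f : H ⟶ G)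
    (h : Set.range (Points.map f) ⊆ Set.range (Points.map j)) : ∃ g : H ⟶ F, g ≫ j = f := by
  have := mono_of_repWith_le isOpenImmersion_le_monomorphisms hj
  refine exists_factor_of_forall_yon f fun T a => ?_
  obtain ⟨V, snd, fst, sq⟩ := hj.1 (a ≫ f)
  have : IsOpenImmersion snd.left := hj.2 _ fst snd sq
  have : Surjective snd.left := ⟨fun t => by
    have hmem : Points.ofPt (a ≫ f) t ∈ Set.range (Points.map j) :=
      h ⟨_, Points.map_ofPt a f t⟩
    rwa [← Set.mem_preimage, preimage_ofPt_range_map sq] at hmem⟩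
  have : IsIso snd.left := (isIso_iff_isOpenImmersion_and_surjective _).2 ⟨inferInstance, inferInstance⟩
  have : IsIso ((Over.forget S).map snd) := inferInstanceAs (IsIso snd.left)
  have : IsIso snd := isIso_of_reflects_iso snd (Over.forget S)
  refine ⟨(yon S).map (inv snd) ≫ fst, ?_⟩
  rw [Category.assoc, sq.w, ← Category.assoc, ← Functor.map_comp, IsIso.inv_hom_id,
    CategoryTheory.Functor.map_id, Category.id_comp]

theorem factors_iff_range_subset {j : F ⟶ G} (hj : RepWith @IsOpenImmersion j) (f : H ⟶ G) :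
    (∃ g : H ⟶ F, g ≫ j = f) ↔ Set.range (Points.map f) ⊆ Set.range (Points.map j) := by
  refine ⟨?_, exists_factor_of_range_subset hj f⟩
  rintro ⟨g, rfl⟩ - ⟨x, rfl⟩
  exact ⟨Points.map g x, (Points.map_comp g j x).symm⟩

variable (F) (W : Set (Points F))

/-- The sections all of whose points lie in `W`. -/
def subOfSet : Subfunctor F.obj where
  obj T := {x | ∀ t : ↥T.unop.left, Points.ofPt ((J S).uliftYonedaEquiv.symm x) t ∈ W}
  map := by
    rintro ⟨T⟩ ⟨T'⟩ φ x hx t
    rw [← φ.op_unop]
    rw [← GrothendieckTopology.uliftYonedaEquiv_symm_naturality_left, ofPt_comp]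
    exact hx _

theorem isSheaf_subOfSet : Presieve.IsSheaf (J S) (subOfSet F W).toFunctor := by
  have hF : Presieve.IsSheaf (J S) F.obj := (isSheaf_iff_isSheaf_of_type _ _).1 F.property
  rw [Subfunctor.isSheaf_iff _ hF]
  rintro ⟨T⟩ x hx t
  obtain ⟨V, g, v, hg, rfl⟩ := exists_mem_of_mem_J hx t
  rw [← ofPt_comp, GrothendieckTopology.uliftYonedaEquiv_symm_naturality_left]
  exact hg v

/-- The subsheaf of sections all of whose points lie in `W`. -/
def restrictSheaf : Sp S :=
  ⟨(subOfSet F W).toFunctor, (isSheaf_iff_isSheaf_of_type _ _).2 (isSheaf_subOfSet F W)⟩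

/-- The inclusion of `restrictSheaf F W`. -/
def restrictι : restrictSheaf F W ⟶ F := ⟨(subOfSet F W).ι⟩

variable {F W}

theorem exists_restrict_lift {T : Over S} (a : (yon S).obj T ⟶ F)
    (h : Set.range (Points.ofPt a) ⊆ W) :
    ∃ b : (yon S).obj T ⟶ restrictSheaf F W, b ≫ restrictι F W = a := by
  refine ⟨(J S).uliftYonedaEquiv.symm ⟨(J S).uliftYonedaEquiv a, fun t => ?_⟩, ?_⟩
  · simpa using h ⟨t, rfl⟩
  · apply (J S).uliftYonedaEquiv.injective
    rw [GrothendieckTopology.uliftYonedaEquiv_comp]
    erw [Equiv.apply_symm_apply]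
    rfl

theorem range_ofPt_restrict_subset {T : Over S} (b : (yon S).obj T ⟶ restrictSheaf F W) :
    Set.range (Points.ofPt (b ≫ restrictι F W)) ⊆ W := by
  rintro - ⟨t, rfl⟩
  have hb : ((J S).uliftYonedaEquiv b).1 = (J S).uliftYonedaEquiv (b ≫ restrictι F W) := by
    rw [GrothendieckTopology.uliftYonedaEquiv_comp]; rfl
  have := ((J S).uliftYonedaEquiv b).2 t
  rw [hb, Equiv.symm_apply_apply] at this
  exact this

instance mono_restrictι : Mono (restrictι F W) := by
  refine mono_of_forall_yon fun T a b e => ?_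
  apply (J S).uliftYonedaEquiv.injective
  apply Subtype.ext
  have := congrArg (J S).uliftYonedaEquiv e
  rwa [GrothendieckTopology.uliftYonedaEquiv_comp,
    GrothendieckTopology.uliftYonedaEquiv_comp] at this

theorem exists_isPullback_restrict (hW : IsOpen W) {T : Over S} (g : (yon S).obj T ⟶ F) :
    ∃ (V : Over S) (snd : V ⟶ T) (fst : (yon S).obj V ⟶ restrictSheaf F W),
      IsPullback fst ((yon S).map snd) (restrictι F W) g ∧ IsOpenImmersion snd.left ∧
        Set.range snd.left = Points.ofPt g ⁻¹' W := by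
  let O : T.left.Opens := ⟨_, hW.preimage (Points.continuous_ofPt g)⟩
  let V : Over S := Over.mk (O.ι ≫ T.hom)
  let snd : V ⟶ T := Over.homMk O.ι rfl
  have hO : IsOpenImmersion snd.left := inferInstanceAs (IsOpenImmersion O.ι)
  have : Mono snd.left := inferInstance
  have : Mono snd := (Over.forget S).mono_of_mono_map (f := snd) this
  have hrange : Set.range snd.left = Points.ofPt g ⁻¹' W := O.range_ι
  obtain ⟨fst, hfst⟩ := exists_restrict_lift (W := W) ((yon S).map snd ≫ g) (by
    rintro - ⟨v, rfl⟩
    rw [ofPt_comp]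
    exact hrange.le ⟨v, rfl⟩)
  refine ⟨V, snd, fst, ⟨⟨hfst⟩, ⟨?_⟩⟩, hO, hrange⟩
  have key : ∀ {Q : Sp S} (a : Q ⟶ restrictSheaf F W) (b : Q ⟶ (yon S).obj T),
      a ≫ restrictι F W = b ≫ g → ∃ l : Q ⟶ (yon S).obj V, l ≫ (yon S).map snd = b := by
    intro Q a b e
    have hj : RepWith @IsOpenImmersion ((yon S).map snd) :=
      (repWith_yon_map_iff _ _).2 hO
    refine exists_factor_of_range_subset hj b ?_
    rintro - ⟨x, rfl⟩
    obtain ⟨U, c, u, rfl, -⟩ := exists_ofPt_eq x
    obtain ⟨t, ht⟩ := (Points.schemeHomeo T).surjective (Points.ofPt (c ≫ b) u)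
    rw [Points.map_ofPt, ← ht, range_map_yon]
    have htW : Points.ofPt g t ∈ W := by
      rw [Points.ofPt_eq_map_ofScheme]
      change Points.map g (Points.schemeHomeo T t) ∈ W
      rw [ht, Points.map_ofPt, Category.assoc, ← e, ← Category.assoc]
      exact range_ofPt_restrict_subset _ ⟨u, rfl⟩
    obtain ⟨v, hv⟩ := hrange.ge htW
    exact ⟨v, by rw [ofPt_yon_map, hv]; rfl⟩
  choose l hl using fun {Q : Sp S} (a : Q ⟶ restrictSheaf F W) (b : Q ⟶ (yon S).obj T)
    (e : a ≫ restrictι F W = b ≫ g) => key a b e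
  refine PullbackCone.IsLimit.mk _ (fun s => l s.fst s.snd s.condition) (fun s => ?_)
    (fun s => hl _ _ _) (fun s m _ hm => ?_)
  · rw [← cancel_mono (restrictι F W), Category.assoc, hfst, ← Category.assoc, hl, s.condition]
  · rw [← cancel_mono ((yon S).map snd), hm, hl]

theorem repWith_restrictι (hW : IsOpen W) : RepWith @IsOpenImmersion (restrictι F W) := by
  refine MorphismProperty.relative.of_exists fun T g => ?_
  obtain ⟨V, snd, fst, sq, hO, -⟩ := exists_isPullback_restrict hW g
  exact ⟨V, fst, snd, sq, hO⟩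

theorem range_map_restrictι (hW : IsOpen W) : Set.range (Points.map (restrictι F W)) = W := by
  refine Set.Subset.antisymm ?_ fun x hx => ?_
  · rintro - ⟨x, rfl⟩
    obtain ⟨T, b, t, rfl, -⟩ := exists_ofPt_eq x
    rw [Points.map_ofPt]
    exact range_ofPt_restrict_subset b ⟨t, rfl⟩
  · obtain ⟨T, g, t, rfl, -⟩ := exists_ofPt_eq x
    obtain ⟨V, snd, fst, sq, -, hr⟩ := exists_isPullback_restrict hW g
    obtain ⟨v, rfl⟩ := hr.ge hx
    exact ⟨_, map_ofPt_fst sq v⟩

theorem isAlgSpace_restrictSheaf (hF : IsAlgSpace F) (hW : IsOpen W) :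
    IsAlgSpace (restrictSheaf F W) :=
  isAlgSpace_of_representable_mono (repWith_restrictι hW).1 hF

theorem isOpen_range_map {j : G ⟶ F} (hj : RepWith @IsOpenImmersion j) :
    IsOpen (Set.range (Points.map j)) :=
  Points.isOpen_iff.2 fun T g => by
    obtain ⟨V, snd, fst, sq⟩ := hj.1 g
    have : IsOpenImmersion snd.left := hj.2 g fst snd sq
    rw [preimage_ofPt_range_map sq]
    exact snd.left.isOpenEmbedding.isOpen_range

theorem injective_map_of_mono (f : F ⟶ G) [Mono f] : Function.Injective (Points.map f) := by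
  intro x y e
  have sq : IsPullback (𝟙 F) (𝟙 F) f f := IsPullback.of_horiz_isIso_mono ⟨rfl⟩
  obtain ⟨z, hx, hy⟩ := exists_of_isPullback sq x y e
  rw [← hx, ← hy]

theorem isEmbedding_map_of_openImmersion {j : G ⟶ F} (hj : RepWith @IsOpenImmersion j) :
    IsOpenEmbedding (Points.map j) := by
  have := mono_of_repWith_le isOpenImmersion_le_monomorphisms hj
  refine IsOpenEmbedding.of_continuous_injective_isOpenMap (Points.continuous_map j)
    (injective_map_of_mono j) (isOpenMap_map_of_repWith (repWith_mono ?_ hj))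
  exact fun _ _ f _ => inferInstance

end Groth.Agent.SpPts86
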