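import Groth.Prelude.Def_AlgSp4
import Groth.Agent.SpFP87.Basic
import Groth.Agent.SpPts86.Compact
import Groth.Agent.SpPts86.Subspace
import Groth.Agent.SpPts86.DiagDesc
import Groth.Agent.SpPts86.DiagCrit
import Groth.Agent.SpPts86.Graph

/-!
Quasi-compact morphisms of algebraic spaces.
-/

universe u

set_option autoImplicit false

open CategoryTheory CategoryTheory.Limits AlgebraicGeometry
open AlgSp Groth.Agent.SpFP87

namespace Groth.Agent.SpPts86

variable {S : Scheme.{u}} {X Y Z P : Sp S}

theorem surjective_map_fst_of_isPullback {fst : P ⟶ X} {snd : P ⟶ Z} {f : X ⟶ Y} {g : Z ⟶ Y}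
    (sq : IsPullback fst snd f g) (hg : IsSurjectiveMor g) : IsSurjectiveMor fst := fun x => by
  obtain ⟨z, hz⟩ := hg (Points.map f x)
  obtain ⟨p, hp, -⟩ := exists_of_isPullback sq x z hz.symm
  exact ⟨p, hp⟩

theorem compactSpace_of_surjectiveMor {f : X ⟶ Y} (hf : IsSurjectiveMor f)
    [CompactSpace (Points X)] : CompactSpace (Points Y) :=
  hf.compactSpace (Points.continuous_map f)

theorem isQuasiCompactSp_yon (T : Over S) [CompactSpace ↥T.left] :
    IsQuasiCompactSp ((yon S).obj T) :=
  ⟨T, 𝟙 _, repWith_id _ T, repWith_id _ T, inferInstance⟩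

theorem compactSpace_points_yon (T : Over S) [CompactSpace ↥T.left] :
    CompactSpace (Points ((yon S).obj T)) :=
  (Points.schemeHomeo T).compactSpace

/-- Quasi-compact morphisms pull compact spaces of points back to compact ones. -/
theorem compactSpace_of_isQuasiCompactMor {f : X ⟶ Y} (hf : IsQuasiCompactMor f) (hZ : IsAlgSpace Z)
    [CompactSpace (Points Z)] {fst : P ⟶ X} {snd : P ⟶ Z} {g : Z ⟶ Y}
    (sq : IsPullback fst snd f g) : CompactSpace (Points P) :=
  compactSpace_points_of_isQuasiCompactSp (hf hZ (isQuasiCompactSp_of_compactSpace hZ) g fst snd sq)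

/-- Quasi-compactness of a morphism may be tested on affine schemes. -/
theorem isQuasiCompactMor_of_affine {f : X ⟶ Y} (hX : IsAlgSpace X) (hY : IsAlgSpace Y)
    (h : ∀ (T : Over S), IsAffine T.left → ∀ (g : (yon S).obj T ⟶ Y) (Q : Sp S) (fst : Q ⟶ X)
      (snd : Q ⟶ (yon S).obj T), IsPullback fst snd f g → CompactSpace (Points Q)) :
    IsQuasiCompactMor f := by
  intro Z Z' hZ hqc g fst snd sq
  have := compactSpace_points_of_isQuasiCompactSp hqc
  have hZ' : IsAlgSpace Z' := isAlgSpace_of_isPullback sq hX hZ hY.diag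
  obtain ⟨T, p, hT, hp, hps⟩ := exists_affine_chart_of_compactSpace hZ
  have sq' := IsPullback.of_hasPullback snd p
  have := h T hT (p ≫ g) _ _ _ (sq'.paste_horiz sq)
  have := compactSpace_of_surjectiveMor
    (surjective_map_fst_of_isPullback sq' (isSurjectiveMor_of_repWith hps))
  exact isQuasiCompactSp_of_compactSpace hZ'

theorem isQuasiCompactMor_baseChange {f : X ⟶ Y} (hf : IsQuasiCompactMor f) {g : Z ⟶ Y}
    {fst : P ⟶ X} {snd : P ⟶ Z} (sq : IsPullback fst snd f g) : IsQuasiCompactMor snd :=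
  fun _ _ hW hqc k fst' snd' sq' => hf hW hqc (k ≫ g) (fst' ≫ fst) snd' (sq'.paste_horiz sq)

theorem isQuasiCompactMor_comp {f : X ⟶ Y} {g : Y ⟶ Z} (hY : IsAlgSpace Y) (hZ : IsAlgSpace Z)
    (hf : IsQuasiCompactMor f) (hg : IsQuasiCompactMor g) : IsQuasiCompactMor (f ≫ g) := by
  intro W W' hW hqc k fst snd sq
  let sq2 := IsPullback.of_hasPullback g k
  have hmid : IsAlgSpace (pullback g k) := isAlgSpace_of_isPullback sq2 hY hW hZ.diag
  refine hf hmid (hg hW hqc k _ _ sq2) (pullback.fst g k) fst
    (sq2.lift (fst ≫ f) snd (by rw [Category.assoc]; exact sq.w)) ?_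
  exact IsPullback.of_bot
    (by rw [sq2.lift_snd]; exact sq) (by rw [sq2.lift_fst]) sq2

/-- A representable quasi-compact morphism is quasi-compact. -/
theorem isQuasiCompactMor_of_repWith {f : X ⟶ Y} (hY : IsAlgSpace Y)
    (hf : RepWith @QuasiCompact f) : IsQuasiCompactMor f := by
  refine isQuasiCompactMor_of_affine (isAlgSpace_of_representable f hf.rep hY) hY
    fun T hT g Q fst snd sq => ?_
  obtain ⟨V, s, p, sq'⟩ := hf.rep g
  have : QuasiCompact s.left := hf.property g p s sq'
  have : CompactSpace ↥V.left := QuasiCompact.compactSpace_of_compactSpace s.left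
  have := compactSpace_points_yon V
  refine compactSpace_of_surjectiveMor (f := (sq'.isoIsPullback _ _ sq).hom) fun x => ?_
  refine ⟨Points.map (sq'.isoIsPullback _ _ sq).inv x, ?_⟩
  rw [← Points.map_comp, Iso.inv_hom_id, Points.map_id]

/-- A quasi-compact representable morphism has quasi-compact base changes. -/
theorem repWith_quasiCompact_of_isQuasiCompactMor {f : X ⟶ Y} (hf : Representable f)
    (h : IsQuasiCompactMor f) : RepWith @QuasiCompact f := by
  refine MorphismProperty.relative.of_exists ?_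
  intro T g
  obtain ⟨V, s, p, sq⟩ := hf g
  refine ⟨V, p, s, sq, ?_⟩
  refine IsZariskiLocalAtTarget.of_openCover (P := @QuasiCompact) T.left.affineCover fun i => ?_
  let T' : Over S := Over.mk (T.left.affineCover.f i ≫ T.hom)
  let c : T' ⟶ T := Over.homMk (T.left.affineCover.f i) rfl
  have : IsAffine T'.left := inferInstanceAs (IsAffine (T.left.affineCover.X i))
  have sq3 := (IsPullback.of_hasPullback s c)
  have sq4 := sq3.map (yon S)
  have hyT := compactSpace_points_yon T'
  have := compactSpace_of_isQuasiCompactMor h (IsAlgSpace.yon_obj T') (sq4.paste_horiz sq)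
  have : CompactSpace ↥(pullback s c).left := (Points.schemeHomeo (pullback s c)).symm.compactSpace
  have hsq : IsPullback (pullback.fst s c).left (pullback.snd s c).left s.left c.left :=
    sq3.map (Over.forget S)
  have hq : QuasiCompact ((pullback.snd s c).left) := by
    have : QuasiCompact ((pullback.snd s c).left ≫ terminal.from T'.left) := by
      rw [terminal.comp_from]; exact (compactSpace_iff_quasiCompact _).1 inferInstance
    exact QuasiCompact.of_comp _ (terminal.from T'.left)
  have := MorphismProperty.cancel_left_of_respectsIso @QuasiCompact hsq.isoPullback.hom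
    (pullback.snd s.left c.left)
  rw [hsq.isoPullback_hom_snd] at this
  exact this.1 hq

/-- Descent of quasi-compactness along surjections which are open after every base change. -/
theorem isQuasiCompactMor_of_open_cover {f : X ⟶ Y} {g : Z ⟶ Y} {fst : P ⟶ X} {f' : P ⟶ Z}
    (hX : IsAlgSpace X) (hY : IsAlgSpace Y) (hZ : IsAlgSpace Z) (sq : IsPullback fst f' f g)
    (hgs : IsSurjectiveMor g)
    (hgo : ∀ (T : Over S) (k : (yon S).obj T ⟶ Y) (Q : Sp S) (q₁ : Q ⟶ Z)
      (q₂ : Q ⟶ (yon S).obj T), IsPullback q₁ q₂ g k → IsOpenMap (Points.map q₂))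
    (hf' : IsQuasiCompactMor f') : IsQuasiCompactMor f := by
  refine isQuasiCompactMor_of_affine hX hY fun T hT k Q fT sT sqT => ?_
  have sqZ := IsPullback.of_hasPullback g k
  have hW₀ : IsAlgSpace (pullback g k) :=
    isAlgSpace_of_isPullback sqZ hZ (IsAlgSpace.yon_obj T) hY.diag
  have hsurj : IsSurjectiveMor (pullback.snd g k) :=
    surjective_map_fst_of_isPullback sqZ.flip hgs
  have hopen := hgo T k _ _ _ sqZ
  choose lift hlift using hsurj
  choose N hNo hNc hNm _ using fun t : Points ((yon S).obj T) =>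
    exists_isOpen_isCompact_nhd hW₀ (x := lift t) isOpen_univ (Set.mem_univ _)
  have := compactSpace_points_yon T
  obtain ⟨F, hF⟩ := isCompact_univ.elim_finite_subcover
    (fun t => Points.map (pullback.snd g k) '' N t) (fun t => hopen _ (hNo t))
    (fun t _ => Set.mem_iUnion.2 ⟨t, lift t, hNm t, hlift t⟩)
  let Wset := ⋃ t ∈ F, N t
  have hWo : IsOpen Wset := isOpen_biUnion fun t _ => hNo t
  have hWc : IsCompact Wset := F.finite_toSet.isCompact_biUnion fun t _ => hNc t
  let ι := restrictι (pullback g k) Wset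
  have hWalg : IsAlgSpace (restrictSheaf (pullback g k) Wset) := isAlgSpace_restrictSheaf hW₀ hWo
  have : CompactSpace (Points (restrictSheaf (pullback g k) Wset)) :=
    ⟨(isEmbedding_map_of_openImmersion (repWith_restrictι hWo)).toIsEmbedding.isCompact_iff.2
      (by rw [Set.image_univ, range_map_restrictι hWo]; exact hWc)⟩
  have sqP := IsPullback.of_hasPullback f' (ι ≫ pullback.fst g k)
  have := compactSpace_of_isQuasiCompactMor hf' hWalg sqP
  have hw : (pullback.fst f' (ι ≫ pullback.fst g k) ≫ fst) ≫ f =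
      (pullback.snd f' (ι ≫ pullback.fst g k) ≫ ι ≫ pullback.snd g k) ≫ k := by
    rw [Category.assoc, sq.w, pullback.condition_assoc]
    simp only [Category.assoc]
    rw [← sqZ.w]
  obtain ⟨m, hm1, hm2⟩ : ∃ m : pullback f' (ι ≫ pullback.fst g k) ⟶ Q,
      m ≫ fT = pullback.fst f' (ι ≫ pullback.fst g k) ≫ fst ∧
        m ≫ sT = pullback.snd f' (ι ≫ pullback.fst g k) ≫ ι ≫ pullback.snd g k :=
    ⟨sqT.lift _ _ hw, sqT.lift_fst _ _ _, sqT.lift_snd _ _ _⟩
  have big : IsPullback (pullback.fst f' (ι ≫ pullback.fst g k) ≫ fst)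
      (pullback.snd f' (ι ≫ pullback.fst g k)) f ((ι ≫ pullback.snd g k) ≫ k) := by
    have := sqP.paste_horiz sq
    rwa [Category.assoc, sqZ.w, ← Category.assoc] at this
  have sqm : IsPullback m (pullback.snd f' (ι ≫ pullback.fst g k)) sT (ι ≫ pullback.snd g k) :=
    IsPullback.of_right (by rwa [hm1]) hm2 sqT
  refine compactSpace_of_surjectiveMor (surjective_map_fst_of_isPullback sqm fun t => ?_)
  obtain ⟨s, hs, n, hn, hnt⟩ := Set.mem_iUnion₂.1 (hF (Set.mem_univ t))
  obtain ⟨w, rfl⟩ := (range_map_restrictι hWo).ge (Set.mem_iUnion₂.2 ⟨s, hs, hn⟩ : n ∈ Wset)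
  exact ⟨w, by rw [Points.map_comp, hnt]⟩

end Groth.Agent.SpPts86
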