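import Groth.Agent.SpPts86.HasAtMorInv
import Groth.Agent.VarGal.QFPoint
import Groth.Agent.E4O.FibreDim
import Mathlib.AlgebraicGeometry.Morphisms.QuasiFinite

/-!
Relative dimension zero and quasi-finiteness.
-/

universe u

set_option autoImplicit false

open CategoryTheory AlgebraicGeometry Topology

namespace Groth.Agent.SpPts86

variable {X Y : Scheme.{u}} (f : X ⟶ Y)

theorem fibreDimAt_eq_zero_of_lqf [LocallyQuasiFinite f] [LocallyOfFiniteType f] (x : X) :
    FlatMor.fibreDimAt f x = 0 := by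
  obtain ⟨z, -, -, hz, -, -⟩ := E4O.exists_fibreDimAt_eq f x
  rw [hz, VarGal.fdeg_eq_zero_of_quasiFiniteAt f (f.quasiFiniteAt z)]
  rfl

theorem fdeg_eq_zero_of_fibreDimAt [LocallyOfFiniteType f] {x z : X} (h : z ⤳ x) (e : f z = f x)
    (h0 : FlatMor.fibreDimAt f x = 0) : E4O.fdeg f z = 0 :=
  Nat.le_zero.1 (Nat.cast_le.1 (((E4O.fdeg_le_fibreDimAt h e).trans h0.le).trans (by simp)))

theorem locallyQuasiFinite_of_fibreDimAt [LocallyOfFiniteType f] (h : ∀ x, FlatMor.fibreDimAt f x = 0) :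
    LocallyQuasiFinite f := by
  refine locallyQuasiFinite_iff_isDiscrete_preimage_singleton.2 fun y => ?_
  rw [isDiscrete_iff_discreteTopology, discreteTopology_iff_isOpen_singleton]
  rintro ⟨x, rfl⟩
  have hq : f.QuasiFiniteAt x := VarGal.quasiFiniteAt_of_fdeg_eq_zero f x fun z hz e =>
    fdeg_eq_zero_of_fibreDimAt f hz e (h x)
  have := Scheme.Hom.quasiFiniteAt_iff_isOpen_singleton_asFiber.1 hq
  rw [← (f.fiberHomeo (f x)).isOpen_image, Set.image_singleton] at this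
  simpa [Scheme.Hom.asFiber] using this

end Groth.Agent.SpPts86

namespace Groth.Agent.SpPts86

open AlgSp

variable {U V : Scheme.{u}} (h : U ⟶ V) [LocallyOfFiniteType h]

theorem fibreDimAt_restrict (W : U.Opens) (w : W.toScheme) :
    FlatMor.fibreDimAt (W.ι ≫ h) w = FlatMor.fibreDimAt h (W.ι w) :=
  (Desc59.EtaleDim.fibreDimAt_eq h (W.ι ≫ h) W.ι (𝟙 V) (Category.comp_id _) w).symm

theorem nearPt_lqf_iff (u : U) :
    (∃ W : U.Opens, u ∈ W ∧ LocallyQuasiFinite (W.ι ≫ h) ∧ LocallyOfFiniteType (W.ι ≫ h)) ↔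
      FlatMor.fibreDimAt h u ≤ ((0 : ℕ) : WithBot ℕ∞) := by
  constructor
  · rintro ⟨W, hu, _, _⟩
    have := fibreDimAt_restrict h W ⟨u, hu⟩
    rw [fibreDimAt_eq_zero_of_lqf] at this
    exact this.symm.le
  · intro hu
    obtain ⟨W, hW, hle⟩ := E4O.exists_open_forall_fibreDimAt_le h u
    refine ⟨W, hW, locallyQuasiFinite_of_fibreDimAt _ fun w => ?_, inferInstance⟩
    rw [fibreDimAt_restrict]
    obtain ⟨z, -, -, hz, -⟩ := E4O.exists_fibreDimAt_eq h (W.ι w)
    have := (hle _ w.2).trans hu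
    rw [Scheme.Opens.ι_apply, hz] at *
    rw [Nat.le_zero.1 (Nat.cast_le.1 this)]
    rfl

end Groth.Agent.SpPts86
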