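import Groth.Agent.EGA4Alg4.FlatReg
import Groth.Agent.FlatCrit65.FlatLocus.Module
import Groth.Agent.Unr55.FppfDesc
import Mathlib.RingTheory.Regular.Flat
import Mathlib.RingTheory.Flat.FaithfullyFlat.Algebra
import Mathlib.RingTheory.ZariskisMainTheorem
import Mathlib.RingTheory.Spectrum.Prime.Chevalley

/-!
Cutting a flat algebra of finite presentation by a sequence which is regular on a geometric fibre.
-/

universe u

set_option autoImplicit false

open TensorProduct RingTheory.Sequence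

namespace Groth.Agent.SpPts86

/-- Weakly regular sequences descend along faithfully flat base change. -/
theorem isWeaklyRegular_of_faithfullyFlat {R S : Type u} [CommRing R] [CommRing S] [Algebra R S]
    [Module.FaithfullyFlat R S] : ∀ {rs : List R} {M N : Type u} [AddCommGroup M] [Module R M]
      [AddCommGroup N] [Module R N] [Module S N] [IsScalarTower R S N] {f : M →ₗ[R] N},
      IsBaseChange S f → IsWeaklyRegular N (rs.map (algebraMap R S)) → IsWeaklyRegular M rs := by
  intro rs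
  induction rs with
  | nil => intros; exact IsWeaklyRegular.nil R _
  | cons x xs ih =>
    intro M N _ _ _ _ _ _ f hf h
    simp only [List.map_cons, isWeaklyRegular_cons_iff] at h ⊢
    have e := (QuotSMulTop.algebraMapTensorEquivTensorQuotSMulTop x M S).symm ≪≫ₗ
      QuotSMulTop.congr ((algebraMap R S) x) hf.equiv
    have hg : IsBaseChange S <|
        e.toLinearMap.restrictScalars R ∘ₗ TensorProduct.mk R S (QuotSMulTop x M) 1 :=
      IsBaseChange.of_equiv e (fun _ ↦ by simp)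
    refine ⟨fun a b hab => ?_, ih hg h.2⟩
    change x • a = x • b at hab
    apply Module.FaithfullyFlat.tensorProduct_mk_injective (A := R) (B := S) M
    apply hf.equiv.injective
    have e1 : ∀ z, hf.equiv (TensorProduct.mk R S M 1 z) = f z := fun z => by
      simp [IsBaseChange.equiv_tmul]
    rw [e1, e1]
    apply h.1
    change algebraMap R S x • f a = algebraMap R S x • f b
    rw [algebraMap_smul, algebraMap_smul, ← map_smul, ← map_smul, hab]

/-- The base change to a field of the reduction of an algebra modulo the kernel. -/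
theorem flat_includeRight_quotient {D B₁ K : Type u} [CommRing D] [CommRing B₁] [Algebra D B₁] [Field K]
    [Algebra D K] (p : Ideal D) [p.IsPrime] (hp : RingHom.ker (algebraMap D K) = p)
    (hI : ∀ x ∈ p.map (algebraMap D B₁), (Algebra.TensorProduct.includeRight : B₁ →ₐ[D] K ⊗[D] B₁) x = 0) :
    (Ideal.Quotient.lift (p.map (algebraMap D B₁))
      (Algebra.TensorProduct.includeRight : B₁ →ₐ[D] K ⊗[D] B₁).toRingHom hI).Flat := by
  let β : D ⧸ p →ₐ[D] K := Ideal.Quotient.liftₐ p (Algebra.ofId D K) fun a ha => RingHom.mem_ker.1 (hp.ge ha)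
  have hinj : Function.Injective β.toRingHom :=
    RingHom.lift_injective_of_ker_le_ideal p _ hp.le
  have hβ : β.toRingHom.Flat := by
    let g : FractionRing (D ⧸ p) →+* K := IsFractionRing.lift hinj
    have e : β.toRingHom = g.comp (algebraMap (D ⧸ p) (FractionRing (D ⧸ p))) :=
      RingHom.ext fun x => (IsFractionRing.lift_algebraMap hinj x).symm
    rw [e]
    exact RingHom.Flat.comp (RingHom.flat_algebraMap_iff.2 (IsLocalization.flat _ (nonZeroDivisors _)))
      (RingHom.Flat.of_isField (Field.toIsField _) g)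
  let τ : (B₁ ⧸ p.map (algebraMap D B₁)) ≃ₐ[D] (D ⧸ p) ⊗[D] B₁ :=
    ((Algebra.TensorProduct.quotIdealMapEquivTensorQuot B₁ p).restrictScalars D).trans
      (Algebra.TensorProduct.comm D B₁ (D ⧸ p))
  have hmap := RingHom.Flat.tensorProductMap (S := D) (f := β) (g := AlgHom.id D B₁) hβ (RingHom.Flat.id B₁)
  have e : (Ideal.Quotient.lift (p.map (algebraMap D B₁))
      (Algebra.TensorProduct.includeRight : B₁ →ₐ[D] K ⊗[D] B₁).toRingHom hI) =
      (Algebra.TensorProduct.map β (AlgHom.id D B₁)).toRingHom.comp τ.toRingEquiv.toRingHom := by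
    refine Ideal.Quotient.ringHom_ext (RingHom.ext fun b => ?_)
    change (1 : K) ⊗ₜ[D] b = Algebra.TensorProduct.map β (AlgHom.id D B₁) (τ (Ideal.Quotient.mk _ b))
    simp [τ]
  rw [e]
  exact RingHom.Flat.comp (RingHom.Flat.of_bijective τ.bijective) hmap

/-- The Noetherian case. -/
theorem exists_flat_away_noetherian {D B₁ K : Type u} [CommRing D] [CommRing B₁] [Algebra D B₁] [Field K]
    [Algebra D K] [IsNoetherianRing D] [Algebra.FinitePresentation D B₁] [Module.Flat D B₁] (hs : List B₁)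
    (Q : Ideal (K ⊗[D] B₁)) [Q.IsPrime]
    (hreg : IsWeaklyRegular (Localization.AtPrime Q)
      (hs.map fun b => algebraMap (K ⊗[D] B₁) (Localization.AtPrime Q) ((1 : K) ⊗ₜ b))) :
    ∃ s : B₁, ((1 : K) ⊗ₜ[D] s) ∉ Q ∧
      Module.Flat D (Localization.Away (Ideal.Quotient.mk (Ideal.ofList hs) s)) := by
  have : IsNoetherianRing B₁ := Algebra.FiniteType.isNoetherianRing D B₁
  let φ : B₁ →+* K ⊗[D] B₁ := (Algebra.TensorProduct.includeRight : B₁ →ₐ[D] K ⊗[D] B₁).toRingHom
  have hφ : ∀ a : D, φ (algebraMap D B₁ a) = algebraMap D (K ⊗[D] B₁) a := fun a =>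
    (Algebra.TensorProduct.includeRight : B₁ →ₐ[D] K ⊗[D] B₁).commutes a
  let q : Ideal B₁ := Q.comap φ
  let p : Ideal D := q.comap (algebraMap D B₁)
  have hp : RingHom.ker (algebraMap D K) = p := by
    refine le_antisymm (fun a ha => ?_) fun a ha => ?_
    · change φ (algebraMap D B₁ a) ∈ Q
      rw [hφ, Algebra.TensorProduct.algebraMap_apply, RingHom.mem_ker.1 ha, zero_tmul]
      exact Q.zero_mem
    · rw [RingHom.mem_ker]
      by_contra hne
      change φ (algebraMap D B₁ a) ∈ Q at ha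
      rw [hφ, Algebra.TensorProduct.algebraMap_apply] at ha
      exact Ideal.IsPrime.ne_top ‹_› (Q.eq_top_of_isUnit_mem ha
        ((isUnit_iff_ne_zero.2 hne).map (Algebra.TensorProduct.includeLeftRingHom : K →+* K ⊗[D] B₁)))
  have hI : ∀ x ∈ p.map (algebraMap D B₁), φ x = 0 := fun x hx => by
    have : p.map (algebraMap D B₁) ≤ RingHom.ker φ := Ideal.map_le_iff_le_comap.2 fun a ha => by
      change φ (algebraMap D B₁ a) = 0
      rw [hφ, Algebra.TensorProduct.algebraMap_apply, RingHom.mem_ker.1 (hp.ge ha), zero_tmul]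
    exact this hx
  have hflat := flat_includeRight_quotient p hp hI
  haveI : q.LiesOver p := ⟨rfl⟩
  let DL := Localization.AtPrime p
  let BL := Localization.AtPrime q
  let KQ := Localization.AtPrime Q
  letI : Algebra DL BL := Localization.AtPrime.algebraOfLiesOver p q
  haveI : IsLocalHom (algebraMap DL BL) := Localization.isLocalHom_localRingHom _ _ _ _
  have : Module.Flat D BL := Module.Flat.trans D B₁ BL
  have : Module.Flat DL BL := (Module.flat_iff_of_isLocalization (S := DL) (p := p.primeCompl) (M := BL)).2 this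
  have hIL : (IsLocalRing.maximalIdeal DL).map (algebraMap DL BL) =
      (p.map (algebraMap D B₁)).map (algebraMap B₁ BL) := by
    rw [← Localization.AtPrime.map_eq_maximalIdeal (I := p), Ideal.map_map, Ideal.map_map,
      ← IsScalarTower.algebraMap_eq D DL BL, ← IsScalarTower.algebraMap_eq D B₁ BL]
  let φL : BL →+* KQ := Localization.localRingHom q Q φ rfl
  have hφL : ∀ b, φL (algebraMap B₁ BL b) = algebraMap (K ⊗[D] B₁) KQ (φ b) :=
    fun b => Localization.localRingHom_to_map _ _ _ _ b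
  have hker : ∀ x ∈ (p.map (algebraMap D B₁)).map (algebraMap B₁ BL), φL x = 0 := fun x hx => by
    have : (p.map (algebraMap D B₁)).map (algebraMap B₁ BL) ≤ RingHom.ker φL :=
      Ideal.map_le_iff_le_comap.2 fun b hb => by
        change φL (algebraMap B₁ BL b) = 0
        rw [hφL, hI b hb, map_zero]
    exact this hx
  let IL : Ideal BL := (p.map (algebraMap D B₁)).map (algebraMap B₁ BL)
  have hIL1 : IL ≠ ⊤ := fun h => by
    have h1 := hker 1 (show (1 : BL) ∈ IL from h ▸ trivial)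
    rw [map_one] at h1
    exact one_ne_zero h1
  have hregF : IsWeaklyRegular (BL ⧸ IL) (hs.map fun b => Ideal.Quotient.mk IL (algebraMap B₁ BL b)) := by
    letI : Algebra (BL ⧸ IL) KQ := (Ideal.Quotient.lift IL φL hker).toAlgebra
    letI : Algebra (B₁ ⧸ p.map (algebraMap D B₁)) KQ :=
      ((algebraMap (K ⊗[D] B₁) KQ).comp (Ideal.Quotient.lift (p.map (algebraMap D B₁)) φ hI)).toAlgebra
    have : Module.Flat (B₁ ⧸ p.map (algebraMap D B₁)) KQ :=
      RingHom.flat_algebraMap_iff.1 (RingHom.Flat.comp hflat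
        (RingHom.flat_algebraMap_iff.2 (IsLocalization.flat KQ Q.primeCompl)))
    have : IsScalarTower (B₁ ⧸ p.map (algebraMap D B₁)) (BL ⧸ IL) KQ := IsScalarTower.of_algebraMap_eq fun x => by
      obtain ⟨b, rfl⟩ := Ideal.Quotient.mk_surjective x
      exact (hφL b).symm
    have : Module.Flat (BL ⧸ IL) KQ :=
      (Module.flat_iff_of_isLocalization (S := BL ⧸ IL)
        (p := Algebra.algebraMapSubmonoid (B₁ ⧸ p.map (algebraMap D B₁)) q.primeCompl) (M := KQ)).2 ‹_›
    have : Nontrivial (BL ⧸ IL) := Ideal.Quotient.nontrivial_iff.mpr hIL1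
    have : IsLocalRing (BL ⧸ IL) := IsLocalRing.of_surjective' _ Ideal.Quotient.mk_surjective
    have : IsLocalHom (algebraMap (BL ⧸ IL) KQ) := ⟨fun a ha => by
      obtain ⟨b, rfl⟩ := Ideal.Quotient.mk_surjective a
      have : IsLocalHom φL := Localization.isLocalHom_localRingHom _ _ _ _
      exact ((IsUnit.of_map φL b) ha).map _⟩
    have : Module.FaithfullyFlat (BL ⧸ IL) KQ := Module.FaithfullyFlat.of_flat_of_isLocalHom
    refine isWeaklyRegular_of_faithfullyFlat (IsBaseChange.linearMap (BL ⧸ IL) KQ) ?_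
    rw [List.map_map]
    refine (List.map_congr_left (g := fun b => algebraMap (K ⊗[D] B₁) KQ ((1 : K) ⊗ₜ b)) ?_ : _ = _) ▸ hreg
    intro b _
    exact hφL b
  let hsL : List BL := hs.map (algebraMap B₁ BL)
  have hregM : IsWeaklyRegular (BL ⧸ ((IsLocalRing.maximalIdeal DL).map (algebraMap DL BL) • (⊤ : Submodule BL BL))) hsL := by
    rw [hIL]
    refine ((Submodule.quotEquivOfEq _ _ (Ideal.mul_top IL)).isWeaklyRegular_congr hsL).2 ?_
    refine (isWeaklyRegular_map_algebraMap_iff (BL ⧸ IL) (BL ⧸ IL) hsL).1 ?_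
    rw [List.map_map]
    exact hregF
  obtain ⟨-, hfl⟩ := EGA4Alg4.FlatReg13.regular_and_flat hsL BL hregM
  have hfl' := hfl hsL.length le_rfl
  rw [List.take_length] at hfl'
  let J : Ideal B₁ := Ideal.ofList hs
  have : Algebra.FinitePresentation D (B₁ ⧸ J) :=
    Algebra.FinitePresentation.quotient (IsNoetherian.noetherian J)
  have : Module.FinitePresentation B₁ (B₁ ⧸ J) :=
    Module.finitePresentation_of_finite B₁ (B₁ ⧸ J)
  have hq : Module.Flat D (LocalizedModule q.primeCompl (B₁ ⧸ J)) := by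
    have : Module.Flat D (BL ⧸ (Ideal.ofList hsL • (⊤ : Submodule BL BL))) := Module.Flat.trans D DL _
    have e : (Ideal.ofList hsL • (⊤ : Submodule BL BL)) =
        Submodule.localized' BL q.primeCompl (Algebra.linearMap B₁ BL) J := by
      rw [Ideal.smul_eq_mul, Ideal.mul_top, Ideal.localized'_eq_map, ← Ideal.map_ofList]
    let e' := (Submodule.quotEquivOfEq _ _ e).restrictScalars D
    have : Module.Flat D (BL ⧸ Submodule.localized' BL q.primeCompl (Algebra.linearMap B₁ BL) J) :=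
      Module.Flat.of_linearEquiv e'.symm
    exact Module.Flat.of_linearEquiv ((IsLocalizedModule.iso q.primeCompl
      (J.toLocalizedQuotient' BL q.primeCompl (Algebra.linearMap B₁ BL))).restrictScalars D)
  obtain ⟨-, ⟨s, rfl⟩, hsq, hsub⟩ := PrimeSpectrum.isTopologicalBasis_basic_opens.exists_subset_of_mem_open
    (show (⟨q, inferInstance⟩ : PrimeSpectrum B₁) ∈ _ from hq)
    (FlatCrit65.isOpen_flat_locus_module (R := D) (S := B₁) (M := B₁ ⧸ J))
  refine ⟨s, hsq, ?_⟩
  let s' : B₁ ⧸ J := Ideal.Quotient.mk J s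
  let C := Localization.Away s'
  refine Module.flat_of_isLocalized_maximal C C (fun P _ => Localization.AtPrime P)
    (fun P _ => Algebra.linearMap C (Localization.AtPrime P)) fun P hP => ?_
  let P₁ : Ideal (B₁ ⧸ J) := P.comap (algebraMap (B₁ ⧸ J) C)
  let q' : Ideal B₁ := P₁.comap (Ideal.Quotient.mk J)
  have hs' : s ∉ q' := fun h => hP.ne_top (P.eq_top_of_isUnit_mem h (IsLocalization.Away.algebraMap_isUnit s'))
  have h1 : Module.Flat D (LocalizedModule q'.primeCompl (B₁ ⧸ J)) := hsub (show (⟨q', inferInstance⟩ : PrimeSpectrum B₁) ∈ _ from hs')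
  have : IsLocalization.AtPrime (Localization.AtPrime P) P₁ :=
    IsLocalization.isLocalization_isLocalization_atPrime_isLocalization (Submonoid.powers s') _ P
  have : IsLocalization (Algebra.algebraMapSubmonoid (B₁ ⧸ J) q'.primeCompl) (Localization.AtPrime P) := by
    have e : Algebra.algebraMapSubmonoid (B₁ ⧸ J) q'.primeCompl = P₁.primeCompl := by
      ext x
      constructor
      · rintro ⟨b, hb, rfl⟩
        exact hb
      · intro hx
        obtain ⟨b, rfl⟩ := Ideal.Quotient.mk_surjective x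
        exact ⟨b, hx, rfl⟩
    rw [e]
    infer_instance
  have : IsLocalizedModule q'.primeCompl
      (IsScalarTower.toAlgHom B₁ (B₁ ⧸ J) (Localization.AtPrime P)).toLinearMap :=
    isLocalizedModule_iff_isLocalization.2 ‹_›
  exact Module.Flat.of_linearEquiv ((IsLocalizedModule.iso q'.primeCompl
    (IsScalarTower.toAlgHom B₁ (B₁ ⧸ J) (Localization.AtPrime P)).toLinearMap).restrictScalars D).symm

/-- Regularity at a prime transports along an isomorphism of rings. -/
theorem isWeaklyRegular_of_equiv {R R' : Type u} [CommRing R] [CommRing R'] (σ : R ≃+* R') (Q : Ideal R)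
    [Q.IsPrime] (Q' : Ideal R') [Q'.IsPrime] (hQ : ∀ x, σ x ∈ Q' ↔ x ∈ Q) (rs : List R)
    (h : IsWeaklyRegular (Localization.AtPrime Q) (rs.map (algebraMap R (Localization.AtPrime Q)))) :
    IsWeaklyRegular (Localization.AtPrime Q')
      (rs.map fun r => algebraMap R' (Localization.AtPrime Q') (σ r)) := by
  have hM : Q.primeCompl.map σ.toMonoidHom = Q'.primeCompl := by
    ext x
    constructor
    · rintro ⟨y, hy, rfl⟩
      exact fun hy' => hy ((hQ y).1 hy')
    · intro hx
      refine ⟨σ.symm x, fun hy => hx ?_, σ.apply_symm_apply x⟩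
      have := (hQ (σ.symm x)).2 hy
      rwa [σ.apply_symm_apply] at this
  let Le : Localization.AtPrime Q ≃+* Localization.AtPrime Q' :=
    IsLocalization.ringEquivOfRingEquiv (M := Q.primeCompl) (T := Q'.primeCompl) _ _ σ hM
  refine (AddEquiv.isWeaklyRegular_congr (e := Le.toAddEquiv) ?_).1 h
  rw [List.forall₂_map_left_iff, List.forall₂_map_right_iff, List.forall₂_same]
  intro r _ x
  change Le (algebraMap R _ r * x) = algebraMap R' _ (σ r) * Le x
  rw [map_mul]
  congr 1
  exact IsLocalization.ringEquivOfRingEquiv_eq _ _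

/-- A quotient localized away from an element is flat when it is so for a model. -/
theorem flat_away_of_model {D A B₁ B : Type u} [CommRing D] [CommRing A] [CommRing B₁] [CommRing B]
    [Algebra D A] [Algebra D B₁] [Algebra A B] (e₁ : B ≃ₐ[A] A ⊗[D] B₁) (hs : List B₁) (s : B₁)
    (hflat : Module.Flat D (Localization.Away (Ideal.Quotient.mk (Ideal.ofList hs) s))) :
    Module.Flat A (Localization.Away (Ideal.Quotient.mk
      (Ideal.ofList (hs.map fun b => e₁.symm ((1 : A) ⊗ₜ[D] b))) (e₁.symm ((1 : A) ⊗ₜ[D] s)))) := by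
  let J₁ : Ideal B₁ := Ideal.ofList hs
  let J : Ideal B := Ideal.ofList (hs.map fun b => e₁.symm ((1 : A) ⊗ₜ[D] b))
  let C₁ := Localization.Away (Ideal.Quotient.mk J₁ s)
  let X := Localization.Away (Ideal.Quotient.mk J (e₁.symm ((1 : A) ⊗ₜ[D] s)))
  let j : B₁ →ₐ[D] A ⊗[D] C₁ :=
    (Algebra.TensorProduct.includeRight : C₁ →ₐ[D] A ⊗[D] C₁).comp (IsScalarTower.toAlgHom D B₁ C₁)
  let k : B →ₐ[A] A ⊗[D] C₁ :=
    (Algebra.TensorProduct.lift (Algebra.ofId A _) j fun _ _ => mul_comm _ _).comp e₁.toAlgHom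
  have hk : ∀ b, k (e₁.symm ((1 : A) ⊗ₜ[D] b)) = (1 : A) ⊗ₜ[D] algebraMap _ C₁ b := fun b => by
    have e0 : k (e₁.symm ((1 : A) ⊗ₜ[D] b)) =
        Algebra.TensorProduct.lift (Algebra.ofId A (A ⊗[D] C₁)) j (fun _ _ => mul_comm _ _) ((1 : A) ⊗ₜ[D] b) :=
      congrArg _ (e₁.apply_symm_apply _)
    exact e0.trans ((Algebra.TensorProduct.lift_tmul _ _ _ _ _).trans (by rw [map_one, one_mul]; rfl))
  have hJk : J ≤ RingHom.ker k.toRingHom := by
    simp only [J, Ideal.ofList, Ideal.span_le]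
    intro g hg
    change g ∈ hs.map _ at hg
    rw [List.mem_map] at hg
    obtain ⟨b, hb, rfl⟩ := hg
    change k (e₁.symm ((1 : A) ⊗ₜ[D] b)) = 0
    rw [hk, IsScalarTower.algebraMap_apply B₁ (B₁ ⧸ J₁) C₁ b]
    change (1 : A) ⊗ₜ[D] algebraMap _ C₁ (Ideal.Quotient.mk J₁ b) = 0
    rw [(Ideal.Quotient.eq_zero_iff_mem.2 (Ideal.subset_span hb) : Ideal.Quotient.mk J₁ b = 0), map_zero, tmul_zero]
  let k' : B ⧸ J →ₐ[A] A ⊗[D] C₁ := Ideal.Quotient.liftₐ J k fun x hx => hJk hx
  have hu : IsUnit (k' (Ideal.Quotient.mk J (e₁.symm ((1 : A) ⊗ₜ[D] s)))) := by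
    change IsUnit (k (e₁.symm ((1 : A) ⊗ₜ[D] s)))
    rw [hk]
    exact (IsLocalization.Away.algebraMap_isUnit (Ideal.Quotient.mk J₁ s)).map
      (Algebra.TensorProduct.includeRight : C₁ →ₐ[D] A ⊗[D] C₁)
  let F : X →ₐ[A] A ⊗[D] C₁ := IsLocalization.liftAlgHom
    (M := Submonoid.powers (Ideal.Quotient.mk J (e₁.symm ((1 : A) ⊗ₜ[D] s))))
    (f := k') (by rintro ⟨_, n, rfl⟩; rw [map_pow]; exact hu.pow n)
  let α : A ⊗[D] B₁ →ₐ[A] X := (IsScalarTower.toAlgHom A B X).comp e₁.symm.toAlgHom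
  letI : Algebra D X := ((algebraMap A X).comp (algebraMap D A)).toAlgebra
  have : IsScalarTower D A X := IsScalarTower.of_algebraMap_eq fun _ => rfl
  let jX : B₁ →ₐ[D] X :=
    (α.restrictScalars D).comp (Algebra.TensorProduct.includeRight : B₁ →ₐ[D] A ⊗[D] B₁)
  have hjX : J₁ ≤ RingHom.ker jX.toRingHom := by
    simp only [J₁, Ideal.ofList, Ideal.span_le]
    intro b hb
    change algebraMap B X (e₁.symm ((1 : A) ⊗ₜ[D] b)) = 0
    rw [IsScalarTower.algebraMap_apply B (B ⧸ J) X]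
    change algebraMap _ X (Ideal.Quotient.mk J (e₁.symm ((1 : A) ⊗ₜ[D] b))) = 0
    rw [(Ideal.Quotient.eq_zero_iff_mem.2 (Ideal.subset_span (show e₁.symm ((1 : A) ⊗ₜ[D] b) ∈ hs.map _ from List.mem_map_of_mem (f := fun b => e₁.symm ((1 : A) ⊗ₜ[D] b)) hb)) :
      Ideal.Quotient.mk J (e₁.symm ((1 : A) ⊗ₜ[D] b)) = 0), map_zero]
  let jX' : B₁ ⧸ J₁ →ₐ[D] X := Ideal.Quotient.liftₐ J₁ jX fun x hx => hjX hx
  have hu' : IsUnit (jX' (Ideal.Quotient.mk J₁ s)) :=
    IsLocalization.Away.algebraMap_isUnit (Ideal.Quotient.mk J (e₁.symm ((1 : A) ⊗ₜ[D] s)))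
  let G₁ : C₁ →ₐ[D] X := IsLocalization.liftAlgHom (M := Submonoid.powers (Ideal.Quotient.mk J₁ s))
    (f := jX') (by rintro ⟨_, n, rfl⟩; rw [map_pow]; exact hu'.pow n)
  let G : A ⊗[D] C₁ →ₐ[A] X := Algebra.TensorProduct.lift (Algebra.ofId A X) G₁ fun _ _ => mul_comm _ _
  have hGk : G.comp k = IsScalarTower.toAlgHom A B X := by
    refine (AlgHom.cancel_right (f := e₁.symm.toAlgHom) e₁.symm.surjective).1 ?_
    refine Algebra.TensorProduct.ext' fun a b => ?_
    have e2 : e₁.symm (a ⊗ₜ[D] b) = algebraMap A B a * e₁.symm ((1 : A) ⊗ₜ[D] b) := by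
      rw [show a ⊗ₜ[D] b = algebraMap A _ a * ((1 : A) ⊗ₜ[D] b) by
        simp [Algebra.TensorProduct.algebraMap_apply], map_mul, AlgEquiv.commutes]
    change G (k (e₁.symm (a ⊗ₜ[D] b))) = algebraMap B X (e₁.symm (a ⊗ₜ[D] b))
    rw [e2, map_mul, map_mul, map_mul, AlgHom.commutes, AlgHom.commutes, ← IsScalarTower.algebraMap_apply, hk]
    congr 1
    change algebraMap A X 1 * G₁ (algebraMap B₁ C₁ b) = _
    rw [map_one, one_mul, IsScalarTower.algebraMap_apply B₁ (B₁ ⧸ J₁) C₁ b]
    exact IsLocalization.lift_eq _ _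
  have hGF : G.comp F = AlgHom.id A X := by
    refine IsLocalization.algHom_ext (Submonoid.powers (Ideal.Quotient.mk J (e₁.symm ((1 : A) ⊗ₜ[D] s)))) ?_
    refine Ideal.Quotient.algHom_ext A ?_
    refine AlgHom.ext fun b => ?_
    change G (IsLocalization.lift _ (algebraMap _ X (Ideal.Quotient.mk J b))) = algebraMap _ X (Ideal.Quotient.mk J b)
    rw [IsLocalization.lift_eq]
    exact DFunLike.congr_fun hGk b
  have : Module.Flat A (A ⊗[D] C₁) := inferInstance
  exact Module.Flat.of_retract F.toLinearMap G.toLinearMap (LinearMap.ext fun x => DFunLike.congr_fun hGF x)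

set_option maxHeartbeats 800000 in
/-- A sequence which is weakly regular at a point of a geometric fibre cuts out a flat algebra near
the point. -/
theorem exists_flat_away {A B K : Type u} [CommRing A] [CommRing B] [Algebra A B] [Field K]
    [Algebra A K] [Algebra.FinitePresentation A B] [Module.Flat A B] (gs : List B)
    (Q : Ideal (K ⊗[A] B)) [Q.IsPrime]
    (hreg : IsWeaklyRegular (Localization.AtPrime Q)
      (gs.map fun g => algebraMap (K ⊗[A] B) (Localization.AtPrime Q) ((1 : K) ⊗ₜ g))) :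
    ∃ h : B, ((1 : K) ⊗ₜ[A] h) ∉ Q ∧
      Module.Flat A (Localization.Away (Ideal.Quotient.mk (Ideal.ofList gs) h)) := by
  classical
  obtain ⟨C₀, B₀, _, _, _, _, hCZ, hfp, hfl, ⟨e⟩⟩ := Unr55.exists_flat_model A B
  have : IsNoetherianRing C₀ := Algebra.FiniteType.isNoetherianRing ℤ C₀
  choose T hT using fun b : B => TensorProduct.exists_finset (e b)
  let Ts : Finset A := gs.toFinset.biUnion fun g => (T g).image Prod.fst
  let D : Subalgebra C₀ A := Algebra.adjoin C₀ (Ts : Set A)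
  have : Algebra.FiniteType C₀ D := (Subalgebra.fg_iff_finiteType D).mp ⟨Ts, rfl⟩
  have : IsNoetherianRing D := Algebra.FiniteType.isNoetherianRing C₀ D
  let e₁ : B ≃ₐ[A] A ⊗[D] (D ⊗[C₀] B₀) := e.trans (Algebra.TensorProduct.cancelBaseChange C₀ D A A B₀).symm
  have hlift : ∀ g ∈ gs, ∃ b₁, e₁.symm ((1 : A) ⊗ₜ[D] b₁) = g := by
    intro g hg
    refine ⟨∑ p ∈ (T g).attach, (⟨p.1.1, Algebra.subset_adjoin (Finset.mem_coe.2
      (Finset.mem_biUnion.2 ⟨g, List.mem_toFinset.2 hg, Finset.mem_image_of_mem _ p.2⟩))⟩ : D) ⊗ₜ[C₀] p.1.2, ?_⟩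
    apply e.injective
    change e (e.symm (Algebra.TensorProduct.cancelBaseChange C₀ D A A B₀ ((1 : A) ⊗ₜ[D] _))) = e g
    rw [AlgEquiv.apply_symm_apply, tmul_sum, map_sum, hT g, ← Finset.sum_attach (T g) (fun p => p.1 ⊗ₜ[C₀] p.2)]
    refine Finset.sum_congr rfl fun p _ => ?_
    rw [Algebra.TensorProduct.cancelBaseChange_tmul, Algebra.smul_def, mul_one]
    rfl
  choose lift hlift using hlift
  let hs : List (D ⊗[C₀] B₀) := gs.pmap lift fun _ h => h
  have hhs : hs.map (fun b => e₁.symm ((1 : A) ⊗ₜ[D] b)) = gs := by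
    simp only [hs, List.map_pmap, hlift, List.pmap_eq_map, List.map_id']
  obtain ⟨σ, hσ⟩ : ∃ σ : K ⊗[A] B ≃ₐ[K] K ⊗[D] (D ⊗[C₀] B₀),
      ∀ b, σ ((1 : K) ⊗ₜ[A] e₁.symm ((1 : A) ⊗ₜ[D] b)) = (1 : K) ⊗ₜ[D] b := by
    refine ⟨(Algebra.TensorProduct.congr AlgEquiv.refl e₁).trans
      (Algebra.TensorProduct.cancelBaseChange D A K K _), fun b => ?_⟩
    change Algebra.TensorProduct.cancelBaseChange D A K K _ ((1 : K) ⊗ₜ[A] e₁ (e₁.symm ((1 : A) ⊗ₜ[D] b))) = _
    rw [AlgEquiv.apply_symm_apply, Algebra.TensorProduct.cancelBaseChange_tmul, one_smul]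
  let Q' : Ideal (K ⊗[D] (D ⊗[C₀] B₀)) := Q.comap σ.symm.toRingEquiv.toRingHom
  have hQ : ∀ x, σ.toRingEquiv x ∈ Q' ↔ x ∈ Q := fun x => by
    change σ.symm (σ x) ∈ Q ↔ x ∈ Q
    rw [AlgEquiv.symm_apply_apply]
  have hreg' := isWeaklyRegular_of_equiv (R := K ⊗[A] B) (R' := K ⊗[D] (D ⊗[C₀] B₀)) σ.toRingEquiv Q Q' hQ
    (gs.map fun g => (1 : K) ⊗ₜ[A] g) (by rw [List.map_map]; exact hreg)
  rw [← hhs, List.map_map, List.map_map] at hreg'
  simp only [Function.comp_def, AlgEquiv.coe_ringEquiv, hσ] at hreg'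
  obtain ⟨s, hs₁, hs₂⟩ := exists_flat_away_noetherian hs Q' hreg'
  refine ⟨e₁.symm ((1 : A) ⊗ₜ[D] s), fun h => hs₁ ?_, ?_⟩
  · rw [← hσ]
    exact (hQ _).2 h
  · have := flat_away_of_model e₁ hs s hs₂
    rw [hhs] at this
    exact this

end Groth.Agent.SpPts86
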