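import Groth.Agent.SpPts86.Basic

/-!
Kernel pairs of maps from schemes are equivalence relations; factorisations through monomorphisms.
-/

universe u

set_option autoImplicit false

open CategoryTheory CategoryTheory.Limits AlgebraicGeometry Opposite
open AlgSp

namespace Groth.Agent.SpPts86

variable {S : Scheme.{u}} {F G : Sp S} {R U : Over S} {s t : R ⟶ U} {p : (yon S).obj U ⟶ F}

theorem isEqvRel_of_isPullback (sq : IsPullback ((yon S).map t) ((yon S).map s) p p) :
    IsEqvRel s t where
  injective T r r' ht hs := (yon S).map_injective <| sq.hom_ext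
    (by rw [← Functor.map_comp, ← Functor.map_comp, ht])
    (by rw [← Functor.map_comp, ← Functor.map_comp, hs])
  equivalence T := by
    have key : ∀ a b : T ⟶ U,
        (∃ r : T ⟶ R, r ≫ t = a ∧ r ≫ s = b) ↔ (yon S).map a ≫ p = (yon S).map b ≫ p := by
      intro a b
      constructor
      · rintro ⟨r, rfl, rfl⟩
        simp only [Functor.map_comp, Category.assoc, sq.w]
      · intro e
        obtain ⟨r, hr⟩ := (yon S).map_surjective (sq.lift _ _ e)
        refine ⟨r, (yon S).map_injective ?_, (yon S).map_injective ?_⟩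
        · rw [Functor.map_comp, hr, sq.lift_fst]
        · rw [Functor.map_comp, hr, sq.lift_snd]
    simp only [key]
    exact ⟨fun _ => rfl, fun h => h.symm, fun h h' => h.trans h'⟩

theorem etale_of_isPullback (hp : RepWith @Etale p)
    (sq : IsPullback ((yon S).map t) ((yon S).map s) p p) : Etale s.left ∧ Etale t.left :=
  ⟨hp.2 p _ s sq, hp.2 p _ t sq.flip⟩

theorem isEtaleEqvRel_of_isPullback (hp : RepWith @Etale p)
    (sq : IsPullback ((yon S).map t) ((yon S).map s) p p) : IsEtaleEqvRel s t :=
  ⟨isEqvRel_of_isPullback sq, (etale_of_isPullback hp sq).1, (etale_of_isPullback hp sq).2⟩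

/-- A factorisation through a monomorphism is a base change of the composite. -/
theorem repWith_of_comp_mono {P : MorphismProperty Scheme.{u}} {H : Sp S} {a : H ⟶ G}
    (j : G ⟶ F) [Mono j] (h : RepWith P (a ≫ j)) : RepWith P a :=
  (repWith_isStableUnderBaseChange P).of_isPullback
    (IsPullback.of_isLimit (PullbackCone.IsLimit.mk (by simp)
      (fun s : PullbackCone (a ≫ j) j => s.fst) (fun s => by simp)
      (fun s => by rw [← cancel_mono j, Category.assoc, s.condition])
      (fun s m h₁ _ => by simpa using h₁)) :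
      IsPullback (𝟙 H) a (a ≫ j) j) h

theorem isPullback_of_mono_comp {P X Y : Sp S} {fst : P ⟶ X} {snd : P ⟶ Y} {a : X ⟶ G}
    {b : Y ⟶ G} (j : G ⟶ F) [Mono j] (sq : IsPullback fst snd (a ≫ j) (b ≫ j)) :
    IsPullback fst snd a b := by
  have w : fst ≫ a = snd ≫ b := by
    rw [← cancel_mono j, Category.assoc, Category.assoc, sq.w]
  refine ⟨⟨w⟩, ⟨PullbackCone.IsLimit.mk _
    (fun s => sq.lift s.fst s.snd (by simp [← Category.assoc, s.condition]))
    (fun s => sq.lift_fst _ _ _) (fun s => sq.lift_snd _ _ _)
    (fun s m h₁ h₂ => sq.hom_ext (by rw [h₁, sq.lift_fst]) (by rw [h₂, sq.lift_snd]))⟩⟩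

end Groth.Agent.SpPts86
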