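import Groth.Prelude.Def_AlgSp3
import Groth.Agent.SpPts86.Graph
import Groth.Agent.SpPts86.DiagDesc

/-!
Separation conditions of morphisms: locality on the target and the representable case.
-/

universe u

set_option autoImplicit false

open CategoryTheory CategoryTheory.Limits AlgebraicGeometry
open AlgSp Groth.Agent.SpFP87

namespace Groth.Agent.SpPts86

variable {S : Scheme.{u}} {X Y Z P₀ : Sp S}

theorem isPullback_diagonal_baseChange {fst : P₀ ⟶ X} {snd : P₀ ⟶ Z} {f : X ⟶ Y} {g : Z ⟶ Y}
    (sq : IsPullback fst snd f g) :
    IsPullback fst (pullback.diagonal snd) (pullback.diagonal f)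
      (pullback.map snd snd f f fst fst g sq.w.symm sq.w.symm) := by
  have mf : pullback.map snd snd f f fst fst g sq.w.symm sq.w.symm ≫ pullback.fst f f =
      pullback.fst snd snd ≫ fst := pullback.lift_fst _ _ _
  have ms : pullback.map snd snd f f fst fst g sq.w.symm sq.w.symm ≫ pullback.snd f f =
      pullback.snd snd snd ≫ fst := pullback.lift_snd _ _ _
  have w : fst ≫ pullback.diagonal f =
      pullback.diagonal snd ≫ pullback.map snd snd f f fst fst g sq.w.symm sq.w.symm := by
    apply pullback.hom_ext
    · rw [Category.assoc, Category.assoc, mf, pullback.diagonal_fst, pullback.diagonal_fst_assoc,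
        Category.comp_id]
    · rw [Category.assoc, Category.assoc, ms, pullback.diagonal_snd, pullback.diagonal_snd_assoc,
        Category.comp_id]
  have hc : ∀ c : PullbackCone (pullback.diagonal f)
      (pullback.map snd snd f f fst fst g sq.w.symm sq.w.symm),
      c.fst = c.snd ≫ pullback.fst snd snd ≫ fst ∧ c.fst = c.snd ≫ pullback.snd snd snd ≫ fst :=
    fun c => by
      have h1 := congrArg (· ≫ pullback.fst f f) c.condition
      have h2 := congrArg (· ≫ pullback.snd f f) c.condition
      simp only [Category.assoc, mf, ms, pullback.diagonal_fst, pullback.diagonal_snd,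
        Category.comp_id] at h1 h2
      exact ⟨h1, h2⟩
  refine ⟨⟨w⟩, ⟨PullbackCone.IsLimit.mk _ (fun c => c.snd ≫ pullback.fst snd snd)
    (fun c => by rw [Category.assoc]; exact (hc c).1.symm) (fun c => ?_) (fun c m _ hm2 => ?_)⟩⟩
  · apply pullback.hom_ext
    · rw [Category.assoc, pullback.diagonal_fst, Category.comp_id]
    · rw [Category.assoc, pullback.diagonal_snd, Category.comp_id]
      apply sq.hom_ext
      · rw [Category.assoc, Category.assoc, ← (hc c).1, ← (hc c).2]
      · rw [Category.assoc, Category.assoc, pullback.condition]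
  · rw [← hm2, Category.assoc, pullback.diagonal_fst, Category.comp_id]

/-- A Zariski local property of a representable morphism may be tested over affine schemes. -/
theorem repWith_of_affine (P : MorphismProperty Scheme.{u}) [P.IsStableUnderBaseChange]
    [IsZariskiLocalAtTarget P] {F G : Sp S} {a : F ⟶ G} (ha : Representable a)
    (h : ∀ (T V : Over S), IsAffine T.left → ∀ (g : (yon S).obj T ⟶ G) (fst : (yon S).obj V ⟶ F)
      (snd : V ⟶ T), IsPullback fst ((yon S).map snd) a g → P snd.left) : RepWith P a := by
  have : P.RespectsIso := MorphismProperty.IsStableUnderBaseChange.respectsIso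
  refine ⟨ha, fun T V g fst snd sq => ?_⟩
  refine IsZariskiLocalAtTarget.of_openCover T.left.affineCover fun i => ?_
  let T' : Over S := Over.mk (T.left.affineCover.f i ≫ T.hom)
  let c : T' ⟶ T := Over.homMk (T.left.affineCover.f i) rfl
  obtain ⟨V', snd', fst', sq'⟩ := ha ((yon S).map c ≫ g)
  have hP := h T' V' (inferInstanceAs (IsAffine (T.left.affineCover.X i))) _ _ _ sq'
  obtain ⟨φ, hφ⟩ := (yon S).map_surjective
    (sq.lift fst' ((yon S).map (snd' ≫ c)) (by rw [sq'.w, Functor.map_comp, Category.assoc]))
  have sq2 := IsPullback.of_right (h₁₁ := (yon S).map φ) (v₁₂ := (yon S).map snd)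
    (h₂₁ := (yon S).map c) (v₁₁ := (yon S).map snd')
    (by rw [hφ, sq.lift_fst]; exact sq') (by rw [hφ, sq.lift_snd, Functor.map_comp]) sq
  have sq3 : IsPullback φ.left snd'.left snd.left c.left :=
    (IsPullback.of_map_of_faithful (yon S) sq2).map (Over.forget S)
  have := P.cancel_left_of_respectsIso sq3.isoPullback.hom (pullback.snd snd.left c.left)
  rw [sq3.isoPullback_hom_snd] at this
  exact this.1 hP

theorem repWith_diagonal_of_affine (P : MorphismProperty Scheme.{u}) [P.IsStableUnderBaseChange]
    [IsZariskiLocalAtTarget P] (hX : Representable (Limits.diag X)) (f : X ⟶ Y)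
    (h : ∀ (T : Over S), IsAffine T.left → ∀ (g : (yon S).obj T ⟶ Y) (Q : Sp S) (fst : Q ⟶ X)
      (snd : Q ⟶ (yon S).obj T), IsPullback fst snd f g → RepWith P (pullback.diagonal snd)) :
    RepWith P (pullback.diagonal f) := by
  refine repWith_of_affine P (representable_diagonal hX f) fun T V hT m fst snd sq => ?_
  let g := m ≫ pullback.fst f f ≫ f
  let bc := IsPullback.of_hasPullback f g
  let l : (yon S).obj T ⟶ pullback (pullback.snd f g) (pullback.snd f g) :=
    pullback.lift (pullback.lift (m ≫ pullback.fst f f) (𝟙 _) (by simp [g]))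
      (pullback.lift (m ≫ pullback.snd f f) (𝟙 _) (by simp [g, pullback.condition]))
      (by rw [pullback.lift_snd, pullback.lift_snd])
  have hl : l ≫ pullback.map (pullback.snd f g) (pullback.snd f g) f f (pullback.fst f g)
      (pullback.fst f g) g bc.w.symm bc.w.symm = m := by
    apply pullback.hom_ext
    · simp only [l, Category.assoc, pullback.map, pullback.lift_fst, pullback.lift_fst_assoc]
    · simp only [l, Category.assoc, pullback.map, pullback.lift_snd, pullback.lift_snd_assoc,
        pullback.lift_fst]
  have base := isPullback_diagonal_baseChange bc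
  rw [← hl] at sq
  obtain ⟨k, hk1, hk2⟩ : ∃ k, k ≫ pullback.fst f g = fst ∧
      k ≫ pullback.diagonal (pullback.snd f g) = (yon S).map snd ≫ l :=
    ⟨base.lift fst ((yon S).map snd ≫ l) (by rw [sq.w, Category.assoc]),
      base.lift_fst _ _ _, base.lift_snd _ _ _⟩
  exact (h T hT g _ _ _ bc).property l k snd (IsPullback.of_right (by rwa [hk1]) hk2 base)

theorem repWith_diagonal_of_cover (P : MorphismProperty Scheme.{u}) [P.IsStableUnderBaseChange]
    [IsZariskiLocalAtTarget P] [P.DescendsAlong fppfMor] (hX : Representable (Limits.diag X))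
    {f : X ⟶ Y} {g : Z ⟶ Y} (hg : LocLift g) {fst : P₀ ⟶ X} {snd : P₀ ⟶ Z}
    (sq : IsPullback fst snd f g) (h : RepWith P (pullback.diagonal snd)) :
    RepWith P (pullback.diagonal f) := by
  have := isLocalAtTarget_fppf P
  refine repWith_of_locLift P (representable_diagonal hX f) ?_ (isPullback_diagonal_baseChange sq) h
  intro T m
  obtain ⟨W, c, l, hc, hl⟩ := hg T (m ≫ pullback.fst f f ≫ f)
  refine ⟨W, c, pullback.lift (sq.lift ((yon S).map c ≫ m ≫ pullback.fst f f) l
      (by simp only [Category.assoc]; exact hl.symm))
    (sq.lift ((yon S).map c ≫ m ≫ pullback.snd f f) l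
      (by simp only [Category.assoc]; rw [← pullback.condition]; exact hl.symm))
    (by rw [sq.lift_snd, sq.lift_snd]), hc, ?_⟩
  apply pullback.hom_ext
  · simp only [Category.assoc, pullback.map, pullback.lift_fst, pullback.lift_fst_assoc, sq.lift_fst]
  · simp only [Category.assoc, pullback.map, pullback.lift_snd, pullback.lift_snd_assoc, sq.lift_fst]

/-- The diagonal of a representable morphism is computed on its represented base changes. -/
theorem repWith_diagonal_iff (P : MorphismProperty Scheme.{u}) [P.IsStableUnderBaseChange]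
    [IsZariskiLocalAtTarget P] (hX : Representable (Limits.diag X)) {f : X ⟶ Y}
    (hf : Representable f) :
    RepWith P (pullback.diagonal f) ↔ RepWith P.diagonal f := by
  have : P.RespectsIso := MorphismProperty.IsStableUnderBaseChange.respectsIso
  constructor
  · intro h
    refine ⟨hf, fun T V g fst snd sq => ?_⟩
    exact (repWith_diagonal_yon_map_iff P snd).1
      ((repWith_isStableUnderBaseChange P).of_isPullback (isPullback_diagonal_baseChange sq) h)
  · intro h
    refine repWith_diagonal_of_affine P hX f fun T _ g Q fst snd sq => ?_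
    obtain ⟨V, s, p, sq'⟩ := hf g
    have e : (sq.isoIsPullback _ _ sq').hom ≫ (yon S).map s = snd :=
      IsPullback.isoIsPullback_hom_snd _ _ sq sq'
    rw [← e]
    exact (MorphismProperty.cancel_left_of_respectsIso (RepWith (S := S) P).diagonal _ _).2
      ((repWith_diagonal_yon_map_iff P s).2 (h.property g p s sq'))

end Groth.Agent.SpPts86
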