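import Groth.Prelude.Def_AlgSp4
import Groth.Agent.SpFP87.Covers
import Groth.Agent.SpPts86.Subspace
import Groth.Agent.SpPts86.EqvRel
import Groth.Agent.SpPts86.Separation

/-!
Gluing for the Zariski topology: hom extensionality and gluing on open covers, and representability
of a sheaf covered by representable open subfunctors.
-/

universe u

set_option autoImplicit false

open CategoryTheory CategoryTheory.Limits AlgebraicGeometry Opposite
open AlgSp Groth.Agent.SpFP87

namespace Groth.Agent.SpPts86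

variable {S : Scheme.{u}} {F : Sp S}

theorem isSheafFor_openCover (F : Sp S) {T : Over S} {ι : Type u} (V : ι → Over S) (c : ∀ i, V i ⟶ T)
    (hc : ∀ i, IsOpenImmersion (c i).left) (hs : ∀ t : ↥T.left, ∃ i, t ∈ Set.range (c i).left) :
    (Presieve.ofArrows V c).IsSheafFor F.obj :=
  (Presieve.isSheafFor_iff_generate _).2 (((isSheaf_iff_isSheaf_of_type _ _).1 F.property) _
    (ofArrows_mem_of_fppf V c
      (fun i => have := hc i; ⟨inferInstance, inferInstance⟩) hs))

theorem open_cover_hom_ext {T : Over S} {ι : Type u} (V : ι → Over S) (c : ∀ i, V i ⟶ T)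
    (hc : ∀ i, IsOpenImmersion (c i).left) (hs : ∀ t : ↥T.left, ∃ i, t ∈ Set.range (c i).left)
    {a b : (yon S).obj T ⟶ F} (h : ∀ i, (yon S).map (c i) ≫ a = (yon S).map (c i) ≫ b) : a = b := by
  apply (uE (S := S)).injective
  refine (isSheafFor_openCover F V c hc hs).isSeparatedFor.ext ?_
  rintro W g ⟨i⟩
  rw [GrothendieckTopology.map_uliftYonedaEquiv, GrothendieckTopology.map_uliftYonedaEquiv]
  have := congrArg (uE (S := S)) (h i)
  simpa [GrothendieckTopology.uliftYonedaEquiv_comp,
    GrothendieckTopology.uliftYonedaEquiv_uliftYoneda_map] using this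

theorem open_cover_glue {T : Over S} {ι : Type u} (V : ι → Over S) (c : ∀ i, V i ⟶ T)
    (hc : ∀ i, IsOpenImmersion (c i).left) (hs : ∀ t : ↥T.left, ∃ i, t ∈ Set.range (c i).left)
    (e : ∀ i, (yon S).obj (V i) ⟶ F)
    (h : ∀ (i j : ι) (Z : Over S) (p : Z ⟶ V i) (q : Z ⟶ V j), p ≫ c i = q ≫ c j →
      (yon S).map p ≫ e i = (yon S).map q ≫ e j) :
    ∃ a : (yon S).obj T ⟶ F, ∀ i, (yon S).map (c i) ≫ a = e i := by
  obtain ⟨y, hy, -⟩ := (Presieve.isSheafFor_arrows_iff F.obj c).1 (isSheafFor_openCover F V c hc hs)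
    (fun i => (uE (S := S)) (e i)) (fun i j Z p q hpq => by
      rw [GrothendieckTopology.uliftYonedaEquiv_naturality, GrothendieckTopology.uliftYonedaEquiv_naturality,
        h i j Z p q hpq])
  refine ⟨(uE (S := S)).symm y, fun i => (uE (S := S)).injective ?_⟩
  rw [← GrothendieckTopology.uliftYonedaEquiv_naturality, Equiv.apply_symm_apply]
  exact hy i

/-- The open subscheme of an object over the base. -/
abbrev openOver (U : Over S) (O : U.left.Opens) : Over S := Over.mk (O.ι ≫ U.hom)

/-- Its inclusion. -/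
abbrev openIncl (U : Over S) (O : U.left.Opens) : openOver U O ⟶ U := Over.homMk O.ι rfl

namespace RepGlue

variable {ι : Type u} (V : ι → Over S) (j : ∀ i, (yon S).obj (V i) ⟶ F)

/-- The pieces of the gluing: opens of the charts. -/
def Idx : Type u := Σ i, (V i).left.Opens

variable {V}

/-- The scheme of a piece. -/
noncomputable abbrev piece (k : Idx V) : Over S := openOver (V k.1) k.2

variable (V) in
/-- The map of a piece to the sheaf. -/
noncomputable def jk (k : Idx V) : (yon S).obj (piece k) ⟶ F :=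
  (yon S).map (openIncl (V k.1) k.2) ≫ j k.1

variable (hj : ∀ i, RepWith @IsOpenImmersion (j i))

include hj in
theorem repWith_jk (k : Idx V) : RepWith @IsOpenImmersion (jk V j k) :=
  MorphismProperty.comp_mem _ _ _
    ((repWith_yon_map_iff _ _).2 (inferInstanceAs (IsOpenImmersion k.2.ι))) (hj k.1)

include hj in
theorem mono_jk (k : Idx V) : Mono (jk V j k) :=
  mono_of_repWith_le isOpenImmersion_le_monomorphisms (repWith_jk j hj k)

theorem piece_hom_ext (hj : ∀ i, RepWith @IsOpenImmersion (j i)) {k : Idx V} {Z : Over S}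
    {a b : Z ⟶ piece k} (h : (yon S).map a ≫ jk V j k = (yon S).map b ≫ jk V j k) : a = b :=
  have := mono_jk j hj k
  (yon S).map_injective ((cancel_mono _).1 h)

/-- Inclusion of pieces. -/
def Le (k l : Idx V) : Prop := ∃ h : piece k ⟶ piece l, (yon S).map h ≫ jk V j l = jk V j k

/-- The index category of the pieces. -/
structure Obj (hj : ∀ i, RepWith @IsOpenImmersion (j i)) : Type u where
  idx : Idx V

variable {j} {hj}

instance : Preorder (Obj j hj) where
  le a b := Le j a.idx b.idx
  le_refl a := ⟨𝟙 _, by rw [CategoryTheory.Functor.map_id, Category.id_comp]⟩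
  le_trans a b c := fun ⟨h, e⟩ ⟨h', e'⟩ => ⟨h ≫ h', by rw [Functor.map_comp, Category.assoc, e', e]⟩

/-- The transition map. -/
noncomputable def tr {a b : Obj j hj} (h : a ≤ b) : piece a.idx ⟶ piece b.idx :=
  Exists.choose (show Le j a.idx b.idx from h)

theorem tr_jk {a b : Obj j hj} (h : a ≤ b) :
    (yon S).map (tr h) ≫ jk V j b.idx = jk V j a.idx :=
  Exists.choose_spec (show Le j a.idx b.idx from h)

instance isOpenImmersion_tr {a b : Obj j hj} (h : a ≤ b) : IsOpenImmersion (tr h).left := by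
  have := mono_jk j hj b.idx
  refine (repWith_yon_map_iff (S := S) @IsOpenImmersion (tr h)).1
    (repWith_of_comp_mono (jk V j b.idx) ?_)
  rw [tr_jk]
  exact repWith_jk j hj a.idx

variable (j hj) in
/-- The diagram of the pieces. -/
noncomputable def diag : Obj j hj ⥤ Scheme.{u} where
  obj a := (piece a.idx).left
  map f := (tr (leOfHom f)).left
  map_id a := by
    rw [piece_hom_ext j hj (a := tr (leOfHom (𝟙 a))) (b := 𝟙 _)
      (by rw [tr_jk, CategoryTheory.Functor.map_id, Category.id_comp]), Over.id_left]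
  map_comp {a b c} f g := by
    rw [piece_hom_ext j hj (a := tr (leOfHom (f ≫ g))) (b := tr (leOfHom f) ≫ tr (leOfHom g))
      (by rw [tr_jk, Functor.map_comp, Category.assoc, tr_jk, tr_jk]), Over.comp_left]

instance {a b : Obj j hj} (f : a ⟶ b) : IsOpenImmersion ((diag j hj).map f) :=
  isOpenImmersion_tr _

/-- Two maps into pieces with the same map to the sheaf meet in a common piece. -/
theorem exists_common {a b : Obj j hj} {Z : Over S} (p : Z ⟶ piece a.idx) (q : Z ⟶ piece b.idx)
    (e : (yon S).map p ≫ jk V j a.idx = (yon S).map q ≫ jk V j b.idx) :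
    ∃ (c : Obj j hj) (hca : c ≤ a) (hcb : c ≤ b) (r : Z ⟶ piece c.idx),
      r ≫ tr hca = p ∧ r ≫ tr hcb = q := by
  obtain ⟨W, s, t, sq⟩ := (repWith_jk j hj a.idx).rep (jk V j b.idx)
  obtain ⟨t, rfl⟩ := (yon S).map_surjective t
  have hs : IsOpenImmersion s.left := (repWith_jk j hj a.idx).property _ _ s sq
  have ht : IsOpenImmersion t.left := (repWith_jk j hj b.idx).property _ _ t sq.flip
  let m : W ⟶ V a.idx.1 := t ≫ openIncl (V a.idx.1) a.idx.2
  have hm : IsOpenImmersion m.left := inferInstanceAs (IsOpenImmersion (t.left ≫ a.idx.2.ι))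
  let c : Obj j hj := ⟨⟨a.idx.1, m.left.opensRange⟩⟩
  let θ : W ⟶ piece c.idx := Over.homMk m.left.isoOpensRange.hom (by
    change m.left.isoOpensRange.hom ≫ m.left.opensRange.ι ≫ (V a.idx.1).hom = W.hom
    rw [Scheme.Hom.isoOpensRange_hom_ι_assoc]
    exact Over.w m)
  have : IsIso ((Over.forget S).map θ) := inferInstanceAs (IsIso m.left.isoOpensRange.hom)
  have : IsIso θ := isIso_of_reflects_iso θ (Over.forget S)
  have hθ : θ ≫ openIncl (V a.idx.1) m.left.opensRange = m :=
    Over.OverMorphism.ext (Scheme.Hom.isoOpensRange_hom_ι _)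
  have hc : jk V j c.idx = (yon S).map (inv θ) ≫ (yon S).map t ≫ jk V j a.idx := by
    rw [← Functor.map_comp_assoc]
    simp only [jk, ← Functor.map_comp_assoc, c]
    congr 2
    rw [Category.assoc, IsIso.eq_inv_comp, hθ]
  have hca : c ≤ a := ⟨inv θ ≫ t, by rw [hc, Functor.map_comp, Category.assoc]⟩
  have hcb : c ≤ b := ⟨inv θ ≫ s, by rw [hc, sq.w, Functor.map_comp, Category.assoc]⟩
  obtain ⟨l, hl⟩ := (yon S).map_surjective (sq.lift ((yon S).map p) ((yon S).map q) e)
  have hlt : l ≫ t = p := (yon S).map_injective (by rw [Functor.map_comp, hl, sq.lift_fst])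
  have hls : l ≫ s = q := (yon S).map_injective (by rw [Functor.map_comp, hl, sq.lift_snd])
  refine ⟨c, hca, hcb, l ≫ θ, ?_, ?_⟩
  · rw [piece_hom_ext j hj (a := tr hca) (b := inv θ ≫ t)
      (by rw [tr_jk, hc, Functor.map_comp, Category.assoc]), Category.assoc, IsIso.hom_inv_id_assoc, hlt]
  · rw [piece_hom_ext j hj (a := tr hcb) (b := inv θ ≫ s)
      (by rw [tr_jk, hc, sq.w, Functor.map_comp, Category.assoc]), Category.assoc,
      IsIso.hom_inv_id_assoc, hls]

instance : (diag j hj ⋙ Scheme.forget).IsLocallyDirected where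
  cond {a b k} fa fb xa xb e := by
    change (tr (leOfHom fa)).left xa = (tr (leOfHom fb)).left xb at e
    let O := (tr (leOfHom fa)).left ⁻¹ᵁ (tr (leOfHom fb)).left.opensRange
    let Z : Over S := openOver (piece a.idx) O
    let p : Z ⟶ piece a.idx := openIncl (piece a.idx) O
    have hr : Set.range (p ≫ tr (leOfHom fa)).left ⊆ Set.range (tr (leOfHom fb)).left := by
      rintro - ⟨z, rfl⟩
      exact z.2
    let q : Z ⟶ piece b.idx := Over.homMk (IsOpenImmersion.lift (tr (leOfHom fb)).left _ hr) (by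
      rw [← Over.w (tr (leOfHom fb)), IsOpenImmersion.lift_fac_assoc]
      exact Over.w _)
    have hq : q ≫ tr (leOfHom fb) = p ≫ tr (leOfHom fa) :=
      Over.OverMorphism.ext (IsOpenImmersion.lift_fac _ _ _)
    obtain ⟨c, hca, hcb, r, hra, hrb⟩ := exists_common p q (by
      rw [← tr_jk (leOfHom fa), ← tr_jk (leOfHom fb), ← Functor.map_comp_assoc,
        ← Functor.map_comp_assoc, hq])
    let z : Z.left := ⟨xa, ⟨xb, e.symm⟩⟩
    have hza : (tr hca).left (r.left z) = xa := by
      rw [← Scheme.Hom.comp_apply, ← Over.comp_left, hra]; rfl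
    refine ⟨c, homOfLE hca, homOfLE hcb, r.left z, hza, ?_⟩
    change (tr hcb).left (r.left z) = xb
    apply (tr (leOfHom fb)).left.isOpenEmbedding.injective
    refine Eq.trans ?_ e
    calc (tr (leOfHom fb)).left ((tr hcb).left (r.left z))
        = ((r ≫ tr hcb) ≫ tr (leOfHom fb)).left z := rfl
      _ = (p ≫ tr (leOfHom fa)).left z := by rw [hrb, hq]
      _ = (tr (leOfHom fa)).left xa := rfl

variable (j hj) in
/-- The glued scheme. -/
noncomputable def glued : Over S :=
  Over.mk (colimit.desc (diag j hj)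
    { pt := S
      ι := { app := fun a => (piece a.idx).hom
             naturality := fun a b f => (Over.w (tr (leOfHom f))).trans (Category.comp_id _).symm } })

/-- A piece in the glued scheme. -/
noncomputable def inc (a : Obj j hj) : piece a.idx ⟶ glued j hj :=
  Over.homMk (colimit.ι (diag j hj) a) (colimit.ι_desc _ a)

instance (a : Obj j hj) : IsOpenImmersion (inc a).left :=
  inferInstanceAs (IsOpenImmersion (colimit.ι (diag j hj) a))

theorem tr_inc {a b : Obj j hj} (h : a ≤ b) : tr h ≫ inc b = inc a :=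
  Over.OverMorphism.ext (colimit.w (diag j hj) (homOfLE h))

theorem inc_jointly_surjective (x : ↥(glued j hj).left) : ∃ a : Obj j hj, x ∈ Set.range (inc a).left := by
  obtain ⟨a, y, hy⟩ := Scheme.IsLocallyDirected.ι_jointly_surjective (diag j hj) x
  exact ⟨a, y, hy⟩

theorem jk_eq_of_inc_eq {a b : Obj j hj} {Z : Over S} (p : Z ⟶ piece a.idx) (q : Z ⟶ piece b.idx)
    (e : p ≫ inc a = q ≫ inc b) :
    (yon S).map p ≫ jk V j a.idx = (yon S).map q ≫ jk V j b.idx := by
  let K := {c : Obj j hj // c ≤ a ∧ c ≤ b}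
  let O : K → Z.left.Opens := fun c => p.left ⁻¹ᵁ (tr c.2.1).left.opensRange
  refine open_cover_hom_ext (fun c : K => openOver Z (O c)) (fun c => openIncl Z (O c))
    (fun c => inferInstanceAs (IsOpenImmersion (O c).ι)) (fun z => ?_) fun c => ?_
  · obtain ⟨c, fa, fb, x, hxa, hxb⟩ := (Scheme.IsLocallyDirected.ι_eq_ι_iff (diag j hj)).1
      (show colimit.ι (diag j hj) a (p.left z) = colimit.ι (diag j hj) b (q.left z) from
        congrArg (fun φ : Z ⟶ glued j hj => φ.left z) e)
    exact ⟨⟨c, leOfHom fa, leOfHom fb⟩, ⟨z, ⟨x, hxa⟩⟩, rfl⟩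
  · let ι' := openIncl Z (O c)
    have hr : Set.range (ι' ≫ p).left ⊆ Set.range (tr c.2.1).left := by
      rintro - ⟨z, rfl⟩
      exact z.2
    let r : openOver Z (O c) ⟶ piece c.1.idx :=
      Over.homMk (IsOpenImmersion.lift (tr c.2.1).left _ hr) (by
        rw [← Over.w (tr c.2.1), IsOpenImmersion.lift_fac_assoc]
        exact Over.w _)
    have h1 : r ≫ tr c.2.1 = ι' ≫ p := Over.OverMorphism.ext (IsOpenImmersion.lift_fac _ _ _)
    have h2 : r ≫ tr c.2.2 = ι' ≫ q := by
      have : Mono (inc b) := (Over.forget S).mono_of_mono_map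
        (inferInstanceAs (Mono (inc b).left))
      rw [← cancel_mono (inc b), Category.assoc, Category.assoc, tr_inc, ← e, ← Category.assoc ι',
        ← h1, Category.assoc, tr_inc]
    rw [← Functor.map_comp_assoc, ← Functor.map_comp_assoc, ← h1, ← h2, Functor.map_comp_assoc,
      Functor.map_comp_assoc, tr_jk, tr_jk]

theorem exists_iso (hs : ∀ x : Points F, ∃ i, x ∈ Set.range (Points.ofPt (j i))) :
    ∃ φ : (yon S).obj (glued j hj) ⟶ F, IsIso φ := by
  obtain ⟨φ, hφ⟩ := open_cover_glue (F := F) (fun a : Obj j hj => piece a.idx) inc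
    (fun a => inferInstance) inc_jointly_surjective (fun a => jk V j a.idx)
    (fun a b Z p q e => jk_eq_of_inc_eq p q e)
  refine ⟨φ, isIso_of_probe φ fun T g => ?_⟩
  choose W s t sq using fun i => (hj i).rep g
  have hsI : ∀ i, IsOpenImmersion (s i).left := fun i => (hj i).property g _ _ (sq i)
  have hcov : ∀ x : ↥T.left, ∃ i, x ∈ Set.range (s i).left := fun x => by
    obtain ⟨i, v, hv⟩ := hs (Points.ofPt g x)
    obtain ⟨w, -, hw⟩ := exists_pt_of_isPullback (sq i) (Points.ofScheme (V i) v) x
      ((Points.ofPt_eq_map_ofScheme (j i) v).symm.trans hv)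
    exact ⟨i, w, hw⟩
  choose t' ht' using fun i => (yon S).map_surjective (t i)
  let top : ι → Obj j hj := fun i => ⟨⟨i, ⊤⟩⟩
  let θ : ∀ i, V i ⟶ piece (top i).idx := fun i =>
    Over.homMk (V i).left.topIso.inv (by
      change (V i).left.topIso.inv ≫ (⊤ : (V i).left.Opens).ι ≫ (V i).hom = (V i).hom
      rw [← Scheme.topIso_hom, Iso.inv_hom_id_assoc])
  have hθ : ∀ i, (yon S).map (θ i) ≫ jk V j (top i).idx = j i := fun i => by
    rw [jk, ← Functor.map_comp_assoc,
      show θ i ≫ openIncl (V i) ⊤ = 𝟙 _ from Over.OverMorphism.ext (by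
        change (V i).left.topIso.inv ≫ (⊤ : (V i).left.Opens).ι = 𝟙 _
        rw [← Scheme.topIso_hom, Iso.inv_hom_id]),
      CategoryTheory.Functor.map_id, Category.id_comp]
  let e : ∀ i, (yon S).obj (W i) ⟶ (yon S).obj (glued j hj) := fun i =>
    (yon S).map (t' i ≫ θ i ≫ inc (top i))
  have he : ∀ i, e i ≫ φ = (yon S).map (s i) ≫ g := fun i => by
    simp only [e, Functor.map_comp, Category.assoc, hφ, hθ]
    rw [ht', (sq i).w]
  have hmono : ∀ {Z : Over S} (a b : Z ⟶ glued j hj),
      (yon S).map a ≫ φ = (yon S).map b ≫ φ → a = b := by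
    intro Z a b h
    apply (yon S).map_injective
    let O : Obj j hj × Obj j hj → Z.left.Opens := fun c =>
      a.left ⁻¹ᵁ (inc c.1).left.opensRange ⊓ b.left ⁻¹ᵁ (inc c.2).left.opensRange
    refine open_cover_hom_ext (fun c => openOver Z (O c)) (fun c => openIncl Z (O c))
      (fun c => inferInstanceAs (IsOpenImmersion (O c).ι)) (fun z => ?_) fun c => ?_
    · obtain ⟨c₁, h₁⟩ := inc_jointly_surjective (a.left z)
      obtain ⟨c₂, h₂⟩ := inc_jointly_surjective (b.left z)
      exact ⟨(c₁, c₂), ⟨z, h₁, h₂⟩, rfl⟩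
    · have ha : Set.range (openIncl Z (O c) ≫ a).left ⊆ Set.range (inc c.1).left := by
        rintro - ⟨z, rfl⟩
        exact z.2.1
      have hb : Set.range (openIncl Z (O c) ≫ b).left ⊆ Set.range (inc c.2).left := by
        rintro - ⟨z, rfl⟩
        exact z.2.2
      let α : openOver Z (O c) ⟶ piece c.1.idx := Over.homMk (IsOpenImmersion.lift _ _ ha) (by
        rw [← Over.w (inc c.1), IsOpenImmersion.lift_fac_assoc]
        exact Over.w _)
      let β : openOver Z (O c) ⟶ piece c.2.idx := Over.homMk (IsOpenImmersion.lift _ _ hb) (by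
        rw [← Over.w (inc c.2), IsOpenImmersion.lift_fac_assoc]
        exact Over.w _)
      have hα : α ≫ inc c.1 = openIncl Z (O c) ≫ a :=
        Over.OverMorphism.ext (IsOpenImmersion.lift_fac _ _ _)
      have hβ : β ≫ inc c.2 = openIncl Z (O c) ≫ b :=
        Over.OverMorphism.ext (IsOpenImmersion.lift_fac _ _ _)
      have h3 : (yon S).map α ≫ jk V j c.1.idx = (yon S).map β ≫ jk V j c.2.idx := by
        rw [← hφ c.1, ← hφ c.2, ← Functor.map_comp_assoc, ← Functor.map_comp_assoc, hα, hβ,
          Functor.map_comp_assoc, Functor.map_comp_assoc, h]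
      obtain ⟨d, hd1, hd2, r, hr1, hr2⟩ := exists_common α β h3
      rw [← Functor.map_comp, ← Functor.map_comp, ← hα, ← hβ, ← hr1, ← hr2, Category.assoc,
        Category.assoc, tr_inc, tr_inc]
  obtain ⟨a, ha⟩ := open_cover_glue W s hsI hcov e (fun i i' Z p q hpq => by
    simp only [e, ← Functor.map_comp]
    congr 1
    apply hmono
    rw [Functor.map_comp, Functor.map_comp, Category.assoc, Category.assoc]
    change (yon S).map p ≫ e i ≫ φ = (yon S).map q ≫ e i' ≫ φ
    rw [he, he, ← Functor.map_comp_assoc, ← Functor.map_comp_assoc, hpq])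
  refine ⟨a, ?_, fun b hb => ?_⟩
  · refine open_cover_hom_ext W s hsI hcov fun i => ?_
    rw [← Category.assoc, ha, he]
  · obtain ⟨a₀, rfl⟩ := (yon S).map_surjective a
    obtain ⟨b₀, rfl⟩ := (yon S).map_surjective b
    rw [hmono b₀ a₀]
    refine hb.trans ?_
    refine open_cover_hom_ext W s hsI hcov fun i => ?_
    rw [← Category.assoc ((yon S).map (s i)), ha, he]

end RepGlue

/-- A sheaf covered by representable open subfunctors is representable. -/
theorem exists_iso_of_open_cover {ι : Type u} (V : ι → Over S) (j : ∀ i, (yon S).obj (V i) ⟶ F)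
    (hj : ∀ i, RepWith @IsOpenImmersion (j i))
    (hs : ∀ x : Points F, ∃ i, x ∈ Set.range (Points.ofPt (j i))) :
    ∃ U : Over S, Nonempty ((yon S).obj U ≅ F) := by
  obtain ⟨φ, hφ⟩ := RepGlue.exists_iso (hj := hj) hs
  exact ⟨_, ⟨asIso φ⟩⟩

/-- A base change is represented as soon as it is so on an open cover. -/
theorem exists_isPullback_of_opens {G : Sp S} {a : F ⟶ G} {T : Over S} (g : (yon S).obj T ⟶ G)
    {ι : Type u} (O : ι → T.left.Opens) (hO : ∀ t : ↥T.left, ∃ i, t ∈ O i)
    (h : ∀ i, ∃ (V : Over S) (s : V ⟶ openOver T (O i)) (p : (yon S).obj V ⟶ F),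
      IsPullback p ((yon S).map s) a ((yon S).map (openIncl T (O i)) ≫ g)) :
    ∃ (V : Over S) (s : V ⟶ T) (p : (yon S).obj V ⟶ F), IsPullback p ((yon S).map s) a g := by
  have sq := IsPullback.of_hasPullback a g
  let c : ∀ i, openOver T (O i) ⟶ T := fun i => openIncl T (O i)
  choose V s p sqV using h
  let j : ∀ i, (yon S).obj (V i) ⟶ pullback a g := fun i =>
    sq.lift (p i) ((yon S).map (s i) ≫ (yon S).map (c i))
      (by rw [Category.assoc]; exact (sqV i).w)
  have hsq : ∀ i, IsPullback (j i) ((yon S).map (s i)) (pullback.snd a g) ((yon S).map (c i)) :=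
    fun i => IsPullback.of_right (by rw [sq.lift_fst]; exact sqV i) (sq.lift_snd _ _ _) sq
  obtain ⟨U, ⟨e⟩⟩ := exists_iso_of_open_cover V j
    (fun i => (repWith_isStableUnderBaseChange _).of_isPullback (hsq i).flip
      ((repWith_yon_map_iff _ _).2 (inferInstanceAs (IsOpenImmersion (O _).ι))))
    (fun x => by
      obtain ⟨t, ht⟩ := (Points.schemeHomeo T).surjective (Points.map (pullback.snd a g) x)
      obtain ⟨i, hti⟩ := hO t
      obtain ⟨z, hz, -⟩ := exists_of_isPullback (hsq i) x
        (Points.schemeHomeo (openOver T (O i)) ⟨t, hti⟩) (by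
          rw [Points.map_yon_map_apply, ← ht]; rfl)
      obtain ⟨v, rfl⟩ := (Points.schemeHomeo (V i)).surjective z
      exact ⟨i, v, by rw [Points.ofPt_eq_map_ofScheme]; exact hz⟩)
  obtain ⟨q, hq⟩ := (yon S).map_surjective (e.hom ≫ pullback.snd a g)
  exact ⟨U, q, e.hom ≫ pullback.fst a g, IsPullback.of_iso sq e.symm (Iso.refl _) (Iso.refl _) (Iso.refl _)
    (by simp) (by simp [hq]) (by simp) (by simp)⟩

/-- Representability of a morphism may be tested on affine schemes. -/
theorem representable_of_affine {G : Sp S} {a : F ⟶ G}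
    (h : ∀ (T : Over S), IsAffine T.left → ∀ g : (yon S).obj T ⟶ G,
      ∃ (V : Over S) (s : V ⟶ T) (p : (yon S).obj V ⟶ F), IsPullback p ((yon S).map s) a g) :
    Representable a := by
  intro T g
  obtain ⟨V, s, p, sq⟩ := exists_isPullback_of_opens g (fun O : T.left.affineOpens => O.1)
    (fun t => by
      obtain ⟨O, hO, htO, -⟩ := exists_isAffineOpen_mem_and_subset (x := t) (U := ⊤) trivial
      exact ⟨⟨O, hO⟩, htO⟩)
    (fun O => h (openOver T O.1) O.2 _)
  exact ⟨V, s, p, sq⟩

/-- A Zariski local property, with representability, may be tested on affine schemes. -/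
theorem repWith_of_affine_squares {G : Sp S} {a : F ⟶ G} (P : MorphismProperty Scheme.{u})
    [P.IsStableUnderBaseChange] [IsZariskiLocalAtTarget P]
    (h : ∀ (T : Over S), IsAffine T.left → ∀ g : (yon S).obj T ⟶ G,
      ∃ (V : Over S) (s : V ⟶ T) (p : (yon S).obj V ⟶ F),
        IsPullback p ((yon S).map s) a g ∧ P s.left) : RepWith P a := by
  have hP : P.RespectsIso := MorphismProperty.IsStableUnderBaseChange.respectsIso
  refine repWith_of_affine P (representable_of_affine fun T hT g => ?_) fun T V hT g p s sq => ?_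
  · obtain ⟨V, s, p, sq, -⟩ := h T hT g
    exact ⟨V, s, p, sq⟩
  · obtain ⟨V', s', p', sq', hP'⟩ := h T hT g
    obtain ⟨e, he⟩ := (yon S).map_surjective (sq.isoIsPullback _ _ sq').hom
    have hes : e ≫ s' = s := (yon S).map_injective (by
      rw [Functor.map_comp, he, IsPullback.isoIsPullback_hom_snd])
    have : IsIso ((yon S).map e) := by rw [he]; infer_instance
    have : IsIso e := isIso_of_fully_faithful (yon S) e
    have : IsIso e.left := inferInstanceAs (IsIso ((Over.forget S).map e))
    rw [← hes, Over.comp_left]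
    exact (P.cancel_left_of_respectsIso e.left _).2 hP'

end Groth.Agent.SpPts86
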