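import Groth.Agent.SpPts86.Target
import Groth.Agent.SpPts86.ZarGlue
import Mathlib.AlgebraicGeometry.Cover.Sigma
import Mathlib.AlgebraicGeometry.Limits

/-!
Lifts on an fppf family give lifts on one fppf covering map.
-/

universe u

set_option autoImplicit false

open CategoryTheory CategoryTheory.Limits AlgebraicGeometry
open AlgSp Groth.Agent.SpFP87

namespace Groth.Agent.SpPts86

variable {S : Scheme.{u}} {F G H : Sp S}

/-- Maps out of the empty scheme agree. -/
theorem hom_ext_of_isEmpty {Z : Over S} [IsEmpty ↥Z.left] {a b : (yon S).obj Z ⟶ F} : a = b :=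
  open_cover_hom_ext (ι := PEmpty.{u + 1}) (fun i => i.elim) (fun i => i.elim) (fun i => i.elim)
    (fun t => (IsEmpty.false t).elim) (fun i => i.elim)

/-- The disjoint union of a family of schemes over the base. -/
noncomputable def sigmaOver {ι : Type u} (V : ι → Over S) : Over S :=
  Over.mk (Sigma.desc fun i => (V i).hom)

/-- The inclusion of a member. -/
noncomputable def sigmaIn {ι : Type u} (V : ι → Over S) (i : ι) : V i ⟶ sigmaOver V :=
  Over.homMk (Sigma.ι (fun i => (V i).left) i) (Sigma.ι_desc _ _)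

/-- The map out of the disjoint union. -/
noncomputable def sigmaOut {ι : Type u} {V : ι → Over S} {T : Over S} (c : ∀ i, V i ⟶ T) :
    sigmaOver V ⟶ T :=
  Over.homMk (Sigma.desc fun i => (c i).left) (by
    change Sigma.desc _ ≫ T.hom = Sigma.desc _
    apply Sigma.hom_ext
    intro i
    simp)

theorem sigmaIn_out {ι : Type u} {V : ι → Over S} {T : Over S} (c : ∀ i, V i ⟶ T) (i : ι) :
    sigmaIn V i ≫ sigmaOut c = c i :=
  Over.OverMorphism.ext (Sigma.ι_desc (fun i => (c i).left) i)

theorem sigma_glue {ι : Type u} (V : ι → Over S) (l : ∀ i, (yon S).obj (V i) ⟶ F) :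
    ∃ L : (yon S).obj (sigmaOver V) ⟶ F, ∀ i, (yon S).map (sigmaIn V i) ≫ L = l i := by
  refine open_cover_glue V (sigmaIn V)
    (fun i => inferInstanceAs (IsOpenImmersion (Sigma.ι (fun i => (V i).left) i))) (fun t => ?_) l ?_
  · obtain ⟨⟨i, v⟩, hv⟩ := (sigmaMk (fun i => (V i).left)).surjective t
    exact ⟨i, v, by rw [← hv, sigmaMk_mk]; rfl⟩
  · intro i j Z p q e
    by_cases hij : i = j
    · subst hij
      have : Mono (sigmaIn V i).left :=
        inferInstanceAs (Mono (Sigma.ι (fun i => (V i).left) i))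
      have hpq : p = q := Over.OverMorphism.ext ((cancel_mono (sigmaIn V i).left).1
        (congrArg CommaMorphism.left e))
      rw [hpq]
    · have : IsEmpty ↥Z.left := ⟨fun z => by
        have h := congrArg (fun m : Z ⟶ sigmaOver V => m.left z) e
        change Sigma.ι (fun i => (V i).left) i (p.left z) =
          Sigma.ι (fun i => (V i).left) j (q.left z) at h
        rw [← sigmaMk_mk, ← sigmaMk_mk] at h
        exact hij (congrArg Sigma.fst ((sigmaMk (fun i => (V i).left)).injective h))⟩
      exact hom_ext_of_isEmpty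

theorem fppfSurj_sigmaOut {ι : Type u} {V : ι → Over S} {T : Over S} (c : ∀ i, V i ⟶ T)
    (hc : ∀ i, Flat (c i).left ∧ LocallyOfFinitePresentation (c i).left)
    (hs : ∀ t : ↥T.left, ∃ i, t ∈ Set.range (c i).left) : fppfSurj (sigmaOut c).left := by
  refine (fppfSurj_iff _).2 ⟨⟨fun t => ?_⟩, ?_, ?_⟩
  · obtain ⟨i, v, rfl⟩ := hs t
    exact ⟨(sigmaIn V i).left v, by rw [← Scheme.Hom.comp_apply, ← Over.comp_left, sigmaIn_out]⟩
  · have : IsZariskiLocalAtSource (@Flat : MorphismProperty Scheme.{u}) :=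
      HasRingHomProperty.instIsZariskiLocalAtSource
    exact IsZariskiLocalAtSource.sigmaDesc fun i => (hc i).1
  · have : IsZariskiLocalAtSource (@LocallyOfFinitePresentation : MorphismProperty Scheme.{u}) :=
      HasRingHomProperty.instIsZariskiLocalAtSource
    exact IsZariskiLocalAtSource.sigmaDesc fun i => (hc i).2

theorem locLift_of_covLift {b : H ⟶ G} (hb : CovLift b) : LocLift b := fun T g => by
  obtain ⟨R, hR, hl⟩ := hb T g
  have h' : Sieve.overEquiv T R ∈ Scheme.fppfTopology T.left :=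
    (GrothendieckTopology.mem_over_iff _ _).1 hR
  have : Scheme.fppfPrecoverage.{u}.HasIsos := by
    unfold Scheme.fppfPrecoverage
    have : (@Flat ⊓ @LocallyOfFinitePresentation : MorphismProperty Scheme.{u}).ContainsIdentities :=
      ⟨fun X => ⟨(inferInstance : Flat (𝟙 X)), (inferInstance : LocallyOfFinitePresentation (𝟙 X))⟩⟩
    have : (@Flat ⊓ @LocallyOfFinitePresentation : MorphismProperty Scheme.{u}).RespectsIso :=
      (MorphismProperty.IsStableUnderBaseChange.inf).respectsIso
    infer_instance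
  rw [Precoverage.mem_toGrothendieck_iff_of_isStableUnderComposition] at h'
  obtain ⟨R', hR', hle⟩ := h'
  obtain ⟨(𝒰₀ : T.left.Cover (Scheme.precoverage (@Flat ⊓ @LocallyOfFinitePresentation))), rfl⟩ :=
    Precoverage.mem_iff_exists_zeroHypercover.1 hR'
  choose i v hv using fun t : ↥T.left => 𝒰₀.exists_eq t
  let V : ↥T.left → Over S := fun t => Over.mk (𝒰₀.f (i t) ≫ T.hom)
  let c : ∀ t, V t ⟶ T := fun t => Over.homMk (𝒰₀.f (i t)) rfl
  have hRc : ∀ t, R (c t) := fun t =>
    (Sieve.overEquiv_iff R (𝒰₀.f (i t))).1 (hle _ _ (Presieve.ofArrows.mk (i t)))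
  choose l hl using fun t => hl (V t) (c t) (hRc t)
  obtain ⟨L, hL⟩ := sigma_glue V l
  refine ⟨sigmaOver V, sigmaOut c, L,
    fppfSurj_sigmaOut c (fun t => 𝒰₀.map_prop (i t)) (fun t => ⟨t, v t, hv t⟩), ?_⟩
  refine open_cover_hom_ext V (sigmaIn V)
    (fun t => inferInstanceAs (IsOpenImmersion (Sigma.ι (fun t => (V t).left) t))) (fun x => ?_)
    fun t => ?_
  · obtain ⟨⟨j, w⟩, hw⟩ := (sigmaMk (fun t => (V t).left)).surjective x
    exact ⟨j, w, by rw [← hw, sigmaMk_mk]; rfl⟩
  · rw [← Category.assoc, hL, hl, ← Category.assoc, ← Functor.map_comp, sigmaIn_out]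

theorem locLift_of_epi {b : H ⟶ G} [Epi b] : LocLift b := by
  have : Sheaf.IsLocallySurjective b := (Sheaf.isLocallySurjective_iff_epi b).2 inferInstance
  exact locLift_of_covLift (covLift_of_isLocallySurjective b)

end Groth.Agent.SpPts86
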