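import Groth.Prelude.Def_AlgSp4
import Groth.Agent.SpPts86.QCMor
import Mathlib.AlgebraicGeometry.Morphisms.UniversallyOpen

/-!
Topological properties of maps of points and their universal versions.
-/

universe u

set_option autoImplicit false

open CategoryTheory CategoryTheory.Limits AlgebraicGeometry Topology
open AlgSp Groth.Agent.SpFP87

namespace Groth.Agent.SpPts86

variable {S : Scheme.{u}} {X Y Z P : Sp S}

theorem preimage_map_image {fst : P ⟶ X} {snd : P ⟶ Z} {f : X ⟶ Y} {g : Z ⟶ Y}
    (sq : IsPullback fst snd f g) (A : Set (Points X)) :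
    Points.map g ⁻¹' (Points.map f '' A) = Points.map snd '' (Points.map fst ⁻¹' A) := by
  ext z
  constructor
  · rintro ⟨x, hx, e⟩
    obtain ⟨p, hp1, hp2⟩ := exists_of_isPullback sq x z e
    exact ⟨p, show Points.map fst p ∈ A by rwa [hp1], hp2⟩
  · rintro ⟨p, hp, rfl⟩
    exact ⟨_, hp, by rw [← Points.map_comp, sq.w, Points.map_comp]⟩

theorem ofPt_eq_comp {T : Over S} (g : (yon S).obj T ⟶ Y) :
    Points.ofPt g = Points.map g ∘ Points.schemeHomeo T :=
  funext fun t => Points.ofPt_eq_map_ofScheme g t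

theorem isOpen_of_affine {W : Set (Points Y)}
    (h : ∀ (T : Over S), IsAffine T.left → ∀ g : (yon S).obj T ⟶ Y,
      IsOpen (Points.map g ⁻¹' W)) : IsOpen W := by
  refine Points.isOpen_iff.2 fun T g => isOpen_iff_forall_mem_open.2 fun t ht => ?_
  obtain ⟨V, hV, htV, -⟩ := exists_isAffineOpen_mem_and_subset (x := t) (U := ⊤) trivial
  let T' : Over S := Over.mk (V.ι ≫ T.hom)
  let c : T' ⟶ T := Over.homMk V.ι rfl
  have ho := (h T' hV ((yon S).map c ≫ g)).preimage (Points.schemeHomeo T').continuous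
  rw [← Set.preimage_comp, ← ofPt_eq_comp] at ho
  refine ⟨V.ι '' (Points.ofPt ((yon S).map c ≫ g) ⁻¹' W), ?_, V.ι.isOpenEmbedding.isOpenMap _ ho, ?_⟩
  · rintro - ⟨v, hv, rfl⟩
    have hv' : Points.ofPt ((yon S).map c ≫ g) v ∈ W := hv
    rw [ofPt_comp] at hv'
    exact hv'
  · refine ⟨⟨t, htV⟩, ?_, rfl⟩
    show Points.ofPt ((yon S).map c ≫ g) _ ∈ W
    rw [ofPt_comp]
    exact ht

theorem isClosed_of_affine {W : Set (Points Y)}
    (h : ∀ (T : Over S), IsAffine T.left → ∀ g : (yon S).obj T ⟶ Y,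
      IsClosed (Points.map g ⁻¹' W)) : IsClosed W :=
  isOpen_compl_iff.1 <| isOpen_of_affine fun T hT g => by
    rw [Set.preimage_compl]; exact (h T hT g).isOpen_compl

theorem isOpenMap_of_affine {f : X ⟶ Y}
    (h : ∀ (T : Over S), IsAffine T.left → ∀ (g : (yon S).obj T ⟶ Y) (Q : Sp S) (fst : Q ⟶ X)
      (snd : Q ⟶ (yon S).obj T), IsPullback fst snd f g → IsOpenMap (Points.map snd)) :
    IsOpenMap (Points.map f) := fun A hA => isOpen_of_affine fun T hT g => by
  have sq := IsPullback.of_hasPullback f g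
  rw [preimage_map_image sq]
  exact h T hT g _ _ _ sq _ (hA.preimage (Points.continuous_map _))

theorem isClosedMap_of_affine {f : X ⟶ Y}
    (h : ∀ (T : Over S), IsAffine T.left → ∀ (g : (yon S).obj T ⟶ Y) (Q : Sp S) (fst : Q ⟶ X)
      (snd : Q ⟶ (yon S).obj T), IsPullback fst snd f g → IsClosedMap (Points.map snd)) :
    IsClosedMap (Points.map f) := fun A hA => isClosed_of_affine fun T hT g => by
  have sq := IsPullback.of_hasPullback f g
  rw [preimage_map_image sq]
  exact h T hT g _ _ _ sq _ (hA.preimage (Points.continuous_map _))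

theorem isUnivOpenMor_of_affine {f : X ⟶ Y}
    (h : ∀ (T : Over S), IsAffine T.left → ∀ (g : (yon S).obj T ⟶ Y) (Q : Sp S) (fst : Q ⟶ X)
      (snd : Q ⟶ (yon S).obj T), IsPullback fst snd f g → IsOpenMap (Points.map snd)) :
    IsUnivOpenMor f := fun _ _ _ g _ _ sq =>
  isOpenMap_of_affine fun T hT k Q q₁ q₂ sq' => h T hT (k ≫ g) Q _ q₂ (sq'.paste_horiz sq)

theorem isUnivClosedMor_of_affine {f : X ⟶ Y}
    (h : ∀ (T : Over S), IsAffine T.left → ∀ (g : (yon S).obj T ⟶ Y) (Q : Sp S) (fst : Q ⟶ X)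
      (snd : Q ⟶ (yon S).obj T), IsPullback fst snd f g → IsClosedMap (Points.map snd)) :
    IsUnivClosedMor f := fun _ _ _ g _ _ sq =>
  isClosedMap_of_affine fun T hT k Q q₁ q₂ sq' => h T hT (k ≫ g) Q _ q₂ (sq'.paste_horiz sq)

/-- A map with open (closed) pullback along an open continuous surjection is open (closed). -/
theorem isOpenMap_of_baseChange {f : X ⟶ Y} {g : Z ⟶ Y} {fst : P ⟶ X} {snd : P ⟶ Z}
    (sq : IsPullback fst snd f g) (hg : IsQuotientMap (Points.map g))
    (h : IsOpenMap (Points.map snd)) : IsOpenMap (Points.map f) := fun A hA => by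
  rw [← hg.isOpen_preimage, preimage_map_image sq]
  exact h _ (hA.preimage (Points.continuous_map _))

theorem isClosedMap_of_baseChange {f : X ⟶ Y} {g : Z ⟶ Y} {fst : P ⟶ X} {snd : P ⟶ Z}
    (sq : IsPullback fst snd f g) (hg : IsQuotientMap (Points.map g))
    (h : IsClosedMap (Points.map snd)) : IsClosedMap (Points.map f) := fun A hA => by
  rw [← hg.isClosed_preimage, preimage_map_image sq]
  exact h _ (hA.preimage (Points.continuous_map _))

theorem isOpenQuotientMap_map_of_etale_surjective {g : Z ⟶ Y} (hg : RepWith @Etale g)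
    (hs : RepWith @Surjective g) : IsOpenQuotientMap (Points.map g) :=
  ⟨isSurjectiveMor_of_repWith hs, Points.continuous_map g,
    isOpenMap_map_of_repWith (repWith_mono etale_le_universallyOpen hg)⟩

/-- A property of the base changes descends along an etale covering of the target. -/
theorem univSp_of_etale_cover {Q : MorphismProperty (Sp S)}
    (hQ : ∀ ⦃A B C D : Sp S⦄ (a : A ⟶ B) (c : C ⟶ B) (p : D ⟶ A) (q : D ⟶ C),
      IsPullback p q a c → IsQuotientMap (Points.map c) → Q q → Q a)
    {f : X ⟶ Y} {V : Over S} {p : (yon S).obj V ⟶ Y} (hp : RepWith @Etale p)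
    (hps : RepWith @Surjective p) {fst : P ⟶ X} {snd : P ⟶ (yon S).obj V}
    (sq : IsPullback fst snd f p) (h : UnivSp Q snd) : UnivSp Q f := by
  intro Z Z' hZ g q₁ q₂ sqZ
  obtain ⟨W, c, r, sqW⟩ : ∃ (W : Sp S) (c : W ⟶ Z) (r : W ⟶ (yon S).obj V),
      IsPullback c r g p := ⟨_, _, _, IsPullback.of_hasPullback g p⟩
  have hce : RepWith @Etale c := (repWith_isStableUnderBaseChange _).of_isPullback sqW.flip hp
  have hcs : RepWith @Surjective c := (repWith_isStableUnderBaseChange _).of_isPullback sqW.flip hps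
  have hW : IsAlgSpace W := isAlgSpace_of_representable c hce.rep hZ
  have sq2 := IsPullback.of_hasPullback q₂ c
  refine hQ q₂ c _ _ sq2 (isOpenQuotientMap_map_of_etale_surjective hce hcs).isQuotientMap ?_
  have big := sq2.paste_horiz sqZ
  rw [sqW.w] at big
  have hsq : IsPullback (sq.lift (pullback.fst q₂ c ≫ q₁) (pullback.snd q₂ c ≫ r)
      (by rw [Category.assoc]; exact big.w.trans (Category.assoc _ _ _).symm))
      (pullback.snd q₂ c) snd r :=
    IsPullback.of_right (by rw [sq.lift_fst]; exact big) (by rw [sq.lift_snd]) sq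
  exact h hW r _ _ hsq

theorem map_yon_conj {T T' : Over S} (φ : T ⟶ T') :
    Points.map ((yon S).map φ) ∘ Points.schemeHomeo T =
      Points.schemeHomeo T' ∘ fun t => φ.left t :=
  funext fun t => Points.map_yon_map_apply φ t

theorem isOpenMap_map_yon_iff {T T' : Over S} (φ : T ⟶ T') :
    IsOpenMap (Points.map ((yon S).map φ)) ↔ IsOpenMap φ.left := by
  rw [Points.map_yon_map_eq]
  refine ⟨fun h => ?_, fun h => ((Points.schemeHomeo T').isOpenMap.comp h).comp
    (Points.schemeHomeo T).symm.isOpenMap⟩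
  have := ((Points.schemeHomeo T').symm.isOpenMap.comp h).comp (Points.schemeHomeo T).isOpenMap
  convert this using 1
  funext t
  simp only [Function.comp_apply, Homeomorph.symm_apply_apply]

theorem isClosedMap_map_yon_iff {T T' : Over S} (φ : T ⟶ T') :
    IsClosedMap (Points.map ((yon S).map φ)) ↔ IsClosedMap φ.left := by
  rw [Points.map_yon_map_eq]
  refine ⟨fun h => ?_, fun h => ((Points.schemeHomeo T').isClosedMap.comp h).comp
    (Points.schemeHomeo T).symm.isClosedMap⟩
  have := ((Points.schemeHomeo T').symm.isClosedMap.comp h).comp (Points.schemeHomeo T).isClosedMap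
  convert this using 1
  funext t
  simp only [Function.comp_apply, Homeomorph.symm_apply_apply]

theorem isQuotientMap_map_yon_iff {T T' : Over S} (φ : T ⟶ T') :
    IsQuotientMap (Points.map ((yon S).map φ)) ↔ IsQuotientMap φ.left := by
  rw [Points.map_yon_map_eq]
  refine ⟨fun h => ?_, fun h => ((Points.schemeHomeo T').isQuotientMap.comp h).comp
    (Points.schemeHomeo T).symm.isQuotientMap⟩
  have := ((Points.schemeHomeo T').symm.isQuotientMap.comp h).comp (Points.schemeHomeo T).isQuotientMap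
  convert this using 1
  funext t
  simp only [Function.comp_apply, Homeomorph.symm_apply_apply]

/-- Base changes of a represented base change along morphisms of schemes give squares in sheaves. -/
theorem universally_of_repr {R : MorphismProperty Scheme.{u}} {f : X ⟶ Y}
    (h : ∀ (T' V' : Over S) (g : (yon S).obj T' ⟶ Y) (p : (yon S).obj V' ⟶ X) (s : V' ⟶ T'),
      IsPullback p ((yon S).map s) f g → R s.left)
    {T V : Over S} {g : (yon S).obj T ⟶ Y} {p : (yon S).obj V ⟶ X} {s : V ⟶ T}
    (sq : IsPullback p ((yon S).map s) f g) : R.universally s.left := by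
  intro V' T' i₁ i₂ s' hsq
  let T'' : Over S := Over.mk (i₂ ≫ T.hom)
  let V'' : Over S := Over.mk (s' ≫ i₂ ≫ T.hom)
  let s'' : V'' ⟶ T'' := Over.homMk s' rfl
  let j₂ : T'' ⟶ T := Over.homMk i₂ rfl
  let j₁ : V'' ⟶ V := Over.homMk i₁ (by
    change i₁ ≫ V.hom = s' ≫ i₂ ≫ T.hom
    rw [← Over.w s, ← Category.assoc, ← hsq.w, Category.assoc])
  have sqO : IsPullback j₁ s'' s j₂ := IsPullback.of_map_of_faithful (Over.forget S) hsq.flip
  exact h T'' V'' _ _ s'' ((sqO.map (yon S)).paste_horiz sq)

end Groth.Agent.SpPts86
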