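import Groth.Agent.SpFP87.LocPRep
import Groth.Agent.SpFP87.EtLocInst
import Groth.Agent.SpPts86.Separation
import Groth.Agent.SpPts86.QCMor
import Groth.Agent.SpPts86.EtaleMor
import Groth.Agent.SpPts86.UnivTop

/-!
Proper morphisms of algebraic spaces: affine criterion, composition, base change.
-/

universe u

set_option autoImplicit false

open CategoryTheory CategoryTheory.Limits AlgebraicGeometry
open AlgSp Groth.Agent.SpFP87

namespace Groth.Agent.SpPts86

variable {S : Scheme.{u}} {X Y Z P : Sp S}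

theorem diagonal_comp_eq (f : X ⟶ Y) (g : Y ⟶ Z) :
    pullback.diagonal (f ≫ g) = pullback.diagonal f ≫ pullback.mapDesc f f g := by
  refine pullback.hom_ext ?_ ?_
  · rw [pullback.diagonal_fst, Category.assoc, pullback.mapDesc, pullback.lift_fst]
    simp
  · rw [pullback.diagonal_snd, Category.assoc, pullback.mapDesc, pullback.lift_snd]
    simp

theorem isSeparatedMor_comp {f : X ⟶ Y} {g : Y ⟶ Z} (hf : IsSeparatedMor f)
    (hg : IsSeparatedMor g) : IsSeparatedMor (f ≫ g) := by
  change RepWith @IsClosedImmersion (pullback.diagonal (f ≫ g))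
  rw [diagonal_comp_eq]
  exact MorphismProperty.comp_mem (W := RepWith (@IsClosedImmersion : MorphismProperty Scheme.{u})) _ _
    hf (repWith_mapDesc f f g hg)

theorem univSp_baseChange' {Q : MorphismProperty (Sp S)} {f : X ⟶ Y} (hf : UnivSp Q f) {g : Z ⟶ Y}
    {fst : P ⟶ X} {snd : P ⟶ Z} (sq : IsPullback fst snd f g) : UnivSp Q snd :=
  fun _ _ hW k fst' snd' sq' => hf hW (k ≫ g) (fst' ≫ fst) snd' (sq'.paste_horiz sq)

theorem isUnivClosedMor_comp {f : X ⟶ Y} {g : Y ⟶ Z} (hY : IsAlgSpace Y) (hZ : IsAlgSpace Z)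
    (hf : IsUnivClosedMor f) (hg : IsUnivClosedMor g) : IsUnivClosedMor (f ≫ g) := by
  intro W W' hW k fst snd sq
  let sq2 := IsPullback.of_hasPullback g k
  have hmid : IsAlgSpace (pullback g k) := isAlgSpace_of_isPullback sq2 hY hW hZ.diag
  let m := sq2.lift (fst ≫ f) snd (by rw [Category.assoc]; exact sq.w)
  have h1 : IsClosedMor m := hf hmid (pullback.fst g k) fst m (IsPullback.of_bot
    (by rw [sq2.lift_snd]; exact sq) (by rw [sq2.lift_fst]) sq2)
  have h2 : IsClosedMor (pullback.snd g k) := hg hW k _ _ sq2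
  show IsClosedMap (Points.map snd)
  have e : Points.map snd = Points.map (pullback.snd g k) ∘ Points.map m := by
    funext x
    rw [Function.comp_apply, ← Points.map_comp, sq2.lift_snd]
  rw [e]
  exact h2.comp h1

theorem isFiniteTypeMor_comp {f : X ⟶ Y} {g : Y ⟶ Z} (hX : IsAlgSpace X) (hY : IsAlgSpace Y)
    (hZ : IsAlgSpace Z) (hf : IsFiniteTypeMor f) (hg : IsFiniteTypeMor g) :
    IsFiniteTypeMor (f ≫ g) :=
  ⟨locP_comp hX hY hZ hf.1 hg.1, isQuasiCompactMor_comp hY hZ hf.2 hg.2⟩

theorem isProperMor_comp {f : X ⟶ Y} {g : Y ⟶ Z} (hX : IsAlgSpace X) (hY : IsAlgSpace Y)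
    (hZ : IsAlgSpace Z) (hf : IsProperMor f) (hg : IsProperMor g) : IsProperMor (f ≫ g) :=
  ⟨isSeparatedMor_comp hf.1 hg.1, isFiniteTypeMor_comp hX hY hZ hf.2.1 hg.2.1,
    isUnivClosedMor_comp hY hZ hf.2.2 hg.2.2⟩

theorem isFiniteTypeMor_baseChange {f : X ⟶ Y} (hX : IsAlgSpace X) (hY : IsAlgSpace Y)
    (hZ : IsAlgSpace Z) (hf : IsFiniteTypeMor f) {g : Z ⟶ Y}
    {fst : P ⟶ X} {snd : P ⟶ Z} (sq : IsPullback fst snd f g) : IsFiniteTypeMor snd :=
  ⟨locP_baseChange sq hX hY hZ hf.1, isQuasiCompactMor_baseChange hf.2 sq⟩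

theorem isProperMor_baseChange {f : X ⟶ Y} (hX : IsAlgSpace X) (hY : IsAlgSpace Y)
    (hZ : IsAlgSpace Z) (hf : IsProperMor f) {g : Z ⟶ Y}
    {fst : P ⟶ X} {snd : P ⟶ Z} (sq : IsPullback fst snd f g) : IsProperMor snd :=
  ⟨(repWith_isStableUnderBaseChange _).of_isPullback (isPullback_diagonal_baseChange sq) hf.1,
    isFiniteTypeMor_baseChange hX hY hZ hf.2.1 sq, univSp_baseChange' hf.2.2 sq⟩

/-- `LocP` of a property local on the target may be tested on affine schemes over the target. -/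
theorem locP_of_affine {Q : MorphismProperty Scheme.{u}} [EtLoc Q] [IsZariskiLocalAtTarget Q]
    {f : X ⟶ Y} (hX : IsAlgSpace X) (hY : IsAlgSpace Y)
    (h : ∀ (T : Over S), IsAffine T.left → ∀ (g : (yon S).obj T ⟶ Y) (W : Sp S) (fst : W ⟶ X)
      (snd : W ⟶ (yon S).obj T), IsPullback fst snd f g → LocP Q snd) : LocP Q f := by
  obtain ⟨V, b, hb, hbs⟩ := hY.atlas
  obtain ⟨U, a, s, ha, has, w⟩ := exists_compatible_chart f hX hY.diag hb hbs
  refine locP_of_chart hX.diag hY.diag ha has hb w ?_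
  rw [IsZariskiLocalAtTarget.iff_of_openCover (P := Q) V.left.affineCover]
  intro k
  let T : Over S := Over.mk (V.left.affineCover.f k ≫ V.hom)
  let z : T ⟶ V := Over.homMk (V.left.affineCover.f k) rfl
  change Q (pullback.snd s.left z.left)
  haveI : IsAffine T.left := inferInstanceAs (IsAffine (V.left.affineCover.X k))
  obtain ⟨U', p, t, sqU⟩ := exists_isPullback_yon (IsAlgSpace.yon_obj V).diag
    ((yon S).map s) ((yon S).map z)
  let g : (yon S).obj T ⟶ Y := (yon S).map z ≫ b
  have sq := IsPullback.of_hasPullback f g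
  let a' : (yon S).obj U' ⟶ pullback f g := sq.lift ((yon S).map p ≫ a) ((yon S).map t)
    (by rw [Category.assoc, w, ← Category.assoc, sqU.w, Category.assoc])
  -- the chart of the pullback is etale
  have hsub := isPullback_left sqU
  suffices hQ : Q t.left by
    have e := (IsPullback.of_hasPullback s.left z.left).isoIsPullback_hom_snd _ _ hsub
    rw [← e, Q.cancel_left_of_respectsIso]
    exact hQ
  have hS : IsPullback p.left t.left s.left z.left := hsub
  haveI : IsOpenImmersion z.left :=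
    inferInstanceAs (IsOpenImmersion (V.left.affineCover.f k))
  haveI : Etale p.left := MorphismProperty.of_isPullback (P := @Etale) hS.flip inferInstance
  have hY' : IsAlgSpace (pullback f g) :=
    isAlgSpace_of_isPullback sq hX (IsAlgSpace.yon_obj T) hY.diag
  have hg : RepWith @Etale g := repWith_etale_comp z hb
  have hp : RepWith @Etale (pullback.fst f g) :=
    (repWith_isStableUnderBaseChange (@Etale : MorphismProperty Scheme.{u})).of_isPullback sq.flip hg
  have ha' : RepWith @Etale a' := by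
    refine repWith_etale_of_isEtaleMor hY' (hY'.representable_from_yon a')
      (isEtaleMor_of_comp hY' (isEtaleMor_of_repWith_etale hp) ?_)
    rw [sq.lift_fst]
    exact isEtaleMor_of_repWith_etale (repWith_etale_comp p ha)
  exact h T inferInstance g _ _ _ sq a' (𝟙 _) t ha' (repWith_id _ T)
    ((sq.lift_snd _ _ _).trans (Category.comp_id _).symm)

theorem isFiniteTypeMor_of_affine {f : X ⟶ Y} (hX : IsAlgSpace X) (hY : IsAlgSpace Y)
    (h : ∀ (T : Over S), IsAffine T.left → ∀ (g : (yon S).obj T ⟶ Y) (W : Sp S) (fst : W ⟶ X)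
      (snd : W ⟶ (yon S).obj T), IsPullback fst snd f g → IsFiniteTypeMor snd) :
    IsFiniteTypeMor f :=
  ⟨locP_of_affine hX hY fun T hT g W fst snd sq => (h T hT g W fst snd sq).1,
    isQuasiCompactMor_of_affine hX hY fun T hT g W fst snd sq => by
      have := compactSpace_points_yon T
      exact compactSpace_of_isQuasiCompactMor (h T hT g W fst snd sq).2 (IsAlgSpace.yon_obj T)
        (IsPullback.of_horiz_isIso ⟨by simp⟩ :
          IsPullback (𝟙 W) snd snd (𝟙 _))⟩

end Groth.Agent.SpPts86
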