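import Groth.Agent.SpPts86.LqfSepLocal
import Groth.Agent.SpPts86.Proper
import Groth.Agent.SpPts86.CovSigma
import Groth.Agent.SpPts86.ZarGlue

/-!
An algebraic space separated and locally quasi-finite over a scheme is a scheme.
-/

universe u

set_option autoImplicit false

open CategoryTheory CategoryTheory.Limits AlgebraicGeometry
open AlgSp Groth.Agent.SpFP87

namespace Groth.Agent.SpPts86

variable {S : Scheme.{u}} {T : Over S} {F : Sp S}

theorem exists_iso_of_compactSpace [IsAffine T.left] (hF : IsAlgSpace F) {f : F ⟶ (yon S).obj T}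
    (hsep : IsSeparatedMor f) (hqf : LocP (@LocallyQuasiFinite ⊓ @LocallyOfFiniteType) f)
    [CompactSpace (Points F)] : ∃ Z : Over S, Nonempty ((yon S).obj Z ≅ F) := by
  obtain ⟨U, p, hU, he, hs⟩ := exists_affine_chart_of_compactSpace hF
  obtain ⟨v, hv⟩ := (yon S).map_surjective (p ≫ f)
  obtain ⟨R, t, s, sq⟩ := exists_isPullback_yon hF.diag p p
  have : IsAffineHom v.left := isAffineHom_of_isAffine v.left
  have hpaff : RepWith @IsAffineHom p :=
    repWith_of_comp (b := f) (repWith_mono (fun _ _ _ h => by haveI := h; exact inferInstance) hsep)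
      (by rw [← hv]; exact (repWith_yon_map_iff _ _).2 ‹_›)
  have : IsAffineHom s.left := hpaff.property p _ s sq
  have : IsAffine R.left := isAffine_of_isAffineHom s.left
  have hp : LocLift p := locLift_of_atlas he hs
  obtain ⟨H₀, γ₀, hH₀, hh⟩ := exists_isAffHull t.left s.left
  have wv : t ≫ v = s ≫ v := (yon S).map_injective (by
    rw [Functor.map_comp, Functor.map_comp, hv, ← Category.assoc, sq.w, Category.assoc])
  obtain ⟨hT₀, hhT₀⟩ := hh.exists_desc v.left (congrArg CommaMorphism.left wv)
  let H : Over S := Over.mk (hT₀ ≫ T.hom)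
  let γ : U ⟶ H := Over.homMk γ₀ (by
    change γ₀ ≫ hT₀ ≫ T.hom = U.hom
    rw [← Category.assoc, hhT₀, Over.w v])
  let hT : H ⟶ T := Over.homMk hT₀ rfl
  have : IsAffine H.left := hH₀
  have hvT : γ ≫ hT = v := Over.OverMorphism.ext hhT₀
  have wγ : t ≫ γ = s ≫ γ := Over.OverMorphism.ext hh.w
  obtain ⟨g, hg⟩ := exists_desc hp ((yon S).map γ) fun W l l' e => by
    obtain ⟨r, hr⟩ := (yon S).map_surjective (sq.lift _ _ e)
    have h1 := sq.lift_fst _ _ e
    have h2 := sq.lift_snd _ _ e
    rw [← hr, ← Functor.map_comp] at h1 h2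
    rw [← h1, ← h2, ← Functor.map_comp, ← Functor.map_comp, Category.assoc, Category.assoc, wγ]
  have hf : g ≫ (yon S).map hT = f := by
    have := hp.epi
    rw [← cancel_epi p, reassoc_of% hg, ← Functor.map_comp, hvT, hv]
  have hvP := hqf p (𝟙 _) v he (repWith_id _ T) (by rw [Category.comp_id, hv])
  have : LocallyQuasiFinite (γ ≫ hT).left := hvT ▸ hvP.1
  have : LocallyOfFiniteType (γ ≫ hT).left := hvT ▸ hvP.2
  choose O o q ho sqo hmem using fun u : ↥U.left =>
    exists_local_chart hF hsep he hs sq (γ := γ) hh hg hf u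
  have hopen : ∀ u, IsOpen (Set.range (o u).left) := fun u => by
    haveI := ho u
    exact (o u).left.isOpenMap.isOpen_range
  let H0 : H.left.Opens := ⟨⋃ u, Set.range (o u).left, isOpen_iUnion hopen⟩
  let i : openOver H H0 ⟶ H := openIncl H H0
  have : IsOpenImmersion i.left := inferInstanceAs (IsOpenImmersion H0.ι)
  have hi : RepWith @IsOpenImmersion ((yon S).map i) := (repWith_yon_map_iff _ _).2 inferInstance
  have : Mono ((yon S).map i) := mono_of_repWith_le isOpenImmersion_le_monomorphisms hi
  obtain ⟨g₀, hg₀⟩ := exists_factor_of_range_subset hi g (by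
    rintro - ⟨x, rfl⟩
    obtain ⟨u, rfl⟩ := surjective_ofPt hs x
    refine ⟨Points.schemeHomeo (openOver H H0) ⟨γ.left u, Set.mem_iUnion.2 ⟨u, hmem u⟩⟩, ?_⟩
    rw [Points.map_yon_map_apply, Points.map_ofPt, hg, ofPt_yon_map]
    rfl)
  let o' : ∀ u, O u ⟶ openOver H H0 := fun u =>
    Over.homMk (IsOpenImmersion.lift H0.ι (o u).left (by
      rw [Scheme.Opens.range_ι]
      exact Set.subset_iUnion (fun u => Set.range (o u).left) u)) (by
      change IsOpenImmersion.lift H0.ι _ _ ≫ H0.ι ≫ H.hom = _
      rw [IsOpenImmersion.lift_fac_assoc, Over.w])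
  have ho' : ∀ u, o' u ≫ i = o u := fun u => Over.OverMorphism.ext (IsOpenImmersion.lift_fac _ _ _)
  have hEt : ∀ u, Etale (o' u).left := fun u => by
    haveI := ho u
    have : Etale ((o' u).left ≫ i.left) := by rwa [← Over.comp_left, ho']
    exact Etale.of_comp (o' u).left i.left
  have hcov : ∀ x : ↥(openOver H H0).left, ∃ u, x ∈ Set.range (o' u).left := fun x => by
    obtain ⟨u, z, hz⟩ := Set.mem_iUnion.1 x.2
    refine ⟨u, z, i.left.isOpenEmbedding.injective ?_⟩
    rw [← Scheme.Hom.comp_apply, ← Over.comp_left, ho', hz]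
    rfl
  have hqo : ∀ u, q u ≫ g₀ = (yon S).map (o' u) := fun u => by
    rw [← cancel_mono ((yon S).map i), Category.assoc, hg₀, (sqo u).w, Category.id_comp,
      ← Functor.map_comp, ho']
  have hlift : LocLift g₀ := by
    obtain ⟨L, hL⟩ := sigma_glue O q
    refine LocLift.of_comp (q := L) ?_
    have e : L ≫ g₀ = (yon S).map (sigmaOut o') :=
      open_cover_hom_ext O (sigmaIn O)
        (fun u => inferInstanceAs (IsOpenImmersion (Sigma.ι (fun u => (O u).left) u))) (fun x => by
          obtain ⟨⟨j, w⟩, hw⟩ := (sigmaMk (fun u => (O u).left)).surjective x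
          exact ⟨j, w, by rw [← hw, sigmaMk_mk]; rfl⟩) fun u => by
        rw [← Category.assoc, hL, hqo, ← Functor.map_comp, sigmaIn_out]
    rw [e]
    exact locLift_of_repWith le_rfl ((repWith_yon_map_iff _ _).2
      (fppfSurj_sigmaOut o' (fun u => by haveI := hEt u; exact ⟨inferInstance, inferInstance⟩) hcov))
  have : Mono g₀ := mono_of_forall_yon fun Z a b e => by
    obtain ⟨h, hh'⟩ := (yon S).map_surjective (a ≫ g₀)
    let Zu : ↥U.left → Over S := fun u => pullback h (o' u)
    let cu : ∀ u, Zu u ⟶ Z := fun u => pullback.fst h (o' u)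
    have hcu : ∀ u, Etale (cu u).left := fun u =>
      MorphismProperty.of_isPullback (P := @Etale)
        ((IsPullback.of_hasPullback h (o' u)).map (Over.forget S)).flip (hEt u)
    have hc := fppfSurj_sigmaOut cu
      (fun u => by haveI := hcu u; exact ⟨inferInstance, inferInstance⟩) (fun z => by
        obtain ⟨u, w, hw⟩ := hcov (h.left z)
        obtain ⟨y, hy, -⟩ := Scheme.exists_preimage_of_isPullback
          ((IsPullback.of_hasPullback h (o' u)).map (Over.forget S)) z w hw.symm
        exact ⟨u, y, hy⟩)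
    refine cover_hom_ext (sigmaOut cu) hc (open_cover_hom_ext Zu (sigmaIn Zu)
      (fun u => inferInstanceAs (IsOpenImmersion (Sigma.ι (fun u => (Zu u).left) u))) (fun x => by
        obtain ⟨⟨j, w⟩, hw⟩ := (sigmaMk (fun u => (Zu u).left)).surjective x
        exact ⟨j, w, by rw [← hw, sigmaMk_mk]; rfl⟩) fun u => ?_)
    rw [← Functor.map_comp_assoc, ← Functor.map_comp_assoc, sigmaIn_out]
    have key : ∀ x : (yon S).obj Z ⟶ F, x ≫ g₀ = (yon S).map h →
        (yon S).map (cu u) ≫ x = (yon S).map (pullback.snd h (o' u)) ≫ q u := fun x hx => by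
      have w : ((yon S).map (cu u) ≫ x) ≫ g =
          (yon S).map (pullback.snd h (o' u)) ≫ (yon S).map (o u) := by
        rw [← hg₀, Category.assoc, reassoc_of% hx, ← Functor.map_comp, ← Functor.map_comp,
          ← Functor.map_comp, ← ho', ← Category.assoc, ← Category.assoc, pullback.condition]
      conv_lhs => rw [← (sqo u).lift_fst _ _ w]
      rw [show (sqo u).lift _ _ w = (yon S).map (pullback.snd h (o' u)) by
        simpa using (sqo u).lift_snd _ _ w]
    rw [key a hh'.symm, key b (by rw [← e, hh'])]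
  have := isIso_of_mono_of_locLift g₀ hlift
  exact ⟨_, ⟨(asIso g₀).symm⟩⟩

theorem isSeparatedMor_of_comp_mono {G H : Sp S} {a : F ⟶ G} (b : G ⟶ H) [Mono b]
    (h : IsSeparatedMor (a ≫ b)) : IsSeparatedMor a := by
  change RepWith @IsClosedImmersion (pullback.diagonal (a ≫ b)) at h
  rw [diagonal_comp_eq] at h
  have : Mono (pullback.mapDesc a a b) := ⟨fun x y e => pullback.hom_ext
    (by
      have h1 := congrArg (· ≫ pullback.fst _ _) e
      simp only [pullback.mapDesc, Category.assoc, pullback.lift_fst] at h1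
      simpa using h1)
    (by
      have h1 := congrArg (· ≫ pullback.snd _ _) e
      simp only [pullback.mapDesc, Category.assoc, pullback.lift_snd] at h1
      simpa using h1)⟩
  exact repWith_of_comp_mono (pullback.mapDesc a a b) h

theorem isSeparatedMor_of_mono {G : Sp S} (a : F ⟶ G) [Mono a] : IsSeparatedMor a := by
  have : IsIso (pullback.diagonal a) := inferInstance
  refine MorphismProperty.relative.of_exists fun Z g => ?_
  exact ⟨Z, g ≫ inv (pullback.diagonal a), 𝟙 Z,
    IsPullback.of_vert_isIso ⟨by simp⟩, (inferInstance : IsClosedImmersion (𝟙 Z.left))⟩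

/-- An algebraic space separated and locally quasi-finite over a scheme is a scheme. -/
theorem exists_iso_of_lqf_separated (hF : IsAlgSpace F) {f : F ⟶ (yon S).obj T}
    (hsep : IsSeparatedMor f) (hqf : LocP (@LocallyQuasiFinite ⊓ @LocallyOfFiniteType) f) :
    ∃ Z : Over S, Nonempty ((yon S).obj Z ≅ F) := by
  have key : ∀ x : Points F, ∃ (Z : Over S) (j : (yon S).obj Z ⟶ F),
      RepWith @IsOpenImmersion j ∧ x ∈ Set.range (Points.ofPt j) := fun x => by
    obtain ⟨z, hz⟩ := (Points.schemeHomeo T).surjective (Points.map f x)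
    obtain ⟨A, hA, hzA, -⟩ := exists_isAffineOpen_mem_and_subset (x := z) (U := ⊤) trivial
    let TA := openOver T A
    let i : TA ⟶ T := openIncl T A
    have : IsOpenImmersion i.left := inferInstanceAs (IsOpenImmersion A.ι)
    have : IsAffine TA.left := hA
    have hi : RepWith @IsOpenImmersion ((yon S).map i) := (repWith_yon_map_iff _ _).2 inferInstance
    have : Mono ((yon S).map i) := mono_of_repWith_le isOpenImmersion_le_monomorphisms hi
    obtain ⟨W, hW, hWc, hxW, hWA⟩ := exists_isOpen_isCompact_nhd hF (x := x)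
      (W := Points.map f ⁻¹' Set.range (Points.map ((yon S).map i)))
      ((isOpen_range_map hi).preimage (Points.continuous_map f))
      ⟨Points.schemeHomeo TA ⟨z, hzA⟩, by rw [Points.map_yon_map_apply, ← hz]; rfl⟩
    have hι := repWith_restrictι (F := F) hW
    obtain ⟨fA, hfA⟩ := exists_factor_of_range_subset hi (restrictι F W ≫ f) (by
      rintro - ⟨y, rfl⟩
      rw [Points.map_comp]
      exact hWA ((range_map_restrictι hW).le ⟨y, rfl⟩))
    have : CompactSpace (Points (restrictSheaf F W)) := by
      have hc := (isEmbedding_map_of_openImmersion hι).isEmbedding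
      refine ⟨hc.isInducing.isCompact_iff.2 ?_⟩
      rw [Set.image_univ, range_map_restrictι hW]
      exact hWc
    have hsepA : IsSeparatedMor fA := isSeparatedMor_of_comp_mono ((yon S).map i) (by
      rw [hfA]
      exact isSeparatedMor_comp (isSeparatedMor_of_mono _) hsep)
    have hqfA : LocP (@LocallyQuasiFinite ⊓ @LocallyOfFiniteType) fA := fun U V a b h ha hb w => by
      refine hqf (a ≫ restrictι F W) (b ≫ (yon S).map i) h
        ((repWith_isMultiplicative (S := S) @Etale).comp_mem _ _ ha
          (repWith_mono (fun _ _ _ h => by haveI := h; exact inferInstance) hι))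
        ((repWith_isMultiplicative (S := S) @Etale).comp_mem _ _ hb
          (repWith_mono (fun _ _ _ h => by haveI := h; exact inferInstance) hi)) ?_
      rw [Category.assoc, ← hfA, reassoc_of% w]
    obtain ⟨Z, ⟨e⟩⟩ := exists_iso_of_compactSpace (isAlgSpace_restrictSheaf hF hW) hsepA hqfA
    refine ⟨Z, e.hom ≫ restrictι F W, (repWith_isMultiplicative (S := S) @IsOpenImmersion).comp_mem _ _
      (MorphismProperty.relative.of_exists fun A' g => ?_) hι, ?_⟩
    · obtain ⟨φ, hφ⟩ := (yon S).map_surjective (g ≫ e.inv)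
      exact ⟨A', (yon S).map φ, 𝟙 A', IsPullback.of_vert_isIso ⟨by simp [hφ]⟩,
        (inferInstance : IsOpenImmersion (𝟙 A'.left))⟩
    · obtain ⟨y, rfl⟩ := (range_map_restrictι hW).ge hxW
      obtain ⟨z', hz'⟩ := (Points.schemeHomeo Z).surjective (Points.map e.inv y)
      refine ⟨z', ?_⟩
      rw [Points.ofPt_eq_map_ofScheme]
      change Points.map _ (Points.schemeHomeo Z z') = _
      rw [hz', ← Points.map_comp, Iso.inv_hom_id_assoc]
  obtain ⟨U₀, a₀, ha₀, has₀⟩ := hF.atlas
  choose Z j hj hxj using fun u : ↥U₀.left => key (Points.ofPt a₀ u)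
  exact exists_iso_of_open_cover Z j hj fun x => by
    obtain ⟨u, rfl⟩ := surjective_ofPt has₀ x
    exact ⟨u, hxj u⟩

theorem isRepresentable_of_iso {Z : Over S} (e : (yon S).obj Z ≅ F) : F.obj.IsRepresentable :=
  Functor.RepresentableBy.isRepresentable (Y := Z)
    { homEquiv := fun {W} =>
        { toFun := fun φ => uE ((yon S).map φ ≫ e.hom)
          invFun := fun x => (yon S).preimage (uE.symm x ≫ e.inv)
          left_inv := fun φ => (yon S).map_injective (by
            rw [Functor.map_preimage, Equiv.symm_apply_apply, Category.assoc, Iso.hom_inv_id,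
              Category.comp_id])
          right_inv := fun x => by
            simp only [Functor.map_preimage, Category.assoc, Iso.inv_hom_id, Category.comp_id,
              Equiv.apply_symm_apply] }
      homEquiv_comp := fun {W W'} φ ψ => by
        change uE ((yon S).map (φ ≫ ψ) ≫ e.hom) = F.obj.map φ.op (uE ((yon S).map ψ ≫ e.hom))
        rw [GrothendieckTopology.uliftYonedaEquiv_naturality, Functor.map_comp, Category.assoc] }

end Groth.Agent.SpPts86
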