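import Mathlib.AlgebraicGeometry.ZariskisMainTheorem
import Groth.Agent.SpPts86.Proper
import Groth.Agent.S10277
import Groth.Agent.S9922

/-!
Morphisms with universally closed composite into a separated space; separatedness via the diagonal.
-/

universe u

set_option autoImplicit false

open CategoryTheory CategoryTheory.Limits AlgebraicGeometry
open AlgSp Groth.Agent.SpFP87

namespace Groth.Agent.SpPts86

variable {S : Scheme.{u}} {X Y B : Sp S}

theorem isUnivClosedMor_of_surjective_comp {f : X ⟶ Y} {q : Y ⟶ B}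
    (hp : IsUnivClosedMor (f ≫ q)) (hf : IsSurjectiveMor f) : IsUnivClosedMor q := by
  intro Z Z' hZ g fst snd sq
  have sq1 := IsPullback.of_hasPullback f fst
  have hc : IsClosedMap (Points.map (pullback.snd f fst ≫ snd)) :=
    hp hZ g (pullback.fst f fst) _ (sq1.paste_vert sq)
  have hs := surjective_map_fst_of_isPullback sq1.flip hf
  intro A hA
  have e : Points.map snd '' A =
      Points.map (pullback.snd f fst ≫ snd) '' (Points.map (pullback.snd f fst) ⁻¹' A) := by
    ext z
    constructor
    · rintro ⟨a, ha, rfl⟩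
      obtain ⟨b, rfl⟩ := hs a
      exact ⟨b, ha, Points.map_comp _ _ _⟩
    · rintro ⟨b, hb, rfl⟩
      exact ⟨_, hb, (Points.map_comp _ _ _).symm⟩
  show IsClosed (Points.map snd '' A)
  rw [e]
  exact hc _ (hA.preimage (Points.continuous_map _))

/-- A map to a separated space factors as a closed immersion followed by a base change. -/
theorem exists_graph {f : X ⟶ Y} {p : X ⟶ B} {q : Y ⟶ B} (comm : f ≫ q = p) (hq : IsSeparatedMor q) :
    ∃ γ : X ⟶ pullback p q, RepWith @IsClosedImmersion γ ∧ γ ≫ pullback.snd p q = f := by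
  let γ := pullback.lift (f := p) (g := q) (𝟙 X) f (by rw [Category.id_comp, comm])
  have hγ : γ ≫ pullback.fst p q = 𝟙 X := pullback.lift_fst _ _ _
  refine ⟨γ, repWith_section hγ ?_, pullback.lift_snd _ _ _⟩
  exact (repWith_isStableUnderBaseChange _).of_isPullback
    (isPullback_diagonal_baseChange (IsPullback.of_hasPullback p q).flip) hq

theorem univClosed_over_separated {f : X ⟶ Y} {p : X ⟶ B} {q : Y ⟶ B} (hX : IsAlgSpace X)
    (hY : IsAlgSpace Y) (hB : IsAlgSpace B) (comm : f ≫ q = p) (hq : IsSeparatedMor q)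
    (hp : IsUnivClosedMor p) : IsUnivClosedMor f ∧ IsClosed (Set.range (Points.map f)) := by
  obtain ⟨γ, hγ, rfl⟩ := exists_graph comm hq
  have hP : IsAlgSpace (pullback p q) :=
    isAlgSpace_of_isPullback (IsPullback.of_hasPullback p q) hX hY hB.diag
  have h1 : IsUnivClosedMor γ := (S9922.result (X := ⟨X, hX⟩) (Y := ⟨_, hP⟩) ⟨γ⟩ hγ.rep).1
    (repWith_mono (fun _ _ _ h => by haveI := h; exact inferInstance) hγ)
  have h := isUnivClosedMor_comp hP hY h1 (univSp_baseChange' hp (IsPullback.of_hasPullback p q))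
  refine ⟨h, ?_⟩
  have hc : IsClosedMap (Points.map (γ ≫ pullback.snd p q)) :=
    h hY (𝟙 Y) (𝟙 X) _ (IsPullback.of_horiz_isIso ⟨by simp⟩)
  exact hc.isClosed_range

theorem proper_over_separated {f : X ⟶ Y} {p : X ⟶ B} {q : Y ⟶ B} (hX : IsAlgSpace X)
    (hY : IsAlgSpace Y) (hB : IsAlgSpace B) (comm : f ≫ q = p) (hq : IsSeparatedMor q)
    (hp : IsProperMor p) : IsProperMor f := by
  obtain ⟨γ, hγ, rfl⟩ := exists_graph comm hq
  have hP : IsAlgSpace (pullback p q) :=
    isAlgSpace_of_isPullback (IsPullback.of_hasPullback p q) hX hY hB.diag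
  exact isProperMor_comp hX hP hY
    (S10277.result (X := ⟨X, hX⟩) (Y := ⟨_, hP⟩) ⟨γ⟩ hγ)
    (isProperMor_baseChange hX hB hY hp (IsPullback.of_hasPullback p q))

/-- A monomorphism locally of finite type that is universally closed is a closed immersion. -/
theorem isClosedImmersion_of_mono_univClosed {U V : Scheme.{u}} (g : U ⟶ V)
    [LocallyOfFiniteType g] [UniversallyClosed g] [Mono g] : IsClosedImmersion g := by
  haveI : IsProper g := {}
  exact (IsClosedImmersion.iff_isProper_and_mono g).2 ⟨inferInstance, inferInstance⟩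

theorem isSeparatedMor_of_diag_univClosed {f : X ⟶ Y} (hX : IsAlgSpace X) (hY : IsAlgSpace Y)
    (h : IsUnivClosedMor (pullback.diagonal f)) : IsSeparatedMor f := by
  have hd := repWith_diagLike_diagonal hX f
  have hP : IsAlgSpace (pullback f f) :=
    isAlgSpace_of_isPullback (IsPullback.of_hasPullback f f) hX hX hY.diag
  have huc : RepWith @UniversallyClosed (pullback.diagonal f) :=
    (S9922.result (X := ⟨X, hX⟩) (Y := ⟨_, hP⟩) ⟨pullback.diagonal f⟩ hd.rep).2 h
  refine ⟨hd.rep, fun T V g fst snd sq => ?_⟩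
  have h1 := hd.property g fst snd sq
  haveI : UniversallyClosed snd.left := huc.property g fst snd sq
  haveI : LocallyOfFiniteType snd.left := h1.2
  haveI : Mono snd.left := h1.1
  exact isClosedImmersion_of_mono_univClosed snd.left

end Groth.Agent.SpPts86
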