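import Groth.Prelude.Def_AlgSpDec
import Groth.Agent.SpPts86.UnivTop
import Groth.Agent.SpPts86.MonoField
import Groth.Agent.SpPts86.Separation
import Mathlib.AlgebraicGeometry.Morphisms.UniversallyInjective

/-!
Universally injective morphisms of algebraic spaces.
-/

universe u

set_option autoImplicit false

open CategoryTheory CategoryTheory.Limits AlgebraicGeometry Opposite
open AlgSp Groth.Agent.SpFP87

namespace Groth.Agent.SpPts86

variable {S : Scheme.{u}} {X Y Z P : Sp S}

/-- Injectivity on all field valued points. -/
def FieldInj (f : X ⟶ Y) : Prop :=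
  ∀ (K : Type u) [Field K] (str : Spec (CommRingCat.of K) ⟶ S),
    Function.Injective (fun a : (yon S).obj (Over.mk str) ⟶ X => a ≫ f)

theorem surjective_diagonal_of_univInjective {f : X ⟶ Y} (hX : IsAlgSpace X)
    (h : IsUnivInjectiveMor f) : IsSurjectiveMor (pullback.diagonal f) := fun p => by
  refine ⟨Points.map (pullback.snd f f) p,
    h hX f _ _ (IsPullback.of_hasPullback f f) ?_⟩
  rw [← Points.map_comp, pullback.diagonal_snd, Points.map_id]

theorem fieldInj_of_surjective_diagonal {f : X ⟶ Y} (hX : IsAlgSpace X)
    (h : IsSurjectiveMor (pullback.diagonal f)) : FieldInj f := by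
  intro K _ str a b hab
  let T : Over S := Over.mk str
  let l : (yon S).obj T ⟶ pullback f f := pullback.lift a b hab
  obtain ⟨E, i, fst, sq⟩ := representable_diagonal hX.diag f l
  have : Nonempty ↥E.left := by
    obtain ⟨x, hx⟩ := h (Points.ofPt l (IsLocalRing.closedPoint K : ↥T.left))
    obtain ⟨v, -, -⟩ := exists_pt_of_isPullback sq x (IsLocalRing.closedPoint K : ↥T.left) hx
    exact ⟨v⟩
  have : Mono ((yon S).map i) :=
    (MorphismProperty.monomorphisms _).of_isPullback sq
      (inferInstanceAs (Mono (pullback.diagonal f)))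
  have : Mono i := (yon S).mono_of_mono_map this
  have : Mono (i.left : E.left ⟶ Spec (CommRingCat.of K)) := Over.mono_left_of_mono i
  have : IsIso (i.left : E.left ⟶ Spec (CommRingCat.of K)) := isIso_of_mono_spec_field _
  have : IsIso ((Over.forget S).map i) := this
  have : IsIso i := isIso_of_reflects_iso i (Over.forget S)
  have e1 : fst = (yon S).map i ≫ a := by
    have := congrArg (· ≫ pullback.fst f f) sq.w
    simp only [l, Category.assoc, pullback.diagonal_fst, Category.comp_id] at this
    erw [pullback.lift_fst] at this
    exact this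
  have e2 : fst = (yon S).map i ≫ b := by
    have := congrArg (· ≫ pullback.snd f f) sq.w
    simp only [l, Category.assoc, pullback.diagonal_snd, Category.comp_id] at this
    erw [pullback.lift_snd] at this
    exact this
  exact (cancel_epi ((yon S).map i)).1 (e1.symm.trans e2)

theorem univInjective_of_fieldInj {f : X ⟶ Y} (h : FieldInj f) : IsUnivInjectiveMor f := by
  intro Z Z' _ g fst snd sq x y e
  induction x using Points.ind with
  | h p => induction y using Points.ind with
    | h q =>
      rw [Points.map_mk, Points.map_mk, Points.mk_eq_mk_iff] at e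
      obtain ⟨Ω, _, w, a, b, hab⟩ := e
      let A : (yon S).obj (Over.mk w) ⟶ Z' := (J S).uliftYonedaEquiv.symm (Z'.obj.map a.op p.val)
      let B : (yon S).obj (Over.mk w) ⟶ Z' := (J S).uliftYonedaEquiv.symm (Z'.obj.map b.op q.val)
      have hs : A ≫ snd = B ≫ snd := by
        apply (J S).uliftYonedaEquiv.injective
        rw [GrothendieckTopology.uliftYonedaEquiv_comp, GrothendieckTopology.uliftYonedaEquiv_comp]
        erw [Equiv.apply_symm_apply, Equiv.apply_symm_apply]
        exact (NatTrans.naturality_apply snd.hom a.op p.val).trans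
          (hab.trans (NatTrans.naturality_apply snd.hom b.op q.val).symm)
      have hf : A ≫ fst = B ≫ fst := h Ω w (by
        change (A ≫ fst) ≫ f = (B ≫ fst) ≫ f
        rw [Category.assoc, Category.assoc, sq.w, ← Category.assoc, hs, Category.assoc])
      have hAB : Z'.obj.map a.op p.val = Z'.obj.map b.op q.val :=
        (J S).uliftYonedaEquiv.symm.injective (sq.hom_ext hf hs)
      exact Points.sound ⟨Ω, inferInstance, w, a, b, hAB⟩

theorem isUnivInjectiveMor_iff_fieldInj {f : X ⟶ Y} (hX : IsAlgSpace X) :
    IsUnivInjectiveMor f ↔ FieldInj f :=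
  ⟨fun h => fieldInj_of_surjective_diagonal hX (surjective_diagonal_of_univInjective hX h),
    univInjective_of_fieldInj⟩

theorem isUnivInjectiveMor_iff_surjective_diagonal {f : X ⟶ Y} (hX : IsAlgSpace X) :
    IsUnivInjectiveMor f ↔ IsSurjectiveMor (pullback.diagonal f) :=
  ⟨surjective_diagonal_of_univInjective hX,
    fun h => univInjective_of_fieldInj (fieldInj_of_surjective_diagonal hX h)⟩

theorem injective_map_of_repWith {f : X ⟶ Y} (hf : RepWith @UniversallyInjective f) :
    Function.Injective (Points.map f) := by
  intro x y e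
  obtain ⟨T, g, t, ht, -⟩ := exists_ofPt_eq (Points.map f x)
  obtain ⟨V, s, p, sq⟩ := hf.rep g
  have : UniversallyInjective s.left := hf.property g p s sq
  obtain ⟨v, hv, hv'⟩ := exists_pt_of_isPullback sq x t ht.symm
  obtain ⟨w, hw, hw'⟩ := exists_pt_of_isPullback sq y t (e.symm.trans ht.symm)
  rw [← hv, ← hw, s.left.injective (hv'.trans hw'.symm)]

theorem repWith_universallyInjective_iff {f : X ⟶ Y} (hf : Representable f) :
    RepWith @UniversallyInjective f ↔ IsUnivInjectiveMor f := by
  constructor
  · intro h Z Z' _ g fst snd sq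
    exact injective_map_of_repWith ((repWith_isStableUnderBaseChange _).of_isPullback sq h)
  · intro h
    refine ⟨hf, fun T V g p s sq => ?_⟩
    change UniversallyInjective s.left
    rw [universallyInjective_eq]
    refine universally_of_repr (R := topologically (Function.Injective ·)) (f := f) ?_ sq
    intro T' V' g p s sq' v w e
    have hinj := h (IsAlgSpace.yon_obj T') g p _ sq'
    apply (Points.schemeHomeo V').injective
    apply hinj
    rw [Points.map_yon_map_apply, Points.map_yon_map_apply, e]

theorem surjective_diagonal_of_baseChange {f : X ⟶ Y} {g : Z ⟶ Y} {fst : P ⟶ X} {snd : P ⟶ Z}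
    (sq : IsPullback fst snd f g) (hg : IsSurjectiveMor g)
    (h : IsSurjectiveMor (pullback.diagonal snd)) : IsSurjectiveMor (pullback.diagonal f) := fun w => by
  let m := pullback.map snd snd f f fst fst g sq.w.symm sq.w.symm
  obtain ⟨z, hz⟩ := hg (Points.map (pullback.fst f f ≫ f) w)
  obtain ⟨r, hr, -⟩ := exists_of_isPullback (IsPullback.of_hasPullback (pullback.fst f f ≫ f) g) w z hz.symm
  let k : pullback (pullback.fst f f ≫ f) g ⟶ pullback snd snd :=
    pullback.lift
      (sq.lift (pullback.fst _ _ ≫ pullback.fst f f) (pullback.snd _ _)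
        (by rw [Category.assoc]; exact pullback.condition))
      (sq.lift (pullback.fst _ _ ≫ pullback.snd f f) (pullback.snd _ _)
        (by rw [Category.assoc, ← pullback.condition (f := f)]; exact pullback.condition))
      (by rw [sq.lift_snd, sq.lift_snd])
  have hk : k ≫ m = pullback.fst _ _ := by
    apply pullback.hom_ext
    · simp only [k, m, pullback.map, Category.assoc, pullback.lift_fst, pullback.lift_fst_assoc,
        sq.lift_fst]
    · simp only [k, m, pullback.map, Category.assoc, pullback.lift_snd, pullback.lift_snd_assoc,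
        sq.lift_fst]
  obtain ⟨q, hq⟩ := h (Points.map k r)
  refine ⟨Points.map fst q, ?_⟩
  rw [← Points.map_comp, (isPullback_diagonal_baseChange sq).w, Points.map_comp, hq,
    ← Points.map_comp]
  change Points.map (k ≫ m) r = w
  rw [hk, hr]

end Groth.Agent.SpPts86
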