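import Mathlib.AlgebraicGeometry.Morphisms.QuasiFinite
import Mathlib.AlgebraicGeometry.Morphisms.FormallyUnramified
import Mathlib.RingTheory.Unramified.LocalStructure
import Groth.Agent.SpFP87.EtLocInst
import Groth.Agent.SpPts86.LocPMore

/-!
Unramified morphisms are locally quasi-finite.
-/

universe u

set_option autoImplicit false

open CategoryTheory CategoryTheory.Limits AlgebraicGeometry

namespace Groth.Agent.SpPts86

theorem locallyQuasiFinite_of_unramified {X Y : Scheme.{u}} (f : X ⟶ Y)
    (h1 : LocallyOfFiniteType f) (h2 : FormallyUnramified f) : LocallyQuasiFinite f := by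
  refine (HasRingHomProperty.iff_appLE (P := @LocallyQuasiFinite) (f := f)).2 fun U V e => ?_
  have a1 := HasRingHomProperty.appLE @LocallyOfFiniteType f h1 U V e
  have a2 := HasRingHomProperty.appLE @FormallyUnramified f h2 U V e
  algebraize [(f.appLE U V e).hom]
  exact (inferInstance : Algebra.QuasiFinite Γ(Y, U.1) Γ(X, V.1))

theorem unramified_le_lqf :
    (@LocallyOfFiniteType ⊓ @FormallyUnramified : MorphismProperty Scheme.{u}) ≤
      (@LocallyQuasiFinite ⊓ @LocallyOfFiniteType : MorphismProperty Scheme.{u}) :=
  fun _ _ f h => ⟨locallyQuasiFinite_of_unramified f h.1 h.2, h.1⟩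

end Groth.Agent.SpPts86
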