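import Groth.Agent.SpFP87.Cover
import Groth.Agent.SpPts86.EqvRel

/-!
A map with fppf local lifts from a scheme is the coequalizer of its kernel pair.
-/

universe u

set_option autoImplicit false

open CategoryTheory CategoryTheory.Limits AlgebraicGeometry Opposite
open AlgSp Groth.Agent.SpFP87

namespace Groth.Agent.SpPts86

variable {S : Scheme.{u}} {F H : Sp S} {U : Over S} {p : (yon S).obj U ⟶ F}

instance fppfSurj_isStableUnderBaseChange :
    (fppfSurj : MorphismProperty Scheme.{u}).IsStableUnderBaseChange := by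
  unfold fppfSurj
  have := fun (P Q : MorphismProperty Scheme.{u}) (_ : P.IsStableUnderBaseChange)
      (_ : Q.IsStableUnderBaseChange) => MorphismProperty.IsStableUnderBaseChange.inf (P := P) (Q := Q)
  exact this _ _ (this _ _ inferInstance inferInstance) inferInstance

theorem existsUnique_desc (hp : LocLift p) (e : (yon S).obj U ⟶ H)
    (he : ∀ (W : Over S) (l l' : W ⟶ U), (yon S).map l ≫ p = (yon S).map l' ≫ p →
      (yon S).map l ≫ e = (yon S).map l' ≫ e)
    {T : Over S} (g : (yon S).obj T ⟶ F) :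
    ∃! a : (yon S).obj T ⟶ H, ∀ (W : Over S) (c : W ⟶ T) (l : W ⟶ U),
      (yon S).map l ≫ p = (yon S).map c ≫ g → (yon S).map c ≫ a = (yon S).map l ≫ e := by
  obtain ⟨W₀, c₀, l₀', hc₀, hl₀⟩ := hp T g
  obtain ⟨l₀, rfl⟩ := (yon S).map_surjective l₀'
  obtain ⟨a, ha, huniq⟩ := cover_existsUnique_desc c₀ hc₀ ((yon S).map l₀ ≫ e)
    (fun Z p₁ p₂ h => by
      rw [← Functor.map_comp_assoc, ← Functor.map_comp_assoc]
      refine he Z _ _ ?_
      rw [Functor.map_comp_assoc, Functor.map_comp_assoc, hl₀, ← Functor.map_comp_assoc,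
        ← Functor.map_comp_assoc, h])
  refine ⟨a, fun W c l hl => ?_, fun b hb => huniq b (hb W₀ c₀ l₀ hl₀)⟩
  have hc : fppfSurj (pullback.fst c c₀).left :=
    MorphismProperty.of_isPullback (P := fppfSurj)
      ((IsPullback.of_hasPullback c c₀).map (Over.forget S)).flip hc₀
  refine cover_hom_ext (pullback.fst c c₀) hc ?_
  rw [← Category.assoc, ← Functor.map_comp, pullback.condition, Functor.map_comp, Category.assoc,
    ha, ← Functor.map_comp_assoc, ← Functor.map_comp_assoc]
  refine he _ _ _ ?_
  rw [Functor.map_comp_assoc, Functor.map_comp_assoc, hl₀, hl, ← Functor.map_comp_assoc,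
    ← Functor.map_comp_assoc, pullback.condition]

/-- A morphism out of the source of a map with local lifts which is constant on fibres descends. -/
theorem exists_desc (hp : LocLift p) (e : (yon S).obj U ⟶ H)
    (he : ∀ (W : Over S) (l l' : W ⟶ U), (yon S).map l ≫ p = (yon S).map l' ≫ p →
      (yon S).map l ≫ e = (yon S).map l' ≫ e) :
    ∃ d : F ⟶ H, p ≫ d = e := by
  choose D hD hDu using fun (T : Over S) (g : (yon S).obj T ⟶ F) => existsUnique_desc hp e he g
  have hnat : ∀ {T T' : Over S} (φ : T' ⟶ T) (g : (yon S).obj T ⟶ F),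
      D T' ((yon S).map φ ≫ g) = (yon S).map φ ≫ D T g := fun {T T'} φ g =>
    (hDu T' _ _ fun W c l hl => by
      rw [← Functor.map_comp_assoc]
      exact hD T g W _ l (by rw [hl, Functor.map_comp_assoc])).symm
  have hD' : D U p = e :=
    (hDu U p e fun W c l hl => (he W c l hl.symm)).symm
  let d : F ⟶ H := ⟨{
    app := fun T => ↾fun x => uE (D T.unop (uE.symm x))
    naturality := by
      rintro ⟨T⟩ ⟨T'⟩ φ
      ext x
      change uE (D T' (uE.symm (F.obj.map φ x))) = H.obj.map φ (uE (D T (uE.symm x)))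
      rw [← φ.op_unop, GrothendieckTopology.uliftYonedaEquiv_naturality,
        ← GrothendieckTopology.uliftYonedaEquiv_symm_naturality_left, hnat] }⟩
  refine ⟨d, sp_hom_ext fun T g => (uE (S := S)).injective ?_⟩
  obtain ⟨g, rfl⟩ := (yon S).map_surjective g
  rw [← Category.assoc, GrothendieckTopology.uliftYonedaEquiv_comp]
  change uE (D T (uE.symm (uE ((yon S).map g ≫ p)))) = uE ((yon S).map g ≫ e)
  rw [Equiv.symm_apply_apply, hnat, hD']

theorem isColimit_cofork (hp : LocLift p) {R : Over S} {s t : R ⟶ U}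
    (sq : IsPullback ((yon S).map t) ((yon S).map s) p p) :
    Nonempty (IsColimit (Cofork.ofπ p sq.w)) := by
  have := hp.epi
  have key : ∀ c : Cofork ((yon S).map t) ((yon S).map s), ∃ d : F ⟶ c.pt, p ≫ d = c.π := fun c => by
    refine exists_desc hp c.π fun W l l' h => ?_
    rw [← sq.lift_fst _ _ h, Category.assoc, c.condition, ← Category.assoc, sq.lift_snd]
  choose d hd using key
  exact ⟨Cofork.IsColimit.mk _ d hd fun c m hm =>
    (cancel_epi p).1 (hm.trans (hd c).symm)⟩

end Groth.Agent.SpPts86
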