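import Mathlib.CategoryTheory.Sites.LocallySurjective
import Mathlib.CategoryTheory.MorphismProperty.Local
import Groth.Agent.SpPts86.Quot
import Groth.Agent.SpPts86.Subspace

/-!
Properties local on the target for fppf coverings descend along maps of sheaves with covering lifts.
-/

universe u

set_option autoImplicit false

open CategoryTheory CategoryTheory.Limits AlgebraicGeometry Opposite
open AlgSp Groth.Agent.SpFP87

namespace Groth.Agent.SpPts86

variable {S : Scheme.{u}} {F G H Q : Sp S}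

/-- Maps to the target lift on a covering sieve. -/
def CovLift (b : H ⟶ G) : Prop :=
  ∀ (T : Over S) (g : (yon S).obj T ⟶ G), ∃ R ∈ J S T, ∀ (W : Over S) (c : W ⟶ T), R c →
    ∃ l : (yon S).obj W ⟶ H, l ≫ b = (yon S).map c ≫ g

theorem covLift_of_locLift {b : H ⟶ G} (hb : LocLift b) : CovLift b := fun T g => by
  obtain ⟨W, c, l, hc, hl⟩ := hb T g
  refine ⟨_, generate_singleton_mem c hc, ?_⟩
  rintro W' c' ⟨W'', φ, e, he, rfl⟩
  cases he
  refine ⟨(yon S).map φ ≫ l, ?_⟩
  rw [Category.assoc, Functor.map_comp_assoc]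
  exact congrArg ((yon S).map φ ≫ ·) hl

theorem covLift_of_isLocallySurjective (b : H ⟶ G) [Sheaf.IsLocallySurjective b] : CovLift b :=
  fun T g => by
    refine ⟨_, Presheaf.imageSieve_mem (J S) b.hom (U := op T) (uE g), fun W c hc => ?_⟩
    obtain ⟨x, hx⟩ := hc
    refine ⟨uE.symm x, uE.injective ?_⟩
    rw [GrothendieckTopology.uliftYonedaEquiv_comp, Equiv.apply_symm_apply,
      ← GrothendieckTopology.uliftYonedaEquiv_naturality]
    exact hx

theorem isLocallySurjective_of_locLift {b : H ⟶ G} (hb : LocLift b) :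
    Sheaf.IsLocallySurjective b := by
  refine ⟨fun {T} x => ?_⟩
  obtain ⟨W, c, l, hc, hl⟩ := hb T (uE.symm x)
  refine GrothendieckTopology.superset_covering _ ?_ (generate_singleton_mem c hc)
  rw [Sieve.generate_le_iff]
  rintro W' c' ⟨⟩
  refine ⟨uE l, ?_⟩
  have := congrArg uE hl
  rw [GrothendieckTopology.uliftYonedaEquiv_comp, ← GrothendieckTopology.uliftYonedaEquiv_naturality,
    Equiv.apply_symm_apply] at this
  exact this

theorem CovLift.surjective_points {b : H ⟶ G} (hb : CovLift b) : IsSurjectiveMor b := by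
  intro y
  obtain ⟨T, g, t, rfl, -⟩ := exists_ofPt_eq y
  obtain ⟨R, hR, hl⟩ := hb T g
  obtain ⟨W, c, w, hc, rfl⟩ := exists_mem_of_mem_J hR t
  obtain ⟨l, hl⟩ := hl W c hc
  exact ⟨Points.ofPt l w, by rw [Points.map_ofPt, hl, ofPt_comp]⟩

section

variable (P : MorphismProperty Scheme.{u}) [P.IsStableUnderBaseChange]
  [P.IsLocalAtTarget Scheme.fppfPrecoverage]

theorem repWith_of_covLift {a : F ⟶ G} (ha : Representable a) {b : H ⟶ G} (hb : CovLift b)
    {b' : Q ⟶ F} {a' : Q ⟶ H} (sq : IsPullback b' a' a b) (h : RepWith P a') : RepWith P a := by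
  refine ⟨ha, fun T V g fst snd hsq => ?_⟩
  obtain ⟨R, hR, hl⟩ := hb T g
  have h' : Sieve.overEquiv T R ∈ Scheme.fppfTopology T.left :=
    (GrothendieckTopology.mem_over_iff _ _).1 hR
  have : Scheme.fppfPrecoverage.{u}.HasIsos := by
    unfold Scheme.fppfPrecoverage
    have : (@Flat ⊓ @LocallyOfFinitePresentation : MorphismProperty Scheme.{u}).ContainsIdentities :=
      ⟨fun X => ⟨(inferInstance : Flat (𝟙 X)), (inferInstance : LocallyOfFinitePresentation (𝟙 X))⟩⟩
    have : (@Flat ⊓ @LocallyOfFinitePresentation : MorphismProperty Scheme.{u}).RespectsIso :=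
      (MorphismProperty.IsStableUnderBaseChange.inf).respectsIso
    infer_instance
  rw [Precoverage.mem_toGrothendieck_iff_of_isStableUnderComposition] at h'
  obtain ⟨R', hR', hle⟩ := h'
  refine MorphismProperty.IsLocalAtTarget.of_forall_pullbackSnd (P := P) hR' fun {W c _} hc => ?_
  let W' : Over S := Over.mk (c ≫ T.hom)
  let c' : W' ⟶ T := Over.homMk c rfl
  have hRc : R c' := (Sieve.overEquiv_iff R c).1 (hle _ c hc)
  obtain ⟨l, hl⟩ := hl W' c' hRc
  obtain ⟨V', snd', fst', sq'⟩ := h.1 l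
  have hP : P snd'.left := h.2 l fst' snd' sq'
  have sq1 : IsPullback (fst' ≫ b') ((yon S).map snd') a ((yon S).map c' ≫ g) := by
    rw [← hl]
    exact sq'.paste_horiz sq
  have sq2 := IsPullback.of_right
    (h₁₁ := hsq.lift (fst' ≫ b') ((yon S).map (snd' ≫ c'))
      (by rw [sq1.w, Functor.map_comp, Category.assoc]))
    (v₁₂ := (yon S).map snd) (h₂₁ := (yon S).map c') (v₁₁ := (yon S).map snd')
    (by rw [hsq.lift_fst]; exact sq1) (by rw [hsq.lift_snd, Functor.map_comp]) hsq
  obtain ⟨φ, hφ⟩ := (yon S).map_surjective (hsq.lift (fst' ≫ b') ((yon S).map (snd' ≫ c'))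
      (by rw [sq1.w, Functor.map_comp, Category.assoc]))
  rw [← hφ] at sq2
  have sq3 : IsPullback φ.left snd'.left snd.left c :=
    (IsPullback.of_map_of_faithful (yon S) sq2).map (Over.forget S)
  have := P.cancel_left_of_respectsIso sq3.isoPullback.hom (pullback.snd snd.left c)
  rw [sq3.isoPullback_hom_snd] at this
  exact this.1 hP

theorem repWith_of_locLift {a : F ⟶ G} (ha : Representable a) {b : H ⟶ G} (hb : LocLift b)
    {b' : Q ⟶ F} {a' : Q ⟶ H} (sq : IsPullback b' a' a b) (h : RepWith P a') : RepWith P a :=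
  repWith_of_covLift P ha (covLift_of_locLift hb) sq h

theorem repWith_iff_of_chart {a : F ⟶ G} (ha : Representable a) {U V : Over S}
    {q : (yon S).obj U ⟶ G} (hqe : RepWith @Etale q) (hqs : RepWith @Surjective q)
    {fst : (yon S).obj V ⟶ F} {g : V ⟶ U} (sq : IsPullback fst ((yon S).map g) a q) :
    RepWith P a ↔ P g.left :=
  ⟨fun h => h.2 q fst g sq, fun h =>
    repWith_of_locLift P ha (locLift_of_atlas hqe hqs) sq ((repWith_yon_map_iff P g).2 h)⟩

end

end Groth.Agent.SpPts86
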