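import Mathlib.AlgebraicGeometry.Morphisms.QuasiFinite
import Groth.Agent.SpPts86.Target
import Groth.Agent.SpPts86.FppfLocal

/-!
The diagonal of an algebraic space is a monomorphism, separated, locally of finite type and
locally quasi-finite.
-/

universe u

set_option autoImplicit false

open CategoryTheory CategoryTheory.Limits AlgebraicGeometry Opposite
open AlgSp Groth.Agent.SpFP87

namespace Groth.Agent.SpPts86

variable {S : Scheme.{u}} {F G : Sp S}

set_option backward.isDefEq.respectTransparency.types false in
theorem isLocalAtTarget_lft :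
    MorphismProperty.IsLocalAtTarget (@LocallyOfFiniteType : MorphismProperty Scheme.{u})
      Scheme.fppfPrecoverage :=
  isLocalAtTarget_fppf _

theorem mono_left_of_mono {U V : Over S} (f : U ⟶ V) [Mono f] : Mono f.left :=
  inferInstanceAs (Mono ((Over.forget S).map f))

/-- Every represented base change of a monomorphism is a monomorphism of schemes. -/
theorem repWith_monomorphisms_of_mono {a : F ⟶ G} [Mono a] (ha : Representable a) :
    RepWith (MorphismProperty.monomorphisms Scheme.{u}) a := by
  refine ⟨ha, fun U V g fst snd sq => ?_⟩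
  have : Mono ((yon S).map snd) :=
    MorphismProperty.of_isPullback (P := MorphismProperty.monomorphisms (Sp S)) sq ‹Mono a›
  have : Mono snd := (yon S).mono_of_mono_map this
  exact mono_left_of_mono snd

theorem monomorphisms_le_isSeparated :
    MorphismProperty.monomorphisms Scheme.{u} ≤ @IsSeparated := fun _ _ f (_ : Mono f) => inferInstance

theorem mono_inf_lft_le_lqf :
    (MorphismProperty.monomorphisms Scheme.{u} ⊓ @LocallyOfFiniteType) ≤ @LocallyQuasiFinite := by
  rintro X Y f ⟨(_ : Mono f), _⟩
  exact LocallyQuasiFinite.of_injective f.injective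

theorem repWith_inf {P Q : MorphismProperty Scheme.{u}} {a : F ⟶ G} (hP : RepWith P a)
    (hQ : RepWith Q a) : RepWith (P ⊓ Q) a :=
  ⟨hP.1, fun _ _ g fst snd sq => ⟨hP.2 g fst snd sq, hQ.2 g fst snd sq⟩⟩

/-- Maps to a product lift along a product of maps with local lifts. -/
theorem locLift_prod_map {F' G' : Sp S} {p : F ⟶ G} {q : F' ⟶ G'} (hp : LocLift p)
    (hq : LocLift q) : LocLift (prod.map p q) := fun T g => by
  obtain ⟨W, c, l, hc, hl⟩ := hp T (g ≫ prod.fst)
  obtain ⟨W', c', l', hc', hl'⟩ := hq W ((yon S).map c ≫ g ≫ prod.snd)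
  refine ⟨W', c' ≫ c, prod.lift ((yon S).map c' ≫ l) l', ?_, ?_⟩
  · obtain ⟨_, _, _⟩ := (fppfSurj_iff _).1 hc
    obtain ⟨_, _, _⟩ := (fppfSurj_iff _).1 hc'
    exact (fppfSurj_iff _).2 ⟨(inferInstance : Surjective (c'.left ≫ c.left)),
      (inferInstance : Flat (c'.left ≫ c.left)),
      (inferInstance : LocallyOfFinitePresentation (c'.left ≫ c.left))⟩
  · apply Limits.prod.hom_ext
    · simp only [Category.assoc, prod.map_fst, prod.lift_fst_assoc, hl, Functor.map_comp]
    · simp only [Category.assoc, prod.map_snd, prod.lift_snd_assoc, hl', Functor.map_comp]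

theorem isPullback_diag_of_kernelPair {R : Sp S} {t s : R ⟶ G} {p : G ⟶ F}
    (sq : IsPullback t s p p) :
    IsPullback (t ≫ p) (prod.lift t s) (Limits.diag F) (prod.map p p) := by
  have w : (t ≫ p) ≫ Limits.diag F = prod.lift t s ≫ prod.map p p := by
    apply Limits.prod.hom_ext
    · simp only [Category.assoc, prod.lift_fst, prod.map_fst, prod.lift_fst_assoc, Category.comp_id]
    · simp only [Category.assoc, prod.lift_snd, prod.map_snd, prod.lift_snd_assoc, Category.comp_id,
        sq.w]
  have hc : ∀ c : PullbackCone (Limits.diag F) (prod.map p p),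
      c.fst = c.snd ≫ prod.fst ≫ p ∧ c.fst = c.snd ≫ prod.snd ≫ p := fun c => by
    have h1 := congrArg (· ≫ prod.fst) c.condition
    have h2 := congrArg (· ≫ prod.snd) c.condition
    simp only [Category.assoc, prod.lift_fst, prod.lift_snd, prod.map_fst, prod.map_snd,
      Category.comp_id] at h1 h2
    exact ⟨h1, h2⟩
  refine ⟨⟨w⟩, ⟨PullbackCone.IsLimit.mk _
    (fun c => sq.lift (c.snd ≫ prod.fst) (c.snd ≫ prod.snd)
      (by rw [Category.assoc, Category.assoc, ← (hc c).1, ← (hc c).2]))
    (fun c => by rw [← Category.assoc, sq.lift_fst, Category.assoc, ← (hc c).1])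
    (fun c => ?_) (fun c m _ h₂ => ?_)⟩⟩
  · apply Limits.prod.hom_ext
    · simp only [Category.assoc, prod.lift_fst, sq.lift_fst]
    · simp only [Category.assoc, prod.lift_snd, sq.lift_snd]
  · apply sq.hom_ext
    · rw [sq.lift_fst, ← h₂, Category.assoc, prod.lift_fst]
    · rw [sq.lift_snd, ← h₂, Category.assoc, prod.lift_snd]

/-- Kernel pair maps into the product are locally of finite type. -/
theorem repWith_lft_prod_lift {R U : Over S} {s t : R ⟶ U} [LocallyOfFiniteType t.left] :
    RepWith @LocallyOfFiniteType (prod.lift ((yon S).map t) ((yon S).map s)) := by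
  have e : prod.lift ((yon S).map t) ((yon S).map s) =
      (yon S).map (prod.lift t s) ≫ prodComparison (yon S) U U := by
    apply Limits.prod.hom_ext
    · simp only [Category.assoc, prodComparison_fst, ← Functor.map_comp, prod.lift_fst]
    · simp only [Category.assoc, prodComparison_snd, ← Functor.map_comp, prod.lift_snd]
  have : LocallyOfFiniteType ((prod.lift t s).left ≫ (prod.fst : U ⨯ U ⟶ U).left) := by
    rw [← Over.comp_left, prod.lift_fst]
    infer_instance
  rw [e, MorphismProperty.cancel_right_of_respectsIso (RepWith @LocallyOfFiniteType)]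
  exact (repWith_yon_map_iff _ _).2
    (locallyOfFiniteType_of_comp (prod.lift t s).left (prod.fst : U ⨯ U ⟶ U).left)

theorem repWith_lft_diag (hF : IsAlgSpace F) :
    RepWith @LocallyOfFiniteType (Limits.diag F) := by
  obtain ⟨U, p, he, hs⟩ := hF.atlas
  obtain ⟨R, t, s, sq⟩ := exists_isPullback_yon hF.diag p p
  have : Etale t.left := (etale_of_isPullback he sq).2
  have := isLocalAtTarget_lft.{u}
  exact repWith_of_locLift _ hF.diag
    (locLift_prod_map (locLift_of_atlas he hs) (locLift_of_atlas he hs))
    (isPullback_diag_of_kernelPair sq) repWith_lft_prod_lift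

theorem repWith_mono_diag (hF : IsAlgSpace F) :
    RepWith (MorphismProperty.monomorphisms Scheme.{u}) (Limits.diag F) :=
  repWith_monomorphisms_of_mono hF.diag

theorem repWith_separated_diag (hF : IsAlgSpace F) : RepWith @IsSeparated (Limits.diag F) :=
  repWith_mono monomorphisms_le_isSeparated (repWith_mono_diag hF)

theorem repWith_lqf_diag (hF : IsAlgSpace F) : RepWith @LocallyQuasiFinite (Limits.diag F) :=
  repWith_mono mono_inf_lft_le_lqf (repWith_inf (repWith_mono_diag hF) (repWith_lft_diag hF))

end Groth.Agent.SpPts86
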