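import Groth.Agent.SpPts86.AffineDescent
import Groth.Agent.SpPts86.Props
import Groth.Agent.SpPts86.DiagProps
import Groth.Agent.Desc59.DDFppf
import Groth.Agent.S1402

/-!
Representability descends along fppf coverings for classes of morphisms with effective descent,
in particular for separated locally quasi-finite morphisms.
-/

universe u

set_option autoImplicit false

open CategoryTheory CategoryTheory.Limits AlgebraicGeometry
open AlgSp Groth.Agent.SpFP87

namespace Groth.Agent.SpPts86

variable {S : Scheme.{u}} {F G : Sp S}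

/-- Descent data with the property are effective for fppf coverings. -/
def HasEffDescent (P : MorphismProperty Scheme.{u}) : Prop :=
  ∀ ⦃X' S' : Scheme.{u}⦄ (p : X' ⟶ S'), Surjective p → Flat p → LocallyOfFinitePresentation p →
    ∀ D : Desc.SchDD p, P D.obj.hom → (Desc.toDD p).essImage D

theorem representable_of_local_effective {P : MorphismProperty Scheme.{u}} (hP : HasEffDescent P)
    {a : F ⟶ G}
    (h : ∀ (T : Over S) (g : (yon S).obj T ⟶ G), ∃ (W : Over S) (c : W ⟶ T) (V : Over S)
      (s : V ⟶ W) (p : (yon S).obj V ⟶ F), fppfSurj c.left ∧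
        IsPullback p ((yon S).map s) a ((yon S).map c ≫ g) ∧ P s.left) :
    Representable a := fun T g => by
  obtain ⟨W, c, V, s, p, hc, sq, hs⟩ := h T g
  obtain ⟨h1, h2, h3⟩ := (fppfSurj_iff _).1 hc
  obtain ⟨U, ⟨i⟩⟩ := hP c.left h1 h2 h3 (ddOfSquare sq) hs
  obtain ⟨V₀, s₀, p₀, sq₀⟩ := exists_isPullback_of_effective sq hc i
  exact ⟨V₀, s₀, p₀, sq₀⟩

theorem representable_of_locLift_effective {P : MorphismProperty Scheme.{u}} (hP : HasEffDescent P)
    {a : F ⟶ G} {H Q : Sp S} {b : H ⟶ G} (hb : LocLift b)
    {b' : Q ⟶ F} {a' : Q ⟶ H} (sq : IsPullback b' a' a b) (h : RepWith P a') :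
    Representable a := by
  refine representable_of_local_effective hP fun T g => ?_
  obtain ⟨W, c, l, hc, hl⟩ := hb T g
  obtain ⟨V, s, p, sq'⟩ := h.rep l
  refine ⟨W, c, V, s, p ≫ b', hc, ?_, h.property l p s sq'⟩
  rw [← hl]
  exact sq'.paste_horiz sq

/-- Separated, locally quasi-finite and locally of finite type. -/
abbrev sepLQF : MorphismProperty Scheme.{u} :=
  @IsSeparated ⊓ (@LocallyQuasiFinite ⊓ @LocallyOfFiniteType)

theorem hasEffDescent_sepLQF : HasEffDescent sepLQF.{u} := fun _ _ p h1 h2 h3 D hD => by
  have : IsSeparated D.obj.hom := hD.1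
  have : LocallyQuasiFinite D.obj.hom := hD.2.1
  have : LocallyOfFiniteType D.obj.hom := hD.2.2
  exact Desc59.effective_of_isIndQuasiAffineHom' p D (S1402.result D.obj.hom)

set_option backward.isDefEq.respectTransparency.types false in
theorem isSeparated_descends :
    MorphismProperty.DescendsAlong (@IsSeparated : MorphismProperty Scheme.{u}) fppfMor :=
  descends_fppf_of_fpqc _ Unr55.isSeparated

set_option backward.isDefEq.respectTransparency.types false in
theorem sepLQF_descends : MorphismProperty.DescendsAlong sepLQF.{u} fppfMor := by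
  have := isSeparated_descends.{u}
  have : MorphismProperty.DescendsAlong (@LocallyQuasiFinite : MorphismProperty Scheme.{u}) fppfMor :=
    lqf_descends.{u}
  have : MorphismProperty.DescendsAlong (@LocallyOfFiniteType : MorphismProperty Scheme.{u}) fppfMor :=
    lft_descends.{u}
  infer_instance

set_option backward.isDefEq.respectTransparency.types false in
instance isStableUnderBaseChange_sepLQF : sepLQF.{u}.IsStableUnderBaseChange :=
  inferInstance

set_option backward.isDefEq.respectTransparency.types false in
instance isZariskiLocalAtTarget_sepLQF : IsZariskiLocalAtTarget sepLQF.{u} :=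
  inferInstance

theorem isLocalAtTarget_sepLQF : sepLQF.{u}.IsLocalAtTarget Scheme.fppfPrecoverage := by
  have := sepLQF_descends.{u}
  exact isLocalAtTarget_fppf _

theorem repWith_sepLQF_of_locLift {a : F ⟶ G} {H Q : Sp S} {b : H ⟶ G} (hb : LocLift b)
    {b' : Q ⟶ F} {a' : Q ⟶ H} (sq : IsPullback b' a' a b) (h : RepWith sepLQF a') :
    RepWith sepLQF a := by
  have := isLocalAtTarget_sepLQF.{u}
  exact repWith_of_locLift _ (representable_of_locLift_effective hasEffDescent_sepLQF hb sq h) hb sq h

theorem mono_inf_lft_le_sepLQF :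
    (MorphismProperty.monomorphisms Scheme.{u} ⊓ @LocallyOfFiniteType) ≤ sepLQF.{u} :=
  fun _ _ f h => ⟨monomorphisms_le_isSeparated f h.1, mono_inf_lft_le_lqf f h, h.2⟩

end Groth.Agent.SpPts86
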