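import Groth.Agent.Topos46.Quot
import Groth.Agent.Grpd80.QuotSheaf
import Groth.Agent.SpPts86.EffDescent
import Groth.Agent.SpPts86.CovSigma

/-!
The quotient sheaf of an equivalence relation on a scheme; it is an algebraic space when the
relation is etale.
-/

universe u

set_option autoImplicit false

open CategoryTheory CategoryTheory.Limits AlgebraicGeometry
open AlgSp Groth.Agent.SpFP87

namespace Groth.Agent.SpPts86

variable {S : Scheme.{u}} {R U : Over S} {s t : R ⟶ U} {F : Sp S}

theorem isEquivalenceRelation_yon (h : IsEqvRel s t) :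
    IsEquivalenceRelation ((yon S).map t) ((yon S).map s) := by
  obtain ⟨r₀, hr₁, hr₂⟩ := (h.equivalence U).refl (𝟙 U)
  obtain ⟨σ, hσ₁, hσ₂⟩ := (h.equivalence R).symm (x := t) (y := s) ⟨𝟙 R, by simp, by simp⟩
  obtain ⟨τ, hτ₁, hτ₂⟩ := (h.equivalence (pullback s t)).trans
    (x := pullback.fst s t ≫ t) (y := pullback.fst s t ≫ s) (z := pullback.snd s t ≫ s)
    ⟨pullback.fst s t, rfl, rfl⟩ ⟨pullback.snd s t, pullback.condition.symm, rfl⟩
  have hj : JointlyMono₂ ((yon S).map t) ((yon S).map s) := ⟨fun Y f g e₁ e₂ => sp_hom_ext fun T x => by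
    obtain ⟨a, ha⟩ := (yon S).map_surjective (x ≫ f)
    obtain ⟨b, hb⟩ := (yon S).map_surjective (x ≫ g)
    rw [← ha, ← hb, h.injective T a b]
    · exact (yon S).map_injective (by
        rw [Functor.map_comp, Functor.map_comp, ha, hb, Category.assoc, Category.assoc, e₁])
    · exact (yon S).map_injective (by
        rw [Functor.map_comp, Functor.map_comp, ha, hb, Category.assoc, Category.assoc, e₂])⟩
  have sq := (IsPullback.of_hasPullback s t).map (yon S)
  exact ⟨⟨{ right_cancellation := hj.right_cancellation
            r := (yon S).map r₀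
            reflexivity₁ := by rw [← Functor.map_comp, hr₁, CategoryTheory.Functor.map_id]
            reflexivity₂ := by rw [← Functor.map_comp, hr₂, CategoryTheory.Functor.map_id]
            s := (yon S).map σ
            symmetry₁ := by rw [← Functor.map_comp, hσ₁]
            symmetry₂ := by rw [← Functor.map_comp, hσ₂]
            c := sq.cone
            isLimit := sq.isLimit
            t := (yon S).map τ
            transitivity₁ := by
              change (yon S).map τ ≫ _ = (yon S).map (pullback.fst s t) ≫ _
              rw [← Functor.map_comp, ← Functor.map_comp, hτ₁]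
            transitivity₂ := by
              change (yon S).map τ ≫ _ = (yon S).map (pullback.snd s t) ≫ _
              rw [← Functor.map_comp, ← Functor.map_comp, hτ₂] }⟩⟩

/-- The projection onto the quotient sheaf from the Yoneda sheaf. -/
noncomputable abbrev quotMap (s t : R ⟶ U) :
    (yon S).obj U ⟶ QuotSh.quot Scheme.fppfPrecoverage s t :=
  (QuotSh.repIsoUliftYoneda Scheme.fppfPrecoverage U).inv ≫ QuotSh.quotπ Scheme.fppfPrecoverage s t

theorem quotMap_condition (s t : R ⟶ U) :
    (yon S).map t ≫ quotMap s t = (yon S).map s ≫ quotMap s t := by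
  have e : ∀ g : R ⟶ U, (yon S).map g ≫ (QuotSh.repIsoUliftYoneda Scheme.fppfPrecoverage U).inv =
      (QuotSh.repIsoUliftYoneda Scheme.fppfPrecoverage R).inv ≫
        QuotSh.repMap Scheme.fppfPrecoverage g := fun g => by
    rw [Iso.eq_inv_comp, ← Category.assoc, Iso.comp_inv_eq]
    exact (Grpd80.repMap_comp_iso g).symm
  rw [quotMap, ← Category.assoc, e, ← Category.assoc, e, Category.assoc, Category.assoc,
    QuotSh.quot_condition]

theorem epi_quotMap (s t : R ⟶ U) : Epi (quotMap s t) := by
  have : Epi (QuotSh.quotπ Scheme.fppfPrecoverage s t) := coequalizer.π_epi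
  exact epi_comp _ _

theorem quotMap_kernelPair (h : IsEqvRel s t) :
    IsPullback ((yon S).map t) ((yon S).map s) (quotMap s t) (quotMap s t) := by
  have := isEquivalenceRelation_yon h
  obtain ⟨⟨e⟩⟩ := (Topos46.isUniversallyEffective_sheaf
    ((yon S).map t) ((yon S).map s)).nonempty_universallyEffectiveEquivalenceRelation
  let hc := e.isCoequalizer
  obtain ⟨d, hd⟩ := Cofork.IsColimit.desc' hc (quotMap s t) (quotMap_condition s t)
  change e.π ≫ d = quotMap s t at hd
  let iU := QuotSh.repIsoUliftYoneda Scheme.fppfPrecoverage U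
  let d' : QuotSh.quot Scheme.fppfPrecoverage s t ⟶ e.B := coequalizer.desc (iU.hom ≫ e.π) (by
    rw [← Category.assoc, ← Category.assoc, Grpd80.repMap_comp_iso, Grpd80.repMap_comp_iso,
      Category.assoc, Category.assoc, e.isKernelPair.w])
  have hd' : quotMap s t ≫ d' = e.π := by
    rw [quotMap, Category.assoc,
      show QuotSh.quotπ Scheme.fppfPrecoverage s t ≫ d' = iU.hom ≫ e.π from coequalizer.π_desc _ _,
      Iso.inv_hom_id_assoc]
  have := epi_quotMap s t
  let i : e.B ≅ QuotSh.quot Scheme.fppfPrecoverage s t :=
    ⟨d, d', Cofork.IsColimit.hom_ext hc (by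
        change e.π ≫ d ≫ d' = e.π ≫ 𝟙 _
        rw [← Category.assoc, hd, hd', Category.comp_id]),
      by rw [← cancel_epi (quotMap s t), ← Category.assoc, hd', hd, Category.comp_id]⟩
  exact IsPullback.of_iso e.isKernelPair (Iso.refl _) (Iso.refl _) (Iso.refl _) i
    (by simp) (by simp) (by simp [i, hd]) (by simp [i, hd])

theorem locLift_quotMap (s t : R ⟶ U) : LocLift (quotMap s t) := by
  have := epi_quotMap s t
  exact locLift_of_epi

/-- A sheaf with a locally liftable map from a scheme whose kernel pair is an etale relation is an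
algebraic space, and the map is an atlas. -/
theorem isAlgSpace_of_kernelPair {p : (yon S).obj U ⟶ F} (hp : LocLift p)
    (sq : IsPullback ((yon S).map t) ((yon S).map s) p p) [Etale s.left] [Etale t.left] :
    IsAlgSpace F ∧ RepWith @Etale p ∧ RepWith @Surjective p := by
  have hl := locLift_prod_map hp hp
  have sqd := isPullback_diag_of_kernelPair sq
  have hj : Mono (prod.lift ((yon S).map t) ((yon S).map s)) := ⟨fun a b e => sq.hom_ext
    (by simpa only [Category.assoc, prod.lift_fst] using congrArg (· ≫ prod.fst) e)
    (by simpa only [Category.assoc, prod.lift_snd] using congrArg (· ≫ prod.snd) e)⟩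
  have hlft : RepWith @LocallyOfFiniteType (prod.lift ((yon S).map t) ((yon S).map s)) :=
    repWith_lft_prod_lift
  have hd : RepWith sepLQF (prod.lift ((yon S).map t) ((yon S).map s)) :=
    repWith_mono mono_inf_lft_le_sepLQF
      (repWith_inf (repWith_monomorphisms_of_mono hlft.rep) hlft)
  have hdiag : Representable (Limits.diag F) :=
    representable_of_locLift_effective hasEffDescent_sepLQF hl sqd hd
  have hrep : Representable p := Functor.relativelyRepresentable.of_diag hdiag p
  have : MorphismProperty.DescendsAlong (@Etale : MorphismProperty Scheme.{u}) fppfMor :=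
    etale_descends.{u}
  have := isLocalAtTarget_fppf.{u} (@Etale : MorphismProperty Scheme.{u})
  have he : RepWith @Etale p :=
    repWith_of_locLift _ hrep hp sq ((repWith_yon_map_iff _ _).2 (inferInstance : Etale s.left))
  have hs : RepWith @Surjective p :=
    (repWith_surjective_iff hrep).2 ((covLift_of_locLift hp).surjective_points)
  exact ⟨⟨hdiag, U, p, he, hs⟩, he, hs⟩

theorem quotMap_atlas (h : IsEtaleEqvRel s t) :
    IsAlgSpace (QuotSh.quot Scheme.fppfPrecoverage s t) ∧
      RepWith @Etale (quotMap s t) ∧ RepWith @Surjective (quotMap s t) := by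
  have := h.etale_left
  have := h.etale_right
  exact isAlgSpace_of_kernelPair (locLift_quotMap s t) (quotMap_kernelPair h.toIsEqvRel)

end Groth.Agent.SpPts86
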