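import Groth.Prelude.Def_AlgSp4
import Groth.Agent.SpPts86.Compact
import Groth.Agent.SpPts86.Subspace
import Groth.Agent.SpPts86.EqvRel

/-!
Affine charts of algebraic spaces lying over affine opens of the base.
-/

universe u

set_option autoImplicit false

open CategoryTheory CategoryTheory.Limits AlgebraicGeometry
open AlgSp

namespace Groth.Agent.SpPts86

variable {S : Scheme.{u}} {F : Sp S}

/-- Affine opens of a chart lying over an affine open of the base. -/
abbrev GoodOpens (U : Over S) : Type u :=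
  {V : U.left.affineOpens // ∃ W : S.Opens, IsAffineOpen W ∧ ∀ v ∈ V.1, U.hom v ∈ W}

theorem exists_goodOpens (U : Over S) (t : ↥U.left) : ∃ V : GoodOpens U, t ∈ V.1.1 := by
  obtain ⟨W, hW, htW, -⟩ := exists_isAffineOpen_mem_and_subset (x := U.hom t) (U := ⊤) trivial
  obtain ⟨V, hV, htV, hVW⟩ := exists_isAffineOpen_mem_and_subset (x := t) (U := U.hom ⁻¹ᵁ W) htW
  exact ⟨⟨⟨V, hV⟩, W, hW, fun v hv => hVW hv⟩, htV⟩

theorem exists_restrict_chart {U : Over S} {p : (yon S).obj U ⟶ F}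
    (hF : IsAlgSpace F) (hp : RepWith @Etale p) (V : U.left.Opens) :
    ∃ (q : (yon S).obj (Over.mk (V.ι ≫ U.hom)) ⟶ restrictSheaf F (Points.ofPt p '' (V : Set ↥U.left))),
      RepWith @Etale q ∧ RepWith @Surjective q := by
  let Vo : Over S := Over.mk (V.ι ≫ U.hom)
  let φ : Vo ⟶ U := Over.homMk V.ι rfl
  have hr : Set.range φ.left = (V : Set ↥U.left) := V.range_ι
  obtain ⟨q, hq⟩ := exists_restrict_lift (W := Points.ofPt p '' (V : Set ↥U.left))
    ((yon S).map φ ≫ p) (by
      rintro - ⟨v, rfl⟩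
      rw [ofPt_comp]
      exact ⟨_, hr.le ⟨v, rfl⟩, rfl⟩)
  have : Etale φ.left := inferInstanceAs (Etale V.ι)
  have he : RepWith @Etale q := repWith_of_comp_mono (restrictι F _) (by
    rw [hq]; exact repWith_etale_comp φ hp)
  refine ⟨q, he, repWith_surjective_of_surjective_ofPt he.rep fun x => ?_⟩
  obtain ⟨t, ht, htx⟩ := (range_map_restrictι (isOpenMap_ofPt hp _ V.2)).le ⟨x, rfl⟩
  obtain ⟨v, rfl⟩ := hr.ge ht
  refine ⟨v, injective_map_of_mono (restrictι F _) ?_⟩
  rw [Points.map_ofPt, hq, ofPt_comp, htx]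
  rfl

end Groth.Agent.SpPts86
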