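import Groth.Agent.SpPts86.Props
import Groth.Agent.AlgSt88.DiagLFT
import Groth.Agent.SpFP87.FpqcBase

/-!
Properties local on source and target descend along maps with fppf local lifts.
-/

universe u

set_option autoImplicit false

open CategoryTheory CategoryTheory.Limits AlgebraicGeometry
open AlgSp Groth.Agent.SpFP87

namespace Groth.Agent.SpPts86

variable {S : Scheme.{u}} {X Y X' Y' : Sp S}

theorem locP_of_locLift {P : MorphismProperty Scheme.{u}} [EtLoc P] [P.DescendsAlong fppfSurj]
    {fst : X' ⟶ X} {snd : X' ⟶ Y'} {f : X ⟶ Y} {g : Y' ⟶ Y} (sq : IsPullback fst snd f g)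
    (hX : IsAlgSpace X) (hY : IsAlgSpace Y) (hY' : IsAlgSpace Y') (hg : LocLift g)
    (h : LocP P snd) : LocP P f := by
  obtain ⟨V, b, hb, hbs⟩ := hY.atlas
  have sqV := IsPullback.of_hasPullback f b
  have hXV := isAlgSpace_of_isPullback sqV hX (IsAlgSpace.yon_obj V) hY.diag
  refine locP_of_atlas_baseChange sqV hX hY hb hbs ?_
  obtain ⟨W, c, l, hc, hl⟩ := hg V b
  have sq2 := IsPullback.of_hasPullback (pullback.snd f b) ((yon S).map c)
  refine AlgSt88.locP_descend hXV c hc sq2 ?_
  have big : IsPullback (pullback.fst (pullback.snd f b) ((yon S).map c) ≫ pullback.fst f b)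
      (pullback.snd (pullback.snd f b) ((yon S).map c)) f (l ≫ g) := by
    rw [hl]; exact sq2.paste_horiz sqV
  have hr : IsPullback (sq.lift (pullback.fst (pullback.snd f b) ((yon S).map c) ≫ pullback.fst f b)
      (pullback.snd (pullback.snd f b) ((yon S).map c) ≫ l) (by rw [Category.assoc]; simpa using big.w))
      (pullback.snd (pullback.snd f b) ((yon S).map c)) snd l :=
    IsPullback.of_right (by rw [sq.lift_fst]; exact big) (sq.lift_snd _ _ _) sq
  exact locP_baseChange hr (isAlgSpace_of_isPullback sq hX hY' hY.diag) hY' (IsAlgSpace.yon_obj W) h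

end Groth.Agent.SpPts86
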