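import Groth.Agent.FlatMor68.ResidueNbhd
import Mathlib.RingTheory.RingHom.StandardSmooth
import Mathlib.AlgebraicGeometry.Morphisms.Smooth
import Mathlib.AlgebraicGeometry.Morphisms.UniversallyOpen
import Mathlib.AlgebraicGeometry.PullbackCarrier
import Mathlib.FieldTheory.PerfectClosure
import Mathlib.FieldTheory.IsAlgClosed.AlgebraicClosure
import Mathlib.Algebra.MvPolynomial.Funext
import Mathlib.RingTheory.Etale.StandardEtale

/-!
Smooth morphisms have sections etale locally.
-/

universe u

set_option autoImplicit false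

open CategoryTheory CategoryTheory.Limits AlgebraicGeometry Polynomial

namespace Groth.Agent.SpPts86

theorem exists_separable_point {K : Type u} [Field K] {n : ℕ} (h : MvPolynomial (Fin n) K) (hh : h ≠ 0) :
    ∃ (k : Type u) (_ : Field k) (_ : Algebra K k) (_ : FiniteDimensional K k) (_ : Algebra.IsSeparable K k)
      (a : Fin n → k), MvPolynomial.aeval a h ≠ 0 := by
  classical
  have main : ∀ (L : Type u) [Field L] [Algebra K L] [Infinite L] [Algebra.IsSeparable K L],
      ∃ (k : Type u) (_ : Field k) (_ : Algebra K k) (_ : FiniteDimensional K k) (_ : Algebra.IsSeparable K k)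
        (a : Fin n → k), MvPolynomial.aeval a h ≠ 0 := by
    intro L _ _ _ _
    obtain ⟨a, ha⟩ : ∃ a : Fin n → L, MvPolynomial.aeval a h ≠ 0 := by
      by_contra! hc
      apply hh
      apply MvPolynomial.map_injective _ (FaithfulSMul.algebraMap_injective K L)
      rw [map_zero]
      refine MvPolynomial.funext fun a => ?_
      rw [MvPolynomial.eval_map, map_zero]
      exact hc a
    let k := IntermediateField.adjoin K (Set.range a)
    have : FiniteDimensional K k := IntermediateField.finiteDimensional_adjoin fun x _ =>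
      Algebra.IsIntegral.isIntegral x
    refine ⟨k, inferInstance, inferInstance, this, Algebra.isSeparable_tower_bot_of_isSeparable K k L,
      fun i => ⟨a i, IntermediateField.subset_adjoin _ _ ⟨i, rfl⟩⟩, fun e => ha ?_⟩
    have := congrArg k.val e
    rw [map_zero, MvPolynomial.comp_aeval_apply] at this
    exact this
  rcases finite_or_infinite K with hK | hK
  · have : Algebra.IsSeparable K (AlgebraicClosure K) := Algebra.IsAlgebraic.isSeparable_of_perfectField
    exact main (AlgebraicClosure K)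
  · exact main K

/-- The etale algebra through which a nonvanishing locus of the affine space has a point. -/
theorem exists_etale_point {R : Type u} [CommRing R] (p : Ideal R) [p.IsPrime] {n : ℕ}
    (h : MvPolynomial (Fin n) R) (hh : h.map (algebraMap R p.ResidueField) ≠ 0) :
    ∃ (E : Type u) (_ : CommRing E) (_ : Algebra R E), Algebra.Etale R E ∧
      ∃ (P : PrimeSpectrum E) (α : MvPolynomial (Fin n) R →ₐ[R] E),
        P.asIdeal.comap (algebraMap R E) = p ∧ α h ∉ P.asIdeal := by
  classical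
  let K := p.ResidueField
  let ψ := algebraMap R K
  have hψ : ∀ c : K, ∃ a b, ψ b ≠ 0 ∧ c * ψ b = ψ a := by
    intro c
    obtain ⟨c, rfl⟩ := Ideal.Quotient.mk_surjective c
    obtain ⟨⟨a, b⟩, e⟩ := IsLocalization.surj p.primeCompl c
    refine ⟨a, b, fun hb => b.2 (by
      have := RingHom.mem_ker.2 hb
      rwa [Ideal.ker_algebraMap_residueField] at this), ?_⟩
    change IsLocalRing.residue _ c * IsLocalRing.residue _ (algebraMap R _ b) = IsLocalRing.residue _ (algebraMap R _ a)
    rw [← map_mul, e]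
  obtain ⟨k, _, _, _, _, a, ha⟩ := exists_separable_point _ hh
  obtain ⟨θ, F, hF, hθF, hθF', hgen⟩ := FlatMor68.ResidueNbhd.exists_monic_primitive_separable (k := k) ψ hψ
  letI : Algebra R k := ((algebraMap K k).comp ψ).toAlgebra
  haveI : IsScalarTower R K k := IsScalarTower.of_algebraMap_eq fun _ => rfl
  have hfrac : ∀ Q : K[X], ∃ (G : R[X]) (b : R), ψ b ≠ 0 ∧ Polynomial.aeval θ Q * algebraMap R k b = Polynomial.aeval θ G := by
    intro Q
    induction Q using Polynomial.induction_on' with
    | add Q₁ Q₂ h₁ h₂ =>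
      obtain ⟨G₁, b₁, hb₁, e₁⟩ := h₁
      obtain ⟨G₂, b₂, hb₂, e₂⟩ := h₂
      refine ⟨G₁ * C b₂ + G₂ * C b₁, b₁ * b₂, by rw [map_mul]; exact mul_ne_zero hb₁ hb₂, ?_⟩
      simp only [map_add, map_mul, Polynomial.aeval_C, ← e₁, ← e₂]
      ring
    | monomial i c =>
      obtain ⟨a, b, hb, e⟩ := hψ c
      refine ⟨Polynomial.monomial i a, b, hb, ?_⟩
      rw [Polynomial.aeval_monomial, Polynomial.aeval_monomial, mul_right_comm]
      congr 1
      change algebraMap K k c * algebraMap K k (ψ b) = algebraMap K k (ψ a)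
      rw [← map_mul, e]
  have hcoord : ∀ i, ∃ (G : R[X]) (b : R), ψ b ≠ 0 ∧ a i * algebraMap R k b = Polynomial.aeval θ G := by
    intro i
    have hy : a i ∈ Algebra.adjoin K {θ} := by
      rw [← IntermediateField.adjoin_simple_toSubalgebra_of_isAlgebraic
        (Algebra.IsIntegral.isIntegral (R := K) θ).isAlgebraic, hgen]
      trivial
    rw [Algebra.adjoin_singleton_eq_range_aeval] at hy
    obtain ⟨Q, hQ⟩ := hy
    obtain ⟨G, b, hb, e⟩ := hfrac Q
    exact ⟨G, b, hb, by rw [← e, ← hQ]; rfl⟩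
  choose G b hb hG using hcoord
  let d := ∏ i, b i
  have hd : ψ d ≠ 0 := by rw [map_prod]; exact Finset.prod_ne_zero_iff.2 fun i _ => hb i
  let P : StandardEtalePair R := ⟨F, hF, derivative F * C d, C d, 0, 1, by ring⟩
  have hmap : P.HasMap θ := by
    refine ⟨hθF, ?_⟩
    rw [isUnit_iff_ne_zero, map_mul, Polynomial.aeval_C]
    exact mul_ne_zero hθF' (by
      change algebraMap K k (ψ d) ≠ 0
      rwa [Ne, map_eq_zero_iff _ (algebraMap K k).injective])
  let e := P.lift θ hmap
  have hX := (StandardEtalePair.hasMap_X (P := P)).2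
  rw [map_mul, Polynomial.aeval_C] at hX
  have hunit : ∀ i, IsUnit (algebraMap R P.Ring (b i)) := fun i =>
    isUnit_of_dvd_unit (map_dvd _ (Finset.dvd_prod_of_mem b (Finset.mem_univ i)))
      (isUnit_of_mul_isUnit_right hX)
  let α : MvPolynomial (Fin n) R →ₐ[R] P.Ring :=
    MvPolynomial.aeval fun i => Polynomial.aeval P.X (G i) * ↑(hunit i).unit⁻¹
  have hα : e.comp α = MvPolynomial.aeval a := by
    refine MvPolynomial.algHom_ext fun i => ?_
    rw [AlgHom.comp_apply, MvPolynomial.aeval_X, MvPolynomial.aeval_X, map_mul, ← Polynomial.aeval_algHom_apply,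
      StandardEtalePair.lift_X, ← hG i, mul_assoc, ← AlgHom.commutes e, ← map_mul, IsUnit.mul_val_inv,
      map_one, mul_one]
  refine ⟨P.Ring, inferInstance, inferInstance, inferInstance, ⟨RingHom.ker e.toRingHom, RingHom.ker_isPrime _⟩,
    α, ?_, fun hmem => ha ?_⟩
  · ext r
    rw [Ideal.mem_comap, RingHom.mem_ker]
    change e (algebraMap R P.Ring r) = 0 ↔ _
    rw [AlgHom.commutes]
    change algebraMap K k (ψ r) = 0 ↔ _
    rw [map_eq_zero_iff _ (algebraMap K k).injective, ← RingHom.mem_ker, Ideal.ker_algebraMap_residueField]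
  · have h1 : MvPolynomial.aeval a h = 0 := by rw [← hα]; exact hmem
    rw [MvPolynomial.aeval_map_algebraMap]
    exact h1

/-- Every point in the image of a smooth morphism has an etale neighbourhood with a section. -/
theorem exists_etale_section {X S : Scheme.{u}} (f : X ⟶ S) [Smooth f] (x : ↥X) :
    ∃ (S' : Scheme.{u}) (g : S' ⟶ S) (s' : S'), Etale g ∧ g s' = f x ∧ ∃ h : S' ⟶ X, h ≫ f = g := by
  obtain ⟨U, hU, V, hV, hxV, e, hsm⟩ := Smooth.exists_isStandardSmooth f x
  algebraize [(f.appLE U V e).hom]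
  obtain ⟨ι, σ, _, _, ⟨P⟩⟩ := Algebra.IsStandardSmooth.out (R := Γ(S, U)) (S := Γ(X, V))
  have : Algebra.IsStandardSmoothOfRelativeDimension P.dimension Γ(S, U) Γ(X, V) :=
    ⟨⟨ι, σ, inferInstance, inferInstance, P, rfl⟩⟩
  obtain ⟨g, hg⟩ := Algebra.IsStandardSmoothOfRelativeDimension.exists_etale_mvPolynomial
    (n := P.dimension) (R := Γ(S, U)) (S := Γ(X, V))
  let A : CommRingCat.{u} := CommRingCat.of (MvPolynomial (Fin P.dimension) Γ(S, U))
  let gA : A ⟶ Γ(X, V) := CommRingCat.ofHom g.toRingHom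
  have : Etale (Spec.map gA) := (HasRingHomProperty.Spec_iff (P := @Etale)).2 hg
  let q := hV.primeIdealOf ⟨x, hxV⟩
  obtain ⟨-, ⟨h, rfl⟩, hQ, hsub⟩ := PrimeSpectrum.isTopologicalBasis_basic_opens.exists_subset_of_mem_open
    (Set.mem_range_self (f := Spec.map gA) q) (Spec.map gA).isOpenMap.isOpen_range
  let p : PrimeSpectrum Γ(S, U) := Spec.map (f.appLE U V e) q
  have hh : h.map (algebraMap Γ(S, U) p.asIdeal.ResidueField) ≠ 0 := by
    intro h0
    apply hQ
    change g h ∈ q.asIdeal
    rw [← RingHom.mem_ker, MvPolynomial.ker_map, Ideal.ker_algebraMap_residueField] at h0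
    have : (p.asIdeal.map MvPolynomial.C) ≤ q.asIdeal.comap g.toRingHom :=
      Ideal.map_le_iff_le_comap.2 fun r hr => by
        change g (MvPolynomial.C r) ∈ q.asIdeal
        rw [← MvPolynomial.algebraMap_eq, AlgHom.commutes]
        exact hr
    exact this h0
  obtain ⟨E, _, _, hE, P₀, α, hP₀, hαh⟩ := exists_etale_point p.asIdeal h hh
  let αA : A ⟶ CommRingCat.of E := CommRingCat.ofHom α.toRingHom
  obtain ⟨q', hq'⟩ := hsub (show Spec.map αA P₀ ∈ PrimeSpectrum.basicOpen h from hαh)
  have : Etale (Spec.map (CommRingCat.ofHom (algebraMap Γ(S, U) E))) :=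
    (HasRingHomProperty.Spec_iff (P := @Etale)).2 (RingHom.etale_algebraMap.2 hE)
  obtain ⟨z, hz, -⟩ := Scheme.Pullback.exists_preimage_pullback (f := Spec.map αA) (g := Spec.map gA) P₀ q' hq'.symm
  have h1 : CommRingCat.ofHom (algebraMap Γ(S, U) A) ≫ αA = CommRingCat.ofHom (algebraMap Γ(S, U) E) :=
    CommRingCat.hom_ext α.comp_algebraMap
  have h2 : CommRingCat.ofHom (algebraMap Γ(S, U) A) ≫ gA = f.appLE U V e :=
    CommRingCat.hom_ext g.comp_algebraMap
  refine ⟨pullback (Spec.map αA) (Spec.map gA),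
    pullback.fst (Spec.map αA) (Spec.map gA) ≫ Spec.map (CommRingCat.ofHom (algebraMap Γ(S, U) E)) ≫ hU.fromSpec,
    z, inferInstance, ?_, pullback.snd (Spec.map αA) (Spec.map gA) ≫ hV.fromSpec, ?_⟩
  · rw [Scheme.Hom.comp_apply, Scheme.Hom.comp_apply, hz]
    have hp : Spec.map (CommRingCat.ofHom (algebraMap Γ(S, U) E)) P₀ = p := PrimeSpectrum.ext hP₀
    rw [hp]
    change hU.fromSpec (Spec.map (f.appLE U V e) (hV.primeIdealOf ⟨x, hxV⟩)) = f x
    rw [← Scheme.Hom.comp_apply, hU.SpecMap_appLE_fromSpec f hV e, Scheme.Hom.comp_apply, hV.fromSpec_primeIdealOf]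
  · have h2' := congrArg Spec.map h2
    rw [Spec.map_comp] at h2'
    rw [Category.assoc, ← hU.SpecMap_appLE_fromSpec f hV e, ← h1, ← h2', Spec.map_comp,
      Category.assoc, Category.assoc, reassoc_of% pullback.condition]

end Groth.Agent.SpPts86
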