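import Groth.Agent.SpPts86.BootSpace
import Groth.Agent.SpPts86.SmoothSection
import Groth.Agent.SpFP87.SourceLocal
import Groth.Agent.SpFP87.EtaleMor
import Groth.Agent.SpPts86.LocPDescent
import Mathlib.CategoryTheory.Limits.Shapes.FunctorToTypes
import Mathlib.CategoryTheory.Sites.LocallyBijective

/-!
Etale sheaves with a smooth cover by a space are algebraic spaces.
-/

universe u

set_option autoImplicit false

open CategoryTheory CategoryTheory.Limits AlgebraicGeometry Opposite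
open AlgSp Groth.Agent.SpFP87

namespace Groth.Agent.SpPts86

variable {S : Scheme.{u}} {F : PSp S} {M : Over S}

theorem etale_singleton_mem {W T : Over S} (c : W ⟶ T) [Etale c.left] [Surjective c.left] :
    Sieve.generate (Presieve.singleton c) ∈ QuotSh.J Scheme.etalePrecoverage S T := by
  rw [GrothendieckTopology.mem_over_iff, Sieve.overEquiv_generate]
  refine GrothendieckTopology.superset_covering _ ?_
    (Precoverage.generate_mem_toGrothendieck
      (singleton_mem_precoverage_of_le (Q := (@Etale : MorphismProperty Scheme.{u})) c.left ‹_› ‹_›))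
  rw [Sieve.generate_le_iff]
  rintro Z f ⟨⟩
  exact Sieve.le_generate _ _ _ ⟨W, c, 𝟙 _, ⟨⟩, by simp⟩

theorem isSheaf_etale (F : Sp S) : Presheaf.IsSheaf (QuotSh.J Scheme.etalePrecoverage S) F.obj := by
  refine (isSheaf_iff_isSheaf_of_type _ _).2
    (Presieve.isSheaf_of_le F.obj (fun T R hR => ?_) ((isSheaf_iff_isSheaf_of_type _ _).1 F.property))
  rw [GrothendieckTopology.mem_over_iff] at hR ⊢
  exact Precoverage.toGrothendieck_mono (Scheme.precoverage_mono fun X Y f hf => by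
    have := hf
    exact ⟨(inferInstance : Flat f), (inferInstance : LocallyOfFinitePresentation f)⟩) _ hR

theorem exists_etale_lift {V T : Over S} (v : V ⟶ T) [Smooth v.left] [Surjective v.left] :
    ∃ (W : Over S) (c : W ⟶ T) (l : W ⟶ V), Etale c.left ∧ Surjective c.left ∧ l ≫ v = c := by
  choose S' g s' hg hgs hh hh' using fun t : ↥T.left =>
    exists_etale_section v.left (Classical.choose (v.left.surjective t))
  let W : ↥T.left → Over S := fun t => Over.mk (g t ≫ T.hom)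
  let c : ∀ t, W t ⟶ T := fun t => Over.homMk (g t) rfl
  let l : ∀ t, W t ⟶ V := fun t => Over.homMk (hh t) (by
    change hh t ≫ V.hom = g t ≫ T.hom
    rw [← hh' t, Category.assoc, Over.w])
  refine ⟨sigmaOver W, sigmaOut c, sigmaOut l, IsZariskiLocalAtSource.sigmaDesc (P := @Etale) hg, ⟨fun t => ?_⟩, ?_⟩
  · refine ⟨(sigmaIn W t).left (s' t), ?_⟩
    rw [← Scheme.Hom.comp_apply, ← Over.comp_left, sigmaIn_out]
    exact (hgs t).trans (Classical.choose_spec (v.left.surjective t))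
  · refine Over.OverMorphism.ext (Sigma.hom_ext _ _ fun t => ?_)
    change (sigmaIn W t).left ≫ (sigmaOut l ≫ v).left = (sigmaIn W t).left ≫ (sigmaOut c).left
    rw [← Over.comp_left, ← Over.comp_left, sigmaIn_out, ← Category.assoc, sigmaIn_out]
    exact hh' t

theorem exists_etale_lift_space {K : Sp S} {T : Over S} (hK : IsAlgSpace K) (s : K ⟶ (yon S).obj T)
    (hs : LocP @Smooth s) (hsurj : IsSurjectiveMor s) :
    ∃ (W : Over S) (c : W ⟶ T) (k : (yon S).obj W ⟶ K),
      Etale c.left ∧ Surjective c.left ∧ k ≫ s = (yon S).map c := by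
  obtain ⟨V, a, ha, has⟩ := hK.atlas
  obtain ⟨v, hv⟩ := (yon S).map_surjective (a ≫ s)
  have : Smooth v.left := locP_apply hs ha hv.symm
  have : Surjective v.left := ⟨fun t => by
    obtain ⟨x, hx⟩ := hsurj (Points.ofScheme T t)
    obtain ⟨y, rfl⟩ := surjective_ofPt has x
    refine ⟨y, (Points.schemeHomeo T).injective ?_⟩
    rw [Points.map_ofPt, ← hv, ofPt_yon_map] at hx
    exact hx⟩
  obtain ⟨W, c, l, h1, h2, hl⟩ := exists_etale_lift v
  exact ⟨W, c, (yon S).map l ≫ a, h1, h2, by rw [Category.assoc, ← hv, ← Functor.map_comp, hl]⟩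

/-- An element is given by its morphism. -/
theorem exists_hom_of_elem {G : PSp S} (π : (pyon S).obj M ⟶ G) {T : Over S} (l : T ⟶ M) :
    uliftYonedaEquiv.{u + 1} ((pyon S).map l ≫ π) = π.app (op T) ⟨l⟩ := by
  change π.app (op T) ⟨𝟙 T ≫ l⟩ = _
  rw [Category.id_comp]

/-- An etale sheaf with an etale locally surjective map from a scheme whose kernel pair is a space,
smooth over the scheme. -/
theorem isAlgSpaceP_of_kernelPair {K : Sp S} (hF : Presheaf.IsSheaf (QuotSh.J Scheme.etalePrecoverage S) F)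
    (π : (pyon S).obj M ⟶ F) (t s : K ⟶ (yon S).obj M) (sq : IsPullback t.hom s.hom π π)
    (hK : IsAlgSpace K) (hs : LocP @Smooth s)
    (hlift : ∀ (T : Over S) (x : (pyon S).obj T ⟶ F), ∃ (W : Over S) (c : W ⟶ T) (l : W ⟶ M),
      Etale c.left ∧ Surjective c.left ∧ (pyon S).map l ≫ π = (pyon S).map c ≫ x) : IsAlgSpaceP F := by
  have key : ∀ {Z : Sp S} (a b : Z ⟶ (yon S).obj M),
      (∃ r : Z ⟶ K, r ≫ t = a ∧ r ≫ s = b) ↔ a.hom ≫ π = b.hom ≫ π := by
    intro Z a b
    constructor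
    · rintro ⟨r, rfl, rfl⟩
      exact (Category.assoc _ _ _).trans ((congrArg (r.hom ≫ ·) sq.w).trans (Category.assoc _ _ _).symm)
    · intro h
      exact ⟨ObjectProperty.homMk (sq.lift _ _ h), ObjectProperty.hom_ext _ (sq.lift_fst _ _ h),
        ObjectProperty.hom_ext _ (sq.lift_snd _ _ h)⟩
  have hE : IsEqvRelSp s t := {
    injective := fun T r r' h₁ h₂ => ObjectProperty.hom_ext _
      (sq.hom_ext (congrArg (·.hom) h₁) (congrArg (·.hom) h₂))
    equivalence := fun T => by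
      simp only [key]
      exact ⟨fun _ => rfl, Eq.symm, Eq.trans⟩ }
  let π' := quotSpπ s t
  have sq' := quotSp_kernelPair hE
  have hfl : LocP @Flat s := LocP.of_le (fun _ _ f hf => by haveI := hf; exact inferInstance) hs
  have hfp : LocP @LocallyOfFinitePresentation s :=
    LocP.of_le (fun _ _ f hf => by haveI := hf; exact inferInstance) hs
  have hQ := isAlgSpace_quotSp hK (IsAlgSpace.yon_obj M) hE hfl hfp
  have : MorphismProperty.DescendsAlong (@Smooth : MorphismProperty Scheme.{u}) fppfSurj := smooth_descends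
  have hπ' : LocP @Smooth π' :=
    locP_of_locLift sq' (IsAlgSpace.yon_obj M) hQ (IsAlgSpace.yon_obj M) (locLift_quotSpπ s t) hs
  let φ : (pyon S).obj M ⟶ FunctorToTypes.prod F (quotSp s t).obj := FunctorToTypes.prod.lift π π'.hom
  let I := Subfunctor.range φ
  let i₁ : I.toFunctor ⟶ F := I.ι ≫ FunctorToTypes.prod.fst
  let i₂ : I.toFunctor ⟶ (quotSp s t).obj := I.ι ≫ FunctorToTypes.prod.snd
  have hker : ∀ {T : Over S} (l l' : T ⟶ M), π.app (op T) ⟨l⟩ = π.app (op T) ⟨l'⟩ ↔
      π'.hom.app (op T) ⟨l⟩ = π'.hom.app (op T) ⟨l'⟩ := by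
    intro T l l'
    have h2 : ∀ m : T ⟶ M, π'.hom.app (op T) ⟨m⟩ = uliftYonedaEquiv.{u + 1} (((yon S).map m ≫ π').hom) :=
      fun m => (exists_hom_of_elem π'.hom m).symm
    rw [← exists_hom_of_elem, ← exists_hom_of_elem, h2, h2, uliftYonedaEquiv.injective.eq_iff,
      uliftYonedaEquiv.injective.eq_iff]
    refine (key ((yon S).map l) ((yon S).map l')).symm.trans ⟨fun ⟨r, h1, h2⟩ => ?_, fun h => ?_⟩
    · rw [← h1, ← h2, Category.assoc, Category.assoc, sq'.w]
    · have h' := ObjectProperty.hom_ext _ h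
      exact ⟨sq'.lift _ _ h', sq'.lift_fst _ _ _, sq'.lift_snd _ _ _⟩
  have : Presheaf.IsLocallyInjective (QuotSh.J Scheme.etalePrecoverage S) i₁ :=
    Presheaf.isLocallyInjective_of_injective _ _ fun ⟨T⟩ ⟨_, ⟨l⟩, rfl⟩ ⟨_, ⟨l'⟩, rfl⟩ e =>
      Subtype.ext (Prod.ext e ((hker l l').1 e))
  have : Presheaf.IsLocallyInjective (QuotSh.J Scheme.etalePrecoverage S) i₂ :=
    Presheaf.isLocallyInjective_of_injective _ _ fun ⟨T⟩ ⟨_, ⟨l⟩, rfl⟩ ⟨_, ⟨l'⟩, rfl⟩ e =>
      Subtype.ext (Prod.ext ((hker l l').2 e) e)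
  have : Presheaf.IsLocallySurjective (QuotSh.J Scheme.etalePrecoverage S) i₁ := by
    refine ⟨fun {T} x => ?_⟩
    obtain ⟨W, c, l, hc, hcs, hl⟩ := hlift T (uliftYonedaEquiv.{u + 1}.symm x)
    refine GrothendieckTopology.superset_covering _ ?_ (etale_singleton_mem c)
    rw [Sieve.generate_le_iff]
    rintro Z f ⟨⟩
    refine ⟨(Subfunctor.toRange φ).app (op W) ⟨l⟩, ?_⟩
    have e := congrArg uliftYonedaEquiv.{u + 1} hl
    rw [exists_hom_of_elem] at e
    exact e.trans ((uliftYonedaEquiv_naturality.{u + 1} (uliftYonedaEquiv.{u + 1}.symm x) c.op).symm.trans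
      (congrArg _ (Equiv.apply_symm_apply _ x)))
  have : Presheaf.IsLocallySurjective (QuotSh.J Scheme.etalePrecoverage S) i₂ := by
    refine ⟨fun {T} z => ?_⟩
    let g : (yon S).obj T ⟶ quotSp s t := ObjectProperty.homMk (uliftYonedaEquiv.{u + 1}.symm z)
    have sqP := IsPullback.of_hasPullback π' g
    obtain ⟨W, c, k, hc, hcs, hk⟩ := exists_etale_lift_space
      (isAlgSpace_of_isPullback sqP (IsAlgSpace.yon_obj M) (IsAlgSpace.yon_obj T) hQ.diag) (pullback.snd π' g)
      (locP_baseChange sqP (IsAlgSpace.yon_obj M) hQ (IsAlgSpace.yon_obj T) hπ')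
      (covLift_of_locLift ((locLift_quotSpπ s t).baseChange sqP)).surjective_points
    obtain ⟨l, hl⟩ := (yon S).map_surjective (k ≫ pullback.fst π' g)
    refine GrothendieckTopology.superset_covering _ ?_ (etale_singleton_mem c)
    rw [Sieve.generate_le_iff]
    rintro Z f ⟨⟩
    refine ⟨(Subfunctor.toRange φ).app (op W) ⟨l⟩, ?_⟩
    have h1 : (yon S).map l ≫ π' = (yon S).map c ≫ g := by
      rw [hl, Category.assoc, pullback.condition, reassoc_of% hk]
    have e : uliftYonedaEquiv.{u + 1} ((pyon S).map l ≫ π'.hom) =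
        uliftYonedaEquiv.{u + 1} ((pyon S).map c ≫ uliftYonedaEquiv.{u + 1}.symm z) :=
      congrArg (fun m => uliftYonedaEquiv.{u + 1} m.hom) h1
    rw [exists_hom_of_elem] at e
    exact e.trans ((uliftYonedaEquiv_naturality.{u + 1} (uliftYonedaEquiv.{u + 1}.symm z) c.op).symm.trans
      (congrArg _ (Equiv.apply_symm_apply _ z)))
  have hW₁ := (QuotSh.J Scheme.etalePrecoverage S).W_of_isLocallyBijective i₁
  have hW₂ := (QuotSh.J Scheme.etalePrecoverage S).W_of_isLocallyBijective i₂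
  obtain ⟨e, he⟩ := (hW₁ _ (isSheaf_etale (quotSp s t))).2 i₂
  obtain ⟨e', he'⟩ := (hW₂ _ hF).2 i₁
  change i₁ ≫ e = i₂ at he
  change i₂ ≫ e' = i₁ at he'
  have h1 : e ≫ e' = 𝟙 F := (hW₁ _ hF).1 (by
    change i₁ ≫ e ≫ e' = i₁ ≫ 𝟙 F
    rw [← Category.assoc, he, he', Category.comp_id])
  have h2 : e' ≫ e = 𝟙 _ := (hW₂ _ (isSheaf_etale (quotSp s t))).1 (by
    change i₂ ≫ e' ≫ e = i₂ ≫ 𝟙 _
    rw [← Category.assoc, he', he, Category.comp_id])
  exact ((isAlgSpaceP_obj_iff _).2 hQ).of_iso ⟨e', e, h2, h1⟩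

/-- The fibre product of a chart of a smooth cover with a scheme. -/
theorem exists_smooth_kernel {X : Sp S} (hX : IsAlgSpace X) {p : X.obj ⟶ F}
    (hp : RepBySpWith (IsSurjectiveMor ⊓ LocP @Smooth) p) {a : (yon S).obj M ⟶ X}
    (ha : RepWith @Etale a) (has : RepWith @Surjective a) (T : Over S) (x : (pyon S).obj T ⟶ F) :
    ∃ (K : Sp S) (t : K ⟶ (yon S).obj M) (s : K ⟶ (yon S).obj T),
      IsPullback t.hom s.hom (a.hom ≫ p) x ∧ IsAlgSpace K ∧ LocP @Smooth s ∧ IsSurjectiveMor s := by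
  obtain ⟨hP, hPa, hPs, hPl⟩ := hp x _ _ (IsPullback.of_hasPullback p x)
  let P : Sp S := ⟨pullback p x, hP⟩
  let pf : P ⟶ X := ObjectProperty.homMk (pullback.fst p x)
  let ps : P ⟶ (yon S).obj T := ObjectProperty.homMk (pullback.snd p x)
  have sqK := IsPullback.of_hasPullback a pf
  have hK := isAlgSpace_of_isPullback sqK (IsAlgSpace.yon_obj M) hPa hX.diag
  have hKs : RepWith @Surjective (pullback.snd a pf) :=
    (repWith_isStableUnderBaseChange _).of_isPullback sqK has
  refine ⟨_, pullback.fst a pf, pullback.snd a pf ≫ ps, ?_, hK, ?_, fun y => ?_⟩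
  · have h1 := (sqK.map (sheafToPresheaf (J S) (Type (u + 1)))).paste_vert
      (IsPullback.of_hasPullback p x : IsPullback pf.hom ps.hom p x)
    exact h1
  · exact locP_comp hK hPa (IsAlgSpace.yon_obj T)
      (LocP.of_le (fun _ _ f hf => by haveI := hf; exact inferInstance)
        (locP_of_repWith hK.diag hPa ((repWith_isStableUnderBaseChange _).of_isPullback sqK ha))) hPl
  · obtain ⟨z, hz⟩ := hPs y
    obtain ⟨w, hw⟩ := (repWith_surjective_iff hKs.rep).1 hKs z
    exact ⟨w, (Points.map_comp _ _ _).trans ((congrArg _ hw).trans hz)⟩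

theorem isAlgSpaceP_of_smooth_cover (hF : Presheaf.IsSheaf (QuotSh.J Scheme.etalePrecoverage S) F)
    {X : Sp S} (hX : IsAlgSpace X) (p : X.obj ⟶ F)
    (hp : RepBySpWith (IsSurjectiveMor ⊓ LocP @Smooth) p) : IsAlgSpaceP F := by
  obtain ⟨M, a, ha, has⟩ := hX.atlas
  obtain ⟨K, t, s, sq, hK, hs, -⟩ := exists_smooth_kernel hX hp ha has M (a.hom ≫ p)
  refine isAlgSpaceP_of_kernelPair hF (a.hom ≫ p) t s sq hK hs fun T x => ?_
  obtain ⟨K', t', s', sq', hK', hs', hsurj⟩ := exists_smooth_kernel hX hp ha has T x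
  obtain ⟨W, c, k, hc, hcs, hk⟩ := exists_etale_lift_space hK' s' hs' hsurj
  obtain ⟨l, hl⟩ := (yon S).map_surjective (k ≫ t')
  refine ⟨W, c, l, hc, hcs, ?_⟩
  have h1 : (pyon S).map l = k.hom ≫ t'.hom := congrArg (·.hom) hl
  have h2 : k.hom ≫ s'.hom = (pyon S).map c := congrArg (·.hom) hk
  exact (congrArg (· ≫ a.hom ≫ p) h1).trans ((Category.assoc _ _ _).trans ((congrArg (k.hom ≫ ·) sq'.w).trans
    ((Category.assoc _ _ _).symm.trans (congrArg (· ≫ x) h2))))

end Groth.Agent.SpPts86
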