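import Groth.Agent.SpPts86.QuotSpace
import Groth.Agent.SpPts86.Subspace
import Groth.Prelude.Def_AlgSpGpd

/-!
Quotient sheaves of pre-equivalence relations of sheaves: two points with the same image are
related locally.
-/

universe u

set_option autoImplicit false

open CategoryTheory CategoryTheory.Limits AlgebraicGeometry
open AlgSp Groth.Agent.SpFP87

namespace Groth.Agent.SpPts86

variable {S : Scheme.{u}} {F G H R U M : Sp S}

theorem fppfSurj_comp {A B C : Over S} {c : A ⟶ B} {d : B ⟶ C} (hc : fppfSurj c.left)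
    (hd : fppfSurj d.left) : fppfSurj (c ≫ d).left := by
  obtain ⟨_, _, _⟩ := (fppfSurj_iff _).1 hc
  obtain ⟨_, _, _⟩ := (fppfSurj_iff _).1 hd
  exact (fppfSurj_iff (c.left ≫ d.left)).2 ⟨inferInstance, inferInstance, inferInstance⟩

theorem fppfSurj_id (A : Over S) : fppfSurj (𝟙 A : A ⟶ A).left :=
  (fppfSurj_iff _).2 ⟨(inferInstance : Surjective (𝟙 A.left)), (inferInstance : Flat (𝟙 A.left)),
    (inferInstance : LocallyOfFinitePresentation (𝟙 A.left))⟩

/-- Two covers have a common refinement. -/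
theorem exists_common_refinement {A B T : Over S} {c : A ⟶ T} {d : B ⟶ T} (hc : fppfSurj c.left)
    (hd : fppfSurj d.left) :
    ∃ (W : Over S) (e : W ⟶ T) (a : W ⟶ A) (b : W ⟶ B),
      fppfSurj e.left ∧ a ≫ c = e ∧ b ≫ d = e :=
  ⟨pullback c d, pullback.fst c d ≫ c, pullback.fst c d, pullback.snd c d,
    fppfSurj_comp (MorphismProperty.of_isPullback (P := fppfSurj)
      ((IsPullback.of_hasPullback c d).map (Over.forget S)).flip hd) hc, rfl,
    pullback.condition.symm⟩

theorem locLift_comp {f : F ⟶ G} {g : G ⟶ H} (hf : LocLift f) (hg : LocLift g) : LocLift (f ≫ g) :=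
  fun T x => by
    obtain ⟨W, c, l, hc, hl⟩ := hg T x
    obtain ⟨W', c', l', hc', hl'⟩ := hf W l
    exact ⟨W', c' ≫ c, l', fppfSurj_comp hc' hc,
      by rw [← Category.assoc, hl', Category.assoc, hl, Functor.map_comp, Category.assoc]⟩

/-- A map factors through a monomorphism as soon as it does so locally. -/
theorem exists_factor_of_local {j : F ⟶ G} [Mono j] (f : H ⟶ G)
    (h : ∀ (T : Over S) (a : (yon S).obj T ⟶ H), ∃ (W : Over S) (c : W ⟶ T) (l : (yon S).obj W ⟶ F),
      fppfSurj c.left ∧ l ≫ j = (yon S).map c ≫ a ≫ f) :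
    ∃ g : H ⟶ F, g ≫ j = f :=
  exists_factor_of_forall_yon f fun T a => by
    obtain ⟨W, c, l, hc, hl⟩ := h T a
    obtain ⟨b, hb, -⟩ := cover_existsUnique_desc c hc l fun Z p₁ p₂ e => by
      rw [← cancel_mono j, Category.assoc, Category.assoc, hl, ← Functor.map_comp_assoc,
        ← Functor.map_comp_assoc, e]
    exact ⟨b, cover_hom_ext c hc (by rw [← Category.assoc, hb, hl])⟩

variable {s t : R ⟶ U}

/-- Locally related points of `U`. -/
def LocRel (s t : R ⟶ U) {T : Over S} (a b : (yon S).obj T ⟶ U) : Prop :=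
  ∃ (W : Over S) (c : W ⟶ T) (r : (yon S).obj W ⟶ R),
    fppfSurj c.left ∧ r ≫ t = (yon S).map c ≫ a ∧ r ≫ s = (yon S).map c ≫ b

theorem LocRel.refl (hpre : IsPreEqvRelSp s t) {T : Over S} (a : (yon S).obj T ⟶ U) :
    LocRel s t a a := by
  obtain ⟨r, h1, h2⟩ := (hpre T).refl a
  exact ⟨T, 𝟙 T, r, fppfSurj_id T, by simpa using h1, by simpa using h2⟩

theorem LocRel.symm (hpre : IsPreEqvRelSp s t) {T : Over S} {a b : (yon S).obj T ⟶ U}
    (h : LocRel s t a b) : LocRel s t b a := by
  obtain ⟨W, c, r, hc, h1, h2⟩ := h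
  obtain ⟨r', h1', h2'⟩ := (hpre W).symm (x := (yon S).map c ≫ a) (y := (yon S).map c ≫ b) ⟨r, h1, h2⟩
  exact ⟨W, c, r', hc, h1', h2'⟩

theorem LocRel.trans (hpre : IsPreEqvRelSp s t) {T : Over S} {a b e : (yon S).obj T ⟶ U}
    (h : LocRel s t a b) (h' : LocRel s t b e) : LocRel s t a e := by
  obtain ⟨W, c, r, hc, h1, h2⟩ := h
  obtain ⟨W', c', r', hc', h1', h2'⟩ := h'
  obtain ⟨V, d, x, y, hd, hx, hy⟩ := exists_common_refinement hc hc'
  obtain ⟨r'', h1'', h2''⟩ := (hpre V).trans (x := (yon S).map d ≫ a) (y := (yon S).map d ≫ b)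
    (z := (yon S).map d ≫ e)
    ⟨(yon S).map x ≫ r, by rw [Category.assoc, h1, ← Functor.map_comp_assoc, hx],
      by rw [Category.assoc, h2, ← Functor.map_comp_assoc, hx]⟩
    ⟨(yon S).map y ≫ r', by rw [Category.assoc, h1', ← Functor.map_comp_assoc, hy],
      by rw [Category.assoc, h2', ← Functor.map_comp_assoc, hy]⟩
  exact ⟨V, d, r'', hd, h1'', h2''⟩

/-- The relation generated in sheaves. -/
noncomputable abbrev imRel (s t : R ⟶ U) : Sp S := Sheaf.image (prod.lift t s)

noncomputable abbrev imT (s t : R ⟶ U) : imRel s t ⟶ U := Sheaf.imageι (prod.lift t s) ≫ prod.fst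

noncomputable abbrev imS (s t : R ⟶ U) : imRel s t ⟶ U := Sheaf.imageι (prod.lift t s) ≫ prod.snd

theorem toImage_imT (s t : R ⟶ U) : Sheaf.toImage (prod.lift t s) ≫ imT s t = t := by
  rw [← Category.assoc, Sheaf.toImage_ι]
  exact prod.lift_fst t s

theorem toImage_imS (s t : R ⟶ U) : Sheaf.toImage (prod.lift t s) ≫ imS s t = s := by
  rw [← Category.assoc, Sheaf.toImage_ι]
  exact prod.lift_snd t s

theorem locRel_of_im {T : Over S} (i : (yon S).obj T ⟶ imRel s t) :
    LocRel s t (i ≫ imT s t) (i ≫ imS s t) := by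
  obtain ⟨W, c, r, hc, hr⟩ := locLift_of_epi (b := Sheaf.toImage (prod.lift t s)) T i
  exact ⟨W, c, r, hc, by rw [← reassoc_of% hr, toImage_imT], by rw [← reassoc_of% hr, toImage_imS]⟩

theorem exists_im_of_locRel {T : Over S} {a b : (yon S).obj T ⟶ U} (h : LocRel s t a b) :
    ∃ i : (yon S).obj T ⟶ imRel s t, i ≫ imT s t = a ∧ i ≫ imS s t = b := by
  obtain ⟨W, c, r, hc, h1, h2⟩ := h
  obtain ⟨i, hi, -⟩ := cover_existsUnique_desc c hc (r ≫ Sheaf.toImage (prod.lift t s))
    fun Z p₁ p₂ e => by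
      rw [← cancel_mono (Sheaf.imageι (prod.lift t s)), Category.assoc, Category.assoc,
        Category.assoc, Category.assoc, Sheaf.toImage_ι]
      apply Limits.prod.hom_ext
      · simp only [Category.assoc, prod.lift_fst, h1, ← Functor.map_comp_assoc, e]
      · simp only [Category.assoc, prod.lift_snd, h2, ← Functor.map_comp_assoc, e]
  refine ⟨i, cover_hom_ext c hc ?_, cover_hom_ext c hc ?_⟩
  · rw [← Category.assoc, hi, Category.assoc, toImage_imT, h1]
  · rw [← Category.assoc, hi, Category.assoc, toImage_imS, h2]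

theorem im_hom_ext {Z : Sp S} {x y : Z ⟶ imRel s t} (ht : x ≫ imT s t = y ≫ imT s t)
    (hs : x ≫ imS s t = y ≫ imS s t) : x = y := by
  rw [← cancel_mono (Sheaf.imageι (prod.lift t s))]
  apply Limits.prod.hom_ext
  · rw [Category.assoc, Category.assoc]; exact ht
  · rw [Category.assoc, Category.assoc]; exact hs

theorem exists_factor_im {Z : Sp S} (a b : Z ⟶ U)
    (h : ∀ (T : Over S) (z : (yon S).obj T ⟶ Z), LocRel s t (z ≫ a) (z ≫ b)) :
    ∃ m : Z ⟶ imRel s t, m ≫ imT s t = a ∧ m ≫ imS s t = b := by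
  obtain ⟨m, hm⟩ := exists_factor_of_forall_yon (j := Sheaf.imageι (prod.lift t s)) (prod.lift a b)
    fun T z => by
      obtain ⟨i, h1, h2⟩ := exists_im_of_locRel (h T z)
      refine ⟨i, Limits.prod.hom_ext ?_ ?_⟩
      · simp only [Category.assoc, prod.lift_fst]; exact h1
      · simp only [Category.assoc, prod.lift_snd]; exact h2
  exact ⟨m, by rw [← Category.assoc, hm]; exact prod.lift_fst a b,
    by rw [← Category.assoc, hm]; exact prod.lift_snd a b⟩

theorem isEquivalenceRelation_im (hpre : IsPreEqvRelSp s t) :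
    IsEquivalenceRelation (imT s t) (imS s t) := by
  obtain ⟨r, hr₁, hr₂⟩ := exists_factor_im (s := s) (t := t) (𝟙 U) (𝟙 U)
    fun T z => LocRel.refl hpre _
  obtain ⟨σ, hσ₁, hσ₂⟩ := exists_factor_im (s := s) (t := t) (imS s t) (imT s t)
    fun T z => (locRel_of_im z).symm hpre
  have sq := IsPullback.of_hasPullback (imS s t) (imT s t)
  obtain ⟨τ, hτ₁, hτ₂⟩ := exists_factor_im (s := s) (t := t)
    (pullback.fst (imS s t) (imT s t) ≫ imT s t) (pullback.snd (imS s t) (imT s t) ≫ imS s t)
    fun T z => by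
      have h1 := locRel_of_im (z ≫ pullback.fst (imS s t) (imT s t))
      have h2 := locRel_of_im (z ≫ pullback.snd (imS s t) (imT s t))
      rw [Category.assoc, Category.assoc] at h1 h2
      rw [pullback.condition] at h1
      exact h1.trans hpre h2
  have hj : JointlyMono₂ (imT s t) (imS s t) := ⟨fun Y f g e₁ e₂ => im_hom_ext e₁ e₂⟩
  exact ⟨⟨{ right_cancellation := hj.right_cancellation
            r := r
            reflexivity₁ := hr₁
            reflexivity₂ := hr₂
            s := σ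
            symmetry₁ := hσ₁
            symmetry₂ := hσ₂
            c := sq.cone
            isLimit := sq.isLimit
            t := τ
            transitivity₁ := hτ₁
            transitivity₂ := hτ₂ }⟩⟩

/-- Two points with the same image in the quotient are locally related. -/
theorem locRel_of_quot_eq (hpre : IsPreEqvRelSp s t) {T : Over S} (a b : (yon S).obj T ⟶ U)
    (h : a ≫ quotSpπ s t = b ≫ quotSpπ s t) : LocRel s t a b := by
  have := isEquivalenceRelation_im hpre
  obtain ⟨⟨e⟩⟩ := (Topos46.isUniversallyEffective_sheaf (imT s t) (imS s t)).nonempty_universallyEffectiveEquivalenceRelation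
  have w : s ≫ e.π = t ≫ e.π :=
    (congrArg (· ≫ e.π) (toImage_imS s t)).symm.trans
      (((Category.assoc _ _ _).trans ((congrArg (Sheaf.toImage (prod.lift t s) ≫ ·)
        e.isKernelPair.w.symm).trans (Category.assoc _ _ _).symm)).trans
          (congrArg (· ≫ e.π) (toImage_imT s t)))
  have h' : a ≫ e.π = b ≫ e.π := by
    simpa only [Category.assoc, quotSpπ_desc] using congrArg (· ≫ quotSpDesc e.π w) h
  have key := locRel_of_im (e.isKernelPair.lift a b h')
  rwa [e.isKernelPair.lift_fst, e.isKernelPair.lift_snd] at key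

theorem quot_eq_of_locRel {T : Over S} {a b : (yon S).obj T ⟶ U} (h : LocRel s t a b) :
    a ≫ quotSpπ s t = b ≫ quotSpπ s t := by
  obtain ⟨W, c, r, hc, h1, h2⟩ := h
  refine cover_hom_ext c hc ?_
  rw [← reassoc_of% h1, ← reassoc_of% h2, quotSp_condition]

theorem locLift_quotSpπ (s t : R ⟶ U) : LocLift (quotSpπ s t) := by
  have : Epi (quotSpπ s t) := coequalizer.π_epi
  exact locLift_of_epi

/-- The kernel pair of the quotient by an equivalence relation. -/
theorem quotSp_kernelPair (h : IsEqvRelSp s t) : IsPullback t s (quotSpπ s t) (quotSpπ s t) := by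
  have hpre : IsPreEqvRelSp s t := h.equivalence
  have : Mono (prod.lift t s) := mono_of_forall_yon fun T a b e => h.injective T a b
    (by simpa only [Category.assoc, prod.lift_fst] using congrArg (· ≫ prod.fst) e)
    (by simpa only [Category.assoc, prod.lift_snd] using congrArg (· ≫ prod.snd) e)
  refine IsPullback.mk' (quotSp_condition s t).symm (fun Z φ φ' e1 e2 => ?_) fun Z a b w => ?_
  · rw [← cancel_mono (prod.lift t s)]
    apply Limits.prod.hom_ext
    · simpa only [Category.assoc, prod.lift_fst] using e1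
    · simpa only [Category.assoc, prod.lift_snd] using e2
  · obtain ⟨l, hl⟩ := exists_factor_of_local (j := prod.lift t s) (prod.lift a b) fun T z => by
      obtain ⟨W, c, r, hc, h1, h2⟩ := locRel_of_quot_eq hpre (z ≫ a) (z ≫ b)
        (by rw [Category.assoc, Category.assoc, w])
      refine ⟨W, c, r, hc, Limits.prod.hom_ext ?_ ?_⟩
      · simp only [Category.assoc, prod.lift_fst]; exact h1
      · simp only [Category.assoc, prod.lift_snd]; exact h2
    exact ⟨l, by simpa only [Category.assoc, prod.lift_fst] using congrArg (· ≫ prod.fst) hl,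
      by simpa only [Category.assoc, prod.lift_snd] using congrArg (· ≫ prod.snd) hl⟩

theorem mono_quot_restrict {R' U' : Sp S} {s' t' : R' ⟶ U'} (hpre : IsPreEqvRelSp s t) {g : U' ⟶ U}
    {r : R' ⟶ R} (hsq : IsPullback (prod.lift t' s') r (prod.map g g) (prod.lift t s))
    (ψ : quotSp s' t' ⟶ quotSp s t) (hψ : quotSpπ s' t' ≫ ψ = g ≫ quotSpπ s t) : Mono ψ :=
  mono_of_forall_yon fun T x y e => by
    obtain ⟨W₁, c₁, u, hc₁, hu⟩ := locLift_quotSpπ s' t' T x
    obtain ⟨W₂, c₂, v, hc₂, hv⟩ := locLift_quotSpπ s' t' T y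
    obtain ⟨V, d, p, q, hd, hp, hq⟩ := exists_common_refinement hc₁ hc₂
    have hu' : ((yon S).map p ≫ u) ≫ quotSpπ s' t' = (yon S).map d ≫ x := by
      rw [Category.assoc, hu, ← Functor.map_comp_assoc, hp]
    have hv' : ((yon S).map q ≫ v) ≫ quotSpπ s' t' = (yon S).map d ≫ y := by
      rw [Category.assoc, hv, ← Functor.map_comp_assoc, hq]
    obtain ⟨W, c, l, hc, h1, h2⟩ := locRel_of_quot_eq hpre (((yon S).map p ≫ u) ≫ g)
      (((yon S).map q ≫ v) ≫ g) (by
        have e1 := congrArg (· ≫ ψ) hu'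
        have e2 := congrArg (· ≫ ψ) hv'
        simp only [Category.assoc, hψ] at e1 e2 ⊢
        rw [e1, e2, e])
    refine cover_hom_ext (c ≫ d) (fppfSurj_comp hc hd) ?_
    obtain ⟨l', hl', -⟩ : ∃ l' : (yon S).obj W ⟶ R', l' ≫ prod.lift t' s' =
        prod.lift ((yon S).map c ≫ (yon S).map p ≫ u) ((yon S).map c ≫ (yon S).map q ≫ v) ∧ True :=
      ⟨hsq.lift (prod.lift ((yon S).map c ≫ (yon S).map p ≫ u) ((yon S).map c ≫ (yon S).map q ≫ v)) l
        (Limits.prod.hom_ext
          (by simp only [Category.assoc, prod.map_fst, prod.lift_fst, prod.lift_fst_assoc, h1])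
          (by simp only [Category.assoc, prod.map_snd, prod.lift_snd, prod.lift_snd_assoc, h2])),
        hsq.lift_fst _ _ _, trivial⟩
    have e1 := congrArg (· ≫ prod.fst ≫ quotSpπ s' t') hl'
    have e2 := congrArg (· ≫ prod.snd ≫ quotSpπ s' t') hl'
    simp only [Category.assoc, prod.lift_fst_assoc, prod.lift_snd_assoc] at e1 e2
    rw [quotSp_condition] at e2
    have := e1.symm.trans e2
    simp only [Category.assoc] at hu' hv' this
    rwa [hu', hv', ← Functor.map_comp_assoc, ← Functor.map_comp_assoc] at this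

theorem isIso_quot_restrict {R' U' : Sp S} {s' t' : R' ⟶ U'} (hpre : IsPreEqvRelSp s t) {g : U' ⟶ U}
    [Epi g] {r : R' ⟶ R} (hsq : IsPullback (prod.lift t' s') r (prod.map g g) (prod.lift t s))
    (ψ : quotSp s' t' ⟶ quotSp s t) (hψ : quotSpπ s' t' ≫ ψ = g ≫ quotSpπ s t) : IsIso ψ := by
  have := mono_quot_restrict hpre hsq ψ hψ
  refine isIso_of_mono_of_locLift ψ (LocLift.of_comp (q := quotSpπ s' t') ?_)
  rw [hψ]
  exact locLift_comp locLift_of_epi (locLift_quotSpπ s t)

/-- A coequalizing surjection with surjective comparison map is the quotient. -/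
theorem isIso_quotSpDesc (q : U ⟶ M) (w : s ≫ q = t ≫ q) [Epi q]
    [Epi (pullback.lift t s w.symm : R ⟶ pullback q q)] : IsIso (quotSpDesc q w) := by
  have : Mono (quotSpDesc q w) := mono_of_forall_yon fun T x y e => by
    obtain ⟨W₁, c₁, u, hc₁, hu⟩ := locLift_quotSpπ s t T x
    obtain ⟨W₂, c₂, v, hc₂, hv⟩ := locLift_quotSpπ s t T y
    obtain ⟨V, d, p, p', hd, hp, hp'⟩ := exists_common_refinement hc₁ hc₂
    have hu' : ((yon S).map p ≫ u) ≫ quotSpπ s t = (yon S).map d ≫ x := by
      rw [Category.assoc, hu, ← Functor.map_comp_assoc, hp]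
    have hv' : ((yon S).map p' ≫ v) ≫ quotSpπ s t = (yon S).map d ≫ y := by
      rw [Category.assoc, hv, ← Functor.map_comp_assoc, hp']
    have hq : ((yon S).map p ≫ u) ≫ q = ((yon S).map p' ≫ v) ≫ q := by
      have e1 := congrArg (· ≫ quotSpDesc q w) hu'
      have e2 := congrArg (· ≫ quotSpDesc q w) hv'
      simp only [Category.assoc, quotSpπ_desc] at e1 e2 ⊢
      rw [e1, e2, e]
    obtain ⟨W, c, r, hc, hr⟩ := locLift_of_epi (b := pullback.lift t s w.symm) V (pullback.lift _ _ hq)
    refine cover_hom_ext d hd (cover_hom_ext c hc ?_)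
    have h1 := congrArg (· ≫ pullback.fst q q) hr
    have h2 := congrArg (· ≫ pullback.snd q q) hr
    simp only [Category.assoc, pullback.lift_fst, pullback.lift_snd] at h1 h2
    rw [← hu', ← hv']
    simp only [Category.assoc]
    rw [← reassoc_of% h1, ← reassoc_of% h2, quotSp_condition]
  refine isIso_of_mono_of_locLift _ (LocLift.of_comp (q := quotSpπ s t) ?_)
  rw [quotSpπ_desc]
  exact locLift_of_epi

end Groth.Agent.SpPts86
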