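import Groth.Agent.SpPts86.CovSigma
import Mathlib.AlgebraicGeometry.Morphisms.Separated
import Mathlib.AlgebraicGeometry.Limits

/-!
A disjoint union of affine schemes is separated.
-/

universe u

set_option autoImplicit false

open CategoryTheory CategoryTheory.Limits AlgebraicGeometry

namespace Groth.Agent.SpPts86

theorem isSeparated_sigma {ι : Type u} (X : ι → Scheme.{u}) [∀ i, IsAffine (X i)] : (∐ X).IsSeparated := by
  refine ⟨⟨?_⟩⟩
  let f := terminal.from (∐ X)
  change IsClosedImmersion (pullback.diagonal f)
  refine IsClosedImmersion.of_isPreimmersion _ ?_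
  rw [← isOpen_compl_iff, isOpen_iff_forall_mem_open]
  intro z hz
  obtain ⟨⟨i, a⟩, ha⟩ := (sigmaMk X).surjective (pullback.fst f f z)
  obtain ⟨⟨j, b⟩, hb⟩ := (sigmaMk X).surjective (pullback.snd f f z)
  rw [sigmaMk_mk] at ha hb
  let m := pullback.map (terminal.from (X i)) (terminal.from (X j)) f f (Sigma.ι X i) (Sigma.ι X j)
    (𝟙 _) (Subsingleton.elim _ _) (Subsingleton.elim _ _)
  have hm₁ : m ≫ pullback.fst f f = pullback.fst _ _ ≫ Sigma.ι X i := pullback.lift_fst _ _ _
  have hm₂ : m ≫ pullback.snd f f = pullback.snd _ _ ≫ Sigma.ι X j := pullback.lift_snd _ _ _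
  obtain ⟨w, hw⟩ : z ∈ Set.range m := by
    rw [Scheme.Pullback.range_map]
    exact ⟨⟨a, ha⟩, ⟨b, hb⟩⟩
  let D : Set ↥(pullback (terminal.from (X i)) (terminal.from (X j))) :=
    {w' | m w' ∈ Set.range (pullback.diagonal f)}
  have hD : IsClosed D := by
    by_cases hij : i = j
    · subst hij
      have e : D = Set.range (pullback.diagonal (terminal.from (X i))) := by
        have h1 : pullback.diagonal (terminal.from (X i)) ≫ m = Sigma.ι X i ≫ pullback.diagonal f := by
          apply pullback.hom_ext
          · rw [Category.assoc, hm₁, pullback.diagonal_fst_assoc, Category.assoc, pullback.diagonal_fst,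
              Category.comp_id]
          · rw [Category.assoc, hm₂, pullback.diagonal_snd_assoc, Category.assoc, pullback.diagonal_snd,
              Category.comp_id]
        ext w'
        constructor
        · rintro ⟨y, hy⟩
          have hy' : y = Sigma.ι X i (pullback.fst (terminal.from (X i)) (terminal.from (X i)) w') := by
            rw [← Scheme.Hom.comp_apply (pullback.fst (terminal.from (X i)) (terminal.from (X i))), ← hm₁,
              Scheme.Hom.comp_apply, ← hy, ← Scheme.Hom.comp_apply, pullback.diagonal_fst]
            rfl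
          refine ⟨pullback.fst (terminal.from (X i)) (terminal.from (X i)) w', m.isOpenEmbedding.injective ?_⟩
          rw [← Scheme.Hom.comp_apply, h1, Scheme.Hom.comp_apply, ← hy', hy]
        · rintro ⟨y, rfl⟩
          exact ⟨Sigma.ι X i y, by rw [← Scheme.Hom.comp_apply, ← h1, Scheme.Hom.comp_apply]⟩
      rw [e]
      exact (pullback.diagonal (terminal.from (X i))).isClosedMap.isClosed_range
    · have e : D = ∅ := by
        refine Set.eq_empty_of_forall_notMem fun w' ⟨y, hy⟩ => ?_
        have h1 : y = Sigma.ι X i (pullback.fst (terminal.from (X i)) (terminal.from (X j)) w') := by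
          rw [← Scheme.Hom.comp_apply (pullback.fst (terminal.from (X i)) (terminal.from (X j))), ← hm₁, Scheme.Hom.comp_apply, ← hy,
            ← Scheme.Hom.comp_apply, pullback.diagonal_fst]
          rfl
        have h2 : y = Sigma.ι X j (pullback.snd (terminal.from (X i)) (terminal.from (X j)) w') := by
          rw [← Scheme.Hom.comp_apply (pullback.snd (terminal.from (X i)) (terminal.from (X j))), ← hm₂, Scheme.Hom.comp_apply, ← hy,
            ← Scheme.Hom.comp_apply, pullback.diagonal_snd]
          rfl
        have h := h1.symm.trans h2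
        rw [← sigmaMk_mk, ← sigmaMk_mk] at h
        exact hij (congrArg Sigma.fst ((sigmaMk X).injective h))
      rw [e]
      exact isClosed_empty
  refine ⟨m '' Dᶜ, ?_, m.isOpenEmbedding.isOpenMap _ hD.isOpen_compl, w, ?_, hw⟩
  · rintro _ ⟨w', hw', rfl⟩
    exact hw'
  · change ¬ m w ∈ Set.range (pullback.diagonal f)
    rw [hw]
    exact hz

end Groth.Agent.SpPts86
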