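import Groth.Agent.SpPts86.PieceAtlas
import Groth.Agent.SpPts86.SigmaSep

/-!
A sheaf with a locally liftable flat locally quasi-finite lfp map from a scheme is an algebraic space.
-/

universe u

set_option autoImplicit false

open CategoryTheory CategoryTheory.Limits AlgebraicGeometry
open AlgSp Groth.Agent.SpFP87

namespace Groth.Agent.SpPts86

variable {S : Scheme.{u}} {R U : Over S} {s t : R ⟶ U} {F : Sp S}

/-- The diagonal of a sheaf covered by a scheme with a kernel pair locally of finite type. -/
theorem representable_diag_of_kernelPair {p : (yon S).obj U ⟶ F} (hp : LocLift p)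
    (sq : IsPullback ((yon S).map t) ((yon S).map s) p p) [LocallyOfFiniteType t.left] :
    Representable (Limits.diag F) := by
  have hl := locLift_prod_map hp hp
  have sqd := isPullback_diag_of_kernelPair sq
  have hj : Mono (prod.lift ((yon S).map t) ((yon S).map s)) := ⟨fun a b e => sq.hom_ext
    (by simpa only [Category.assoc, prod.lift_fst] using congrArg (· ≫ prod.fst) e)
    (by simpa only [Category.assoc, prod.lift_snd] using congrArg (· ≫ prod.snd) e)⟩
  have hlft : RepWith @LocallyOfFiniteType (prod.lift ((yon S).map t) ((yon S).map s)) :=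
    repWith_lft_prod_lift
  have hd : RepWith sepLQF (prod.lift ((yon S).map t) ((yon S).map s)) :=
    repWith_mono mono_inf_lft_le_sepLQF
      (repWith_inf (repWith_monomorphisms_of_mono hlft.rep) hlft)
  exact representable_of_locLift_effective hasEffDescent_sepLQF hl sqd hd

set_option backward.isDefEq.respectTransparency.types false in
/-- A sheaf with a locally liftable map from a scheme whose kernel pair is flat, locally of finite
presentation and locally quasi-finite is an algebraic space. -/
theorem isAlgSpace_of_kernelPair_lqf {p : (yon S).obj U ⟶ F} (hp : LocLift p)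
    (sq : IsPullback ((yon S).map t) ((yon S).map s) p p) [Flat s.left]
    [LocallyOfFinitePresentation s.left] [LocallyQuasiFinite s.left] [LocallyOfFiniteType t.left] :
    IsAlgSpace F := by
  have hdiag := representable_diag_of_kernelPair hp sq
  have hrep : Representable p := Functor.relativelyRepresentable.of_diag hdiag p
  have : MorphismProperty.DescendsAlong (@Flat : MorphismProperty Scheme.{u}) fppfMor := flat_descends.{u}
  have : MorphismProperty.DescendsAlong (@LocallyOfFinitePresentation : MorphismProperty Scheme.{u}) fppfMor :=
    lfp_descends.{u}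
  have : MorphismProperty.DescendsAlong (@LocallyQuasiFinite : MorphismProperty Scheme.{u}) fppfMor :=
    lqf_descends.{u}
  have := isLocalAtTarget_fppf.{u} (@Flat : MorphismProperty Scheme.{u})
  have := isLocalAtTarget_fppf.{u} (@LocallyOfFinitePresentation : MorphismProperty Scheme.{u})
  have := isLocalAtTarget_fppf.{u} (@LocallyQuasiFinite : MorphismProperty Scheme.{u})
  have h₁ : RepWith @Flat p :=
    repWith_of_locLift _ hrep hp sq ((repWith_yon_map_iff _ _).2 (inferInstance : Flat s.left))
  have h₂ : RepWith @LocallyOfFinitePresentation p :=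
    repWith_of_locLift _ hrep hp sq
      ((repWith_yon_map_iff _ _).2 (inferInstance : LocallyOfFinitePresentation s.left))
  have h₃ : RepWith @LocallyQuasiFinite p :=
    repWith_of_locLift _ hrep hp sq ((repWith_yon_map_iff _ _).2 (inferInstance : LocallyQuasiFinite s.left))
  have h₄ : RepWith @Surjective p :=
    (repWith_surjective_iff hrep).2 ((covLift_of_locLift hp).surjective_points)
  let Vi : ↥U.left.affineOpens → Over S := fun V => openOver U V.1
  have hVi : ∀ V, IsAffine (Vi V).left := fun V => V.2
  let w : sigmaOver Vi ⟶ U := sigmaOut fun V => openIncl U V.1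
  have hwe : Etale w.left :=
    IsZariskiLocalAtSource.sigmaDesc (P := @Etale) fun V => (inferInstance : Etale V.1.ι)
  have hwq : LocallyQuasiFinite w.left := SpFP87.etale_locallyQuasiFinite _ hwe
  have hws : Surjective w.left := ⟨fun x => by
    obtain ⟨W, hW, hxW, -⟩ := exists_isAffineOpen_mem_and_subset (x := x) (U := ⊤) trivial
    refine ⟨(sigmaIn Vi ⟨W, hW⟩).left ⟨x, hxW⟩, ?_⟩
    refine (Scheme.Hom.comp_apply _ _ _).symm.trans ?_
    rw [← Over.comp_left, sigmaIn_out]
    rfl⟩
  let π := (yon S).map w ≫ p
  have g₁ : RepWith @Flat π :=
    (repWith_isMultiplicative (S := S) @Flat).comp_mem _ _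
      ((repWith_yon_map_iff _ _).2 (inferInstance : Flat w.left)) h₁
  have : MorphismProperty.IsMultiplicative (@LocallyOfFinitePresentation : MorphismProperty Scheme.{u}) :=
    { id_mem := fun X => (inferInstance : LocallyOfFinitePresentation (𝟙 X))
      comp_mem := fun f g h₁ h₂ => by haveI := h₁; haveI := h₂; exact (inferInstance : LocallyOfFinitePresentation (f ≫ g)) }
  have g₂ : RepWith @LocallyOfFinitePresentation π :=
    (repWith_isMultiplicative (S := S) @LocallyOfFinitePresentation).comp_mem _ _
      ((repWith_yon_map_iff _ _).2 (inferInstance : LocallyOfFinitePresentation w.left)) h₂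
  have g₃ : RepWith @LocallyQuasiFinite π :=
    (repWith_isMultiplicative (S := S) @LocallyQuasiFinite).comp_mem _ _
      ((repWith_yon_map_iff _ _).2 hwq) h₃
  have g₄ : RepWith @Surjective π :=
    (repWith_isMultiplicative (S := S) @Surjective).comp_mem _ _ ((repWith_yon_map_iff _ _).2 hws) h₄
  have hrπ : Representable π := g₁.rep
  have hU' : IsSeparated (sigmaOver Vi).hom := by
    have : (sigmaOver Vi).left.IsSeparated := isSeparated_sigma _
    have : IsSeparated ((sigmaOver Vi).hom ≫ terminal.from S) := by
      rw [terminal.comp_from]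
      infer_instance
    exact IsSeparated.of_comp (sigmaOver Vi).hom (terminal.from S)
  have g₅ : RepWith @IsSeparated π := MorphismProperty.relative.of_exists fun T g => by
    obtain ⟨V, a, b, sqV⟩ := exists_isPullback_of_rep hrπ g
    refine ⟨V, (yon S).map b, a, sqV.flip, ?_⟩
    change IsSeparated a.left
    have := mono_schLift sqV
    rw [← schLift_fst a b]
    infer_instance
  obtain ⟨M, q, he, hs⟩ := exists_etale_atlas_of_lqf hrπ g₁ g₂ g₅ g₃ g₄
    (fun A hA => exists_affine_of_finite_sigma (fun V => (Vi V).left) hA)
  exact ⟨hdiag, M, q, he, hs⟩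

end Groth.Agent.SpPts86
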