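import Groth.Agent.SpPts86.SliceLocus
import Groth.Agent.SpPts86.BootLqf
import Groth.Agent.SpPts86.QuotSp
import Groth.Agent.SpPts86.CovSigma

/-!
A flat locally finitely presented cover may be sliced to a quasi-finite one.
-/

universe u

set_option autoImplicit false

open CategoryTheory CategoryTheory.Limits AlgebraicGeometry
open AlgSp Groth.Agent.SpFP87

namespace Groth.Agent.SpPts86

variable {S : Scheme.{u}} {R U : Over S} {s t : R ⟶ U} {F : Sp S} {π : (yon S).obj U ⟶ F}

/-- The pull back of a slice along `t`, as a fibre product over `F`. -/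
theorem isPullback_slice (sq : IsPullback ((yon S).map t) ((yon S).map s) π π) {Z : Over S} (g : Z ⟶ U) :
    IsPullback ((yon S).map (pullback.fst g t)) ((yon S).map (pullback.snd g t ≫ s))
      ((yon S).map g ≫ π) π := by
  have h1 := ((IsPullback.of_hasPullback g t).map (yon S)).flip
  have h2 := h1.paste_horiz sq.flip
  rw [← Functor.map_comp] at h2
  exact h2.flip

/-- The groupoid action on a slice. -/
theorem exists_action (sq : IsPullback ((yon S).map t) ((yon S).map s) π π) {Z P : Over S} {g : Z ⟶ U}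
    {ρ : P ⟶ Z} {f : P ⟶ U}
    (sqP : IsPullback ((yon S).map ρ) ((yon S).map f) ((yon S).map g ≫ π) π) :
    ∃ m : pullback ρ ρ ⟶ R, IsPullback (pullback.fst ρ ρ) m f t ∧ IsPullback (pullback.snd ρ ρ) m f s := by
  let p₁ := pullback.fst ρ ρ
  let p₂ := pullback.snd ρ ρ
  have h0 := ((IsPullback.of_hasPullback ρ ρ).map (yon S))
  have h1 : IsPullback ((yon S).map (p₂ ≫ f)) ((yon S).map p₁) π ((yon S).map f ≫ π) := by
    have := h0.flip.paste_horiz sqP.flip
    rwa [← Functor.map_comp, sqP.w] at this
  have h2 : IsPullback ((yon S).map (p₁ ≫ f)) ((yon S).map p₂) π ((yon S).map f ≫ π) := by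
    have := h0.paste_horiz sqP.flip
    rwa [← Functor.map_comp, sqP.w] at this
  obtain ⟨m, hm⟩ := (yon S).map_surjective (sq.lift ((yon S).map (p₁ ≫ f)) ((yon S).map (p₂ ≫ f))
    (by simp only [Functor.map_comp, Category.assoc]
        rw [← sqP.w, ← Functor.map_comp_assoc, ← Functor.map_comp_assoc, pullback.condition]
        simp only [Functor.map_comp, Category.assoc]
        rfl))
  have ht : m ≫ t = p₁ ≫ f := (yon S).map_injective (by rw [Functor.map_comp, hm, sq.lift_fst])
  have hs : m ≫ s = p₂ ≫ f := (yon S).map_injective (by rw [Functor.map_comp, hm, sq.lift_snd])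
  refine ⟨m, IsPullback.of_map (yon S) ht.symm ?_, IsPullback.of_map (yon S) hs.symm ?_⟩
  · exact (IsPullback.of_right (by rw [← Functor.map_comp, hs]; exact h1)
      (by rw [← Functor.map_comp, ← Functor.map_comp, ht]) sq.flip).flip
  · exact (IsPullback.of_right (by rw [← Functor.map_comp, ht]; exact h2)
      (by rw [← Functor.map_comp, ← Functor.map_comp, hs]) sq).flip

/-- Every finite type point is covered by a slice which is flat and quasi-finite over `U`. -/
theorem exists_slice_point (sq : IsPullback ((yon S).map t) ((yon S).map s) π π) [Flat s.left]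
    [LocallyOfFinitePresentation s.left] [Flat t.left] [LocallyOfFinitePresentation t.left]
    (u : ↥U.left) (hu : LocallyOfFiniteType (U.left.fromSpecResidueField u)) :
    ∃ (Z : Over S) (g : Z ⟶ U), LocallyOfFinitePresentation g.left ∧
      (∀ x : ↥(pullback g t).left, FlatQFAt (pullback.snd g t ≫ s).left x) ∧
      ∃ x : ↥(pullback g t).left, (pullback.snd g t ≫ s).left x = u := by
  obtain ⟨e, he⟩ := (yon S).map_surjective (sq.lift (𝟙 _) (𝟙 _) rfl)
  have hes : e ≫ s = 𝟙 U := (yon S).map_injective (by
    rw [Functor.map_comp, he, sq.lift_snd, CategoryTheory.Functor.map_id])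
  obtain ⟨x₀, hx₀⟩ : ∃ x₀ : Spec (CommRingCat.of ↥(U.left.residueField u)) ⟶ U.left,
      x₀ = U.left.fromSpecResidueField u := ⟨_, rfl⟩
  have : LocallyOfFiniteType x₀ := hx₀ ▸ hu
  have hes' : e.left ≫ s.left = 𝟙 U.left := by rw [← Over.comp_left, hes]; rfl
  obtain ⟨w, -, -⟩ := Scheme.Pullback.exists_preimage_pullback (f := x₀) (g := s.left)
    (default : ↥(Spec (U.left.residueField u))) (e.left u) (by
      rw [hx₀, Scheme.fromSpecResidueField_apply, ← Scheme.Hom.comp_apply, hes']
      rfl)
  have : Nonempty ↥(pullback x₀ s.left) := ⟨w⟩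
  have hmono : ∀ (T : Scheme.{u}) (a b : T ⟶ R.left),
      a ≫ s.left = b ≫ s.left → a ≫ t.left = b ≫ t.left → a = b := by
    intro T a b hs ht
    have hw : b ≫ R.hom = a ≫ R.hom := by rw [← Over.w s, ← reassoc_of% hs]
    let A : Over.mk (a ≫ R.hom) ⟶ R := Over.homMk a rfl
    let B : Over.mk (a ≫ R.hom) ⟶ R := Over.homMk b hw
    have : A = B := (yon S).map_injective (sq.hom_ext
      (by rw [← Functor.map_comp, ← Functor.map_comp]; exact congrArg _ (Over.OverMorphism.ext ht))
      (by rw [← Functor.map_comp, ← Functor.map_comp]; exact congrArg _ (Over.OverMorphism.ext hs)))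
    exact congrArg CommaMorphism.left this
  obtain ⟨Z, i, hi, z, ⟨k, hk⟩, hz₁, hz₂⟩ := exists_slice s.left t.left hmono x₀
  let ZO : Over S := Over.mk (i ≫ U.hom)
  let g : ZO ⟶ U := Over.homMk i rfl
  let ρ : pullback g t ⟶ ZO := pullback.fst g t
  let f : pullback g t ⟶ U := pullback.snd g t ≫ s
  have sqS : IsPullback ρ.left (pullback.snd g t).left i t.left :=
    (IsPullback.of_hasPullback g t).map (Over.forget S)
  obtain ⟨z', hz'⟩ : ∃ z' : ↥(pullback g t).left, sqS.isoPullback.hom z' = z :=
    ⟨sqS.isoPullback.inv z, by rw [← Scheme.Hom.comp_apply, Iso.inv_hom_id]; rfl⟩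
  have hf : f.left = sqS.isoPullback.hom ≫ pullback.snd i t.left ≫ s.left := by
    rw [← Category.assoc, sqS.isoPullback_hom_snd]
    rfl
  have hfz : FlatQFAt f.left z' := by
    rw [hf]
    exact (flatQFAt_comp_iff _ _ _).2 (hz' ▸ ⟨hz₁, hz₂⟩)
  have hzu : f.left z' = u := by
    rw [hf, Scheme.Hom.comp_apply, hz', ← hk, hx₀, Scheme.fromSpecResidueField_apply]
  have : LocallyOfFinitePresentation (pullback.snd g t).left :=
    MorphismProperty.of_isPullback (P := @LocallyOfFinitePresentation) sqS hi
  have : LocallyOfFinitePresentation f.left :=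
    (inferInstance : LocallyOfFinitePresentation ((pullback.snd g t).left ≫ s.left))
  obtain ⟨m, hm₁, hm₂⟩ := exists_action sq (isPullback_slice sq g)
  have hm₁' : IsPullback (pullback.fst ρ ρ).left m.left f.left t.left := hm₁.map (Over.forget S)
  have hm₂' : IsPullback (pullback.snd ρ ρ).left m.left f.left s.left := hm₂.map (Over.forget S)
  have sq2 := (IsPullback.of_hasPullback ρ ρ).map (Over.forget S)
  have : Flat ρ.left := MorphismProperty.of_isPullback (P := @Flat) sqS.flip (inferInstanceAs (Flat t.left))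
  have : LocallyOfFinitePresentation ρ.left :=
    MorphismProperty.of_isPullback (P := @LocallyOfFinitePresentation) sqS.flip
      (inferInstanceAs (LocallyOfFinitePresentation t.left))
  obtain ⟨Z₀, hZ₀⟩ := exists_open_saturated ρ.left.isOpenMap f.left
    (p₁ := (pullback.fst ρ ρ).left) (p₂ := (pullback.snd ρ ρ).left)
    (fun x x' e => Scheme.exists_preimage_of_isPullback sq2 x x' e)
    (fun y => (flatQFAt_of_isPullback hm₁' y).symm.trans (flatQFAt_of_isPullback hm₂' y))
  let j : openOver ZO Z₀ ⟶ ZO := openIncl ZO Z₀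
  have : IsOpenImmersion j.left := inferInstanceAs (IsOpenImmersion Z₀.ι)
  let κ : pullback (j ≫ g) t ⟶ pullback g t :=
    pullback.lift (pullback.fst (j ≫ g) t ≫ j) (pullback.snd (j ≫ g) t)
      (by rw [Category.assoc]; exact pullback.condition)
  have hκ : pullback.snd (j ≫ g) t ≫ s = κ ≫ f := by
    rw [← Category.assoc, pullback.lift_snd]
  have sqκ : IsPullback (pullback.fst (j ≫ g) t) κ j ρ :=
    IsPullback.of_bot (by rw [pullback.lift_snd]; exact IsPullback.of_hasPullback (j ≫ g) t)
      (pullback.lift_fst _ _ _).symm (IsPullback.of_hasPullback g t)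
  have sqκ' := sqκ.map (Over.forget S)
  have : IsOpenImmersion κ.left := MorphismProperty.of_isPullback (P := @IsOpenImmersion) sqκ' ‹_›
  refine ⟨openOver ZO Z₀, j ≫ g, ?_, fun x => ?_, ?_⟩
  · exact (inferInstance : LocallyOfFinitePresentation (j.left ≫ i))
  · rw [hκ, Over.comp_left, flatQFAt_comp_iff]
    refine (hZ₀ _).1 ?_
    rw [← Scheme.Hom.comp_apply, ← Over.comp_left, pullback.lift_fst, Over.comp_left, Scheme.Hom.comp_apply]
    exact ((pullback.fst (j ≫ g) t).left x).2
  · obtain ⟨x, -, hx⟩ := Scheme.exists_preimage_of_isPullback sqκ'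
      (⟨ρ.left z', (hZ₀ z').2 hfz⟩ : ↥(openOver ZO Z₀).left) z' rfl
    refine ⟨x, ?_⟩
    rw [hκ, Over.comp_left, Scheme.Hom.comp_apply]
    change f.left (κ.left x) = u
    rw [show κ.left x = z' from hx, hzu]

/-- A cover with flat, locally finitely presented kernel pair has a refinement which in addition is
quasi-finite. -/
theorem exists_lqf_cover (hπ : LocLift π) (sq : IsPullback ((yon S).map t) ((yon S).map s) π π)
    [Flat s.left] [LocallyOfFinitePresentation s.left] [Flat t.left] [LocallyOfFinitePresentation t.left] :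
    ∃ (U' R' : Over S) (s' t' : R' ⟶ U') (g : U' ⟶ U),
      LocLift ((yon S).map g ≫ π) ∧
      IsPullback ((yon S).map t') ((yon S).map s') ((yon S).map g ≫ π) ((yon S).map g ≫ π) ∧
      Flat s'.left ∧ LocallyOfFinitePresentation s'.left ∧ LocallyQuasiFinite s'.left ∧
      Flat t'.left ∧ LocallyOfFinitePresentation t'.left ∧ LocallyQuasiFinite t'.left := by
  let ι := {u : ↥U.left // LocallyOfFiniteType (U.left.fromSpecResidueField u)}
  choose Z gZ hlfp hgood hpt using fun u : ι => exists_slice_point sq u.1 u.2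
  let U' : Over S := sigmaOver Z
  let g : U' ⟶ U := sigmaOut gZ
  have : IsZariskiLocalAtSource (@LocallyOfFinitePresentation : MorphismProperty Scheme.{u}) :=
    HasRingHomProperty.instIsZariskiLocalAtSource
  have hg : LocallyOfFinitePresentation g.left := IsZariskiLocalAtSource.sigmaDesc hlfp
  let ρ : pullback g t ⟶ U' := pullback.fst g t
  let f : pullback g t ⟶ U := pullback.snd g t ≫ s
  have sqA := (IsPullback.of_hasPullback g t).map (Over.forget S)
  have : LocallyOfFinitePresentation (pullback.snd g t).left :=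
    MorphismProperty.of_isPullback (P := @LocallyOfFinitePresentation) sqA hg
  have hfp : LocallyOfFinitePresentation f.left :=
    (inferInstance : LocallyOfFinitePresentation ((pullback.snd g t).left ≫ s.left))
  have hpiece : ∀ u : ι, ∃ κ : pullback (gZ u) t ⟶ pullback g t,
      pullback.snd (gZ u) t ≫ s = κ ≫ f ∧ IsPullback (pullback.fst (gZ u) t) κ (sigmaIn Z u) ρ := by
    intro u
    have hin : sigmaIn Z u ≫ g = gZ u := sigmaIn_out _ _
    refine ⟨pullback.lift (pullback.fst (gZ u) t ≫ sigmaIn Z u) (pullback.snd (gZ u) t)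
      (by rw [Category.assoc, hin]; exact pullback.condition), ?_, ?_⟩
    · rw [← Category.assoc, pullback.lift_snd]
    · exact IsPullback.of_bot (by rw [pullback.lift_snd, hin]; exact IsPullback.of_hasPullback (gZ u) t)
        (pullback.lift_fst _ _ _).symm (IsPullback.of_hasPullback g t)
  choose κ hκ sqκ using hpiece
  have hio : ∀ u, IsOpenImmersion (κ u).left := fun u =>
    MorphismProperty.of_isPullback (P := @IsOpenImmersion) ((sqκ u).map (Over.forget S))
      (inferInstanceAs (IsOpenImmersion (Sigma.ι (fun u => (Z u).left) u)))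
  have hall : ∀ x : ↥(pullback g t).left, FlatQFAt f.left x := by
    intro x
    obtain ⟨⟨u, w⟩, hw⟩ := (sigmaMk (fun u => (Z u).left)).surjective (ρ.left x)
    rw [sigmaMk_mk] at hw
    obtain ⟨y, -, rfl⟩ := Scheme.exists_preimage_of_isPullback ((sqκ u).map (Over.forget S)) w x hw
    have := hio u
    refine (flatQFAt_comp_iff (κ u).left f.left y).1 ?_
    rw [← Over.comp_left, ← hκ]
    exact hgood u y
  obtain ⟨hff, hfq⟩ := flat_locallyQuasiFinite_of_forall f.left hall
  have hfs : Surjective f.left := by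
    refine ⟨fun u => ?_⟩
    by_contra hu
    have hopen : IsOpen (Set.range f.left) := f.left.isOpenMap.isOpen_range
    obtain ⟨_, ⟨V, hV, rfl⟩, huV, -⟩ :=
      U.left.isBasis_affineOpens.exists_subset_of_mem_open (Set.mem_univ u) isOpen_univ
    have hcl : IsClosed (hV.fromSpec ⁻¹' (Set.range f.left)ᶜ) :=
      hopen.isClosed_compl.preimage hV.fromSpec.continuous
    obtain ⟨q, hqu⟩ : u ∈ Set.range hV.fromSpec := by rw [IsAffineOpen.range_fromSpec]; exact huV
    obtain ⟨x, hxq, hxcl⟩ := hcl.exists_closed_singleton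
      ⟨q, show hV.fromSpec q ∈ (Set.range f.left)ᶜ by rw [hqu]; exact hu⟩
    have : IsClosedImmersion ((Spec Γ(U.left, V)).fromSpecResidueField x) :=
      IsClosedImmersion.of_isPreimmersion _ (by rw [Scheme.range_fromSpecResidueField]; exact hxcl)
    have hlft : LocallyOfFiniteType (U.left.fromSpecResidueField (hV.fromSpec x)) := by
      have e := Scheme.Hom.SpecMap_residueFieldMap_fromSpecResidueField hV.fromSpec x
      rw [← IsIso.eq_inv_comp] at e
      rw [e]
      infer_instance
    obtain ⟨y, hy⟩ := hpt ⟨hV.fromSpec x, hlft⟩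
    apply hxq
    refine ⟨(κ _).left y, ?_⟩
    rw [← Scheme.Hom.comp_apply, ← Over.comp_left, ← hκ]
    exact hy
  have sqρ : IsPullback ((yon S).map ρ) ((yon S).map f) ((yon S).map g ≫ π) π := isPullback_slice sq g
  have hlift : LocLift ((yon S).map g ≫ π) := fun T x => by
    obtain ⟨W, c, l, hc, hl⟩ := hπ T x
    obtain ⟨a, ha⟩ := (yon S).map_surjective l
    subst ha
    have sqW := (IsPullback.of_hasPullback a f).map (Over.forget S)
    refine ⟨pullback a f, pullback.fst a f ≫ c, (yon S).map (pullback.snd a f ≫ ρ),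
      fppfSurj_comp (MorphismProperty.of_isPullback (P := fppfSurj) sqW.flip
        ((fppfSurj_iff _).2 ⟨hfs, hff, hfp⟩)) hc, ?_⟩
    rw [Functor.map_comp, Category.assoc, sqρ.w, ← Functor.map_comp_assoc, ← pullback.condition,
      Functor.map_comp_assoc, hl, Functor.map_comp_assoc]
  let t' : pullback f g ⟶ U' := pullback.fst f g ≫ ρ
  let s' : pullback f g ⟶ U' := pullback.snd f g
  have sqR : IsPullback ((yon S).map t') ((yon S).map s') ((yon S).map g ≫ π) ((yon S).map g ≫ π) := by
    rw [Functor.map_comp]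
    exact ((IsPullback.of_hasPullback f g).map (yon S)).paste_horiz sqρ
  have sqf := (IsPullback.of_hasPullback f g).map (Over.forget S)
  have hs₁ : Flat s'.left := MorphismProperty.of_isPullback (P := @Flat) sqf hff
  have hs₂ : LocallyOfFinitePresentation s'.left :=
    MorphismProperty.of_isPullback (P := @LocallyOfFinitePresentation) sqf hfp
  have hs₃ : LocallyQuasiFinite s'.left := MorphismProperty.of_isPullback (P := @LocallyQuasiFinite) sqf hfq
  obtain ⟨σ, hσ⟩ := (yon S).map_surjective (sqR.isoIsPullback _ _ sqR.flip).hom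
  have : IsIso ((yon S).map σ) := by rw [hσ]; infer_instance
  have : IsIso σ := isIso_of_fully_faithful (yon S) σ
  have : IsIso σ.left := inferInstanceAs (IsIso ((Over.forget S).map σ))
  have ht : t' = σ ≫ s' := (yon S).map_injective (by
    rw [show (yon S).map (σ ≫ s') = (yon S).map σ ≫ (yon S).map s' from (yon S).map_comp _ _, hσ]
    exact (sqR.isoIsPullback_hom_fst _ _ sqR.flip).symm)
  refine ⟨U', _, s', t', g, hlift, sqR, hs₁, hs₂, hs₃, ?_, ?_, ?_⟩
  · rw [ht, Over.comp_left]; exact MorphismProperty.RespectsIso.precomp @Flat σ.left s'.left hs₁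
  · rw [ht, Over.comp_left]
    exact MorphismProperty.RespectsIso.precomp @LocallyOfFinitePresentation σ.left s'.left hs₂
  · rw [ht, Over.comp_left]
    exact MorphismProperty.RespectsIso.precomp @LocallyQuasiFinite σ.left s'.left hs₃

/-- The bootstrap theorem for schemes. -/
theorem isAlgSpace_of_kernelPair_fppf (hπ : LocLift π)
    (sq : IsPullback ((yon S).map t) ((yon S).map s) π π)
    [Flat s.left] [LocallyOfFinitePresentation s.left] [Flat t.left] [LocallyOfFinitePresentation t.left] :
    IsAlgSpace F := by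
  obtain ⟨U', R', s', t', g, h₁, h₂, _, _, _, _, _, _⟩ := exists_lqf_cover hπ sq
  exact isAlgSpace_of_kernelPair_lqf h₁ h₂

end Groth.Agent.SpPts86
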