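import Groth.Agent.SpPts86.Boot
import Groth.Agent.SpPts86.SliceCover
import Groth.Agent.SpPts86.QuotSp

/-!
The bootstrap theorem for a cover by a space and for quotients of flat relations on spaces.
-/

universe u

set_option autoImplicit false

open CategoryTheory CategoryTheory.Limits AlgebraicGeometry
open AlgSp Groth.Agent.SpFP87

namespace Groth.Agent.SpPts86

variable {S : Scheme.{u}} {F : Sp S} {M : Over S}

/-- A cover by a scheme whose kernel pair is a space, flat and locally of finite presentation over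
the scheme, has an algebraic space as target. -/
theorem isAlgSpace_of_space_kernelPair {K : Sp S} {q : (yon S).obj M ⟶ F} {t s : K ⟶ (yon S).obj M}
    (hq : LocLift q) (sq : IsPullback t s q q) (hK : IsAlgSpace K) (hfl : LocP @Flat s)
    (hfp : LocP @LocallyOfFinitePresentation s) : IsAlgSpace F := by
  let m : K ⟶ (yon S).obj (M ⨯ M) := prod.lift t s ≫ inv (prodComparison (yon S) M M)
  have hm₁ : m ≫ (yon S).map (prod.fst : M ⨯ M ⟶ M) = t := by
    rw [Category.assoc, inv_prodComparison_map_fst]
    exact prod.lift_fst t s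
  have hm₂ : m ≫ (yon S).map (prod.snd : M ⨯ M ⟶ M) = s := by
    rw [Category.assoc, inv_prodComparison_map_snd]
    exact prod.lift_snd t s
  have : Mono m := ⟨fun {Z} x y e => sq.hom_ext
    (by rw [← hm₁, reassoc_of% e]) (by rw [← hm₂, reassoc_of% e])⟩
  have hm : LocP @LocallyOfFiniteType m := fun W' V c d h hc hd w => by
    obtain ⟨d₀, rfl⟩ := (yon S).map_surjective d
    have h1 := locP_apply hfp hc (v := h ≫ d₀ ≫ prod.snd) (by
      rw [← hm₂, reassoc_of% w, Functor.map_comp, Functor.map_comp])
    have : LocallyOfFinitePresentation (h.left ≫ d₀.left ≫ (prod.snd : M ⨯ M ⟶ M).left) := h1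
    exact locallyOfFiniteType_of_comp h.left (d₀.left ≫ (prod.snd : M ⨯ M ⟶ M).left)
  obtain ⟨Z, ⟨e⟩⟩ := exists_iso_of_mono hK m hm
  obtain ⟨σ, hσ⟩ := (yon S).map_surjective (e.hom ≫ s)
  obtain ⟨τ, hτ⟩ := (yon S).map_surjective (e.hom ≫ t)
  have sqZ : IsPullback ((yon S).map τ) ((yon S).map σ) q q :=
    IsPullback.of_iso sq e.symm (Iso.refl _) (Iso.refl _) (Iso.refl _)
      (by simp [hτ]) (by simp [hσ]) (by simp) (by simp)
  have he : RepWith @Etale e.hom := MorphismProperty.relative.of_exists fun A g => by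
    obtain ⟨φ, hφ⟩ := (yon S).map_surjective (g ≫ e.inv)
    exact ⟨A, (yon S).map φ, 𝟙 A, IsPullback.of_vert_isIso ⟨by simp [hφ]⟩,
      (inferInstance : Etale (𝟙 A.left))⟩
  have hσ₁ : Flat σ.left := locP_apply hfl he hσ.symm
  have hσ₂ : LocallyOfFinitePresentation σ.left := locP_apply hfp he hσ.symm
  obtain ⟨ω, hω⟩ := (yon S).map_surjective (sqZ.isoIsPullback _ _ sqZ.flip).hom
  have : IsIso ((yon S).map ω) := by rw [hω]; infer_instance
  have : IsIso ω := isIso_of_fully_faithful (yon S) ω
  have : IsIso ω.left := inferInstanceAs (IsIso ((Over.forget S).map ω))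
  have ht : τ = ω ≫ σ := (yon S).map_injective (by
    rw [show (yon S).map (ω ≫ σ) = (yon S).map ω ≫ (yon S).map σ from (yon S).map_comp _ _, hω]
    exact (sqZ.isoIsPullback_hom_fst _ _ sqZ.flip).symm)
  have : Flat τ.left := by
    rw [ht, Over.comp_left]; exact MorphismProperty.RespectsIso.precomp @Flat ω.left σ.left hσ₁
  have : LocallyOfFinitePresentation τ.left := by
    rw [ht, Over.comp_left]
    exact MorphismProperty.RespectsIso.precomp @LocallyOfFinitePresentation ω.left σ.left hσ₂
  exact isAlgSpace_of_kernelPair_fppf hq sqZ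

theorem etale_le_flat : (@Etale : MorphismProperty Scheme.{u}) ≤ @Flat :=
  fun _ _ f hf => by haveI := hf; exact inferInstance

theorem etale_le_lfp : (@Etale : MorphismProperty Scheme.{u}) ≤ @LocallyOfFinitePresentation :=
  fun _ _ f hf => by haveI := hf; exact inferInstance

/-- A sheaf with an fppf cover by a space, representable by spaces, is an algebraic space. -/
theorem isAlgSpace_of_fppf_cover {X : Sp S} (hX : IsAlgSpace X) (p : X ⟶ F)
    (hp : RepBySpWith (fppfSp S) p.hom) : IsAlgSpace F := by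
  obtain ⟨U, a, ha, has⟩ := hX.atlas
  have sqP := IsPullback.of_hasPullback p (a ≫ p)
  obtain ⟨hP, hQ⟩ := (repBySpWith_hom_iff _ p).1 hp (a ≫ p) _ _ sqP
  have sqK := IsPullback.of_hasPullback a (pullback.fst p (a ≫ p))
  have hK := isAlgSpace_of_isPullback sqK (IsAlgSpace.yon_obj U) hP hX.diag
  have h1 : LocP @Etale (pullback.snd a (pullback.fst p (a ≫ p))) :=
    locP_of_repWith hK.diag hP ((repWith_isStableUnderBaseChange _).of_isPullback sqK ha)
  exact isAlgSpace_of_space_kernelPair (locLift_comp (locLift_of_atlas ha has) (locLift_of_repBySpWith hp))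
    (sqK.paste_vert sqP) hK
    (locP_comp hK hP (IsAlgSpace.yon_obj U) (LocP.of_le etale_le_flat h1) hQ.1.2)
    (locP_comp hK hP (IsAlgSpace.yon_obj U) (LocP.of_le etale_le_lfp h1) hQ.2)

/-- The quotient of a space by a flat, locally finitely presented relation is an algebraic space. -/
theorem isAlgSpace_quotSp {R U : Sp S} {s t : R ⟶ U} (hR : IsAlgSpace R) (hU : IsAlgSpace U)
    (h : IsEqvRelSp s t) (hfl : LocP @Flat s) (hfp : LocP @LocallyOfFinitePresentation s) :
    IsAlgSpace (quotSp s t) := by
  obtain ⟨M, a, ha, has⟩ := hU.atlas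
  have sq₀ := quotSp_kernelPair h
  have sqA := IsPullback.of_hasPullback a t
  have hA := isAlgSpace_of_isPullback sqA (IsAlgSpace.yon_obj M) hR hU.diag
  have sqA' : IsPullback (pullback.fst a t) (pullback.snd a t ≫ s) (a ≫ quotSpπ s t) (quotSpπ s t) :=
    (sqA.flip.paste_horiz sq₀.flip).flip
  have hsnd : LocP @Etale (pullback.snd a t) :=
    locP_of_repWith hA.diag hR ((repWith_isStableUnderBaseChange _).of_isPullback sqA ha)
  have sqK := IsPullback.of_hasPullback (pullback.snd a t ≫ s) a
  have hK := isAlgSpace_of_isPullback sqK hA (IsAlgSpace.yon_obj M) hU.diag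
  exact isAlgSpace_of_space_kernelPair (locLift_comp (locLift_of_atlas ha has) (locLift_quotSpπ s t))
    (sqK.paste_horiz sqA') hK
    (locP_baseChange sqK hA hU (IsAlgSpace.yon_obj M)
      (locP_comp hA hR hU (LocP.of_le etale_le_flat hsnd) hfl))
    (locP_baseChange sqK hA hU (IsAlgSpace.yon_obj M)
      (locP_comp hA hR hU (LocP.of_le etale_le_lfp hsnd) hfp))

end Groth.Agent.SpPts86
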