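import Groth.Agent.SpPts86.LqfSep
import Groth.Agent.SpPts86.Unram
import Groth.Agent.AlgSt88.RepBySp
import Groth.Agent.SpFP87.LocPRep
import Mathlib.AlgebraicGeometry.Morphisms.FlatMono

/-!
Covers representable by algebraic spaces: monomorphisms are quasi-finite, targets have representable
diagonal.
-/

universe u

set_option autoImplicit false

open CategoryTheory CategoryTheory.Limits AlgebraicGeometry
open AlgSp Groth.Agent.SpFP87

namespace Groth.Agent.SpPts86

variable {S : Scheme.{u}} {X Y F G : Sp S}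

/-- Flat, surjective, locally of finite presentation, for morphisms of spaces. -/
abbrev fppfSp (S : Scheme.{u}) : MorphismProperty (Sp S) :=
  IsSurjectiveMor ⊓ LocP @Flat ⊓ LocP @LocallyOfFinitePresentation

theorem locP_lqf_of_mono {f : X ⟶ Y} [Mono f] (hX : IsAlgSpace X)
    (h : LocP @LocallyOfFiniteType f) :
    LocP (@LocallyQuasiFinite ⊓ @LocallyOfFiniteType) f := fun W V a b h' ha hb w => by
  have hlft : LocallyOfFiniteType h'.left := h a b h' ha hb w
  obtain ⟨R, t, s, sq⟩ := exists_isPullback_yon hX.diag a a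
  have : Etale s.left := (etale_of_isPullback ha sq).1
  let D : Over S := Over.mk (pullback.fst h'.left h'.left ≫ W.hom)
  let d₁ : D ⟶ W := Over.homMk (pullback.fst h'.left h'.left) rfl
  let d₂ : D ⟶ W := Over.homMk (pullback.snd h'.left h'.left) (by
    change pullback.snd h'.left h'.left ≫ W.hom = pullback.fst h'.left h'.left ≫ W.hom
    rw [← Over.w h', ← pullback.condition_assoc])
  have hd : d₁ ≫ h' = d₂ ≫ h' := Over.OverMorphism.ext pullback.condition
  obtain ⟨m, hm⟩ := (yon S).map_surjective (sq.lift ((yon S).map d₁) ((yon S).map d₂) (by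
    rw [← cancel_mono f, Category.assoc, Category.assoc, w, ← Functor.map_comp_assoc,
      ← Functor.map_comp_assoc, hd]))
  have mt : m ≫ t = d₁ := (yon S).map_injective (by rw [Functor.map_comp, hm, sq.lift_fst])
  have ms : m ≫ s = d₂ := (yon S).map_injective (by rw [Functor.map_comp, hm, sq.lift_snd])
  have : Mono m.left := ⟨fun {Z} x y e => pullback.hom_ext
    (show x ≫ d₁.left = y ≫ d₁.left by rw [← mt, Over.comp_left, reassoc_of% e])
    (show x ≫ d₂.left = y ≫ d₂.left by rw [← ms, Over.comp_left, reassoc_of% e])⟩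
  let e := pullback.diagonal h'.left ≫ m.left
  have he : e ≫ s.left = 𝟙 W.left := by
    rw [Category.assoc, ← Over.comp_left, ms]
    exact pullback.diagonal_snd h'.left
  have : Etale (e ≫ s.left) := by rw [he]; infer_instance
  have : Etale e := Etale.of_comp e s.left
  have : Mono e := mono_of_mono_fac he
  have : IsOpenImmersion e := IsOpenImmersion.of_flat_of_mono e
  have sqm : IsPullback (𝟙 W.left) (pullback.diagonal h'.left) e m.left :=
    IsPullback.of_isLimit (PullbackCone.IsLimit.mk (Category.id_comp _) (fun c => c.fst) (fun c => by simp)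
      (fun c => by
        have := c.condition
        rw [← cancel_mono m.left, Category.assoc]
        exact this) (fun c k hk _ => by simpa using hk))
  have : IsOpenImmersion (pullback.diagonal h'.left) :=
    MorphismProperty.of_isPullback (P := @IsOpenImmersion) sqm ‹_›
  have hun : FormallyUnramified h'.left := inferInstance
  exact ⟨locallyQuasiFinite_of_unramified h'.left hlft hun, hlft⟩

/-- A monomorphism locally of finite type into a scheme comes from a scheme. -/
theorem exists_iso_of_mono {T : Over S} (hX : IsAlgSpace X) (f : X ⟶ (yon S).obj T) [Mono f]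
    (h : LocP @LocallyOfFiniteType f) : ∃ Z : Over S, Nonempty ((yon S).obj Z ≅ X) :=
  exists_iso_of_lqf_separated hX (isSeparatedMor_of_mono f) (locP_lqf_of_mono hX h)

/-- A chart of a space over a scheme. -/
theorem locP_apply {T : Over S} {P : MorphismProperty Scheme.{u}} {f : X ⟶ (yon S).obj T}
    (h : LocP P f) {U : Over S} {a : (yon S).obj U ⟶ X} (ha : RepWith @Etale a) {v : U ⟶ T}
    (hv : a ≫ f = (yon S).map v) : P v.left :=
  h a (𝟙 _) v ha (repWith_id _ T) (by rw [hv, Category.comp_id])

theorem fppfSurj_of_fppfSp {T : Over S} {f : X ⟶ (yon S).obj T} (h : fppfSp S f) {U : Over S}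
    {a : (yon S).obj U ⟶ X} (ha : RepWith @Etale a) (has : RepWith @Surjective a) {v : U ⟶ T}
    (hv : a ≫ f = (yon S).map v) : fppfSurj v.left := by
  refine (fppfSurj_iff _).2 ⟨⟨fun z => ?_⟩, locP_apply h.1.2 ha hv, locP_apply h.2 ha hv⟩
  obtain ⟨x, hx⟩ := h.1.1 (Points.schemeHomeo T z)
  obtain ⟨y, rfl⟩ := surjective_ofPt has x
  refine ⟨y, (Points.schemeHomeo T).injective ?_⟩
  rw [← hx, Points.map_ofPt, hv, ofPt_yon_map]
  rfl

/-- A flat surjective lfp map representable by spaces has fppf local lifts. -/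
theorem locLift_of_repBySpWith {a : F ⟶ G} (ha : RepBySpWith (fppfSp S) a.hom) : LocLift a :=
  fun T g => by
    obtain ⟨hP, hQ⟩ := (repBySpWith_hom_iff _ a).1 ha g _ _ (IsPullback.of_hasPullback a g)
    obtain ⟨U, u, hu, hus⟩ := hP.atlas
    obtain ⟨v, hv⟩ := (yon S).map_surjective (u ≫ pullback.snd a g)
    refine ⟨U, v, u ≫ pullback.fst a g, fppfSurj_of_fppfSp hQ hu hus hv.symm, ?_⟩
    rw [Category.assoc, pullback.condition, hv, Category.assoc]

theorem isSeparated_of_isSeparatedMor {U V : Over S} {s : U ⟶ V}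
    (h : IsSeparatedMor ((yon S).map s)) : IsSeparated s.left :=
  (isSeparatedMor_yon_map_iff s).1 h

theorem isSeparatedMor_iso_comp {X' : Sp S} (e : X' ≅ X) {f : X ⟶ Y} (h : IsSeparatedMor f) :
    IsSeparatedMor (e.hom ≫ f) :=
  isSeparatedMor_comp (isSeparatedMor_of_mono e.hom) h

/-- Separated locally quasi-finite maps representable by spaces are representable by schemes. -/
theorem repWith_sepLQF_of_repBySp {a : F ⟶ G}
    (ha : RepBySpWith (IsSeparatedMor ⊓ LocP (@LocallyQuasiFinite ⊓ @LocallyOfFiniteType)) a.hom) :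
    RepWith sepLQF a := by
  refine MorphismProperty.relative.of_exists fun T g => ?_
  obtain ⟨hP, hsep, hqf⟩ := (repBySpWith_hom_iff _ a).1 ha g _ _ (IsPullback.of_hasPullback a g)
  obtain ⟨Z, ⟨e⟩⟩ := exists_iso_of_lqf_separated hP hsep hqf
  obtain ⟨s, hs⟩ := (yon S).map_surjective (e.hom ≫ pullback.snd a g)
  refine ⟨Z, e.hom ≫ pullback.fst a g, s,
    IsPullback.of_iso (IsPullback.of_hasPullback a g) e.symm (Iso.refl _) (Iso.refl _) (Iso.refl _)
      (by simp) (by simp [hs]) (by simp) (by simp), ?_⟩
  refine ⟨isSeparated_of_isSeparatedMor (hs ▸ isSeparatedMor_iso_comp e hsep), ?_⟩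
  have he : RepWith @Etale e.hom := MorphismProperty.relative.of_exists fun A g => by
    obtain ⟨φ, hφ⟩ := (yon S).map_surjective (g ≫ e.inv)
    exact ⟨A, (yon S).map φ, 𝟙 A, IsPullback.of_vert_isIso ⟨by simp [hφ]⟩,
      (inferInstance : Etale (𝟙 A.left))⟩
  exact locP_apply hqf he hs.symm

/-- The target of a flat surjective lfp map from a space, representable by spaces, has representable
diagonal. -/
theorem representable_diag_of_fppf_cover (hX : IsAlgSpace X) (p : X ⟶ F)
    (hp : RepBySpWith (fppfSp S) p.hom) : Representable (Limits.diag F) := by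
  obtain ⟨U, a, ha, has⟩ := hX.atlas
  let q := a ≫ p
  have hq : LocLift q := fun T g => by
    obtain ⟨W, c, l, hc, hl⟩ := locLift_of_repBySpWith hp T g
    obtain ⟨W', c', l', hc', hl'⟩ := locLift_of_atlas ha has W l
    refine ⟨W', c' ≫ c, l', ?_, ?_⟩
    · obtain ⟨_, _, _⟩ := (fppfSurj_iff _).1 hc
      obtain ⟨_, _, _⟩ := (fppfSurj_iff _).1 hc'
      exact (fppfSurj_iff (c'.left ≫ c.left)).2 ⟨inferInstance, inferInstance, inferInstance⟩
    · rw [← Category.assoc, hl', Category.assoc, hl, Functor.map_comp, Category.assoc]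
  -- the kernel pair of the chart
  have sqP := IsPullback.of_hasPullback p q
  obtain ⟨hP, hQ⟩ := (repBySpWith_hom_iff _ p).1 hp q _ _ sqP
  have sqK := IsPullback.of_hasPullback a (pullback.fst p q)
  have hK := isAlgSpace_of_isPullback sqK (IsAlgSpace.yon_obj U) hP hX.diag
  let t : pullback a (pullback.fst p q) ⟶ (yon S).obj U := pullback.fst _ _
  let s : pullback a (pullback.fst p q) ⟶ (yon S).obj U := pullback.snd _ _ ≫ pullback.snd p q
  have sqts : IsPullback t s q q := sqK.paste_vert sqP
  have hl := locLift_prod_map hq hq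
  have sqd := isPullback_diag_of_kernelPair sqts
  let W := U ⨯ U
  let m : pullback a (pullback.fst p q) ⟶ (yon S).obj W :=
    prod.lift t s ≫ inv (prodComparison (yon S) U U)
  have hm₁ : m ≫ (yon S).map (prod.fst : U ⨯ U ⟶ U) = t := by
    rw [Category.assoc, inv_prodComparison_map_fst]
    exact prod.lift_fst t s
  have hm₂ : m ≫ (yon S).map (prod.snd : U ⨯ U ⟶ U) = s := by
    rw [Category.assoc, inv_prodComparison_map_snd]
    exact prod.lift_snd t s
  have : Mono m := ⟨fun {Z} x y e => sqts.hom_ext
    (by rw [← hm₁, reassoc_of% e]) (by rw [← hm₂, reassoc_of% e])⟩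
  have hs : LocP @LocallyOfFinitePresentation s := by
    have h1 : RepWith @Etale (pullback.snd a (pullback.fst p q)) :=
      (repWith_isStableUnderBaseChange _).of_isPullback sqK ha
    exact locP_comp hK hP (IsAlgSpace.yon_obj U)
      (LocP.of_le (fun _ _ f hf => by haveI := hf; exact inferInstance)
        (locP_of_repWith hK.diag hP h1)) hQ.2
  have hm : LocP @LocallyOfFiniteType m := fun W' V c d h hc hd w => by
    obtain ⟨d₀, rfl⟩ := (yon S).map_surjective d
    have h1 := locP_apply hs hc (v := h ≫ d₀ ≫ prod.snd) (by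
      rw [← hm₂, reassoc_of% w, Functor.map_comp, Functor.map_comp])
    have : LocallyOfFinitePresentation (h.left ≫ d₀.left ≫ (prod.snd : U ⨯ U ⟶ U).left) := h1
    exact locallyOfFiniteType_of_comp h.left (d₀.left ≫ (prod.snd : U ⨯ U ⟶ U).left)
  obtain ⟨Z, ⟨e⟩⟩ := exists_iso_of_mono hK m hm
  obtain ⟨σ, hσ⟩ := (yon S).map_surjective (e.hom ≫ s)
  obtain ⟨τ, hτ⟩ := (yon S).map_surjective (e.hom ≫ t)
  have sqZ : IsPullback ((yon S).map τ) ((yon S).map σ) q q :=
    IsPullback.of_iso sqts e.symm (Iso.refl _) (Iso.refl _) (Iso.refl _)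
      (by simp [hτ]) (by simp [hσ]) (by simp) (by simp)
  have he : RepWith @Etale e.hom := MorphismProperty.relative.of_exists fun A g => by
    obtain ⟨φ, hφ⟩ := (yon S).map_surjective (g ≫ e.inv)
    exact ⟨A, (yon S).map φ, 𝟙 A, IsPullback.of_vert_isIso ⟨by simp [hφ]⟩,
      (inferInstance : Etale (𝟙 A.left))⟩
  have : LocallyOfFinitePresentation σ.left := locP_apply hs he hσ.symm
  have : LocallyOfFiniteType τ.left := by
    have ht : LocP @LocallyOfFiniteType t := fun W' V c d h hc hd w => by
      obtain ⟨d₀, rfl⟩ := (yon S).map_surjective d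
      have h1 : LocallyOfFiniteType (h.left ≫ d₀.left) → LocallyOfFiniteType h.left :=
        fun _ => locallyOfFiniteType_of_comp h.left d₀.left
      refine h1 ?_
      obtain ⟨sw, hsw⟩ : ∃ sw : pullback a (pullback.fst p q) ⟶ pullback a (pullback.fst p q),
          sw ≫ s = t ∧ sw ≫ t = s := ⟨sqts.lift s t sqts.w.symm, sqts.lift_snd _ _ _, sqts.lift_fst _ _ _⟩
      have hswsw : sw ≫ sw = 𝟙 _ := sqts.hom_ext
        (by rw [Category.assoc, hsw.2, hsw.1, Category.id_comp])
        (by rw [Category.assoc, hsw.1, hsw.2, Category.id_comp])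
      have : IsIso sw := ⟨sw, hswsw, hswsw⟩
      have hc' : RepWith @Etale (c ≫ sw) :=
        MorphismProperty.RespectsIso.postcomp (RepWith (@Etale : MorphismProperty Scheme.{u})) sw c hc
      exact locP_apply (LocP.of_le (Q := @LocallyOfFiniteType)
        (fun _ _ f hf => by haveI := hf; exact inferInstance) hs) hc' (v := h ≫ d₀)
        (by rw [Category.assoc, hsw.1, w, Functor.map_comp])
    exact locP_apply ht he hτ.symm
  have sqd' := isPullback_diag_of_kernelPair sqZ
  have hmono : Mono (prod.lift ((yon S).map τ) ((yon S).map σ)) := ⟨fun x y e => sqZ.hom_ext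
    (by simpa only [Category.assoc, prod.lift_fst] using congrArg (· ≫ prod.fst) e)
    (by simpa only [Category.assoc, prod.lift_snd] using congrArg (· ≫ prod.snd) e)⟩
  have hlft : RepWith @LocallyOfFiniteType (prod.lift ((yon S).map τ) ((yon S).map σ)) :=
    repWith_lft_prod_lift
  exact representable_of_locLift_effective hasEffDescent_sepLQF hl sqd'
    (repWith_mono mono_inf_lft_le_sepLQF (repWith_inf (repWith_monomorphisms_of_mono hlft.rep) hlft))

/-- A chart of a space, pushed to a sheaf along a map representable by spaces with the property. -/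
theorem repWith_comp_chart {P : MorphismProperty Scheme.{u}} [EtLoc P] {U : Over S}
    {a : (yon S).obj U ⟶ X} (hX : IsAlgSpace X) (ha : RepWith @Etale a) {p : X ⟶ F}
    (hp : RepBySpWith (LocP P) p.hom) (hrep : Representable (a ≫ p)) : RepWith P (a ≫ p) := by
  refine ⟨hrep, fun T V g fst snd sq => ?_⟩
  have sqp := IsPullback.of_hasPullback p g
  obtain ⟨hP, hQ⟩ := (repBySpWith_hom_iff _ p).1 hp g _ _ sqp
  let l := sqp.lift (fst ≫ a) ((yon S).map snd) (by rw [Category.assoc, sq.w])
  have sql : IsPullback fst l a (pullback.fst p g) :=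
    IsPullback.of_bot (by rw [sqp.lift_snd]; exact sq) (sqp.lift_fst _ _ _).symm sqp
  exact locP_apply hQ ((repWith_isStableUnderBaseChange _).of_isPullback sql ha)
    (sqp.lift_snd _ _ _)

end Groth.Agent.SpPts86
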