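import Groth.Agent.SpPts86.Coprod
import Groth.Agent.SpPts86.DiagCrit
import Groth.Agent.SpPts86.Graph
import Groth.Agent.SpPts86.EtaleMor

/-!
A sheaf covered by open algebraic subspaces is an algebraic space.
-/

universe u

set_option autoImplicit false

open CategoryTheory CategoryTheory.Limits AlgebraicGeometry Opposite
open AlgSp Groth.Agent.SpFP87

namespace Groth.Agent.SpPts86

variable {S : Scheme.{u}} {F : Sp S}

theorem isPullback_prodMap_id {A B C : Sp S} (f : A ⟶ B) :
    IsPullback prod.snd (prod.map (𝟙 C) f) f prod.snd := by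
  have w : prod.snd ≫ f = prod.map (𝟙 C) f ≫ prod.snd := (prod.map_snd _ _).symm
  refine ⟨⟨w⟩, ⟨PullbackCone.IsLimit.mk w (fun c => prod.lift (c.snd ≫ prod.fst) c.fst)
    (fun c => prod.lift_snd _ _) (fun c => ?_) (fun c m h1 h2 => ?_)⟩⟩
  · apply Limits.prod.hom_ext
    · rw [Category.assoc, prod.map_fst, Category.comp_id]; exact prod.lift_fst _ _
    · rw [Category.assoc, prod.map_snd, prod.lift_snd_assoc, c.condition]
  · apply Limits.prod.hom_ext
    · rw [prod.lift_fst, ← h2, Category.assoc, prod.map_fst, Category.comp_id]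
    · rw [prod.lift_snd, h1]

theorem representable_diag_of_open_cover {ι : Type u} (Fi : ι → Sp S) (f : ∀ i, Fi i ⟶ F)
    (halg : ∀ i, Representable (Limits.diag (Fi i))) (hopen : ∀ i, RepWith @IsOpenImmersion (f i))
    (hs : ∀ x : Points F, ∃ i, x ∈ Set.range (Points.map (f i))) :
    Representable (Limits.diag F) := by
  intro T g
  have hgraph : ∀ i, Representable (prod.lift (𝟙 (Fi i)) (f i)) := fun i => by
    have e : prod.lift (𝟙 (Fi i)) (f i) = Limits.diag (Fi i) ≫ prod.map (𝟙 (Fi i)) (f i) := by
      apply Limits.prod.hom_ext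
      · simp only [Category.assoc, prod.lift_fst, prod.map_fst, prod.lift_fst_assoc, Category.comp_id]
      · simp only [Category.assoc, prod.lift_snd, prod.map_snd, prod.lift_snd_assoc, Category.id_comp]
    rw [e]
    exact (Functor.relativelyRepresentable (yon S)).comp_mem _ _ (halg i)
      ((repWith_isStableUnderBaseChange _).of_isPullback (isPullback_prodMap_id (f i)) (hopen i)).rep
  choose V snd fst sqV using fun i => (hopen i).rep (g ≫ prod.fst)
  have hI : ∀ i, IsOpenImmersion (snd i).left := fun i => (hopen i).property _ _ _ (sqV i)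
  refine Exists.elim (exists_isPullback_of_opens g (fun i => (snd i).left.opensRange) (fun t => ?_)
    fun i => ?_) fun W h => ⟨W, h⟩
  · obtain ⟨i, hi⟩ := hs (Points.ofPt (g ≫ prod.fst) t)
    exact ⟨i, (preimage_ofPt_range_map (sqV i)).le hi⟩
  · let O := (snd i).left.opensRange
    obtain ⟨m, hm⟩ : ∃ m : (yon S).obj (openOver T O) ⟶ Fi i,
        m ≫ f i = (yon S).map (openIncl T O) ≫ g ≫ prod.fst := by
      refine exists_factor_of_range_subset (hopen i) _ ?_
      rintro _ ⟨x, rfl⟩
      obtain ⟨t, rfl⟩ := (Points.schemeHomeo (openOver T O)).surjective x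
      have := (preimage_ofPt_range_map (sqV i)).ge t.2
      rw [Points.map_comp, Points.map_yon_map_apply]
      change Points.map (g ≫ prod.fst) (Points.ofScheme T t.1) ∈ _
      rw [← Points.ofPt_eq_map_ofScheme]
      exact this
    let h : (yon S).obj (openOver T O) ⟶ Fi i ⨯ F :=
      prod.lift m ((yon S).map (openIncl T O) ≫ g ≫ prod.snd)
    have hh : h ≫ prod.map (f i) (𝟙 F) = (yon S).map (openIncl T O) ≫ g := by
      apply Limits.prod.hom_ext
      · simp only [h, Category.assoc, prod.map_fst, prod.lift_fst_assoc, hm]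
      · rw [Category.assoc, prod.map_snd, Category.comp_id, Category.assoc]
        exact prod.lift_snd _ _
    have := mono_of_repWith_le isOpenImmersion_le_monomorphisms (hopen i)
    have sq := isPullback_prodLift (X := F) (f := 𝟙 (Fi i)) (g := f i) (a := f i) (b := 𝟙 F)
      (IsPullback.of_horiz_isIso_mono ⟨by simp⟩)
    obtain ⟨W, s, p, sqW⟩ := hgraph i h
    exact ⟨W, s, p ≫ 𝟙 _ ≫ f i, by rw [← hh]; exact sqW.paste_horiz sq⟩

/-- A sheaf covered by open algebraic subspaces is an algebraic space. -/
theorem isAlgSpace_of_open_cover {ι : Type u} (Fi : ι → Sp S) (f : ∀ i, Fi i ⟶ F)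
    (halg : ∀ i, IsAlgSpace (Fi i)) (hopen : ∀ i, RepWith @IsOpenImmersion (f i))
    (hs : ∀ x : Points F, ∃ i, x ∈ Set.range (Points.map (f i))) : IsAlgSpace F := by
  have hd := representable_diag_of_open_cover Fi f (fun i => (halg i).diag) hopen hs
  choose U a ha has using fun i => (halg i).atlas
  obtain ⟨p, hp⟩ := sigma_glue U fun i => a i ≫ f i
  have hrep : Representable p := Functor.relativelyRepresentable.of_diag hd _
  have hai : ∀ i, RepWith @Etale (a i ≫ f i) := fun i =>
    ((RepWith (@Etale : MorphismProperty Scheme.{u})).comp_mem _ _ (ha i)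
      (repWith_mono (fun _ _ q (hq : IsOpenImmersion q) => (inferInstance : Etale q)) (hopen i)))
  refine ⟨hd, sigmaOver U, p, ⟨hrep, fun T V g fst snd sq => ?_⟩, ?_⟩
  · obtain ⟨φ, rfl⟩ := (yon S).map_surjective fst
    have hc : ∀ i, IsOpenImmersion (sigmaIn U i).left := fun i =>
      inferInstanceAs (IsOpenImmersion (Sigma.ι (fun i => (U i).left) i))
    have hcov : ∀ x : ↥(sigmaOver U).left, ∃ i, x ∈ Set.range (sigmaIn U i).left := fun x => by
      obtain ⟨⟨i, w⟩, hw⟩ := (sigmaMk (fun i => (U i).left)).surjective x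
      exact ⟨i, w, by rw [← hw, sigmaMk_mk]; rfl⟩
    have : IsZariskiLocalAtSource (@Etale : MorphismProperty Scheme.{u}) :=
      HasRingHomProperty.instIsZariskiLocalAtSource
    change Etale snd.left
    refine (IsZariskiLocalAtSource.iff_of_iSup_eq_top (P := @Etale)
      (fun i => φ.left ⁻¹ᵁ (sigmaIn U i).left.opensRange)
      (TopologicalSpace.Opens.ext (by ext v; simpa using hcov (φ.left v)))).2 fun i => ?_
    have sqi : IsPullback (pullback.snd φ (sigmaIn U i)) (pullback.fst φ (sigmaIn U i)) (sigmaIn U i) φ :=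
      (IsPullback.of_hasPullback φ (sigmaIn U i)).flip
    have sq' : IsPullback ((yon S).map (pullback.snd φ (sigmaIn U i)))
        ((yon S).map (pullback.fst φ (sigmaIn U i) ≫ snd)) (a i ≫ f i) g := by
      rw [← hp i, Functor.map_comp]
      exact (sqi.map (yon S)).paste_vert sq
    have hE : Etale ((pullback.fst φ (sigmaIn U i)).left ≫ snd.left) := (hai i).property g _ _ sq'
    have sq0 := (sqi.map (Over.forget S)).flip
    have e := isPullback_morphismRestrict φ.left (sigmaIn U i).left.opensRange
    have hfst : IsOpenImmersion (pullback.fst φ (sigmaIn U i)).left :=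
      MorphismProperty.of_isPullback (P := @IsOpenImmersion) sq0.flip (hc i)
    have hr : (φ.left ⁻¹ᵁ (sigmaIn U i).left.opensRange).ι.opensRange =
        (pullback.fst φ (sigmaIn U i)).left.opensRange := by
      rw [Scheme.Opens.opensRange_ι]
      apply TopologicalSpace.Opens.ext
      have hsurj : Function.Surjective sq0.isoPullback.hom := sq0.isoPullback.hom.surjective
      refine (IsOpenImmersion.range_pullbackFst (sigmaIn U i).left φ.left).symm.trans ?_
      refine (hsurj.range_comp _).symm.trans (congrArg Set.range (funext fun x => ?_))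
      exact congrArg (fun q : _ ⟶ V.left => q x) sq0.isoPullback_hom_fst
    let k := IsOpenImmersion.lift (pullback.fst φ (sigmaIn U i)).left
      (φ.left ⁻¹ᵁ (sigmaIn U i).left.opensRange).ι (congrArg SetLike.coe hr).le
    have hk : k ≫ (pullback.fst φ (sigmaIn U i)).left = (φ.left ⁻¹ᵁ (sigmaIn U i).left.opensRange).ι :=
      IsOpenImmersion.lift_fac _ _ _
    rw [← hk, Category.assoc]
    have : IsOpenImmersion k := IsOpenImmersion.of_comp k (pullback.fst φ (sigmaIn U i)).left
    infer_instance
  · refine (repWith_surjective_iff hrep).2 fun x => ?_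
    obtain ⟨i, y, rfl⟩ := hs x
    obtain ⟨u, hu⟩ := surjective_ofPt (has i) y
    refine ⟨Points.schemeHomeo (sigmaOver U) ((sigmaIn U i).left u), ?_⟩
    rw [← hu, Points.map_ofPt, ← hp i, ofPt_comp, Points.ofPt_eq_map_ofScheme]
    rfl

end Groth.Agent.SpPts86
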