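import Groth.Agent.SpPts86.BootSpace
import Groth.Agent.SpPts86.OpenCoverSp

/-!
Being an algebraic space is fppf local.
-/

universe u

set_option autoImplicit false

open CategoryTheory CategoryTheory.Limits AlgebraicGeometry
open AlgSp Groth.Agent.SpFP87

namespace Groth.Agent.SpPts86

variable {S : Scheme.{u}} {F G : Sp S}

/-- A representable fppf map is representable by spaces, with the same property. -/
theorem repBySpWith_fppfSp_of_repWith {a : F ⟶ G} (ha : RepWith fppfSurj a) :
    RepBySpWith (fppfSp S) a.hom := by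
  refine (repBySpWith_hom_iff _ a).2 fun T ξ F' fst snd sq => ?_
  obtain ⟨v, hv₀⟩ : ∃ v, v = ha.rep.snd ξ := ⟨_, rfl⟩
  obtain ⟨p, sqV⟩ : ∃ p, IsPullback p ((yon S).map v) a ξ := ⟨ha.rep.fst ξ, hv₀ ▸ ha.rep.isPullback ξ⟩
  have hv := ha.property ξ p v sqV
  obtain ⟨hs, hfl, hfp⟩ := (fppfSurj_iff _).1 hv
  let e := sq.isoIsPullback _ _ sqV
  have hsnd : snd = e.hom ≫ (yon S).map v := (sq.isoIsPullback_hom_snd _ _ sqV).symm
  have hF' : IsAlgSpace F' := (IsAlgSpace.yon_obj _).of_iso e.symm
  refine ⟨hF', ⟨?_, ?_⟩, ?_⟩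
  · intro y
    obtain ⟨x, hx⟩ := (repWith_surjective_iff ((repWith_yon_map_iff _ v).2 hs).rep).1
      ((repWith_yon_map_iff _ v).2 hs) y
    refine ⟨Points.map e.inv x, ?_⟩
    rw [hsnd, ← Points.map_comp, ← Category.assoc, Iso.inv_hom_id, Category.id_comp, hx]
  · have : MorphismProperty.ContainsIdentities (@LocallyOfFinitePresentation : MorphismProperty Scheme.{u}) :=
      ⟨fun X => (inferInstance : LocallyOfFinitePresentation (𝟙 X))⟩
    rw [hsnd]
    exact locP_comp hF' (IsAlgSpace.yon_obj _) (IsAlgSpace.yon_obj T)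
      (locP_of_isIso _ hF' (IsAlgSpace.yon_obj _)) ((locP_yon_map_iff v).2 hfl)
  · have : MorphismProperty.ContainsIdentities (@LocallyOfFinitePresentation : MorphismProperty Scheme.{u}) :=
      ⟨fun X => (inferInstance : LocallyOfFinitePresentation (𝟙 X))⟩
    rw [hsnd]
    exact locP_comp hF' (IsAlgSpace.yon_obj _) (IsAlgSpace.yon_obj T)
      (locP_of_isIso _ hF' (IsAlgSpace.yon_obj _)) ((locP_yon_map_iff v).2 hfp)

/-- A map from a disjoint union with LocP on every piece has LocP. -/
theorem locP_sigma {P : MorphismProperty Scheme.{u}} [EtLoc P] [IsZariskiLocalAtSource P] {X : Sp S}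
    (hX : IsAlgSpace X) {ι : Type u} {V : ι → Over S} (L : (yon S).obj (sigmaOver V) ⟶ X)
    (h : ∀ i, LocP P ((yon S).map (sigmaIn V i) ≫ L)) : LocP P L := by
  obtain ⟨B, b, hb, hbs⟩ := hX.atlas
  obtain ⟨W, p, q, sq⟩ := exists_isPullback_yon hX.diag L b
  have hp : RepWith @Etale ((yon S).map p) :=
    (repWith_isStableUnderBaseChange (@Etale : MorphismProperty Scheme.{u})).of_isPullback sq.flip hb
  have hps : RepWith @Surjective ((yon S).map p) :=
    (repWith_isStableUnderBaseChange (@Surjective : MorphismProperty Scheme.{u})).of_isPullback sq.flip hbs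
  refine locP_of_chart (IsAlgSpace.yon_obj _).diag hX.diag hp hps hb sq.w ?_
  let W' : ι → Over S := fun i => pullback (sigmaIn V i) p
  let k : sigmaOver W' ⟶ W := sigmaOut fun i => pullback.snd (sigmaIn V i) p
  have hio : ∀ i, IsOpenImmersion (pullback.snd (sigmaIn V i) p).left := fun i =>
    MorphismProperty.of_isPullback (P := @IsOpenImmersion)
      ((IsPullback.of_hasPullback (sigmaIn V i) p).map (Over.forget S))
      (inferInstanceAs (IsOpenImmersion (Sigma.ι (fun i => (V i).left) i)))
  have hke : Etale k.left :=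
    IsZariskiLocalAtSource.sigmaDesc (P := @Etale) fun i => (by have := hio i; infer_instance)
  have hks : Surjective k.left := ⟨fun w => by
    obtain ⟨⟨i, v⟩, hv⟩ := (sigmaMk (fun i => (V i).left)).surjective (p.left w)
    rw [sigmaMk_mk] at hv
    obtain ⟨z, -, hz⟩ := Scheme.exists_preimage_of_isPullback
      ((IsPullback.of_hasPullback (sigmaIn V i) p).map (Over.forget S)) v w hv
    refine ⟨(sigmaIn W' i).left z, ?_⟩
    rw [← Scheme.Hom.comp_apply, ← Over.comp_left, sigmaIn_out]
    exact hz⟩
  refine EtLoc.of_cover k.left q.left hke hks ?_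
  have hq : ∀ i, P (pullback.snd (sigmaIn V i) p ≫ q).left := fun i => by
    have h1 : RepWith @Etale ((yon S).map (pullback.fst (sigmaIn V i) p)) :=
      (repWith_isStableUnderBaseChange (@Etale : MorphismProperty Scheme.{u})).of_isPullback
        ((IsPullback.of_hasPullback (sigmaIn V i) p).map (yon S)).flip hp
    refine h i ((yon S).map (pullback.fst (sigmaIn V i) p)) b _ h1 hb ?_
    rw [← Functor.map_comp_assoc, pullback.condition, Functor.map_comp, Category.assoc, sq.w,
      ← Functor.map_comp_assoc]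
  change P (Sigma.desc (fun i => (pullback.snd (sigmaIn V i) p).left) ≫ q.left)
  have e : (Sigma.desc (fun i => (pullback.snd (sigmaIn V i) p).left) ≫ q.left) =
      Sigma.desc (fun i => (pullback.snd (sigmaIn V i) p).left ≫ q.left) := Sigma.hom_ext _ _ fun i => by simp
  rw [e]
  exact IsZariskiLocalAtSource.sigmaDesc hq

/-- A sheaf over a space which is a space on the members of an fppf cover is a space. -/
theorem isAlgSpace_of_fppf_local {X : Sp S} (hX : IsAlgSpace X) {ι : Type u} (Xi : ι → Sp S)
    (hXi : ∀ i, IsAlgSpace (Xi i)) (g : ∀ i, Xi i ⟶ X) (hcov : IsFppfCover Xi g)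
    (p : F ⟶ X) (h : ∀ i, IsAlgSpace (pullback p (g i))) : IsAlgSpace F := by
  choose U a ha has using fun i => (hXi i).atlas
  obtain ⟨q, hq⟩ := sigma_glue U fun i => a i ≫ g i
  have hrep : Representable q := Functor.relativelyRepresentable.of_diag hX.diag q
  have hio : ∀ i, RepWith @IsOpenImmersion ((yon S).map (sigmaIn U i)) := fun i =>
    (repWith_yon_map_iff _ _).2 (inferInstanceAs (IsOpenImmersion (Sigma.ι (fun i => (U i).left) i)))
  have hqP : ∀ (P : MorphismProperty Scheme.{u}) [EtLoc P] [IsZariskiLocalAtSource P]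
      [P.DescendsAlong fppfSurj], (∀ i, LocP P (g i)) → RepWith P q := fun P _ _ _ hP =>
    repWith_of_locP hX hrep (locP_sigma hX q fun i => by
      rw [hq i]
      exact locP_comp (IsAlgSpace.yon_obj _) (hXi i) hX
        (locP_of_repWith (IsAlgSpace.yon_obj _).diag (hXi i)
          (repWith_mono (fun _ _ f hf => EtLoc.of_etale f hf) (ha i))) (hP i))
  have : MorphismProperty.DescendsAlong (@Flat : MorphismProperty Scheme.{u}) fppfSurj := flat_descends
  have : MorphismProperty.DescendsAlong (@LocallyOfFinitePresentation : MorphismProperty Scheme.{u}) fppfSurj :=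
    lfp_descends
  have : IsZariskiLocalAtSource (@Flat : MorphismProperty Scheme.{u}) :=
    HasRingHomProperty.instIsZariskiLocalAtSource
  have : IsZariskiLocalAtSource (@LocallyOfFinitePresentation : MorphismProperty Scheme.{u}) :=
    HasRingHomProperty.instIsZariskiLocalAtSource
  have hqs : IsSurjectiveMor q := by
    intro x
    obtain ⟨i, y, rfl⟩ := hcov.2 x
    obtain ⟨z, rfl⟩ := (repWith_surjective_iff (has i).rep).1 (has i) y
    refine ⟨Points.map ((yon S).map (sigmaIn U i)) z, ?_⟩
    rw [← Points.map_comp, hq, Points.map_comp]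
  have h1 := hqP @Flat fun i => (hcov.1 i).1
  have h2 := hqP @LocallyOfFinitePresentation fun i => (hcov.1 i).2
  have h3 : RepWith @Surjective q := (repWith_surjective_iff hrep).2 hqs
  have hfppf : RepWith fppfSurj q := ⟨hrep, fun _ _ ξ fst snd sq =>
    (fppfSurj_iff _).2 ⟨h3.property ξ fst snd sq, h1.property ξ fst snd sq, h2.property ξ fst snd sq⟩⟩
  let j : ∀ i, pullback (pullback.snd p q) ((yon S).map (sigmaIn U i)) ⟶ pullback p q :=
    fun i => pullback.fst _ _
  have hP : IsAlgSpace (pullback p q) := by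
    refine isAlgSpace_of_open_cover _ j (fun i => ?_)
      (fun i => (repWith_isStableUnderBaseChange (@IsOpenImmersion : MorphismProperty Scheme.{u})).of_isPullback
        (IsPullback.of_hasPullback _ _).flip (hio i)) fun x => ?_
    · have sq1 : IsPullback (j i ≫ pullback.fst p q) (pullback.snd _ _) p (a i ≫ g i) := by
        rw [← hq i]
        exact (IsPullback.of_hasPullback (pullback.snd p q) _).paste_horiz (IsPullback.of_hasPullback p q)
      let l := (IsPullback.of_hasPullback p (g i)).lift (j i ≫ pullback.fst p q)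
        (pullback.snd _ _ ≫ a i) (by rw [sq1.w, Category.assoc])
      have sq2 : IsPullback l (pullback.snd _ _) (pullback.snd p (g i)) (a i) :=
        IsPullback.of_right (by rw [IsPullback.lift_fst]; exact sq1) (IsPullback.lift_snd _ _ _ _)
          (IsPullback.of_hasPullback p (g i))
      exact isAlgSpace_of_isPullback sq2 (h i) (IsAlgSpace.yon_obj _) (hXi i).diag
    · obtain ⟨⟨i, u⟩, hu⟩ := (sigmaMk (fun i => (U i).left)).surjective
        (Points.toScheme _ (Points.map (pullback.snd p q) x))
      rw [sigmaMk_mk] at hu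
      obtain ⟨z, hz, -⟩ := exists_of_isPullback (IsPullback.of_hasPullback (pullback.snd p q)
        ((yon S).map (sigmaIn U i))) x (Points.ofScheme (U i) u) (by
        rw [← Points.ofPt_eq_map_ofScheme, ofPt_yon_map]
        exact (Points.ofScheme_toScheme _ _).symm.trans (congrArg _ hu.symm))
      exact ⟨i, z, hz⟩
  refine isAlgSpace_of_fppf_cover hP (pullback.fst p q) ?_
  exact repBySpWith_fppfSp_of_repWith
    ((repWith_isStableUnderBaseChange fppfSurj).of_isPullback (IsPullback.of_hasPullback p q).flip hfppf)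

end Groth.Agent.SpPts86
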