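import Groth.Agent.SpPts86.DvrRefinedApps
import Mathlib.RingTheory.PowerSeries.Inverse

/-!
Discrete valuation rings witnessing points in the closure of an image.
-/

universe u

set_option autoImplicit false
set_option backward.isDefEq.respectTransparency false
set_option linter.style.haveILetI false

open CategoryTheory CategoryTheory.Limits AlgebraicGeometry Topology IsLocalRing
open AlgSp Groth.Agent.SpFP87

namespace Groth.Agent.SpPts86

variable {S : Scheme.{u}} {X Y : Sp S}

theorem exists_dvr_scheme {X T : Scheme.{u}} [IsLocallyNoetherian T] (q : X ⟶ T) [LocallyOfFiniteType q]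
    (x : X) (v : T) (h : q x ⤳ v) :
    ∃ (A : Type u) (_ : CommRing A) (_ : IsDomain A) (_ : IsDiscreteValuationRing A)
      (a : Spec (CommRingCat.of (FractionRing A)) ⟶ X) (b : Spec (CommRingCat.of A) ⟶ T),
      a ≫ q = Spec.map (CommRingCat.ofHom (algebraMap A (FractionRing A))) ≫ b ∧
      b (IsLocalRing.closedPoint A) = v := by
  by_cases hne : v = q x
  · let k := X.residueField x
    let c : Spec (CommRingCat.of (PowerSeries k)) ⟶ X :=
      Spec.map (CommRingCat.ofHom (PowerSeries.C (R := k))) ≫ X.fromSpecResidueField x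
    refine ⟨PowerSeries k, inferInstance, inferInstance, inferInstance,
      Spec.map (CommRingCat.ofHom (algebraMap (PowerSeries k) (FractionRing (PowerSeries k)))) ≫ c,
      c ≫ q, Category.assoc _ _ _, ?_⟩
    rw [hne, Scheme.Hom.comp_apply, Scheme.Hom.comp_apply]
    exact congrArg q (Scheme.fromSpecResidueField_apply _ _)
  · obtain ⟨A, g, hA, hg, hw⟩ := EGA73.exists_dvr_hom q x v h hne
    obtain ⟨k, -, hk⟩ := LimTop61.exists_fractionRing_iso x A
    refine ⟨A, inferInstance, inferInstance, hA, k ≫ X.fromSpecResidueField x, g, ?_, hg⟩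
    rw [hk, Category.assoc, Category.assoc, hw]

theorem exists_dvr_diagram (hN : IsLocNoethSp Y) {f : X ⟶ Y} (hX : IsAlgSpace X) (hY : IsAlgSpace Y)
    (hft : IsFiniteTypeMor f) (y : Points Y) (hy : y ∈ closure (Set.range (Points.map f))) :
    ∃ (A : Type u) (_ : CommRing A) (_ : IsDomain A) (_ : IsDiscreteValuationRing A)
      (a : Spec (CommRingCat.of A) ⟶ S) (α : (yon S).obj (Over.mk a) ⟶ Y)
      (κ : (yon S).obj (Over.mk (Spec.map (CommRingCat.ofHom (algebraMap A (FractionRing A))) ≫ a)) ⟶ X),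
      κ ≫ f = (yon S).map (Over.homMk (Spec.map (CommRingCat.ofHom (algebraMap A (FractionRing A))))) ≫ α ∧
      Points.map α (Points.schemeEquiv (Over.mk a) (IsLocalRing.closedPoint A)) = y := by
  obtain ⟨T, t, v, hT, hTN, ht, rfl⟩ := exists_noeth_chart_pt hN y
  haveI := hT
  haveI := hTN
  have sqP := IsPullback.of_hasPullback f t
  have hP : IsAlgSpace (pullback f t) :=
    SpFP87.isAlgSpace_of_isPullback sqP hX (IsAlgSpace.yon_obj T) hY.diag
  obtain ⟨A₀, p, hp, hps, hA₀⟩ := hft.2 (IsAlgSpace.yon_obj T) (isQuasiCompactSp_yon T) t _ _ sqP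
  haveI := hA₀
  obtain ⟨q, hq⟩ := (yon S).map_surjective (p ≫ pullback.snd f t)
  have hqX : (p ≫ pullback.fst f t) ≫ f = (yon S).map q ≫ t := by
    rw [Category.assoc, pullback.condition, hq, Category.assoc]
  have hv : v ∈ closure (Set.range q.left) := by
    refine closure_mono ?_ ((isOpenMap_ofPt ht).preimage_closure_subset_closure_preimage hy)
    rintro v' ⟨x, hx⟩
    obtain ⟨w, hw1, hw2⟩ := exists_of_isPullback sqP x
      (Points.ofScheme T v') (by rw [← Points.ofPt_eq_map_ofScheme, hx])
    obtain ⟨a, rfl⟩ := surjective_ofPt hps w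
    rw [Points.map_ofPt, ← hq, ofPt_yon_map] at hw2
    exact ⟨a, (Points.schemeHomeo T).injective hw2⟩
  haveI : QuasiCompact q.left := (quasiCompact_iff_compactSpace q.left).2 hA₀
  haveI : LocallyOfFiniteType q.left :=
    (locP_baseChange sqP hX hY (IsAlgSpace.yon_obj T) hft.1) p (𝟙 _) q hp (repWith_id _ _)
      (by rw [Category.comp_id, hq])
  obtain ⟨x, hx⟩ := SchBasics.exists_specializes_of_mem_closure_range q.left hv
  obtain ⟨A, iA, iD, iV, a, b, hab, hb⟩ := exists_dvr_scheme q.left x v hx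
  let bT : (Over.mk (b ≫ T.hom) : Over S) ⟶ T := Over.homMk b rfl
  let aA : (Over.mk (Spec.map (CommRingCat.ofHom (algebraMap A (FractionRing A))) ≫ b ≫ T.hom) : Over S) ⟶ A₀ :=
    Over.homMk a (by
      show a ≫ A₀.hom = _
      rw [← Over.w q, reassoc_of% hab]
      rfl)
  refine ⟨A, iA, iD, iV, b ≫ T.hom, (yon S).map bT ≫ t, (yon S).map aA ≫ p ≫ pullback.fst f t, ?_, ?_⟩
  · refine (Category.assoc _ _ _).trans ((congrArg (_ ≫ ·) hqX).trans ((Category.assoc _ _ _).symm.trans
      (((congrArg (· ≫ t) (((yon S).map_comp _ _).symm.trans ((congrArg (yon S).map ?_).trans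
        ((yon S).map_comp _ _))))).trans (Category.assoc _ _ _))))
    exact Over.OverMorphism.ext hab
  · refine ((Points.ofPt_eq_map_ofScheme _ _).symm.trans (ofPt_comp _ _ _)).trans ?_
    exact congrArg (Points.ofPt t) hb

end Groth.Agent.SpPts86
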