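import Groth.Agent.SpPts86.HasAtMorInv
import Groth.Agent.SpPts86.Subspace
import Mathlib.AlgebraicGeometry.Morphisms.FormallyUnramified
import Mathlib.AlgebraicGeometry.Morphisms.QuasiFinite

/-!
A morphism has a local property iff it has it near every point.
-/

universe u

set_option autoImplicit false

open CategoryTheory CategoryTheory.Limits AlgebraicGeometry Topology
open AlgSp Groth.Agent.SpFP87

namespace Groth.Agent.SpPts86

variable {S : Scheme.{u}} {X Y : Sp S}

set_option backward.isDefEq.respectTransparency.types false in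
theorem etLoc_zarSource_of_list {P : MorphismProperty Scheme.{u}}
    (hP : P = @LocallyOfFiniteType ∨ P = @LocallyOfFinitePresentation ∨ P = @Flat ∨ P = @Smooth ∨ P = @Etale ∨
      (∀ ⦃A B : Scheme.{u}⦄ (g : A ⟶ B), P g ↔ (LocallyQuasiFinite g ∧ LocallyOfFiniteType g)) ∨
      (∀ ⦃A B : Scheme.{u}⦄ (g : A ⟶ B), P g ↔ (LocallyOfFiniteType g ∧ FormallyUnramified g))) :
    EtLoc P ∧ IsZariskiLocalAtSource P := by
  rcases hP with rfl | rfl | rfl | rfl | rfl | h | h
  · exact ⟨inferInstance, HasRingHomProperty.instIsZariskiLocalAtSource⟩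
  · exact ⟨inferInstance, HasRingHomProperty.instIsZariskiLocalAtSource⟩
  · exact ⟨inferInstance, HasRingHomProperty.instIsZariskiLocalAtSource⟩
  · exact ⟨inferInstance, HasRingHomProperty.instIsZariskiLocalAtSource⟩
  · exact ⟨inferInstance, HasRingHomProperty.instIsZariskiLocalAtSource⟩
  · obtain rfl : P = (@LocallyQuasiFinite ⊓ @LocallyOfFiniteType : MorphismProperty Scheme.{u}) := by
      ext A B g; exact h g
    have : IsZariskiLocalAtSource (@LocallyQuasiFinite : MorphismProperty Scheme.{u}) :=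
      HasRingHomProperty.instIsZariskiLocalAtSource
    have : IsZariskiLocalAtSource (@LocallyOfFiniteType : MorphismProperty Scheme.{u}) :=
      HasRingHomProperty.instIsZariskiLocalAtSource
    exact ⟨inferInstance, inferInstance⟩
  · obtain rfl : P = (@LocallyOfFiniteType ⊓ @FormallyUnramified : MorphismProperty Scheme.{u}) := by
      ext A B g; exact h g
    have : IsZariskiLocalAtSource (@FormallyUnramified : MorphismProperty Scheme.{u}) :=
      HasRingHomProperty.instIsZariskiLocalAtSource
    have : IsZariskiLocalAtSource (@LocallyOfFiniteType : MorphismProperty Scheme.{u}) :=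
      HasRingHomProperty.instIsZariskiLocalAtSource
    exact ⟨inferInstance, inferInstance⟩

variable {P : MorphismProperty Scheme.{u}} [EtLoc P]

theorem hasAtMor_near_of_locP (hX : IsAlgSpace X) (hY : IsAlgSpace Y) {f : X ⟶ Y} (hf : LocP P f)
    (x : Points X) : HasAtMor (NearPt P) f x := by
  obtain ⟨U, V, a, b, h, u, ha, hb, w, hu⟩ := exists_diagram_through hX hY f x
  exact ⟨U, V, a, b, h, u, ha, hb, w, hu, ⊤, trivial,
    P.comp_mem _ _ (EtLoc.of_etale _ inferInstance) (hf a b h ha hb w)⟩

theorem locP_iff_forall_near [IsZariskiLocalAtSource P] (hX : IsAlgSpace X) (hY : IsAlgSpace Y) (f : X ⟶ Y) :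
    LocP P f ↔ ∀ x, HasAtMor (NearPt P) f x := by
  refine ⟨fun hf x => hasAtMor_near_of_locP hX hY hf x, fun H U V a b h ha hb w => ?_⟩
  have key : ∀ u, NearPt P U.left V.left h.left u := fun u =>
    forall_diagram_of_hasAtMor hX hY (etInv_nearPt P) (H (Points.ofPt a u)) ha hb w rfl
  choose W hW hP using key
  exact (IsZariskiLocalAtSource.iff_of_iSup_eq_top W
    (top_le_iff.1 fun u _ => TopologicalSpace.Opens.mem_iSup.2 ⟨u, hW u⟩)).2 hP

/-- A point near which a morphism has `P` lies in an open subspace on which it has `P`. -/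
theorem exists_open_subspace_of_near (hX : IsAlgSpace X) (hY : IsAlgSpace Y) {f : X ⟶ Y} {x : Points X}
    (hx : HasAtMor (NearPt P) f x) :
    ∃ O : Set (Points X), IsOpen O ∧ x ∈ O ∧ LocP P (restrictι X O ≫ f) := by
  obtain ⟨U, V, a, b, h, u, ha, hb, w, rfl, W, hu, hP⟩ := hx
  let W' : Over S := Over.mk (W.ι ≫ U.hom)
  let i : W' ⟶ U := Over.homMk W.ι rfl
  let O := Points.ofPt a '' (W : Set ↥U.left)
  have hO : IsOpen O := isOpenMap_ofPt ha _ W.isOpen
  refine ⟨O, hO, ⟨u, hu, rfl⟩, ?_⟩
  have : Etale i.left := inferInstanceAs (Etale W.ι)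
  have haW : RepWith @Etale ((yon S).map i ≫ a) := repWith_etale_comp i ha
  have hj := repWith_restrictι (F := X) hO
  obtain ⟨a', ha'⟩ := exists_factor_of_range_subset hj ((yon S).map i ≫ a) (by
    rw [range_map_restrictι hO, range_map_yon]
    rintro _ ⟨t, rfl⟩
    rw [ofPt_comp]
    exact ⟨_, t.2, rfl⟩)
  have : Mono (restrictι X O) := inferInstance
  have sq : IsPullback a' (𝟙 _) (restrictι X O) ((yon S).map i ≫ a) :=
    ⟨⟨by rw [Category.id_comp, ha']⟩, ⟨PullbackCone.IsLimit.mk _ (fun c => c.snd)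
      (fun c => by rw [← cancel_mono (restrictι X O), Category.assoc, ha', c.condition])
      (fun c => Category.comp_id _) (fun c m _ h2 => by rw [← h2]; exact (Category.comp_id _).symm)⟩⟩
  have hOX : IsAlgSpace (restrictSheaf X O) := isAlgSpace_restrictSheaf hX hO
  have ha'e : RepWith @Etale a' := by
    refine repWith_etale_of_isEtaleMor hOX (Functor.relativelyRepresentable.of_diag hOX.diag a') ?_
    exact Groth.Agent.SpPts86.isEtaleMor_of_comp hOX (isEtaleMor_of_repWith_etale (repWith_mono
      (fun _ _ g (_ : IsOpenImmersion g) => (inferInstance : Etale g)) hj))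
      (ha' ▸ isEtaleMor_of_repWith_etale haW)
  have ha's : RepWith @Surjective a' :=
    (repWith_surjective_iff ha'e.rep).2 fun y => by
      obtain ⟨z, hz, hzy⟩ : Points.map (restrictι X O) y ∈ O := (range_map_restrictι hO).le ⟨y, rfl⟩
      refine ⟨Points.ofScheme W' (⟨z, hz⟩ : W.toScheme), injective_map_of_mono (restrictι X O) ?_⟩
      rw [← Points.ofPt_eq_map_ofScheme, Points.map_ofPt, ha', ofPt_comp]
      exact hzy
  refine locP_of_chart (h := i ≫ h) hOX.diag hY.diag ha'e ha's hb ?_ hP
  rw [← Category.assoc, ha', Category.assoc, w, Functor.map_comp, Category.assoc]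

theorem near_of_open_subspace (hX : IsAlgSpace X) (hY : IsAlgSpace Y) {f : X ⟶ Y} {X' : Sp S} (hX' : IsAlgSpace X')
    {j : X' ⟶ X} (hj : RepWith @IsOpenImmersion j) (hP : LocP P (j ≫ f)) (y : Points X') :
    HasAtMor (NearPt P) f (Points.map j y) := by
  obtain ⟨U, V, a, b, h, u, ha, hb, w, hu, hn⟩ := hasAtMor_near_of_locP hX' hY hP y
  have hje : RepWith @Etale j := repWith_mono (fun _ _ g (_ : IsOpenImmersion g) => (inferInstance : Etale g)) hj
  exact ⟨U, V, a ≫ j, b, h, u, isEtaleMor_of_repWith_etale hje a ha, hb, by rw [Category.assoc, w],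
    by rw [← hu, Points.map_ofPt], hn⟩

end Groth.Agent.SpPts86
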