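import Mathlib.RingTheory.Spectrum.Prime.Chevalley
import Mathlib.RingTheory.FiniteType
import Mathlib.FieldTheory.IntermediateField.Algebraic
import Mathlib.FieldTheory.AlgebraicClosure
import Mathlib.RingTheory.Flat.TorsionFree
import Mathlib.RingTheory.Ideal.GoingDown
import Mathlib.Algebra.Polynomial.Expand
import Mathlib.AlgebraicGeometry.Morphisms.FiniteType
import Mathlib.AlgebraicGeometry.ResidueField
import Mathlib.AlgebraicGeometry.Morphisms.UniversallyInjective

/-!
A scheme of finite type over a field which maps monomorphically to the product with another field has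
only closed points.
-/

universe u

set_option autoImplicit false

open CategoryTheory CategoryTheory.Limits AlgebraicGeometry Polynomial TensorProduct

namespace Groth.Agent.SpPts86

theorem isIntegral_of_field_hom {K₀ K₁ A : Type u} [Field K₀] [Field K₁] [CommRing A] [Algebra K₀ A]
    [Algebra.FiniteType K₀ A] (b : K₁ →+* A) (x : K₁) : IsIntegral K₀ (b x) := by
  classical
  by_contra hx
  let φ : K₀[X] →ₐ[K₀] A := Polynomial.aeval (b x)
  have hinj : ∀ f : K₀[X], f ≠ 0 → φ f ≠ 0 := fun f hf h =>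
    hx (IsAlgebraic.isIntegral ⟨f, hf, h⟩)
  let M : Submonoid A := (nonZeroDivisors K₀[X]).map φ.toRingHom.toMonoidHom
  have hM : Disjoint ((⊥ : Ideal A) : Set A) M := Set.disjoint_left.2 fun a ha ⟨f, hf, hfa⟩ =>
    hinj f (mem_nonZeroDivisors_iff_ne_zero.1 hf) (hfa.trans ha)
  obtain ⟨P, hP, -, hPM⟩ := Ideal.exists_le_prime_disjoint (⊥ : Ideal A) M hM
  let ψ : K₀[X] →ₐ[K₀] A ⧸ P := (Ideal.Quotient.mkₐ K₀ P).comp φ
  have hψ : ∀ f : K₀[X], f ≠ 0 → ψ f ≠ 0 := fun f hf h =>
    Set.disjoint_left.1 hPM (Ideal.Quotient.eq_zero_iff_mem.1 h)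
      ⟨f, mem_nonZeroDivisors_iff_ne_zero.2 hf, rfl⟩
  let _ : Algebra K₀[X] (A ⧸ P) := ψ.toRingHom.toAlgebra
  have : IsScalarTower K₀ K₀[X] (A ⧸ P) := IsScalarTower.of_algebraMap_eq fun r => (ψ.commutes r).symm
  have hinjψ : Function.Injective (algebraMap K₀[X] (A ⧸ P)) :=
    (injective_iff_map_eq_zero _).2 fun f h => by_contra fun hf => hψ f hf h
  have : Module.IsTorsionFree K₀[X] (A ⧸ P) :=
    Module.isTorsionFree_iff_algebraMap_injective.2 hinjψ
  have : Algebra.FiniteType K₀[X] (A ⧸ P) := Algebra.FiniteType.of_restrictScalars_finiteType K₀ K₀[X] (A ⧸ P)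
  have : Algebra.FinitePresentation K₀[X] (A ⧸ P) := Algebra.FinitePresentation.of_finiteType.1 ‹_›
  have hopen : IsOpen (Set.range (PrimeSpectrum.comap (algebraMap K₀[X] (A ⧸ P)))) :=
    PrimeSpectrum.isOpenMap_comap_of_hasGoingDown_of_finitePresentation.isOpen_range
  have : Nonempty (PrimeSpectrum (A ⧸ P)) := inferInstance
  obtain ⟨-, ⟨c, rfl⟩, hc, hcr⟩ := PrimeSpectrum.isTopologicalBasis_basic_opens.exists_subset_of_mem_open
    (Set.mem_range_self (f := PrimeSpectrum.comap (algebraMap K₀[X] (A ⧸ P))) (Classical.arbitrary _)) hopen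
  have hc0 : c ≠ 0 := by
    rintro rfl
    exact hc (Ideal.zero_mem _)
  obtain ⟨ℓ, hℓ, hℓp⟩ := Nat.exists_infinite_primes (c.natDegree + ringChar K₀ + 1)
  have hℓ0 : (ℓ : K₀) ≠ 0 := by
    rw [Ne, ringChar.spec]
    intro h
    rcases hℓp.eq_one_or_self_of_dvd _ h with h' | h'
    · exact CharP.ringChar_ne_one h'
    · omega
  let Ω := AlgebraicClosure K₀
  have hsep : ((X ^ ℓ - C 1 : K₀[X]).map (algebraMap K₀ Ω)).Separable :=
    (separable_X_pow_sub_C (1 : K₀) hℓ0 one_ne_zero).map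
  obtain ⟨ζ, hζ, hζc⟩ : ∃ ζ : Ω, ζ ^ ℓ = 1 ∧ aeval ζ c ≠ 0 := by
    by_contra! h
    have hle : ((X ^ ℓ - C 1 : K₀[X]).map (algebraMap K₀ Ω)).roots.toFinset ⊆
        (c.map (algebraMap K₀ Ω)).roots.toFinset := fun ζ hζ => by
      rw [Multiset.mem_toFinset, mem_roots'] at hζ ⊢
      refine ⟨map_ne_zero hc0, ?_⟩
      rw [IsRoot, eval_map, ← aeval_def]
      refine h ζ (sub_eq_zero.1 ?_)
      simpa using hζ.2
    have h1 := Finset.card_le_card hle
    rw [Multiset.toFinset_card_of_nodup (nodup_roots hsep), IsAlgClosed.card_roots_eq_natDegree,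
      natDegree_map, natDegree_X_pow_sub_C] at h1
    have h2 := (Multiset.toFinset_card_le _).trans (card_roots' (c.map (algebraMap K₀ Ω)))
    rw [natDegree_map] at h2
    omega
  let 𝔮 : PrimeSpectrum K₀[X] := ⟨RingHom.ker (aeval ζ : K₀[X] →ₐ[K₀] Ω), RingHom.ker_isPrime _⟩
  obtain ⟨𝔓, h𝔓⟩ := hcr (show 𝔮 ∈ PrimeSpectrum.basicOpen c from hζc)
  have hmem : ψ (X ^ ℓ - C 1) ∈ 𝔓.asIdeal := by
    have h : (X ^ ℓ - C 1 : K₀[X]) ∈ (PrimeSpectrum.comap (algebraMap K₀[X] (A ⧸ P)) 𝔓).asIdeal := by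
      rw [h𝔓]
      change aeval ζ (X ^ ℓ - C 1 : K₀[X]) = 0
      simp [hζ]
    exact h
  have heq : ψ (X ^ ℓ - C 1) = Ideal.Quotient.mk P (b (x ^ ℓ - 1)) := by
    simp [ψ, φ]
  rcases eq_or_ne (x ^ ℓ - 1) 0 with h0 | h0
  · exact hψ _ (X_pow_sub_C_ne_zero hℓp.pos 1) (by rw [heq, h0, map_zero, map_zero])
  · exact 𝔓.isPrime.ne_top (𝔓.asIdeal.eq_top_of_isUnit_mem hmem
      (by rw [heq]; exact ((isUnit_iff_ne_zero.2 h0).map b).map _))

/-- Every prime is maximal when the maps from two fields are jointly an epimorphism. -/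
theorem isMaximal_of_jointlyEpi {K₀ K₁ A : Type u} [Field K₀] [Field K₁] [CommRing A] [Algebra K₀ A]
    [Algebra.FiniteType K₀ A] (b : K₁ →+* A)
    (hepi : ∀ (T : Type u) [CommRing T] (f g : A →+* T), f.comp (algebraMap K₀ A) = g.comp (algebraMap K₀ A) →
      f.comp b = g.comp b → f = g)
    (P : Ideal A) [P.IsPrime] : P.IsMaximal := by
  let κ := P.ResidueField
  let L := algebraicClosure K₀ κ
  have hb : ∀ x, algebraMap A κ (b x) ∈ L := fun x =>
    mem_algebraicClosure_iff'.2 ((isIntegral_of_field_hom b x).map (IsScalarTower.toAlgHom K₀ A κ))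
  have hfg : (Algebra.TensorProduct.includeLeftRingHom : κ →+* κ ⊗[L] κ).comp (algebraMap A κ) =
      (Algebra.TensorProduct.includeRight : κ →ₐ[L] κ ⊗[L] κ).toRingHom.comp (algebraMap A κ) := by
    have key : ∀ l : L, (l : κ) ⊗ₜ[L] (1 : κ) = (1 : κ) ⊗ₜ[L] (l : κ) := fun l => by
      have h1 : (l : κ) = l • (1 : κ) := (Algebra.algebraMap_eq_smul_one l)
      rw [h1, smul_tmul]
    refine hepi _ _ _ (RingHom.ext fun k => ?_) (RingHom.ext fun x => key ⟨_, hb x⟩)
    change (algebraMap A κ (algebraMap K₀ A k)) ⊗ₜ[L] (1 : κ) = (1 : κ) ⊗ₜ[L] (algebraMap A κ (algebraMap K₀ A k))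
    exact key ⟨_, by rw [← IsScalarTower.algebraMap_apply]; exact L.algebraMap_mem k⟩
  have htop : ∀ t : A, algebraMap A κ t ∈ L := by
    intro t
    by_contra ht
    obtain ⟨φ, hφ1, hφ0⟩ := Submodule.exists_dual_map_eq_bot_of_notMem (R := L) (M := κ)
      (p := L ∙ (1 : κ)) (x := algebraMap A κ t) (fun h => ht (by
        obtain ⟨l, hl⟩ := Submodule.mem_span_singleton.1 h
        rw [← hl, ← Algebra.algebraMap_eq_smul_one]
        exact l.2)) inferInstance
    have h := congrArg (TensorProduct.lift ((LinearMap.mul L κ).compl₁₂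
      ((Algebra.linearMap L κ).comp φ) LinearMap.id)) (RingHom.congr_fun hfg t)
    change algebraMap L κ (φ (algebraMap A κ t)) * 1 = algebraMap L κ (φ 1) * algebraMap A κ t at h
    have h0 : φ 1 = 0 := (Submodule.mem_bot L).1 (hφ0.le ⟨1, Submodule.mem_span_singleton_self _, rfl⟩)
    rw [h0, map_zero, zero_mul, mul_one] at h
    exact hφ1 ((FaithfulSMul.algebraMap_injective L κ) (h.trans (map_zero _).symm))
  have : Algebra.IsIntegral K₀ (A ⧸ P) := ⟨fun z => by
    obtain ⟨t, rfl⟩ := Ideal.Quotient.mk_surjective z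
    have h1 : IsIntegral K₀ (algebraMap A κ t) := (mem_algebraicClosure_iff.1 (htop t)).isIntegral
    exact (isIntegral_algHom_iff (IsScalarTower.toAlgHom K₀ (A ⧸ P) κ)
      P.injective_algebraMap_quotient_residueField).1 h1⟩
  exact Ideal.Quotient.maximal_of_isField P
    (isField_of_isIntegral_of_isField' (Field.toIsField K₀))

/-- Scheme form: all points are closed. -/
theorem isClosed_singleton_of_jointlyMono {K₀ K₁ : Type u} [Field K₀] [Field K₁] {G : Scheme.{u}}
    (a : G ⟶ Spec (CommRingCat.of K₀)) [LocallyOfFiniteType a] (b : G ⟶ Spec (CommRingCat.of K₁))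
    (hmono : ∀ (T : Scheme.{u}) (f g : T ⟶ G), f ≫ a = g ≫ a → f ≫ b = g ≫ b → f = g) (z : ↥G) :
    IsClosed ({z} : Set ↥G) := by
  have key : ∀ W : G.Opens, IsAffineOpen W → z ∈ W → IsClosed (W.ι ⁻¹' ({z} : Set ↥G)) := by
    intro W hW hzW
    have : IsAffine W.toScheme := hW
    let A := Γ(W.toScheme, ⊤)
    let α : CommRingCat.of K₀ ⟶ A := Spec.preimage (W.toScheme.isoSpec.inv ≫ W.ι ≫ a)
    let β : CommRingCat.of K₁ ⟶ A := Spec.preimage (W.toScheme.isoSpec.inv ≫ W.ι ≫ b)
    letI : Algebra K₀ A := α.hom.toAlgebra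
    have : LocallyOfFiniteType (Spec.map α) := by
      rw [Spec.map_preimage]
      infer_instance
    have : Algebra.FiniteType K₀ A := (HasRingHomProperty.Spec_iff (P := @LocallyOfFiniteType)).1 this
    have hepi : ∀ (T : Type u) [CommRing T] (f g : (A : Type u) →+* T),
        f.comp (algebraMap K₀ A) = g.comp (algebraMap K₀ A) → f.comp β.hom = g.comp β.hom → f = g := by
      intro T _ f g h0 h1
      have e0 : α ≫ CommRingCat.ofHom f = α ≫ CommRingCat.ofHom g := CommRingCat.hom_ext h0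
      have e1 : β ≫ CommRingCat.ofHom f = β ≫ CommRingCat.ofHom g := CommRingCat.hom_ext h1
      have := hmono _ (Spec.map (CommRingCat.ofHom f) ≫ W.toScheme.isoSpec.inv ≫ W.ι)
        (Spec.map (CommRingCat.ofHom g) ≫ W.toScheme.isoSpec.inv ≫ W.ι)
        (by
          simp only [Category.assoc]
          rw [← Spec.map_preimage (W.toScheme.isoSpec.inv ≫ W.ι ≫ a), ← Spec.map_comp, ← Spec.map_comp]
          exact congrArg Spec.map e0)
        (by
          simp only [Category.assoc]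
          rw [← Spec.map_preimage (W.toScheme.isoSpec.inv ≫ W.ι ≫ b), ← Spec.map_comp, ← Spec.map_comp]
          exact congrArg Spec.map e1)
      rw [← Category.assoc, ← Category.assoc, cancel_mono, cancel_mono] at this
      exact congrArg CommRingCat.Hom.hom (Spec.map_injective this)
    let w : ↥(Spec A) := W.toScheme.isoSpec.hom ⟨z, hzW⟩
    have hmax : w.asIdeal.IsMaximal := isMaximal_of_jointlyEpi (K₀ := K₀) β.hom hepi w.asIdeal
    have hw : IsClosed ({w} : Set ↥(Spec A)) := (PrimeSpectrum.isClosed_singleton_iff_isMaximal w).2 hmax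
    have e : W.ι ⁻¹' ({z} : Set ↥G) = W.toScheme.isoSpec.hom ⁻¹' ({w} : Set ↥(Spec A)) := by
      ext y
      constructor
      · intro hy
        have : y = ⟨z, hzW⟩ := Subtype.ext hy
        subst this
        rfl
      · intro hy
        have := W.toScheme.isoSpec.hom.isOpenEmbedding.injective hy
        subst this
        rfl
    rw [e]
    exact hw.preimage W.toScheme.isoSpec.hom.continuous
  rw [← isOpen_compl_iff, isOpen_iff_forall_mem_open]
  intro y hy
  obtain ⟨W, hW, hyW, -⟩ := exists_isAffineOpen_mem_and_subset (x := y) (U := ⊤) trivial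
  by_cases hzW : z ∈ W
  · refine ⟨W.ι '' (W.ι ⁻¹' ({z} : Set ↥G))ᶜ, ?_, W.ι.isOpenEmbedding.isOpenMap _ (key W hW hzW).isOpen_compl,
      ⟨y, hyW⟩, hy, rfl⟩
    rintro _ ⟨v, hv, rfl⟩
    exact hv
  · exact ⟨W, fun v hv e => hzW (e ▸ hv), W.isOpen, hyW⟩

end Groth.Agent.SpPts86
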