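import Groth.Agent.SpPts86.CMSeq
import Groth.Agent.SpPts86.FieldPair
import Groth.Agent.S5385
import Mathlib.AlgebraicGeometry.Morphisms.UniversallyOpen
import Mathlib.AlgebraicGeometry.Morphisms.ClosedImmersion
import Mathlib.RingTheory.KrullDimension.Module

/-!
Cutting a scheme over a field by functions pulled back from the second factor.
-/

universe u

set_option autoImplicit false

open CategoryTheory CategoryTheory.Limits AlgebraicGeometry IsLocalRing RingTheory.Sequence

namespace Groth.Agent.SpPts86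

variable {K : Type u} [Field K] {V U : Scheme.{u}} (q : V ⟶ Spec (CommRingCat.of K))
  [LocallyOfFiniteType q] (g : V ⟶ U) [LocallyOfFiniteType g]

/-- For a scheme of finite type over a field mapping monomorphically to the product with `U`, a
closed point has no generisations in its fibre over `U`. -/
theorem eq_of_specializes_of_fibre
    (hmono : ∀ (T : Scheme.{u}) (a b : T ⟶ V), a ≫ q = b ≫ q → a ≫ g = b ≫ g → a = b)
    {r : ↥V} (hr : IsClosed ({r} : Set ↥V)) {y : ↥V} (h : y ⤳ r) (e : g y = g r) : y = r := by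
  have : IsClosedImmersion (V.fromSpecResidueField r) :=
    IsClosedImmersion.of_isPreimmersion _ (by rw [Scheme.range_fromSpecResidueField]; exact hr)
  let φ := Spec.map (g.residueFieldMap r)
  let x₁ := V.fromSpecResidueField r ≫ g
  have hx₁ : φ ≫ U.fromSpecResidueField (g r) = x₁ :=
    Scheme.Hom.SpecMap_residueFieldMap_fromSpecResidueField g r
  have : Flat φ := Flat.SpecMap_iff.2 (RingHom.Flat.of_isField (Field.toIsField _) _)
  let h' : pullback g x₁ ⟶ g.fiber (g r) :=
    pullback.map g x₁ g (U.fromSpecResidueField (g r)) (𝟙 _) φ (𝟙 _) (by simp) (by simp [hx₁])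
  have sq : IsPullback h' (pullback.snd g x₁) (pullback.snd g (U.fromSpecResidueField (g r))) φ :=
    IsPullback.of_right
      (by
        rw [show h' ≫ pullback.fst g (U.fromSpecResidueField (g r)) = pullback.fst g x₁ from
          (pullback.lift_fst _ _ _).trans (Category.comp_id _), hx₁]
        exact IsPullback.of_hasPullback g x₁)
      (pullback.lift_snd _ _ _) (IsPullback.of_hasPullback g (U.fromSpecResidueField (g r)))
  have hfl : Flat h' := MorphismProperty.of_isPullback (P := @Flat) sq.flip ‹_›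
  have hh' : h' ≫ g.fiberι (g r) = pullback.fst g x₁ :=
    (pullback.lift_fst _ _ _).trans (Category.comp_id _)
  obtain ⟨γ, hγ, -⟩ := Scheme.Pullback.exists_preimage_pullback (f := g) (g := x₁) r
    (default : ↥(Spec (V.residueField r))) (by
      change g r = (V.fromSpecResidueField r ≫ g) default
      rw [Scheme.Hom.comp_apply, Scheme.fromSpecResidueField_apply])
  obtain ⟨y', hy'⟩ : y ∈ Set.range (g.fiberι (g r)) := by
    rw [Scheme.Hom.range_fiberι]
    exact e
  have hι : g.fiberι (g r) (h' γ) = r := by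
    rw [← Scheme.Hom.comp_apply, hh', hγ]
  have hsp : y' ⤳ h' γ := (g.fiberι (g r)).isEmbedding.isInducing.specializes_iff.1 (by
    rw [hy', hι]; exact h)
  obtain ⟨γ', hγ', hγy⟩ := Flat.generalizingMap h' hsp
  have hG : IsClosed ({γ'} : Set ↥(pullback g x₁)) := by
    refine isClosed_singleton_of_jointlyMono (K₁ := ↥(V.residueField r))
      (pullback.fst g x₁ ≫ q) (pullback.snd g x₁) (fun T a b ea eb => pullback.hom_ext ?_ eb) γ'
    refine hmono T _ _ (by rw [Category.assoc, Category.assoc]; exact ea) ?_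
    rw [Category.assoc, Category.assoc, pullback.condition, ← Category.assoc, eb, Category.assoc]
  have : γ = γ' := hγ'.mem_closed hG (Set.mem_singleton _)
  subst this
  rw [← hy', ← hγy, hι]

/-- There are a closed point and functions on `U` cutting out this point, forming a weakly regular
sequence in its local ring. -/
theorem exists_cut
    (hmono : ∀ (T : Scheme.{u}) (a b : T ⟶ V), a ≫ q = b ≫ q → a ≫ g = b ≫ g → a = b) [Nonempty V] :
    ∃ (r : ↥V) (W : U.Opens) (hW : IsAffineOpen W) (hr : g r ∈ W) (os : List Γ(U, W)),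
      IsClosed ({r} : Set ↥V) ∧ (∀ o ∈ os, o ∈ (hW.primeIdealOf ⟨g r, hr⟩).asIdeal) ∧
      IsWeaklyRegular (V.presheaf.stalk r)
        (os.map (U.presheaf.germ W (g r) hr ≫ g.stalkMap r).hom) ∧
      ∀ y : ↥V, y ⤳ r → ∀ p : ↥(Spec Γ(U, W)), hW.fromSpec p = g y →
        (∀ o ∈ os, o ∈ p.asIdeal) → y = r := by
  obtain ⟨r, hrc, hcm⟩ := Groth.Agent.S5385.result K V q
  obtain ⟨_, ⟨W, hW, rfl⟩, hr, -⟩ :=
    U.isBasis_affineOpens.exists_subset_of_mem_open (Set.mem_univ (g r)) isOpen_univ
  let φ := U.presheaf.germ W (g r) hr ≫ g.stalkMap r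
  let A := V.presheaf.stalk r
  have hkey : V.fromSpecStalk r ≫ g = Spec.map φ ≫ hW.fromSpec := by
    rw [← Scheme.SpecMap_stalkMap_fromSpecStalk, ← hW.fromSpecStalk_eq_fromSpecStalk hr,
      IsAffineOpen.fromSpecStalk, Spec.map_comp, Category.assoc]
  have hnoeth : IsNoetherianRing A := by have := hcm; exact inferInstance
  have hinj := (V.fromSpecStalk r).isEmbedding.injective
  have hcl : V.fromSpecStalk r (closedPoint A) = r := Scheme.fromSpecStalk_closedPoint
  let I : Ideal Γ(U, W) := (maximalIdeal A).comap φ.hom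
  have hIeq : hW.primeIdealOf ⟨g r, hr⟩ = Spec.map φ (closedPoint A) := by
    apply hW.fromSpec.isOpenEmbedding.injective
    rw [hW.fromSpec_primeIdealOf, ← Scheme.Hom.comp_apply, ← hkey, Scheme.Hom.comp_apply, hcl]
  have hI : maximalIdeal A ≤ (I.map φ.hom).radical := by
    rw [Ideal.radical_eq_sInf]
    refine le_sInf fun P ⟨hP, hPp⟩ => ?_
    let pP : ↥(Spec (CommRingCat.of A)) := ⟨P, hPp⟩
    have h1 : Spec.map φ pP = Spec.map φ (closedPoint A) := PrimeSpectrum.ext
      (le_antisymm (Ideal.comap_mono (le_maximalIdeal hPp.ne_top)) (Ideal.map_le_iff_le_comap.1 hP))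
    have h2 : V.fromSpecStalk r pP ⤳ r := by
      have := (IsLocalRing.specializes_closedPoint pP).map (V.fromSpecStalk r).continuous
      rwa [hcl] at this
    have h3 : g (V.fromSpecStalk r pP) = g r := by
      rw [← Scheme.Hom.comp_apply, hkey, Scheme.Hom.comp_apply, h1, ← Scheme.Hom.comp_apply, ← hkey,
        Scheme.Hom.comp_apply, hcl]
    have h4 : pP = closedPoint A := hinj ((eq_of_specializes_of_fibre q g hmono hrc h2 h3).trans hcl.symm)
    exact (congrArg PrimeSpectrum.asIdeal h4).ge
  obtain ⟨n, hn⟩ := EGA4Alg4.exists_supportDim_eq (A := A) (M := A)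
  obtain ⟨os, hos, hreg, h0⟩ := exists_regularSeq_of_radical φ.hom I hI (fun o ho => ho) n hcm.supportDim_eq_depth hn
  refine ⟨r, W, hW, hr, os, hrc, fun o ho => ?_, hreg, fun y hy p hp hpo => ?_⟩
  · rw [hIeq]
    exact hos o ho
  · obtain ⟨pP, rfl⟩ : y ∈ Set.range (V.fromSpecStalk r) := by
      rw [Scheme.range_fromSpecStalk]; exact hy
    have h1 : p = Spec.map φ pP := hW.fromSpec.isOpenEmbedding.injective (by
      rw [hp, ← Scheme.Hom.comp_apply, hkey, Scheme.Hom.comp_apply])
    let J : Ideal A := Ideal.ofList (os.map φ.hom)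
    have hJ : J ≤ pP.asIdeal := Ideal.span_le.2 fun a ha => by
      obtain ⟨o, ho, rfl⟩ := List.mem_map.1 ha
      have := hpo o ho
      rw [h1] at this
      exact this
    rw [Ideal.smul_eq_mul, Ideal.mul_top, Module.supportDim_quotient_eq_ringKrullDim] at h0
    have : Ring.KrullDimLE 0 (A ⧸ J) := Ring.krullDimLE_iff.2 h0.le
    have : (pP.asIdeal.map (Ideal.Quotient.mk J)).IsPrime :=
      Ideal.map_isPrime_of_surjective Ideal.Quotient.mk_surjective (by rwa [Ideal.mk_ker])
    have hmax : (pP.asIdeal.map (Ideal.Quotient.mk J)).IsMaximal := Ideal.isMaximal_of_isPrime _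
    have := Ideal.comap_isMaximal_of_surjective (Ideal.Quotient.mk J) Ideal.Quotient.mk_surjective
      (K := pP.asIdeal.map (Ideal.Quotient.mk J))
    rw [Ideal.comap_map_of_surjective _ Ideal.Quotient.mk_surjective, ← RingHom.ker_eq_comap_bot,
      Ideal.mk_ker, sup_eq_left.2 hJ] at this
    have h2 : pP = closedPoint A := PrimeSpectrum.ext (eq_maximalIdeal this)
    rw [h2, hcl]

end Groth.Agent.SpPts86
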