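import Groth.Agent.SpPts86.SliceRing
import Groth.Agent.SpPts86.SliceCut
import Groth.Agent.Unr55.StalkCrit
import Mathlib.AlgebraicGeometry.Morphisms.Flat
import Mathlib.AlgebraicGeometry.Morphisms.FinitePresentation
import Mathlib.Algebra.Category.Ring.Constructions

/-!
Flatness of a slice near a point of a geometric fibre.
-/

universe u

set_option autoImplicit false

open CategoryTheory CategoryTheory.Limits AlgebraicGeometry RingTheory.Sequence TensorProduct

namespace Groth.Agent.SpPts86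

/-- Composing a cospan with a monomorphism keeps a square Cartesian. -/
theorem isPullback_comp_mono {C : Type*} [Category C] {P X Y Z Z' : C} {fst : P ⟶ X} {snd : P ⟶ Y}
    {f : X ⟶ Z} {g : Y ⟶ Z} (h : IsPullback fst snd f g) (m : Z ⟶ Z') [Mono m] :
    IsPullback fst snd (f ≫ m) (g ≫ m) :=
  IsPullback.of_isLimit (PullbackCone.IsLimit.mk (by rw [reassoc_of% h.w])
    (fun c => h.lift c.fst c.snd (by rw [← cancel_mono m, Category.assoc, Category.assoc]; exact c.condition))
    (fun c => h.lift_fst _ _ _) (fun c => h.lift_snd _ _ _)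
    (fun c k h₁ h₂ => h.hom_ext (h₁.trans (h.lift_fst _ _ _).symm) (h₂.trans (h.lift_snd _ _ _).symm)))

/-- Quotients by extended ideals are pushouts. -/
theorem isPushout_quotient {O B : CommRingCat.{u}} (b : O ⟶ B) (I : Ideal O) :
    IsPushout (CommRingCat.ofHom (Ideal.Quotient.mk I)) b
      (CommRingCat.ofHom (Ideal.quotientMap (I.map b.hom) b.hom Ideal.le_comap_map))
      (CommRingCat.ofHom (Ideal.Quotient.mk (I.map b.hom))) := by
  refine ⟨⟨CommRingCat.hom_ext (RingHom.ext fun x => ?_)⟩, ⟨PushoutCocone.IsColimit.mk _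
    (fun c => CommRingCat.ofHom (Ideal.Quotient.lift (I.map b.hom) c.inr.hom fun x hx => ?_))
    (fun c => ?_) (fun c => ?_) (fun c k h₁ h₂ => ?_)⟩⟩
  · change Ideal.quotientMap (I.map b.hom) b.hom Ideal.le_comap_map (Ideal.Quotient.mk I x) = _
    rw [Ideal.quotientMap_mk]
    rfl
  · have hle : I.map b.hom ≤ RingHom.ker c.inr.hom := Ideal.map_le_iff_le_comap.2 fun o ho => by
      change (b ≫ c.inr).hom o = 0
      rw [← c.condition]
      change c.inl.hom (Ideal.Quotient.mk I o) = 0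
      rw [Ideal.Quotient.eq_zero_iff_mem.2 ho, map_zero]
    exact hle hx
  · refine CommRingCat.hom_ext (Ideal.Quotient.ringHom_ext (RingHom.ext fun o => ?_))
    simp only [CommRingCat.hom_comp, CommRingCat.hom_ofHom, RingHom.comp_apply, Ideal.quotientMap_mk,
      Ideal.Quotient.lift_mk]
    exact (DFunLike.congr_fun (congrArg CommRingCat.Hom.hom c.condition) o).symm
  · exact CommRingCat.hom_ext (RingHom.ext fun x => rfl)
  · refine CommRingCat.hom_ext (Ideal.Quotient.ringHom_ext (RingHom.ext fun x => ?_))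
    exact DFunLike.congr_fun (congrArg CommRingCat.Hom.hom h₂) x

/-- A sequence which is regular in the fibre over a field point cuts out a flat scheme near the point. -/
theorem flat_slice_point {K : Type u} [Field K] {R U : Scheme.{u}} (s t : R ⟶ U) [Flat s]
    [LocallyOfFinitePresentation s] (x₀ : Spec (CommRingCat.of K) ⟶ U) (r : ↥(pullback x₀ s))
    {W : U.Opens} (hW : IsAffineOpen W) (hr : (pullback.snd x₀ s ≫ t) r ∈ W) (os : List Γ(U, W))
    (hreg : IsWeaklyRegular ((pullback x₀ s).presheaf.stalk r)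
      (os.map (U.presheaf.germ W _ hr ≫ (pullback.snd x₀ s ≫ t).stalkMap r).hom))
    (z : ↥(pullback (Spec.map (CommRingCat.ofHom (Ideal.Quotient.mk (Ideal.ofList os))) ≫ hW.fromSpec) t))
    (hz : pullback.snd (Spec.map (CommRingCat.ofHom (Ideal.Quotient.mk (Ideal.ofList os))) ≫ hW.fromSpec) t z =
      pullback.snd x₀ s r) :
    ((pullback.snd (Spec.map (CommRingCat.ofHom (Ideal.Quotient.mk (Ideal.ofList os))) ≫ hW.fromSpec) t ≫ s).stalkMap z).hom.Flat := by
  let r' := pullback.snd x₀ s r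
  obtain ⟨_, ⟨A₀, hA, rfl⟩, hrA, -⟩ :=
    U.isBasis_affineOpens.exists_subset_of_mem_open (Set.mem_univ (s r')) isOpen_univ
  obtain ⟨_, ⟨B₀, hB, rfl⟩, hrB, hBle⟩ :=
    R.isBasis_affineOpens.exists_subset_of_mem_open (show r' ∈ ((s ⁻¹ᵁ A₀ ⊓ t ⁻¹ᵁ W : R.Opens) : Set ↥R) from
      ⟨hrA, by rw [Scheme.Hom.comp_apply] at hr; exact hr⟩) (s ⁻¹ᵁ A₀ ⊓ t ⁻¹ᵁ W).2
  have hBA : B₀ ≤ s ⁻¹ᵁ A₀ := fun x hx => (hBle hx).1
  have hBW : B₀ ≤ t ⁻¹ᵁ W := fun x hx => (hBle hx).2
  let a := s.appLE A₀ B₀ hBA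
  let b := t.appLE W B₀ hBW
  have ha : Spec.map a ≫ hA.fromSpec = hB.fromSpec ≫ s := hA.SpecMap_appLE_fromSpec s hB hBA
  have hb : Spec.map b ≫ hW.fromSpec = hB.fromSpec ≫ t := hW.SpecMap_appLE_fromSpec t hB hBW
  have hx₀ : Set.range x₀ ⊆ Set.range hA.fromSpec := by
    rintro _ ⟨k, rfl⟩
    rw [IsAffineOpen.range_fromSpec]
    have hk : k = pullback.fst x₀ s r := Subsingleton.elim _ _
    rw [hk, ← Scheme.Hom.comp_apply, pullback.condition, Scheme.Hom.comp_apply]
    exact hrA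
  let aK : Γ(U, A₀) ⟶ CommRingCat.of K := Spec.preimage (IsOpenImmersion.lift hA.fromSpec x₀ hx₀)
  have haK : Spec.map aK ≫ hA.fromSpec = x₀ := by
    rw [Spec.map_preimage, IsOpenImmersion.lift_fac]
  letI : Algebra Γ(U, A₀) Γ(R, B₀) := a.hom.toAlgebra
  letI : Algebra Γ(U, A₀) K := aK.hom.toAlgebra
  have : Algebra.FinitePresentation Γ(U, A₀) Γ(R, B₀) := s.finitePresentation_appLE hA hB hBA
  have : Module.Flat Γ(U, A₀) Γ(R, B₀) :=
    HasRingHomProperty.appLE @Flat s inferInstance ⟨A₀, hA⟩ ⟨B₀, hB⟩ hBA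
  let T : CommRingCat.{u} := CommRingCat.of (K ⊗[Γ(U, A₀)] Γ(R, B₀))
  let inl : CommRingCat.of K ⟶ T := CommRingCat.ofHom Algebra.TensorProduct.includeLeftRingHom
  let inr : Γ(R, B₀) ⟶ T := CommRingCat.ofHom
    (Algebra.TensorProduct.includeRight : _ →ₐ[Γ(U, A₀)] K ⊗[Γ(U, A₀)] Γ(R, B₀)).toRingHom
  have sqT : IsPullback (Spec.map inl) (Spec.map inr) (Spec.map aK) (Spec.map a) :=
    isPullback_SpecMap_of_isPushout _ _ _ _ (CommRingCat.isPushout_tensorProduct Γ(U, A₀) K Γ(R, B₀))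
  have sqO : IsPullback (Spec.map inl) (Spec.map inr) x₀ (hB.fromSpec ≫ s) := by
    have := isPullback_comp_mono sqT hA.fromSpec
    rwa [haK, ha] at this
  let j : Spec T ⟶ pullback x₀ s :=
    pullback.lift (Spec.map inl) (Spec.map inr ≫ hB.fromSpec) (by rw [Category.assoc]; exact sqO.w)
  have hjfst : j ≫ pullback.fst x₀ s = Spec.map inl := pullback.lift_fst _ _ _
  have hjsnd : j ≫ pullback.snd x₀ s = Spec.map inr ≫ hB.fromSpec := pullback.lift_snd _ _ _
  have sqj : IsPullback (Spec.map inr) j hB.fromSpec (pullback.snd x₀ s) :=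
    IsPullback.of_bot (by rw [hjfst]; exact sqO.flip) hjsnd.symm (IsPullback.of_hasPullback x₀ s).flip
  have : IsOpenImmersion j := MorphismProperty.of_isPullback (P := @IsOpenImmersion) sqj inferInstance
  obtain ⟨pB, hpB⟩ : r' ∈ Set.range hB.fromSpec := by
    rw [IsAffineOpen.range_fromSpec]
    exact hrB
  obtain ⟨Q, hQB, hQ⟩ := Scheme.exists_preimage_of_isPullback sqj pB r hpB
  subst hQ
  let ψ : Γ(U, W) ⟶ T := b ≫ inr
  have hjg : j ≫ pullback.snd x₀ s ≫ t = Spec.map ψ ≫ hW.fromSpec := by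
    rw [reassoc_of% hjsnd, ← hb, ← Category.assoc, ← Spec.map_comp]
  have hcomp : (U.presheaf.germ W _ hr ≫ (pullback.snd x₀ s ≫ t).stalkMap (j Q)) ≫ j.stalkMap Q =
      ψ ≫ StructureSheaf.toStalk (R := T) Q := by
    apply Spec.map_injective
    rw [← cancel_mono hW.fromSpec, Spec.map_comp, Spec.map_comp, Category.assoc, Category.assoc,
      ← IsAffineOpen.fromSpecStalk, hW.fromSpecStalk_eq_fromSpecStalk hr,
      Scheme.SpecMap_stalkMap_fromSpecStalk, Scheme.SpecMap_stalkMap_fromSpecStalk_assoc,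
      hjg, Spec.fromSpecStalk_eq' T Q]
    exact ((congrArg (· ≫ hW.fromSpec) (Spec.map_comp ψ (StructureSheaf.toStalk (R := T) Q))).trans (Category.assoc _ _ _)).symm
  let E : (pullback x₀ s).presheaf.stalk (j Q) ≃+* Localization.AtPrime Q.asIdeal :=
    (asIso (j.stalkMap Q)).commRingCatIsoToRingEquiv.trans
      (StructureSheaf.stalkIso T Q).symm.toRingEquiv
  let gs : List Γ(R, B₀) := os.map b.hom
  have hregQ : IsWeaklyRegular (Localization.AtPrime Q.asIdeal)
      (gs.map fun g => algebraMap (K ⊗[Γ(U, A₀)] Γ(R, B₀)) (Localization.AtPrime Q.asIdeal) ((1 : K) ⊗ₜ g)) := by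
    refine (E.toAddEquiv.isWeaklyRegular_congr ?_).1 hreg
    simp only [gs, List.map_map, List.forall₂_map_left_iff, List.forall₂_map_right_iff,
      List.forall₂_same]
    intro o _ x
    change E (_ * x) = _ * E x
    rw [map_mul]
    congr 1
    change (StructureSheaf.stalkIso T Q).symm (((U.presheaf.germ W _ hr ≫
      (pullback.snd x₀ s ≫ t).stalkMap (j Q)) ≫ j.stalkMap Q).hom o) = _
    rw [hcomp]
    exact AlgEquiv.commutes _ _
  obtain ⟨h, hhQ, hflat⟩ := exists_flat_away gs Q.asIdeal hregQ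
  let J : Ideal Γ(R, B₀) := (Ideal.ofList os).map b.hom
  have hJ : J = Ideal.ofList gs := Ideal.map_ofList b.hom os
  rw [← hJ] at hflat
  let q : Γ(R, B₀) ⟶ CommRingCat.of (Γ(R, B₀) ⧸ J) := CommRingCat.ofHom (Ideal.Quotient.mk J)
  let bq : CommRingCat.of (Γ(U, W) ⧸ Ideal.ofList os) ⟶ CommRingCat.of (Γ(R, B₀) ⧸ J) :=
    CommRingCat.ofHom (Ideal.quotientMap J b.hom Ideal.le_comap_map)
  let i := Spec.map (CommRingCat.ofHom (Ideal.Quotient.mk (Ideal.ofList os))) ≫ hW.fromSpec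
  have sqq : IsPullback (Spec.map bq) (Spec.map q) i (hB.fromSpec ≫ t) := by
    have := isPullback_comp_mono (isPullback_SpecMap_of_isPushout _ _ _ _
      (isPushout_quotient b (Ideal.ofList os))) hW.fromSpec
    rwa [hb] at this
  let k : Spec (CommRingCat.of (Γ(R, B₀) ⧸ J)) ⟶ pullback i t :=
    pullback.lift (Spec.map bq) (Spec.map q ≫ hB.fromSpec) (by rw [Category.assoc]; exact sqq.w)
  have hkfst : k ≫ pullback.fst i t = Spec.map bq := pullback.lift_fst _ _ _
  have hksnd : k ≫ pullback.snd i t = Spec.map q ≫ hB.fromSpec := pullback.lift_snd _ _ _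
  have sqk : IsPullback (Spec.map q) k hB.fromSpec (pullback.snd i t) :=
    IsPullback.of_bot (by rw [hkfst]; exact sqq.flip) hksnd.symm (IsPullback.of_hasPullback i t).flip
  have : IsOpenImmersion k := MorphismProperty.of_isPullback (P := @IsOpenImmersion) sqk inferInstance
  obtain ⟨p, hpB', hpz⟩ := Scheme.exists_preimage_of_isPullback sqk pB z (hpB.trans hz.symm)
  let C := Localization.Away (Ideal.Quotient.mk J h)
  let loc : CommRingCat.of (Γ(R, B₀) ⧸ J) ⟶ CommRingCat.of C := CommRingCat.ofHom (algebraMap _ C)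
  have : IsOpenImmersion (Spec.map loc) := IsOpenImmersion.of_isLocalization (Ideal.Quotient.mk J h)
  obtain ⟨p', hp'⟩ : p ∈ Set.range (Spec.map loc) := by
    refine (PrimeSpectrum.localization_away_comap_range C (Ideal.Quotient.mk J h)).ge ?_
    intro hmem
    apply hhQ
    have hQp : Spec.map inr Q = Spec.map q p := hQB.trans hpB'.symm
    have h1 : h ∈ (Spec.map q p).asIdeal := hmem
    rw [← hQp] at h1
    exact h1
  subst hp'
  have hflatC : Flat (Spec.map (a ≫ q ≫ loc)) :=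
    Flat.SpecMap_iff.2 (RingHom.flat_algebraMap_iff.2 hflat)
  have w : (Spec.map loc ≫ k) ≫ pullback.snd i t ≫ s = Spec.map (a ≫ q ≫ loc) ≫ hA.fromSpec := by
    rw [Spec.map_comp, Spec.map_comp, Category.assoc, Category.assoc, Category.assoc, reassoc_of% hksnd, ha]
  subst hpz
  exact (Unr55.stalkMap_iff_of_square RingHom.Flat.respectsIso (pullback.snd i t ≫ s)
    (Spec.map (a ≫ q ≫ loc)) (Spec.map loc ≫ k) hA.fromSpec w p').2 (Flat.stalkMap _ p')

end Groth.Agent.SpPts86
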