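import Groth.Agent.SpPts86.CovSigma
import Mathlib.AlgebraicGeometry.Morphisms.Flat
import Mathlib.AlgebraicGeometry.Morphisms.Etale
import Mathlib.CategoryTheory.Endomorphism

/-!
A free action of an abstract group gives an etale equivalence relation.
-/

universe u

set_option autoImplicit false

open CategoryTheory CategoryTheory.Limits AlgebraicGeometry
open AlgSp Groth.Agent.SpFP87

namespace Groth.Agent.SpPts86

variable {S : Scheme.{u}}

/-- The disjoint union is a coproduct. -/
noncomputable def sigmaOverIsColimit {ι : Type u} (V : ι → Over S) :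
    IsColimit (Cofan.mk (sigmaOver V) (sigmaIn V)) :=
  mkCofanColimit _ (fun c => sigmaOut fun i => c.inj i) (fun c i => sigmaIn_out _ i) fun c m hm => by
    refine Over.OverMorphism.ext (Sigma.hom_ext _ _ fun i => ?_)
    change (sigmaIn V i).left ≫ m.left = (sigmaIn V i).left ≫ (sigmaOut fun i => c.inj i).left
    rw [← Over.comp_left, ← Over.comp_left, sigmaIn_out]
    exact congrArg CommaMorphism.left (hm i)

theorem cofan_cover {ι : Type u} {V : ι → Over S} {c : Cofan V} (hc : IsColimit c) :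
    (∀ i, IsOpenImmersion (c.inj i).left) ∧ ∀ x : ↥c.pt.left, ∃ i, x ∈ Set.range (c.inj i).left := by
  let e : sigmaOver V ≅ c.pt := (sigmaOverIsColimit V).coconePointUniqueUpToIso hc
  have he : ∀ i, sigmaIn V i ≫ e.hom = c.inj i := fun i =>
    (sigmaOverIsColimit V).comp_coconePointUniqueUpToIso_hom hc ⟨i⟩
  have : IsIso e.hom.left := inferInstanceAs (IsIso ((Over.forget S).map e.hom))
  refine ⟨fun i => ?_, fun x => ?_⟩
  · rw [← he i, Over.comp_left]
    have : IsOpenImmersion (sigmaIn V i).left :=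
      inferInstanceAs (IsOpenImmersion (Sigma.ι (fun i => (V i).left) i))
    infer_instance
  · obtain ⟨y, rfl⟩ := e.hom.left.surjective x
    obtain ⟨⟨i, v⟩, hv⟩ := (sigmaMk (fun i => (V i).left)).surjective y
    rw [sigmaMk_mk] at hv
    refine ⟨i, v, ?_⟩
    rw [← he i, Over.comp_left, Scheme.Hom.comp_apply]
    exact congrArg _ hv

variable {U : Over S} {G : Type u} [Group G] (ρ : G →* Aut U)

theorem aut_mul (g h : G) : (ρ (h * g)).hom = (ρ g).hom ≫ (ρ h).hom := by
  rw [map_mul, Aut.Aut_mul_def]; rfl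

theorem aut_one : (ρ 1).hom = 𝟙 U := by
  rw [map_one]; rfl

variable (hfree : ∀ (g : G) (x : U.left), g ≠ 1 →
    U.left.fromSpecResidueField x ≫ (ρ g).hom.left ≠ U.left.fromSpecResidueField x)

include hfree in
theorem eq_of_comp_eq {Z : Over S} (a : Z ⟶ U) {g h : G} (z : ↥Z.left)
    (e : a ≫ (ρ g).hom = a ≫ (ρ h).hom) : g = h := by
  have e1 : a ≫ (ρ (h⁻¹ * g)).hom = a := by
    rw [aut_mul, reassoc_of% e, ← aut_mul, inv_mul_cancel, aut_one, Category.comp_id]
  by_contra hne
  refine hfree (h⁻¹ * g) (a.left z) (fun h1 => hne (inv_mul_eq_one.1 h1).symm) ?_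
  have e2 : a.left ≫ (ρ (h⁻¹ * g)).hom.left = a.left := congrArg CommaMorphism.left e1
  let φ := Spec.map (a.left.residueFieldMap z)
  have : Flat φ := Flat.SpecMap_iff.2 (RingHom.Flat.of_isField (Field.toIsField _) _)
  have : Surjective φ := ⟨fun x => ⟨default, Subsingleton.elim _ _⟩⟩
  have : Epi φ := Flat.epi_of_flat_of_surjective φ
  rw [← cancel_epi φ, reassoc_of% (Scheme.Hom.SpecMap_residueFieldMap_fromSpecResidueField a.left z),
    e2, Scheme.Hom.SpecMap_residueFieldMap_fromSpecResidueField]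

variable {c : Cofan (fun _ : G => U)} (hc : IsColimit c) {s t : c.pt ⟶ U}
  (hs : ∀ g, c.inj g ≫ s = 𝟙 U) (ht : ∀ g, c.inj g ≫ t = (ρ g).hom)

include hc in
/-- Refine by the pieces of a pair of points. -/
theorem exists_two_pieces {T : Over S} (r r' : T ⟶ c.pt) :
    ∃ (V : G × G → Over S) (v : ∀ k, V k ⟶ T) (a a' : ∀ k, V k ⟶ U),
      (∀ k, IsOpenImmersion (v k).left) ∧ (∀ x, ∃ k, x ∈ Set.range (v k).left) ∧
      (∀ k, a k ≫ c.inj k.1 = v k ≫ r) ∧ ∀ k, a' k ≫ c.inj k.2 = v k ≫ r' := by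
  obtain ⟨hio, hcov⟩ := cofan_cover hc
  let O : G × G → T.left.Opens := fun k =>
    r.left ⁻¹ᵁ ((c.inj k.1).left.opensRange) ⊓ r'.left ⁻¹ᵁ ((c.inj k.2).left.opensRange)
  have hfac : ∀ (k : G) (W : Over S) (m : W ⟶ c.pt), Set.range m.left ⊆ Set.range (c.inj k).left →
      ∃ a : W ⟶ U, a ≫ c.inj k = m := fun k W m hm => by
    have := hio k
    refine ⟨Over.homMk (IsOpenImmersion.lift (c.inj k).left m.left hm) ?_,
      Over.OverMorphism.ext (IsOpenImmersion.lift_fac _ _ _)⟩
    rw [← Over.w (c.inj k), ← Category.assoc, IsOpenImmersion.lift_fac, Over.w]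
  have hmem : ∀ k, ∀ y : ↥(openOver T (O k)).left,
      r.left ((openIncl T (O k)).left y) ∈ Set.range (c.inj k.1).left ∧
        r'.left ((openIncl T (O k)).left y) ∈ Set.range (c.inj k.2).left := fun k y => y.2
  choose a ha using fun k => hfac k.1 _ (openIncl T (O k) ≫ r) (by
    rintro _ ⟨y, rfl⟩; exact (hmem k y).1)
  choose a' ha' using fun k => hfac k.2 _ (openIncl T (O k) ≫ r') (by
    rintro _ ⟨y, rfl⟩; exact (hmem k y).2)
  refine ⟨fun k => openOver T (O k), fun k => openIncl T (O k), a, a',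
    fun k => inferInstanceAs (IsOpenImmersion (O k).ι), fun x => ?_, ha, ha'⟩
  obtain ⟨g, hg⟩ := hcov (r.left x)
  obtain ⟨h, hh⟩ := hcov (r'.left x)
  exact ⟨(g, h), ⟨x, hg, hh⟩, rfl⟩

include hfree hc hs ht in
theorem jointly_injective {T : Over S} (r r' : T ⟶ c.pt) (h1 : r ≫ t = r' ≫ t) (h2 : r ≫ s = r' ≫ s) :
    r = r' := by
  obtain ⟨V, v, a, a', hv, hcov, ha, ha'⟩ := exists_two_pieces hc r r'
  refine (yon S).map_injective (open_cover_hom_ext V v hv hcov fun k => ?_)
  rw [← Functor.map_comp, ← Functor.map_comp, ← ha k, ← ha' k]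
  congr 1
  have e2 : a k = a' k := by
    have := congrArg (v k ≫ ·) h2
    simp only [← reassoc_of% (ha k), ← reassoc_of% (ha' k), hs, Category.comp_id] at this
    exact this
  have e1 : a k ≫ (ρ k.1).hom = a k ≫ (ρ k.2).hom := by
    have := congrArg (v k ≫ ·) h1
    simp only [← reassoc_of% (ha k), ← reassoc_of% (ha' k), ht, ← e2] at this
    exact this
  by_cases he : IsEmpty ↥(V k).left
  · exact (yon S).map_injective hom_ext_of_isEmpty
  · obtain ⟨z⟩ := not_isEmpty_iff.1 he
    rw [e2, eq_of_comp_eq ρ hfree (a k) z e1]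

include hfree hc hs ht in
theorem isEtaleEqvRel_free_action : IsEtaleEqvRel s t := by
  have inj : ∀ {T : Over S} (r r' : T ⟶ c.pt), r ≫ t = r' ≫ t → r ≫ s = r' ≫ s → r = r' :=
    fun r r' => jointly_injective ρ hfree hc hs ht r r'
  obtain ⟨hio, hcov⟩ := cofan_cover hc
  let τ : c.pt ⟶ c.pt := Cofan.IsColimit.desc hc fun g => (ρ g).hom ≫ c.inj g⁻¹
  have hτ : ∀ g, c.inj g ≫ τ = (ρ g).hom ≫ c.inj g⁻¹ := fun g => Cofan.IsColimit.fac hc _ g
  have hτt : τ ≫ t = s := Cofan.IsColimit.hom_ext hc _ _ fun g => by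
    rw [reassoc_of% hτ, ht, hs, ← aut_mul, inv_mul_cancel, aut_one]
  have hτs : τ ≫ s = t := Cofan.IsColimit.hom_ext hc _ _ fun g => by
    rw [reassoc_of% hτ, ht, hs, Category.comp_id]
  have het : ∀ q : c.pt ⟶ U, (∀ g, IsIso (c.inj g ≫ q)) → Etale q.left := fun q hq => by
    let e : sigmaOver (fun _ : G => U) ≅ c.pt := (sigmaOverIsColimit _).coconePointUniqueUpToIso hc
    have he : ∀ g, sigmaIn (fun _ : G => U) g ≫ e.hom = c.inj g := fun g =>
      (sigmaOverIsColimit _).comp_coconePointUniqueUpToIso_hom hc ⟨g⟩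
    have : IsIso e.inv.left := inferInstanceAs (IsIso ((Over.forget S).map e.inv))
    have heq : e.hom ≫ q = sigmaOut fun g => c.inj g ≫ q :=
      Over.OverMorphism.ext (Sigma.hom_ext _ _ fun g => by
        change (sigmaIn (fun _ : G => U) g).left ≫ (e.hom ≫ q).left =
          (sigmaIn (fun _ : G => U) g).left ≫ (sigmaOut fun g => c.inj g ≫ q).left
        rw [← Over.comp_left, ← Over.comp_left, sigmaIn_out, reassoc_of% he])
    have : Etale (e.hom ≫ q).left := by
      rw [heq]
      refine IsZariskiLocalAtSource.sigmaDesc (P := @Etale) fun g => ?_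
      have := hq g
      have : IsIso (c.inj g ≫ q).left := inferInstanceAs (IsIso ((Over.forget S).map (c.inj g ≫ q)))
      infer_instance
    have hq' : Etale (e.inv.left ≫ (e.hom ≫ q).left) := inferInstance
    rwa [← Over.comp_left, Iso.inv_hom_id_assoc] at hq'
  refine { injective := fun T r r' => inj r r', equivalence := fun T => ⟨fun a => ?_, ?_, ?_⟩,
           etale_left := het s fun g => by rw [hs]; infer_instance,
           etale_right := het t fun g => by rw [ht]; infer_instance }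
  · exact ⟨a ≫ c.inj 1, by rw [Category.assoc, ht, aut_one, Category.comp_id],
      by rw [Category.assoc, hs, Category.comp_id]⟩
  · rintro a b ⟨r, h1, h2⟩
    exact ⟨r ≫ τ, by rw [Category.assoc, hτt, h2], by rw [Category.assoc, hτs, h1]⟩
  · rintro x y z ⟨r, h1, h2⟩ ⟨r', h1', h2'⟩
    obtain ⟨V, v, a, a', hv, hcv, ha, ha'⟩ := exists_two_pieces hc r r'
    have key : ∀ k, a' k ≫ (ρ k.2).hom = a k := fun k => by
      have := congrArg (v k ≫ ·) (h2.trans h1'.symm)
      simp only [← reassoc_of% (ha k), ← reassoc_of% (ha' k), hs, ht, Category.comp_id] at this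
      exact this.symm
    let l : ∀ k, (yon S).obj (V k) ⟶ (yon S).obj c.pt := fun k =>
      (yon S).map (a' k ≫ c.inj (k.1 * k.2))
    have hlt : ∀ k, (a' k ≫ c.inj (k.1 * k.2)) ≫ t = v k ≫ x := fun k => by
      rw [Category.assoc, ht, aut_mul, reassoc_of% (key k), ← h1, ← Category.assoc, ← ha k, Category.assoc, ht]
    have hls : ∀ k, (a' k ≫ c.inj (k.1 * k.2)) ≫ s = v k ≫ z := fun k => by
      rw [Category.assoc, hs, ← h2', ← Category.assoc, ← ha' k, Category.assoc, hs]
    obtain ⟨L, hL⟩ := open_cover_glue V v hv hcv l fun i j Z p q e => by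
      simp only [l, ← Functor.map_comp]
      congr 1
      refine inj _ _ ?_ ?_
      · rw [Category.assoc, hlt, Category.assoc, hlt, reassoc_of% e]
      · rw [Category.assoc, hls, Category.assoc, hls, reassoc_of% e]
    obtain ⟨L, rfl⟩ := (yon S).map_surjective L
    have hL' : ∀ k, v k ≫ L = a' k ≫ c.inj (k.1 * k.2) := fun k =>
      (yon S).map_injective (by rw [Functor.map_comp]; exact hL k)
    refine ⟨L, (yon S).map_injective (open_cover_hom_ext V v hv hcv fun k => ?_),
      (yon S).map_injective (open_cover_hom_ext V v hv hcv fun k => ?_)⟩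
    · rw [← Functor.map_comp, ← Functor.map_comp, reassoc_of% (hL' k)]
      exact congrArg _ ((Category.assoc _ _ _).symm.trans (hlt k))
    · rw [← Functor.map_comp, ← Functor.map_comp, reassoc_of% (hL' k)]
      exact congrArg _ ((Category.assoc _ _ _).symm.trans (hls k))

end Groth.Agent.SpPts86
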