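import Groth.Agent.SpPts86.LqfSepQuot
import Groth.Agent.Grpd80.GlueQuot2

/-!
A sheaf with a finite locally free cover by a scheme whose finite sets lie in affine opens is a scheme.
-/

universe u

set_option autoImplicit false

open CategoryTheory CategoryTheory.Limits AlgebraicGeometry
open AlgSp Groth.Agent.SpFP87

namespace Groth.Agent.SpPts86

variable {S : Scheme.{u}}

set_option backward.isDefEq.respectTransparency.types false in
theorem exists_quot_of_finLocFree {R U : Over S} {s t : R ⟶ U} (h : IsEqvRel s t)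
    [IsFinite s.left] [Flat s.left] [LocallyOfFinitePresentation s.left]
    (hU : ∀ A : Set ↥U.left, A.Finite → ∃ V : U.left.Opens, IsAffineOpen V ∧ A ⊆ (V : Set ↥U.left)) :
    ∃ (M : Over S) (m : U ⟶ M), IsPullback t.left s.left m.left m.left ∧ Surjective m.left ∧
      IsFinite m.left ∧ Flat m.left ∧ LocallyOfFinitePresentation m.left := by
  obtain ⟨G, eU, eR, hs, ht, hmono⟩ := exists_groupoid h
  obtain ⟨GU, GR, pU, pR, Gs, Gt, e, i, c, h1, h2, h3, h4, h5, h6, h7, h8, h9, h10, h11, h12, h13⟩ := G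
  change GU = U.left at eU
  change GR = R.left at eR
  subst eU eR
  change HEq Gs s.left at hs
  change HEq Gt t.left at ht
  obtain rfl := eq_of_heq hs
  obtain rfl := eq_of_heq ht
  let G : Grpd.GroupoidScheme S :=
    ⟨_, _, pU, pR, s.left, t.left, e, i, c, h1, h2, h3, h4, h5, h6, h7, h8, h9, h10, h11, h12, h13⟩
  have : IsFinite G.s := inferInstanceAs (IsFinite s.left)
  have : Flat G.s := inferInstanceAs (Flat s.left)
  have : LocallyOfFinitePresentation G.s := inferInstanceAs (LocallyOfFinitePresentation s.left)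
  have hb : ∀ x : ↥U.left, ∃ V : U.left.Opens, IsAffineOpen V ∧ ∀ r : ↥R.left, s.left r = x → t.left r ∈ V := by
    intro x
    obtain ⟨V, hV, hVA⟩ := hU (t.left '' (s.left ⁻¹' {x}))
      ((IsFinite.finite_preimage_singleton s.left x).image _)
    exact ⟨V, hV, fun r hr => hVA ⟨r, hr, rfl⟩⟩
  obtain ⟨Y, p, hp⟩ := Grpd80.exists_niceQuot G hb
  obtain ⟨sqp, hpf, hpfl, hpfp⟩ := hp.mono hmono
  have hU' : t.left ≫ U.hom = s.left ≫ U.hom := (Over.w t).trans (Over.w s).symm
  obtain ⟨φ, hφ, -⟩ := hp.desc (T := S) (show G.U ⟶ S from U.hom) hU'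
  let M : Over S := Over.mk φ
  exact ⟨M, Over.homMk p hφ, sqp, hp.surj, hpf, hpfl, hpfp⟩

/-- The sheaf quotient of such a relation is the scheme quotient. -/
theorem exists_iso_of_finLocFree_cover {F : Sp S} {R U : Over S} {s t : R ⟶ U}
    {q : (yon S).obj U ⟶ F} (hq : LocLift q)
    (sq : IsPullback ((yon S).map t) ((yon S).map s) q q)
    [IsFinite s.left] [Flat s.left] [LocallyOfFinitePresentation s.left]
    (hU : ∀ A : Set ↥U.left, A.Finite → ∃ V : U.left.Opens, IsAffineOpen V ∧ A ⊆ (V : Set ↥U.left)) :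
    ∃ M : Over S, Nonempty ((yon S).obj M ≅ F) := by
  obtain ⟨M, m, sqm, hs, hf, hfl, hfp⟩ := exists_quot_of_finLocFree (isEqvRel_of_isPullback sq) hU
  have sqM : IsPullback t s m m :=
    IsPullback.of_map (Over.forget S) (Over.OverMorphism.ext sqm.w) sqm
  have hlift : LocLift ((yon S).map m) :=
    locLift_of_repWith le_rfl ((repWith_yon_map_iff (S := S) fppfSurj m).2
      ((fppfSurj_iff _).2 ⟨hs, hfl, hfp⟩))
  obtain ⟨hc⟩ := isColimit_cofork hq sq
  obtain ⟨hc'⟩ := isColimit_cofork hlift (sqM.map (yon S))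
  exact ⟨M, ⟨IsColimit.coconePointUniqueUpToIso hc' hc⟩⟩

theorem exists_affine_of_finite_sigma {ι : Type u} (X : ι → Scheme.{u}) [∀ i, IsAffine (X i)]
    {A : Set ↥(∐ X)} (hA : A.Finite) :
    ∃ V : (∐ X).Opens, IsAffineOpen V ∧ A ⊆ (V : Set ↥(∐ X)) := by
  classical
  choose i v hv using fun a : ↥(∐ X) => show ∃ i v, (Sigma.ι X i) v = a by
    obtain ⟨⟨i, v⟩, h⟩ := (sigmaMk X).surjective a
    exact ⟨i, v, by rw [← sigmaMk_mk]; exact h⟩
  let K : Finset ι := hA.toFinset.image i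
  let V : (∐ X).Opens := ⨆ k : K, (Sigma.ι X k.1).opensRange
  refine ⟨V, ?_, fun a ha => TopologicalSpace.Opens.mem_iSup.2
    ⟨⟨i a, Finset.mem_image_of_mem _ (hA.mem_toFinset.2 ha)⟩, v a, hv a⟩⟩
  let g : ∀ k : K, X k.1 ⟶ V.toScheme := fun k => IsOpenImmersion.lift V.ι (Sigma.ι X k.1) (by
    rw [V.range_ι]
    exact fun a ha => TopologicalSpace.Opens.mem_iSup.2 ⟨k, ha⟩)
  have hg : ∀ k, g k ≫ V.ι = Sigma.ι X k.1 := fun k => IsOpenImmersion.lift_fac _ _ _
  have : ∀ k, IsOpenImmersion (g k) := fun k => by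
    have : IsOpenImmersion (g k ≫ V.ι) := by rw [hg]; infer_instance
    exact IsOpenImmersion.of_comp _ V.ι
  have hgv : ∀ k w, V.ι (g k w) = Sigma.ι X k.1 w := fun k w => by rw [← Scheme.Hom.comp_apply, hg]
  have hc : Nonempty (IsColimit (Cofan.mk V.toScheme g)) := by
    refine nonempty_isColimit_cofanMk_of _ ?_ ?_
    · rw [eq_top_iff]
      intro z _
      obtain ⟨k, w, hw⟩ := TopologicalSpace.Opens.mem_iSup.1 z.2
      exact TopologicalSpace.Opens.mem_iSup.2 ⟨k, w, V.ι.isOpenEmbedding.injective ((hgv k w).trans hw)⟩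
    · intro k l hkl
      change Disjoint (g k).opensRange (g l).opensRange
      rw [disjoint_iff, TopologicalSpace.Opens.ext_iff]
      refine Set.eq_empty_of_forall_notMem ?_
      rintro z ⟨⟨a, ha⟩, ⟨b, hb⟩⟩
      have h := (hgv k a).symm.trans ((congrArg _ (ha.trans hb.symm)).trans (hgv l b))
      rw [← sigmaMk_mk, ← sigmaMk_mk] at h
      exact hkl (Subtype.ext (congrArg Sigma.fst ((sigmaMk X).injective h)))
  let e : V.toScheme ≅ ∐ fun k : K => X k.1 :=
    hc.some.coconePointUniqueUpToIso (coproductIsCoproduct _)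
  exact IsAffine.of_isIso e.hom

end Groth.Agent.SpPts86
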