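import Groth.Agent.SpPts86.SchImageApps

/-!
Points of scheme theoretic images of quasi-compact morphisms.
-/

universe u

set_option autoImplicit false
set_option backward.isDefEq.respectTransparency false
set_option linter.style.haveILetI false

open CategoryTheory CategoryTheory.Limits AlgebraicGeometry Opposite
open AlgSp
open Groth.Agent.SpFP87

namespace Groth.Agent.SpPts86

variable {S : Scheme.{u}} {X Y : Sp S}

theorem exists_affine_chart_pt (hY : IsAlgSpace Y) (y : Points Y) :
    ∃ (T : Over S) (t : (yon S).obj T ⟶ Y) (v : ↥T.left),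
      IsAffine T.left ∧ RepWith @Etale t ∧ Points.ofPt t v = y := by
  obtain ⟨U, a, ha, has⟩ := hY.atlas
  obtain ⟨u, rfl⟩ := surjective_ofPt has y
  obtain ⟨W, v, rfl⟩ := exists_mem_affineOpens U.left u
  refine ⟨opOver U W.1, (yon S).map (opIncl U W.1) ≫ a, v, W.2, ?_, ofPt_comp _ _ _⟩
  exact (repWith_isMultiplicative (S := S) @Etale).comp_mem _ _
    ((repWith_yon_map_iff _ _).2 (inferInstanceAs (Etale W.1.ι))) ha

/-- A point of the scheme theoretic image, seen in a chart: it is in the closure of the image of a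
quasi-compact map from a scheme over the source, whose kernel cuts out the image. -/
theorem exists_chart_mem_closure (hY : IsAlgSpace Y) {f : X ⟶ Y} (hf : IsQuasiCompactMor f) {Z : Sp S}
    {i : Z ⟶ Y} (hZ : IsSchImage f i) (hi : RepWith @IsClosedImmersion i) {y : Points Y}
    (hy : y ∈ Set.range (Points.map i)) :
    ∃ (T : Over S) (t : (yon S).obj T ⟶ Y) (v : ↥T.left) (A : Over S) (h : A ⟶ T)
      (q : (yon S).obj A ⟶ X), IsAffine T.left ∧ RepWith @Etale t ∧ Points.ofPt t v = y ∧
      q ≫ f = (yon S).map h ≫ t ∧ QuasiCompact h.left ∧ v ∈ closure (Set.range h.left) ∧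
      idealOf hi t = h.left.ker := by
  obtain ⟨T, t, v, hT, ht, rfl⟩ := exists_affine_chart_pt hY y
  haveI := hT
  obtain ⟨A, h, H, hq⟩ := exists_imCover hf t
  haveI := hq
  obtain ⟨q, e⟩ := H.1
  have hid : idealOf hi t = h.left.ker := (idealOf_schImage hY hf hZ hi t ht).trans H.imIdeal_eq
  refine ⟨T, t, v, A, h, q, hT, ht, rfl, e, hq, ?_, hid⟩
  haveI : IsClosedImmersion (hi.rep.snd t).left := hi.property_snd t
  have hv : v ∈ Points.ofPt t ⁻¹' Set.range (Points.map i) := hy
  rw [preimage_ofPt_range_map (hi.rep.isPullback t),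
    ← (hi.rep.snd t).left.isClosedEmbedding.isClosed_range.closure_eq] at hv
  have h1 := congrArg (fun I => (I.support : Set ↥T.left)) hid
  simp only [idealOf, Scheme.Hom.support_ker] at h1
  exact h1 ▸ hv

/-- The image of a quasi-compact morphism is dense in its scheme theoretic image. -/
theorem range_subset_closure_of_isSchImage (hY : IsAlgSpace Y) {f : X ⟶ Y} (hf : IsQuasiCompactMor f)
    {Z : Sp S} {i : Z ⟶ Y} (hZ : IsSchImage f i) :
    Set.range (Points.map i) ⊆ closure (Set.range (Points.map f)) := by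
  intro y hy
  obtain ⟨T, t, v, A, h, q, -, ht, rfl, e, -, hv, -⟩ := exists_chart_mem_closure hY hf hZ hZ.1 hy
  refine map_mem_closure (Points.continuous_ofPt t) hv ?_
  rintro _ ⟨a, rfl⟩
  refine ⟨Points.ofPt q a, ?_⟩
  rw [Points.map_ofPt, e, ofPt_comp]

end Groth.Agent.SpPts86

namespace Groth.Agent.SpPts86

/-- An injective ring map gives a morphism of spectra with zero kernel. -/
theorem ker_specMap_eq_bot {A B : CommRingCat.{u}} (φ : A ⟶ B) (h : Function.Injective φ) :
    (Spec.map φ).ker = ⊥ := by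
  refine Scheme.IdealSheafData.ext_of_isAffine ?_
  rw [Scheme.Hom.ker_apply, Scheme.IdealSheafData.ideal_bot, Pi.bot_apply,
    ← RingHom.injective_iff_ker_eq_bot]
  have e : (Spec.map φ).appTop = (Scheme.ΓSpecIso A).hom ≫ φ ≫ (Scheme.ΓSpecIso B).inv := by
    rw [← Scheme.ΓSpecIso_naturality_assoc, Iso.hom_inv_id, Category.comp_id]
  show Function.Injective (Spec.map φ).appTop
  rw [e]
  exact ((ConcreteCategory.bijective_of_isIso (Scheme.ΓSpecIso B).inv).1.comp h).comp
    (ConcreteCategory.bijective_of_isIso (Scheme.ΓSpecIso A).hom).1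

end Groth.Agent.SpPts86
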