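import Groth.Prelude.Def_AlgSpMor5
import Groth.Agent.SpPts86.Basic
import Mathlib.AlgebraicGeometry.Morphisms.ClosedImmersion

/-!
Formal properties of the valuative criteria.
-/

universe u

set_option autoImplicit false

open CategoryTheory CategoryTheory.Limits AlgebraicGeometry
open AlgSp

namespace Groth.Agent.SpPts86

variable {S : Scheme.{u}} {X Y Z P : Sp S}

/-- The same square under a morphism to another target. -/
noncomputable def valSqMap {f : X ⟶ Y} (q : ValSq f) {F G : Sp S} {f' : F ⟶ G} (a : X ⟶ F)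
    (b : Y ⟶ G) (w : a ≫ f' = f ≫ b) : ValSq f' where
  A := q.A
  K := q.K
  str := q.str
  top := q.top ≫ a
  bot := q.bot ≫ b
  comm := by rw [Category.assoc, w, ← Category.assoc, q.comm, Category.assoc]

theorem existVC_baseChange {f : X ⟶ Y} {g : Z ⟶ Y} {fst : P ⟶ X} {f' : P ⟶ Z}
    (sq : IsPullback fst f' f g) (h : ExistVC f) : ExistVC f' := fun q => by
  obtain ⟨⟨A', K', φ, ψ, hc, hloc⟩, l, hl1, hl2⟩ := h (valSqMap q fst g sq.w)
  let e : q.DomExt := { A' := A', K' := K', φ := φ, ψ := ψ, comm := hc, isLocalHom := hloc }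
  refine ⟨e, sq.lift l ((yon S).map (Over.homMk (Spec.map (CommRingCat.ofHom e.φ)) rfl :
      e.ptA' ⟶ q.ptA) ≫ q.bot) (by rw [Category.assoc]; exact hl2), ?_, sq.lift_snd _ _ _⟩
  apply sq.hom_ext
  · rw [Category.assoc, sq.lift_fst, Category.assoc]
    exact hl1
  · rw [Category.assoc, sq.lift_snd, Category.assoc, q.comm, ← Category.assoc, ← Category.assoc,
      ← Functor.map_comp, ← Functor.map_comp]
    congr 2
    refine Over.OverMorphism.ext ?_
    change Spec.map _ ≫ Spec.map _ = Spec.map _ ≫ Spec.map _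
    rw [← Spec.map_comp, ← Spec.map_comp, ← CommRingCat.ofHom_comp, ← CommRingCat.ofHom_comp, e.comm]

theorem uniqVC_baseChange {f : X ⟶ Y} {g : Z ⟶ Y} {fst : P ⟶ X} {f' : P ⟶ Z}
    (sq : IsPullback fst f' f g) (h : UniqVC f) : UniqVC f' := fun q l l' h1 h2 h1' h2' => by
  apply sq.hom_ext
  · refine h (valSqMap q fst g sq.w) (l ≫ fst) (l' ≫ fst) ?_ ?_ ?_ ?_
    · exact (Category.assoc _ _ _).symm.trans (congrArg (· ≫ fst) h1)
    · exact ((Category.assoc _ _ _).trans ((congrArg (l ≫ ·) sq.w).trans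
        ((Category.assoc _ _ _).symm.trans (congrArg (· ≫ g) h2))))
    · exact (Category.assoc _ _ _).symm.trans (congrArg (· ≫ fst) h1')
    · exact ((Category.assoc _ _ _).trans ((congrArg (l' ≫ ·) sq.w).trans
        ((Category.assoc _ _ _).symm.trans (congrArg (· ≫ g) h2'))))
  · rw [h2, h2']

theorem uniqVC_comp {f : X ⟶ Y} {g : Y ⟶ Z} (hf : UniqVC f) (hg : UniqVC g) : UniqVC (f ≫ g) :=
  fun q l l' h1 h2 h1' h2' => by
  let qg : ValSq g :=
    { A := q.A, K := q.K, str := q.str, top := q.top ≫ f, bot := q.bot,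
      comm := (Category.assoc _ _ _).trans q.comm }
  have e : l ≫ f = l' ≫ f := hg qg _ _
    ((Category.assoc _ _ _).symm.trans (congrArg (· ≫ f) h1))
    ((Category.assoc _ _ _).trans h2)
    ((Category.assoc _ _ _).symm.trans (congrArg (· ≫ f) h1'))
    ((Category.assoc _ _ _).trans h2')
  let qf : ValSq f :=
    { A := q.A, K := q.K, str := q.str, top := q.top, bot := l ≫ f,
      comm := by rw [← Category.assoc]; exact (congrArg (· ≫ f) h1).symm }
  exact hf qf l l' h1 rfl h1' e.symm

theorem existVC_comp {f : X ⟶ Y} {g : Y ⟶ Z} (hf : ExistVC f) (hg : ExistVC g) : ExistVC (f ≫ g) :=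
  fun q => by
  obtain ⟨⟨A', K', φ, ψ, hc, hloc⟩, l, hl1, hl2⟩ := hg
    { A := q.A, K := q.K, str := q.str, top := q.top ≫ f, bot := q.bot,
      comm := (Category.assoc _ _ _).trans q.comm }
  let e : q.DomExt := { A' := A', K' := K', φ := φ, ψ := ψ, comm := hc, isLocalHom := hloc }
  let k : e.ptK' ⟶ q.ptK := Over.homMk (Spec.map (CommRingCat.ofHom e.ψ)) (by
    change Spec.map _ ≫ Spec.map _ ≫ _ = Spec.map _ ≫ Spec.map _ ≫ _
    rw [← Spec.map_comp_assoc, ← Spec.map_comp_assoc, ← CommRingCat.ofHom_comp,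
      ← CommRingCat.ofHom_comp, e.comm])
  let qf : ValSq f :=
    { A := e.A', K := e.K', str := Spec.map (CommRingCat.ofHom e.φ) ≫ q.str,
      top := (yon S).map k ≫ q.top, bot := l,
      comm := (Category.assoc _ _ _).trans hl1.symm }
  obtain ⟨e₂, m, hm1, hm2⟩ := hf qf
  let e₃ : q.DomExt :=
    { A' := e₂.A', K' := e₂.K', φ := e₂.φ.comp e.φ, ψ := e₂.ψ.comp e.ψ,
      comm := by
        rw [← RingHom.comp_assoc]
        rw [show (algebraMap e₂.A' e₂.K').comp e₂.φ = e₂.ψ.comp (algebraMap e.A' e.K') from e₂.comm,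
          RingHom.comp_assoc, e.comm, RingHom.comp_assoc]
      isLocalHom := by
        have := e.isLocalHom
        have : IsLocalHom e₂.φ := e₂.isLocalHom
        exact RingHom.isLocalHom_comp _ _ }
  let i : e₃.ptA' ⟶ e₂.ptA' := Over.homMk (𝟙 _) (by
    change 𝟙 _ ≫ Spec.map _ ≫ Spec.map _ ≫ _ = Spec.map _ ≫ _
    rw [Category.id_comp, ← Spec.map_comp_assoc, ← CommRingCat.ofHom_comp])
  let i' : e₃.ptK' ⟶ e₂.ptK' := Over.homMk (𝟙 _) (by
    change 𝟙 _ ≫ Spec.map _ ≫ Spec.map _ ≫ Spec.map _ ≫ _ = Spec.map _ ≫ Spec.map _ ≫ _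
    rw [Category.id_comp]
    congr 1
    rw [← Spec.map_comp_assoc, ← CommRingCat.ofHom_comp])
  refine ⟨e₃, (yon S).map i ≫ m, ?_, ?_⟩
  · have h := congrArg ((yon S).map i' ≫ ·) hm1
    simp only [qf, ← Category.assoc, ← Functor.map_comp] at h
    refine ((Category.assoc _ _ _).symm.trans ?_).trans (h.trans ?_)
    · rw [← Functor.map_comp]
      congr 2
    · congr 2
      refine Over.OverMorphism.ext ?_
      change (𝟙 _ ≫ Spec.map _) ≫ Spec.map _ = Spec.map _
      rw [Category.id_comp, ← Spec.map_comp, ← CommRingCat.ofHom_comp]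

  · rw [Category.assoc, ← Category.assoc m, hm2]
    change (yon S).map i ≫ ((yon S).map _ ≫ l) ≫ g = _
    rw [Category.assoc, hl2, ← Category.assoc, ← Category.assoc, ← Functor.map_comp, ← Functor.map_comp]
    congr 2
    refine Over.OverMorphism.ext ?_
    change (𝟙 _ ≫ Spec.map _) ≫ Spec.map _ = Spec.map _
    rw [Category.id_comp, ← Spec.map_comp, ← CommRingCat.ofHom_comp]


/-- A separated morphism has the uniqueness part of the valuative criterion. -/
theorem uniqVC_of_isSeparatedMor {f : X ⟶ Y} (hf : IsSeparatedMor f) : UniqVC f :=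
  fun q l l' h1 h2 h1' h2' => by
  let γ := pullback.lift l l' (h2.trans h2'.symm)
  obtain ⟨V, snd, fst, sq⟩ := hf.1 γ
  have : IsClosedImmersion snd.left := hf.2 γ fst snd sq
  obtain ⟨k, hk⟩ := (yon S).map_surjective (sq.lift q.top ((yon S).map q.j) (by
    apply pullback.hom_ext
    · simp only [Category.assoc, γ, pullback.lift_fst, pullback.diagonal_fst, Category.comp_id]
      exact h1.symm
    · simp only [Category.assoc, γ, pullback.lift_snd, pullback.diagonal_snd, Category.comp_id]
      exact h1'.symm))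
  have hkj : k ≫ snd = q.j := (yon S).map_injective (by rw [Functor.map_comp, hk, sq.lift_snd])
  have hfrac : Function.Injective (algebraMap q.A q.K) := IsFractionRing.injective q.A q.K
  have : IsDominant q.j.left := by
    refine ⟨?_⟩
    exact (PrimeSpectrum.denseRange_comap_iff_ker_le_nilRadical _).2 (by
      rw [CommRingCat.hom_ofHom, (RingHom.injective_iff_ker_eq_bot _).1 hfrac]; exact bot_le)
  have : IsDominant snd.left := ⟨by
    have h := q.j.left.denseRange
    rw [← hkj] at h
    exact h.mono (by rintro _ ⟨x, rfl⟩; exact ⟨k.left x, rfl⟩)⟩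
  have : IsReduced q.ptA.left := inferInstanceAs (IsReduced (Spec (.of q.A)))
  have : IsIso snd.left := by
    have : Surjective snd.left := surjective_of_isDominant_of_isClosed_range snd.left snd.left.isClosedEmbedding.isClosed_range
    exact isIso_of_isClosedImmersion_of_surjective snd.left
  have : IsIso ((Over.forget S).map snd) := inferInstanceAs (IsIso snd.left)
  have : IsIso snd := isIso_of_reflects_iso snd (Over.forget S)
  rw [← cancel_epi ((yon S).map snd)]
  have e1 := congrArg (· ≫ pullback.fst f f) sq.w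
  have e2 := congrArg (· ≫ pullback.snd f f) sq.w
  simp only [Category.assoc, γ, pullback.lift_fst, pullback.lift_snd, Category.comp_id] at e1 e2
  rw [← e1, ← e2, pullback.diagonal_fst, pullback.diagonal_snd]

end Groth.Agent.SpPts86
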