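import Groth.Agent.SpPts86.DenseDesc
import Groth.Agent.SpPts86.SchImagePoints
import Groth.Agent.SpPts86.ValCrit
import Groth.Agent.SpFP87.FpqcSheafLocal
import Mathlib.RingTheory.Flat.TorsionFree
import Mathlib.RingTheory.Flat.FaithfullyFlat.Algebra
import Mathlib.AlgebraicGeometry.Morphisms.Preimmersion

/-!
For separated morphisms a lift after a dominating extension of valuation rings descends.
-/

universe u

set_option autoImplicit false
set_option backward.isDefEq.respectTransparency false
set_option linter.style.haveILetI false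

open CategoryTheory CategoryTheory.Limits AlgebraicGeometry
open AlgSp
open Groth.Agent.SpFP87

namespace Groth.Agent.SpPts86

variable {S : Scheme.{u}} {X Y : Sp S}

theorem flat_of_injective_valuationRing {A B : Type u} [CommRing A] [IsDomain A] [ValuationRing A]
    [CommRing B] [IsDomain B] (φ : A →+* B) (h : Function.Injective φ) : φ.Flat := by
  algebraize [φ]
  show Module.Flat A B
  rw [Module.Flat.flat_iff_torsion_eq_bot_of_isBezout, eq_bot_iff]
  rintro m ⟨⟨r, hr⟩, hm⟩
  change r • m = 0 at hm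
  rw [Algebra.smul_def, mul_eq_zero, RingHom.algebraMap_toAlgebra] at hm
  rcases hm with h0 | h0
  · exact absurd (h (h0.trans (map_zero φ).symm)) (nonZeroDivisors.ne_zero hr)
  · exact h0

theorem faithfullyFlat_spec {A B : Type u} [CommRing A] [IsLocalRing A] [CommRing B] [IsLocalRing B]
    (φ : A →+* B) (hf : φ.Flat) [IsLocalHom φ] :
    Flat (Spec.map (CommRingCat.ofHom φ)) ∧ Surjective (Spec.map (CommRingCat.ofHom φ)) := by
  rw [flat_and_surjective_SpecMap_iff]
  algebraize [φ]
  haveI : IsLocalHom (algebraMap A B) := ‹IsLocalHom φ›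
  haveI : Module.Flat A B := hf
  exact RingHom.faithfullyFlat_algebraMap_iff.2 (Module.FaithfullyFlat.of_flat_of_isLocalHom (A := A) (B := B))

/-- The morphism of extended fraction fields. -/
noncomputable abbrev domExtK {f : X ⟶ Y} {q : ValSq f} (e : q.DomExt) : e.ptK' ⟶ q.ptK :=
  Over.homMk (Spec.map (CommRingCat.ofHom e.ψ)) (by
    change Spec.map _ ≫ Spec.map _ ≫ _ = Spec.map _ ≫ Spec.map _ ≫ _
    rw [← Spec.map_comp_assoc, ← Spec.map_comp_assoc, ← CommRingCat.ofHom_comp,
      ← CommRingCat.ofHom_comp, e.comm])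

theorem mono_specMap_fraction (A K : Type u) [CommRing A] [Field K] [Algebra A K] [IsFractionRing A K] :
    Mono (Spec.map (CommRingCat.ofHom (algebraMap A K))) :=
  have := IsPreimmersion.of_isLocalization (R := A) (S := K) (nonZeroDivisors A)
  inferInstance

theorem flat_specMap_fraction (A K : Type u) [CommRing A] [Field K] [Algebra A K] [IsFractionRing A K] :
    Flat (Spec.map (CommRingCat.ofHom (algebraMap A K))) := by
  rw [Flat.SpecMap_iff, CommRingCat.hom_ofHom, RingHom.flat_algebraMap_iff]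
  exact IsLocalization.flat K (nonZeroDivisors A)

/-- The image ideal of the generic point of a valuation ring on a scheme flat over it vanishes. -/
theorem imIdeal_generic_eq_bot {A K : Over S} (j : K ⟶ A) [QuasiCompact j.left] (hj : j.left.ker = ⊥)
    {R : Over S} (c : R ⟶ A) [Flat c.left] : imIdeal ((yon S).map j) ((yon S).map c) = ⊥ := by
  have hq : IsQuasiCompactMor ((yon S).map j) :=
    isQuasiCompactMor_of_repWith (IsAlgSpace.yon_obj A) ((repWith_yon_map_iff _ _).2 inferInstance)
  have h0 : imIdeal ((yon S).map j) (𝟙 ((yon S).obj A)) = ⊥ := by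
    rw [eq_bot_iff, ← hj]
    exact imIdeal_le_ker (𝟙 ((yon S).obj K)) j (by rw [Category.id_comp, Category.comp_id])
  have h1 := imIdeal_comap hq (t := 𝟙 ((yon S).obj A)) c
  rw [Category.comp_id, h0, Scheme.IdealSheafData.comap_bot] at h1
  exact h1

/-- A lift after a dominating extension descends when the morphism is separated. -/
theorem hasLift_of_domExt (hX : IsAlgSpace X) (hY : IsAlgSpace Y) {f : X ⟶ Y} (hf : IsSeparatedMor f)
    (q : ValSq f) (e : q.DomExt) (he : e.HasLift) : q.HasLift := by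
  obtain ⟨l, hl1, hl2⟩ := he
  let c : e.ptA' ⟶ q.ptA := Over.homMk (Spec.map (CommRingCat.ofHom e.φ)) rfl
  let j' : e.ptK' ⟶ e.ptA' := Over.homMk (Spec.map (CommRingCat.ofHom (algebraMap e.A' e.K'))) rfl
  let d : e.ptK' ⟶ q.ptK := domExtK e
  change (yon S).map j' ≫ l = (yon S).map d ≫ q.top at hl1
  change l ≫ f = (yon S).map c ≫ q.bot at hl2
  have hjd : j' ≫ c = d ≫ q.j := Over.OverMorphism.ext (by
    change Spec.map _ ≫ Spec.map _ = Spec.map _ ≫ Spec.map _
    rw [← Spec.map_comp, ← Spec.map_comp, ← CommRingCat.ofHom_comp, ← CommRingCat.ofHom_comp, e.comm])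
  have hφ : Function.Injective e.φ := by
    intro a b h
    refine IsFractionRing.injective q.A q.K (e.ψ.injective ?_)
    have h1 := RingHom.congr_fun e.comm
    simp only [RingHom.comp_apply] at h1
    rw [← h1, ← h1, h]
  haveI := e.isLocalHom
  obtain ⟨hc1, hc2⟩ := faithfullyFlat_spec e.φ (flat_of_injective_valuationRing e.φ hφ)
  haveI : Flat c.left := hc1
  haveI : Surjective c.left := hc2
  haveI : QuasiCompact c.left := inferInstanceAs (QuasiCompact (Spec.map (CommRingCat.ofHom e.φ)))
  haveI : CompactSpace ↥e.ptA'.left := inferInstanceAs (CompactSpace ↥(Spec (CommRingCat.of e.A')))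
  have kerj : q.j.left.ker = ⊥ := ker_specMap_eq_bot _ (IsFractionRing.injective q.A q.K)
  have kerj' : j'.left.ker = ⊥ := ker_specMap_eq_bot _ (IsFractionRing.injective e.A' e.K')
  haveI : Flat q.j.left := flat_specMap_fraction q.A q.K
  haveI : Mono q.j.left := mono_specMap_fraction q.A q.K
  haveI : Mono q.j := (Over.forget S).mono_of_mono_map (f := q.j) ‹Mono q.j.left›
  haveI : QuasiCompact q.j.left :=
    inferInstanceAs (QuasiCompact (Spec.map (CommRingCat.ofHom (algebraMap q.A q.K))))
  haveI : QuasiCompact j'.left :=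
    inferInstanceAs (QuasiCompact (Spec.map (CommRingCat.ofHom (algebraMap e.A' e.K'))))
  -- on the generic fibre the lift is the given point
  obtain ⟨G, g₁, g₂, sqG, wG⟩ := exists_isPullback_over c q.j
  haveI : Flat g₁.left := MorphismProperty.of_isPullback (P := @Flat) sqG.flip ‹Flat q.j.left›
  have hG : (yon S).map g₁ ≫ l = (yon S).map g₂ ≫ q.top := by
    refine eq_of_imIdeal_eq_bot hf ?_ (imIdeal_generic_eq_bot j' kerj' g₁) fun A b k hk => ?_
    · rw [Category.assoc, Category.assoc, hl2, q.comm, ← Functor.map_comp_assoc,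
        ← Functor.map_comp_assoc, wG]
    · obtain ⟨b, rfl⟩ := (yon S).map_surjective b
      rw [← Functor.map_comp, ← Functor.map_comp] at hk
      have hk' : b ≫ j' = k ≫ g₁ := (yon S).map_injective hk
      have hk2 : k ≫ g₂ = b ≫ d := by
        rw [← cancel_mono q.j, Category.assoc, Category.assoc, ← wG, ← hjd, ← Category.assoc,
          ← Category.assoc, ← hk']
      rw [← Functor.map_comp_assoc, ← Functor.map_comp_assoc, ← hk', hk2, Functor.map_comp_assoc,
        Functor.map_comp_assoc, hl1]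
  -- the lift is compatible on the overlap
  obtain ⟨R, p₁, p₂, sqR, wR⟩ := exists_isPullback_over c c
  haveI : Flat p₁.left := MorphismProperty.of_isPullback (P := @Flat) sqR.flip ‹Flat c.left›
  have hR : (yon S).map p₁ ≫ l = (yon S).map p₂ ≫ l := by
    haveI : Flat (p₁ ≫ c).left := inferInstanceAs (Flat (p₁.left ≫ c.left))
    refine eq_of_imIdeal_eq_bot hf ?_ (imIdeal_generic_eq_bot q.j kerj (p₁ ≫ c)) fun A b k hk => ?_
    · rw [Category.assoc, Category.assoc, hl2, ← Functor.map_comp_assoc, ← Functor.map_comp_assoc, wR]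
    · obtain ⟨b, rfl⟩ := (yon S).map_surjective b
      rw [← Functor.map_comp, ← Functor.map_comp] at hk
      have hk' : b ≫ q.j = k ≫ p₁ ≫ c := (yon S).map_injective hk
      have key : ∀ r : A ⟶ e.ptA', r ≫ c = b ≫ q.j → (yon S).map r ≫ l = (yon S).map b ≫ q.top := by
        intro r hr
        have e2 : r.left ≫ c.left = b.left ≫ q.j.left := congrArg CommaMorphism.left hr
        let m : A ⟶ G := Over.homMk (sqG.lift r.left b.left e2) (by
          rw [← Over.w g₁, ← Category.assoc, IsPullback.lift_fst, Over.w r])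
        have hm1 : m ≫ g₁ = r := Over.OverMorphism.ext (sqG.lift_fst _ _ _)
        have hm2 : m ≫ g₂ = b := Over.OverMorphism.ext (sqG.lift_snd _ _ _)
        rw [← hm1, ← hm2, Functor.map_comp_assoc, Functor.map_comp_assoc, hG]
      rw [← Functor.map_comp_assoc, ← Functor.map_comp_assoc,
        key (k ≫ p₁) (by rw [Category.assoc, hk']),
        key (k ≫ p₂) (by rw [Category.assoc, ← wR, hk'])]
  obtain ⟨b, hb⟩ := exists_desc_of_flat_qc hX c l fun W k₁ k₂ hk => by
    have e2 : k₁.left ≫ c.left = k₂.left ≫ c.left := congrArg CommaMorphism.left hk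
    let m : W ⟶ R := Over.homMk (sqR.lift k₁.left k₂.left e2) (by
      rw [← Over.w p₁, ← Category.assoc, IsPullback.lift_fst, Over.w k₁])
    have hm1 : m ≫ p₁ = k₁ := Over.OverMorphism.ext (sqR.lift_fst _ _ _)
    have hm2 : m ≫ p₂ = k₂ := Over.OverMorphism.ext (sqR.lift_snd _ _ _)
    rw [← hm1, ← hm2, Functor.map_comp_assoc, Functor.map_comp_assoc, hR]
  refine ⟨b, ?_, hom_ext_of_flat_qc hY c _ _ (by rw [← Category.assoc, hb, hl2])⟩
  haveI : IsLocalHom e.ψ := ⟨fun a ha => IsUnit.of_map e.ψ a ha⟩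
  obtain ⟨hd1, hd2⟩ := faithfullyFlat_spec e.ψ (flat_of_injective_valuationRing e.ψ e.ψ.injective)
  haveI : Flat d.left := hd1
  haveI : Surjective d.left := hd2
  haveI : QuasiCompact d.left := inferInstanceAs (QuasiCompact (Spec.map (CommRingCat.ofHom e.ψ)))
  refine hom_ext_of_flat_qc hX d _ _ ?_
  rw [← Functor.map_comp_assoc, ← hjd, Functor.map_comp_assoc, hb, hl1]

theorem existVC_of_existVCStrict {f : X ⟶ Y} (h : ExistVCStrict f) : ExistVC f := fun q => by
  obtain ⟨l, h1, h2⟩ := h q
  let e : q.DomExt :=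
    { A' := q.A, K' := q.K, φ := RingHom.id _, ψ := RingHom.id _,
      comm := by rw [RingHom.comp_id, RingHom.id_comp], isLocalHom := isLocalHom_id q.A }
  let i : e.ptA' ⟶ q.ptA := Over.homMk (Spec.map (CommRingCat.ofHom e.φ)) rfl
  refine ⟨e, (yon S).map i ≫ l, ?_, ?_⟩
  · rw [← h1, ← Functor.map_comp_assoc, ← Functor.map_comp_assoc]
    congr 2
    refine Over.OverMorphism.ext ?_
    change Spec.map _ ≫ Spec.map _ = Spec.map _ ≫ Spec.map _
    rw [← Spec.map_comp, ← Spec.map_comp, ← CommRingCat.ofHom_comp, ← CommRingCat.ofHom_comp, e.comm]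
  · rw [Category.assoc, h2]

theorem existVC_iff_strict_of_separated (hX : IsAlgSpace X) (hY : IsAlgSpace Y) {f : X ⟶ Y}
    (hf : IsSeparatedMor f) : ExistVC f ↔ ExistVCStrict f :=
  ⟨fun h q => let ⟨e, he⟩ := h q; hasLift_of_domExt hX hY hf q e he, existVC_of_existVCStrict⟩

end Groth.Agent.SpPts86

namespace Groth.Agent.SpPts86

variable {S : Scheme.{u}} {X Y : Sp S}

/-- For a representable morphism a lift after a dominating extension gives a lift. -/
theorem hasLift_of_domExt_of_representable {f : X ⟶ Y} (hf : Representable f) (q : ValSq f)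
    (e : q.DomExt) (he : e.HasLift) : q.HasLift := by
  obtain ⟨l, hl1, hl2⟩ := he
  let c : e.ptA' ⟶ q.ptA := Over.homMk (Spec.map (CommRingCat.ofHom e.φ)) rfl
  let j' : e.ptK' ⟶ e.ptA' := Over.homMk (Spec.map (CommRingCat.ofHom (algebraMap e.A' e.K'))) rfl
  let d : e.ptK' ⟶ q.ptK := domExtK e
  change (yon S).map j' ≫ l = (yon S).map d ≫ q.top at hl1
  change l ≫ f = (yon S).map c ≫ q.bot at hl2
  have hjd : j' ≫ c = d ≫ q.j := Over.OverMorphism.ext (by
    change Spec.map _ ≫ Spec.map _ = Spec.map _ ≫ Spec.map _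
    rw [← Spec.map_comp, ← Spec.map_comp, ← CommRingCat.ofHom_comp, ← CommRingCat.ofHom_comp, e.comm])
  obtain ⟨x, hx⟩ := (yon S).map_surjective ((hf.isPullback q.bot).lift q.top ((yon S).map q.j) q.comm)
  obtain ⟨lP, hlP⟩ := (yon S).map_surjective ((hf.isPullback q.bot).lift l ((yon S).map c) hl2)
  have hx2 : x ≫ hf.snd q.bot = q.j := (yon S).map_injective (by
    rw [Functor.map_comp, hx, IsPullback.lift_snd])
  have hlP2 : lP ≫ hf.snd q.bot = c := (yon S).map_injective (by
    rw [Functor.map_comp, hlP, IsPullback.lift_snd])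
  have hagree : j' ≫ lP = d ≫ x := by
    apply (yon S).map_injective
    apply (hf.isPullback q.bot).hom_ext
    · rw [Functor.map_comp, Functor.map_comp, Category.assoc, Category.assoc, hlP, hx,
        IsPullback.lift_fst, IsPullback.lift_fst, hl1]
    · rw [← Functor.map_comp, ← Functor.map_comp, Category.assoc, Category.assoc, hlP2, hx2, hjd]
  -- an affine open receiving the lift
  obtain ⟨W, hW, hxW, -⟩ := exists_isAffineOpen_mem_and_subset (x := lP.left (IsLocalRing.closedPoint e.A'))
    (U := (⊤ : (hf.pullback q.bot).left.Opens)) trivial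
  let U : Over S := Over.mk (W.ι ≫ (hf.pullback q.bot).hom)
  let ι : U ⟶ hf.pullback q.bot := Over.homMk W.ι rfl
  haveI : IsAffine U.left := hW
  haveI : IsAffine q.ptA.left := inferInstanceAs (IsAffine (Spec (CommRingCat.of q.A)))
  have hl' : Set.range lP.left ⊆ Set.range W.ι := by
    rintro _ ⟨z, rfl⟩
    rw [Scheme.Opens.range_ι]
    exact ((IsLocalRing.specializes_closedPoint z).map lP.left.continuous).mem_open W.2 hxW
  have hx' : Set.range x.left ⊆ Set.range W.ι := by
    rintro _ ⟨z, rfl⟩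
    haveI : Subsingleton ↥q.ptK.left := inferInstanceAs (Subsingleton (PrimeSpectrum q.K))
    have hz : d.left (IsLocalRing.closedPoint e.K') = z := Subsingleton.elim _ _
    rw [← hz, ← Scheme.Hom.comp_apply, ← Over.comp_left, ← hagree, Over.comp_left, Scheme.Hom.comp_apply]
    exact hl' ⟨_, rfl⟩
  let lU : e.ptA' ⟶ U := Over.homMk (IsOpenImmersion.lift W.ι lP.left hl') (by
    show _ ≫ W.ι ≫ (hf.pullback q.bot).hom = _
    rw [IsOpenImmersion.lift_fac_assoc]; exact Over.w lP)
  let xU : q.ptK ⟶ U := Over.homMk (IsOpenImmersion.lift W.ι x.left hx') (by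
    show _ ≫ W.ι ≫ (hf.pullback q.bot).hom = _
    rw [IsOpenImmersion.lift_fac_assoc]; exact Over.w x)
  have hlU : lU ≫ ι = lP := Over.OverMorphism.ext (IsOpenImmersion.lift_fac _ _ _)
  have hxU : xU ≫ ι = x := Over.OverMorphism.ext (IsOpenImmersion.lift_fac _ _ _)
  let q' : ValSq ((yon S).map (ι ≫ hf.snd q.bot)) :=
    { A := q.A, K := q.K, str := q.str, top := (yon S).map xU, bot := 𝟙 _,
      comm := by
        rw [← Functor.map_comp, ← Category.assoc, hxU, hx2]
        exact (Category.comp_id _).symm }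
  let e' : q'.DomExt :=
    { A' := e.A', K' := e.K', φ := e.φ, ψ := e.ψ, comm := e.comm, isLocalHom := e.isLocalHom }
  have hsep : IsSeparatedMor ((yon S).map (ι ≫ hf.snd q.bot)) :=
    (isSeparatedMor_yon_map_iff _).2 inferInstance
  haveI : Mono ι := (Over.forget S).mono_of_mono_map (f := ι) (inferInstanceAs (Mono W.ι))
  obtain ⟨b, hb1, hb2⟩ := hasLift_of_domExt (IsAlgSpace.yon_obj U) (IsAlgSpace.yon_obj q.ptA) hsep q' e'
    ⟨(yon S).map lU, by
      show (yon S).map j' ≫ (yon S).map lU = (yon S).map d ≫ (yon S).map xU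
      rw [← Functor.map_comp, ← Functor.map_comp]
      congr 1
      rw [← cancel_mono ι, Category.assoc, Category.assoc, hlU, hxU, hagree], by
      show (yon S).map lU ≫ (yon S).map (ι ≫ hf.snd q.bot) = (yon S).map c ≫ 𝟙 _
      rw [Category.comp_id, ← Functor.map_comp, ← Category.assoc, hlU, hlP2]⟩
  refine ⟨b ≫ (yon S).map ι ≫ hf.fst q.bot, ?_, ?_⟩
  · show (yon S).map q.j ≫ b ≫ (yon S).map ι ≫ hf.fst q.bot = q.top
    have h1 : (yon S).map q.j ≫ b = (yon S).map xU := hb1
    rw [← Category.assoc, h1, ← Functor.map_comp_assoc, hxU, hx, IsPullback.lift_fst]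
  · have h2 : b ≫ (yon S).map (ι ≫ hf.snd q.bot) = 𝟙 _ := hb2
    rw [Category.assoc, Category.assoc, (hf.isPullback q.bot).w, ← Functor.map_comp_assoc,
      ← Category.assoc, h2, Category.id_comp]

theorem existVC_iff_strict_of_representable {f : X ⟶ Y} (hf : Representable f) :
    ExistVC f ↔ ExistVCStrict f :=
  ⟨fun h q => let ⟨e, he⟩ := h q; hasLift_of_domExt_of_representable hf q e he, existVC_of_existVCStrict⟩

end Groth.Agent.SpPts86
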