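import Groth.Agent.SpVal61.Lift
import Groth.Agent.SpPts86.ValDesc
import Groth.Agent.SpFP87.EtLocInst
import Groth.Agent.SpFP87.LocP

/-!
Lifting valuation rings along flat morphisms of algebraic spaces.
-/

universe u

set_option autoImplicit false
set_option backward.isDefEq.respectTransparency false
set_option linter.style.haveILetI false

open CategoryTheory CategoryTheory.Limits AlgebraicGeometry Topology IsLocalRing
open AlgSp Groth.Agent.SpFP87

namespace Groth.Agent.SpPts86

variable {S : Scheme.{u}} {X Y : Sp S}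

theorem exists_lift_valuationRing_of_flat (hX : IsAlgSpace X) (hY : IsAlgSpace Y) {f : X ⟶ Y}
    (hf : LocP @Flat f) (A : Type u) [CommRing A] [IsDomain A] [ValuationRing A]
    (str : Spec (.of A) ⟶ S) (b : (yon S).obj (Over.mk str) ⟶ Y)
    (hb : Points.ofPt b (IsLocalRing.closedPoint A) ∈ Set.range (Points.map f)) :
    ∃ (A' : Type u) (_ : CommRing A') (_ : IsDomain A') (_ : ValuationRing A') (φ : A →+* A'),
      Function.Injective φ ∧ IsLocalHom φ ∧
      ∃ l : (yon S).obj (Over.mk (Spec.map (CommRingCat.ofHom φ) ≫ str)) ⟶ X,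
        l ≫ f = (yon S).map (Over.homMk (Spec.map (CommRingCat.ofHom φ)) rfl :
          Over.mk (Spec.map (CommRingCat.ofHom φ) ≫ str) ⟶ Over.mk str) ≫ b := by
  obtain ⟨x, hx⟩ := hb
  obtain ⟨cA, hcA⟩ : ∃ cA : ↥(Over.mk str : Over S).left, cA = IsLocalRing.closedPoint A := ⟨_, rfl⟩
  have hx' : Points.map f x = Points.map b (Points.ofScheme (Over.mk str) cA) := by
    rw [← Points.ofPt_eq_map_ofScheme, hcA]
    exact hx
  have sqP := IsPullback.of_hasPullback f b
  let P := pullback f b
  let pX : P ⟶ X := pullback.fst f b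
  let pA : P ⟶ (yon S).obj (Over.mk str) := pullback.snd f b
  have hP : IsAlgSpace P := isAlgSpace_of_isPullback sqP hX (IsAlgSpace.yon_obj _) hY.diag
  have hfl : LocP @Flat pA := locP_baseChange sqP hX hY (IsAlgSpace.yon_obj _) hf
  obtain ⟨p, -, hp2⟩ := exists_of_isPullback sqP x (Points.ofScheme (Over.mk str) cA) hx'
  obtain ⟨U, π, hπ, hπs⟩ := hP.atlas
  obtain ⟨u, hu⟩ := surjective_ofPt hπs p
  obtain ⟨c, hcπ⟩ := (yon S).map_surjective (π ≫ pA)
  haveI : Flat c.left := hfl π (𝟙 _) c hπ (repWith_id _ _) (by rw [Category.comp_id]; exact hcπ.symm)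
  have hcu : c.left u = cA := by
    apply (Points.schemeHomeo (Over.mk str)).injective
    show Points.ofScheme _ (c.left u) = Points.ofScheme _ cA
    rw [← ofPt_yon_map c u, hcπ, ← Points.map_ofPt, hu, hp2]
  let η : ↥(Over.mk str : Over S).left := (⟨⊥, Ideal.isPrime_bot⟩ : PrimeSpectrum A)
  have hsp : η ⤳ c.left u := by
    rw [hcu, hcA]
    exact IsLocalRing.specializes_closedPoint _
  obtain ⟨u', hu', hu'η⟩ := Flat.generalizingMap c.left hsp
  let f₀ : U.left.presheaf.stalk u ⟶ U.left.residueField u' :=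
    U.left.presheaf.stalkSpecializes hu' ≫ U.left.residue u'
  obtain ⟨W, hW, hWloc⟩ := exists_factor_valuationRing f₀.hom
  let st : U.left.presheaf.stalk u ⟶ CommRingCat.of W := CommRingCat.ofHom (f₀.hom.codRestrict _ hW)
  let inc : CommRingCat.of W ⟶ U.left.residueField u' :=
    CommRingCat.ofHom (algebraMap W (U.left.residueField u'))
  have hinc : st ≫ inc = f₀ := rfl
  let lU : Spec (CommRingCat.of W) ⟶ U.left := Spec.map st ≫ U.left.fromSpecStalk u
  have hlU : Spec.map inc ≫ lU = U.left.fromSpecResidueField u' := by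
    rw [← Spec.map_comp_assoc, hinc, Spec.map_comp, Category.assoc,
      Scheme.SpecMap_stalkSpecializes_fromSpecStalk]
    rfl
  have hlUu : lU (IsLocalRing.closedPoint W) = u := by
    show U.left.fromSpecStalk u (Spec.map st (IsLocalRing.closedPoint W)) = u
    rw [show Spec.map st (IsLocalRing.closedPoint W) = IsLocalRing.closedPoint (U.left.presheaf.stalk u) from
      @IsLocalRing.comap_closedPoint _ _ _ _ _ _ _ hWloc]
    exact Scheme.fromSpecStalk_closedPoint
  let φ : CommRingCat.of A ⟶ CommRingCat.of W := Spec.preimage (lU ≫ c.left)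
  have hφ : Spec.map φ = lU ≫ c.left := Spec.map_preimage _
  have hloc : IsLocalHom φ.hom := by
    have h1 : (Spec.map φ) (IsLocalRing.closedPoint W) = IsLocalRing.closedPoint A := by
      rw [hφ, Scheme.Hom.comp_apply, hlUu]
      exact hcu.trans hcA
    exact ((IsLocalRing.local_hom_TFAE φ.hom).out 0 4).2 (congrArg PrimeSpectrum.asIdeal h1)
  have hinj : Function.Injective φ.hom := by
    obtain ⟨pt, -⟩ : ∃ pt : ↥(Spec (U.left.residueField u')),
        pt = IsLocalRing.closedPoint (U.left.residueField u') := ⟨_, rfl⟩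
    have h1 : (Spec.map (φ ≫ inc)) pt = η := by
      rw [Spec.map_comp, hφ, reassoc_of% hlU, Scheme.Hom.comp_apply,
        Scheme.fromSpecResidueField_apply]
      exact hu'η
    have h2 : Ideal.comap (φ ≫ inc).hom pt.asIdeal = (⊥ : Ideal A) :=
      congrArg PrimeSpectrum.asIdeal h1
    rw [injective_iff_map_eq_zero]
    intro a ha
    have h3 : a ∈ Ideal.comap (φ ≫ inc).hom pt.asIdeal := by
      show inc.hom (φ.hom a) ∈ pt.asIdeal
      rw [ha, map_zero]
      exact zero_mem _
    rw [h2] at h3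
    exact h3
  refine ⟨W, inferInstance, inferInstance, inferInstance, φ.hom, hinj, hloc, ?_⟩
  let l₀ : (Over.mk (Spec.map φ ≫ str) : Over S) ⟶ U := Over.homMk lU (by
    show lU ≫ U.hom = Spec.map φ ≫ str
    rw [hφ, Category.assoc]
    exact congrArg (lU ≫ ·) (Over.w c).symm)
  refine ⟨(yon S).map l₀ ≫ π ≫ pX, ?_⟩
  have h2 : l₀ ≫ c = (Over.homMk (Spec.map φ) rfl : (Over.mk (Spec.map φ ≫ str) : Over S) ⟶ Over.mk str) :=
    Over.OverMorphism.ext hφ.symm
  rw [Category.assoc, Category.assoc, show pX ≫ f = pA ≫ b from sqP.w, ← Category.assoc π,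
    ← hcπ, ← Category.assoc, ← Functor.map_comp, h2]
  rfl

end Groth.Agent.SpPts86
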