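import Groth.Agent.SpPts86.Coprod
import Groth.Agent.SpFP87.Cover
import Groth.Agent.SpFP87.SourceLocal
import Groth.Prelude.Def_AlgSpRep

/-!
A Zariski sheaf glued from fppf subsheaves is an fppf sheaf.
-/

universe u v

set_option autoImplicit false

open CategoryTheory CategoryTheory.Limits AlgebraicGeometry Opposite
open AlgSp Groth.Agent.SpFP87

namespace Groth.Agent.SpPts86

variable {S : Scheme.{u}}

theorem existsUnique_descend_elem {G : PSp S} (hG : Presheaf.IsSheaf (J S) G) {W T : Over S} (c : W ⟶ T)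
    (hc : fppfSurj c.left) (x : G.obj (op W))
    (h : ∀ {Z : Over S} (p₁ p₂ : Z ⟶ W), p₁ ≫ c = p₂ ≫ c → G.map p₁.op x = G.map p₂.op x) :
    ∃! y : G.obj (op T), G.map c.op y = x :=
  Presieve.isSheafFor_singleton.1 (isSheafFor_singleton_fppf ⟨G, hG⟩ c hc) x (fun {Z} => h)

theorem elem_ext_of_cover {G : PSp S} (hG : Presheaf.IsSheaf (J S) G) {W T : Over S} (c : W ⟶ T)
    (hc : fppfSurj c.left) {x y : G.obj (op T)} (h : G.map c.op x = G.map c.op y) : x = y :=
  (existsUnique_descend_elem hG c hc (G.map c.op y) fun p₁ p₂ e => by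
    rw [← Functor.map_comp_apply, ← Functor.map_comp_apply, ← op_comp, ← op_comp, e]).unique h rfl

theorem zariski_family_mem {T : Over S} {ι : Type u} (V : ι → Over S) (c : ∀ i, V i ⟶ T)
    (hc : ∀ i, IsOpenImmersion (c i).left) (hs : ∀ t : ↥T.left, ∃ i, t ∈ Set.range (c i).left) :
    Sieve.ofArrows V c ∈ QuotSh.J Scheme.zariskiPrecoverage S T := by
  have hm : Presieve.ofArrows (fun i => (V i).left) (fun i => (c i).left) ∈
      Scheme.zariskiPrecoverage T.left :=
    (Scheme.ofArrows_mem_precoverage_iff _).2 ⟨fun x => hs x, hc⟩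
  rw [GrothendieckTopology.mem_over_iff, Sieve.ofArrows, Sieve.overEquiv_generate]
  refine GrothendieckTopology.superset_covering _ ?_ (Precoverage.generate_mem_toGrothendieck hm)
  rw [Sieve.generate_le_iff]
  rintro Z f ⟨i⟩
  exact Sieve.le_generate _ _ _ ⟨V i, c i, 𝟙 _, ⟨i⟩, by simp⟩

variable {F : PSp S} (h1 : Presheaf.IsSheaf (QuotSh.J Scheme.zariskiPrecoverage S) F) {ι : Type v}
  {Fi : ι → PSp S} (m : ∀ i, Fi i ⟶ F) [∀ i, Mono (m i)]
  (ha : ∀ i, Presheaf.IsSheaf (J S) (Fi i)) (hb : ∀ i, RepBySp (m i))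

include h1 in
theorem zariski_ext {T : Over S} {κ : Type u} (V : κ → Over S) (c : ∀ i, V i ⟶ T)
    (hc : ∀ i, IsOpenImmersion (c i).left) (hs : ∀ t : ↥T.left, ∃ i, t ∈ Set.range (c i).left)
    {x y : F.obj (op T)} (h : ∀ i, F.map (c i).op x = F.map (c i).op y) : x = y :=
  ((Presieve.isSheafFor_iff_generate _).2
    (((isSheaf_iff_isSheaf_of_type _ _).1 h1) _ (zariski_family_mem V c hc hs))).isSeparatedFor.ext
    (by rintro Z f ⟨i⟩; exact h i)

include hb in
omit [∀ i, Mono (m i)] in
theorem mem_range_of_cover_aux (i : ι) (hinj : ∀ W, Function.Injective ((m i).app W)) {W T : Over S}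
    (c : W ⟶ T) (hc : fppfSurj c.left) (x : F.obj (op T))
    (hx : F.map c.op x ∈ Set.range ((m i).app (op W))) : x ∈ Set.range ((m i).app (op T)) := by
  obtain ⟨z, hz⟩ := hx
  let ξ : (pyon S).obj T ⟶ F := uliftYonedaEquiv.{u + 1}.symm x
  have hξ : ∀ {A : Over S} (f : A ⟶ T), ξ.app (op A) ⟨f⟩ = F.map f.op x := fun f => rfl
  have sq := IsPullback.of_hasPullback (m i) ξ
  obtain ⟨hP, -⟩ := hb i ξ _ _ sq
  have sqA := fun A : Over S => sq.map ((evaluation (Over S)ᵒᵖ (Type (u + 1))).obj (op A))
  have ext : ∀ {A : Over S} {p q : (pullback (m i) ξ).obj (op A)},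
      (pullback.fst (m i) ξ).app (op A) p = (pullback.fst (m i) ξ).app (op A) q →
      (pullback.snd (m i) ξ).app (op A) p = (pullback.snd (m i) ξ).app (op A) q → p = q :=
    fun {A} p q e1 e2 => Types.ext_of_isPullback (sqA A) e1 e2
  obtain ⟨zW, hz1, hz2⟩ := Types.exists_of_isPullback (sqA W) z (⟨c⟩ : ((pyon S).obj T).obj (op W))
    (hz.trans (hξ c).symm)
  obtain ⟨q, hq, -⟩ := existsUnique_descend_elem hP c hc zW fun {Z} p₁ p₂ e => by
    refine ext ?_ ?_
    · apply hinj
      refine ((NatTrans.naturality_apply (pullback.fst (m i) ξ) _ _).trans (congrArg _ hz1)) ▸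
        ((NatTrans.naturality_apply (pullback.fst (m i) ξ) p₂.op zW).trans (congrArg _ hz1)) ▸ ?_
      rw [NatTrans.naturality_apply (m i), NatTrans.naturality_apply (m i), hz, ← Functor.map_comp_apply,
        ← Functor.map_comp_apply, ← op_comp, ← op_comp, e]
    · refine ((NatTrans.naturality_apply (pullback.snd (m i) ξ) p₁.op zW).trans (congrArg _ hz2)).trans
        (Eq.trans ?_ ((NatTrans.naturality_apply (pullback.snd (m i) ξ) p₂.op zW).trans (congrArg _ hz2)).symm)
      exact congrArg ULift.up e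
  have hsnd : (pullback.snd (m i) ξ).app (op T) q = ⟨𝟙 T⟩ := by
    refine elem_ext_of_cover ((yon S).obj T).property c hc ?_
    refine (NatTrans.naturality_apply (pullback.snd (m i) ξ) c.op q).symm.trans ?_
    rw [hq]
    refine hz2.trans ?_
    exact congrArg ULift.up (Category.comp_id c).symm
  refine ⟨(pullback.fst (m i) ξ).app (op T) q, ?_⟩
  have := congrArg (fun f : pullback (m i) ξ ⟶ F => f.app (op T) q) sq.w
  refine this.trans ?_
  change ξ.app (op T) ((pullback.snd (m i) ξ).app (op T) q) = x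
  rw [hsnd, hξ, op_id, Functor.map_id_apply]

omit [∀ i, Mono (m i)] in
theorem app_injective_of_mono (i : ι) [Mono (m i)] (W : (Over S)ᵒᵖ) : Function.Injective ((m i).app W) :=
  (mono_iff_injective _).1 inferInstance

include hb in
theorem mem_range_of_cover (i : ι) {W T : Over S} (c : W ⟶ T) (hc : fppfSurj c.left) (x : F.obj (op T))
    (hx : F.map c.op x ∈ Set.range ((m i).app (op W))) : x ∈ Set.range ((m i).app (op T)) :=
  mem_range_of_cover_aux m hb i (app_injective_of_mono m i) c hc x hx

/-- The image of a flat lfp map, with a cover of it. -/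
theorem exists_image_open {V T : Over S} (c : V ⟶ T) [Flat c.left] [LocallyOfFinitePresentation c.left] :
    ∃ (O : T.left.Opens) (c' : V ⟶ openOver T O), fppfSurj c'.left ∧ c' ≫ openIncl T O = c ∧
      ∀ t, t ∈ O ↔ t ∈ Set.range c.left := by
  let O : T.left.Opens := ⟨Set.range c.left, c.left.isOpenMap.isOpen_range⟩
  have hr : Set.range c.left ⊆ Set.range O.ι := by rw [O.range_ι]; exact subset_rfl
  let c' : V ⟶ openOver T O := Over.homMk (IsOpenImmersion.lift O.ι c.left hr) (by
    change IsOpenImmersion.lift O.ι c.left hr ≫ O.ι ≫ T.hom = _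
    rw [IsOpenImmersion.lift_fac_assoc, Over.w])
  refine ⟨O, c', ?_, Over.OverMorphism.ext (IsOpenImmersion.lift_fac _ _ _), fun t => Iff.rfl⟩
  have hsq : IsPullback (𝟙 V.left) c'.left c.left O.ι :=
    IsPullback.of_isLimit (PullbackCone.IsLimit.mk
      (show 𝟙 _ ≫ c.left = c'.left ≫ O.ι by
        rw [Category.id_comp]; exact (IsOpenImmersion.lift_fac _ _ _).symm)
      (fun s => s.fst) (fun s => by simp) (fun s => by
        rw [← cancel_mono O.ι, Category.assoc]
        exact (congrArg (s.fst ≫ ·) (IsOpenImmersion.lift_fac _ _ _)).trans s.condition)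
      (fun s k hk _ => by simpa using hk))
  refine (fppfSurj_iff _).2 ⟨⟨fun x => ?_⟩, MorphismProperty.of_isPullback (P := @Flat) hsq ‹_›,
    MorphismProperty.of_isPullback (P := @LocallyOfFinitePresentation) hsq ‹_›⟩
  obtain ⟨v, hv⟩ := x.2
  refine ⟨v, O.ι.isOpenEmbedding.injective ?_⟩
  rw [← Scheme.Hom.comp_apply]
  exact (congrArg (fun f : V.left ⟶ T.left => f v) (IsOpenImmersion.lift_fac O.ι c.left hr)).trans hv

variable (hc : ∀ (T : Over S) (x : F.obj (op T)), ∃ R ∈ (J S) T,
    ∀ ⦃T' : Over S⦄ (f : T' ⟶ T), R.arrows f → ∃ i, F.map f.op x ∈ Set.range ((m i).app (op T')))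

include hb hc in
/-- Every section lies Zariski locally in a member. -/
theorem exists_local_member {T : Over S} (x : F.obj (op T)) (t : ↥T.left) :
    ∃ (O : T.left.Opens) (i : ι), t ∈ O ∧
      F.map (openIncl T O).op x ∈ Set.range ((m i).app (op (openOver T O))) := by
  obtain ⟨R, hR, hRm⟩ := hc T x
  obtain ⟨V, c, hRc, hfl, hs⟩ := exists_pieces hR
  obtain ⟨i, hi⟩ := hRm (c t) (hRc t)
  obtain ⟨_, _⟩ := hfl t
  obtain ⟨O, c', hc', hcc, hO⟩ := exists_image_open (c t)
  refine ⟨O, i, (hO t).2 (hs t), mem_range_of_cover m hb i c' hc' _ ?_⟩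
  rw [← Functor.map_comp_apply, ← op_comp, hcc]
  exact hi

include h1 ha hb hc in
/-- Sections which agree on a cover are equal. -/
theorem ext_of_cover {W T : Over S} (c : W ⟶ T) (hcov : fppfSurj c.left) {x y : F.obj (op T)}
    (h : F.map c.op x = F.map c.op y) : x = y := by
  choose O i ht hO using exists_local_member m hb hc x
  refine zariski_ext h1 (fun t => openOver T (O t)) (fun t => openIncl T (O t))
    (fun t => inferInstanceAs (IsOpenImmersion (O t).ι)) (fun t => ⟨t, ⟨t, ht t⟩, rfl⟩) fun t => ?_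
  obtain ⟨a, e⟩ := hO t
  let d := pullback.snd c (openIncl T (O t))
  have hd : fppfSurj d.left := MorphismProperty.of_isPullback (P := fppfSurj)
    ((IsPullback.of_hasPullback c (openIncl T (O t))).map (Over.forget S)) hcov
  have e2 : F.map d.op (F.map (openIncl T (O t)).op y) = (m (i t)).app _ ((Fi (i t)).map d.op a) := by
    rw [NatTrans.naturality_apply (m (i t)), e, ← Functor.map_comp_apply, ← Functor.map_comp_apply,
      ← op_comp, ← pullback.condition, op_comp, Functor.map_comp_apply, Functor.map_comp_apply, h]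
  obtain ⟨b, hb'⟩ := mem_range_of_cover m hb (i t) d hd (F.map (openIncl T (O t)).op y) ⟨_, e2.symm⟩
  rw [← e, ← hb']
  congr 1
  refine elem_ext_of_cover (ha (i t)) d hd (app_injective_of_mono m (i t) _ ?_)
  rw [← e2, NatTrans.naturality_apply (m (i t)), hb']

include h1 ha hb hc in
theorem ext_of_sieve {T : Over S} {R : Sieve T} (hR : R ∈ J S T) {x y : F.obj (op T)}
    (h : ∀ ⦃Z : Over S⦄ (f : Z ⟶ T), R f → F.map f.op x = F.map f.op y) : x = y := by
  obtain ⟨V, c, hRc, hfl, hs⟩ := exists_pieces hR
  choose O c' hc' hcc hO using fun t => @exists_image_open _ _ _ (c t) (hfl t).1 (hfl t).2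
  refine zariski_ext h1 (fun t => openOver T (O t)) (fun t => openIncl T (O t))
    (fun t => inferInstanceAs (IsOpenImmersion (O t).ι)) (fun t => ⟨t, ⟨t, (hO t t).2 (hs t)⟩, rfl⟩) fun t => ?_
  refine ext_of_cover h1 m ha hb hc (c' t) (hc' t) ?_
  rw [← Functor.map_comp_apply, ← Functor.map_comp_apply, ← op_comp, hcc]
  exact h _ (hRc t)

include h1 ha hb hc in
theorem isSheaf_of_subsheaves : Presheaf.IsSheaf (J S) F := by
  rw [isSheaf_iff_isSheaf_of_type]
  intro T R hR x hx
  have key : ∀ t : ↥T.left, ∃ (O : T.left.Opens) (y : F.obj (op (openOver T O))), t ∈ O ∧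
      ∀ ⦃Z : Over S⦄ (a : Z ⟶ openOver T O) (haR : R (a ≫ openIncl T O)), F.map a.op y = x _ haR := by
    intro t
    obtain ⟨V, c, hRc, hfl, hs⟩ := exists_pieces hR
    obtain ⟨v, hv⟩ := hs t
    obtain ⟨_, _⟩ := hfl t
    obtain ⟨V', i, hv', hV'⟩ := exists_local_member m hb hc (x (c t) (hRc t)) v
    let e := openIncl (V t) V' ≫ c t
    have : Flat e.left := (inferInstance : Flat (V'.ι ≫ (c t).left))
    have : LocallyOfFinitePresentation e.left :=
      (inferInstance : LocallyOfFinitePresentation (V'.ι ≫ (c t).left))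
    obtain ⟨O, e', he', hee, hO⟩ := exists_image_open e
    obtain ⟨a, ha'⟩ := hV'
    have hxe : (m i).app _ a = x e (R.downward_closed (hRc t) _) := by
      rw [ha', ← (Presieve.compatible_iff_sieveCompatible x).1 hx]
    obtain ⟨w, hw, -⟩ := existsUnique_descend_elem (ha i) e' he' a fun {Z} p₁ p₂ hp => by
      apply app_injective_of_mono m i
      rw [NatTrans.naturality_apply (m i), NatTrans.naturality_apply (m i), hxe]
      refine hx _ _ _ _ ?_
      rw [← hee, ← Category.assoc, hp, Category.assoc]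
    refine ⟨O, (m i).app _ w, (hO t).2 ⟨⟨v, hv'⟩, hv⟩, fun Z p hpR => ?_⟩
    refine ext_of_cover h1 m ha hb hc (pullback.fst p e')
      (MorphismProperty.of_isPullback (P := fppfSurj)
        ((IsPullback.of_hasPullback p e').map (Over.forget S)).flip he') ?_
    have hl : F.map (pullback.fst p e').op (F.map p.op ((m i).app _ w)) =
        F.map (pullback.snd p e').op (x e (R.downward_closed (hRc t) _)) := by
      rw [← Functor.map_comp_apply, ← op_comp, pullback.condition, op_comp, Functor.map_comp_apply,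
        ← NatTrans.naturality_apply (m i) e'.op, hw, hxe]
    rw [hl]
    refine hx _ _ _ _ ?_
    rw [← hee, ← Category.assoc, ← pullback.condition, Category.assoc]
  choose O y ht hy using key
  have hz := ((Presieve.isSheafFor_iff_generate _).2 (((isSheaf_iff_isSheaf_of_type _ _).1 h1) _
    (zariski_family_mem (fun t => openOver T (O t)) (fun t => openIncl T (O t))
      (fun t => inferInstanceAs (IsOpenImmersion (O t).ι)) (fun t => ⟨t, ⟨t, ht t⟩, rfl⟩))))
  obtain ⟨z, hz1, -⟩ := (Presieve.isSheafFor_arrows_iff F _).1 hz y fun t t' Z p q e => by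
    refine ext_of_sieve h1 m ha hb hc ((J S).pullback_stable (p ≫ openIncl T (O t)) hR) fun A a hA => ?_
    have hA1 : R ((a ≫ p) ≫ openIncl T (O t)) := by rw [Category.assoc]; exact hA
    have hA2 : R ((a ≫ q) ≫ openIncl T (O t')) := by rw [Category.assoc, ← e]; exact hA
    rw [← Functor.map_comp_apply, ← Functor.map_comp_apply, ← op_comp, ← op_comp, hy t _ hA1, hy t' _ hA2]
    congr 1
    rw [Category.assoc, Category.assoc, e]
  refine ⟨z, fun W f hf => ?_, fun z' hz' => ext_of_sieve h1 m ha hb hc hR fun W f hf => ?_⟩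
  · refine zariski_ext h1 (fun t => pullback f (openIncl T (O t))) (fun t => pullback.fst f (openIncl T (O t)))
      (fun t => MorphismProperty.of_isPullback (P := @IsOpenImmersion)
        ((IsPullback.of_hasPullback f (openIncl T (O t))).map (Over.forget S)).flip
        (inferInstanceAs (IsOpenImmersion (O t).ι))) (fun w => ?_) fun t => ?_
    · obtain ⟨q, hq, -⟩ := Scheme.exists_preimage_of_isPullback
        ((IsPullback.of_hasPullback f (openIncl T (O (f.left w)))).map (Over.forget S)) w
        (⟨f.left w, ht _⟩ : ↥(openOver T (O (f.left w))).left) rfl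
      exact ⟨f.left w, q, hq⟩
    · have hR' : R (pullback.snd f (openIncl T (O t)) ≫ openIncl T (O t)) := by
        rw [← pullback.condition]; exact R.downward_closed hf _
      rw [← Functor.map_comp_apply, ← op_comp, pullback.condition, op_comp, Functor.map_comp_apply, hz1 t,
        hy t _ hR', ← (Presieve.compatible_iff_sieveCompatible x).1 hx]
      congr 1
      exact pullback.condition.symm
  · have h2 : F.map f.op z = x f hf := by
      refine zariski_ext h1 (fun t => pullback f (openIncl T (O t))) (fun t => pullback.fst f (openIncl T (O t)))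
        (fun t => MorphismProperty.of_isPullback (P := @IsOpenImmersion)
          ((IsPullback.of_hasPullback f (openIncl T (O t))).map (Over.forget S)).flip
          (inferInstanceAs (IsOpenImmersion (O t).ι))) (fun w => ?_) fun t => ?_
      · obtain ⟨q, hq, -⟩ := Scheme.exists_preimage_of_isPullback
          ((IsPullback.of_hasPullback f (openIncl T (O (f.left w)))).map (Over.forget S)) w
          (⟨f.left w, ht _⟩ : ↥(openOver T (O (f.left w))).left) rfl
        exact ⟨f.left w, q, hq⟩
      · have hR' : R (pullback.snd f (openIncl T (O t)) ≫ openIncl T (O t)) := by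
          rw [← pullback.condition]; exact R.downward_closed hf _
        rw [← Functor.map_comp_apply, ← op_comp, pullback.condition, op_comp, Functor.map_comp_apply, hz1 t,
          hy t _ hR', ← (Presieve.compatible_iff_sieveCompatible x).1 hx]
        congr 1
        exact pullback.condition.symm
    rw [h2]
    exact hz' f hf

end Groth.Agent.SpPts86
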