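import Groth.Agent.Desc59.DDAffine
import Groth.Agent.SpFP87.RepLocT
import Groth.Agent.SpPts86.ZarGlue
import Groth.Agent.SpPts86.Target
import Groth.Agent.SpPts86.Compact

/-!
Representability of a morphism of sheaves descends along fppf coverings when the base changes
are affine morphisms of schemes.
-/

universe u

set_option autoImplicit false

open CategoryTheory CategoryTheory.Limits AlgebraicGeometry Opposite
open AlgSp Groth.Agent.SpFP87

namespace Groth.Agent.SpPts86

variable {S : Scheme.{u}} {F G : Sp S}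

section DD

variable {W T V : Over S} {c : W ⟶ T} {a : F ⟶ G} {g : (yon S).obj T ⟶ G}
  {s : V ⟶ W} {p : (yon S).obj V ⟶ F}

/-- A point of a scheme lying over a scheme over the base, as a map over the base. -/
abbrev ptOver (V : Over S) {T' : Scheme.{u}} (v : T' ⟶ V.left) : Over.mk (v ≫ V.hom) ⟶ V :=
  Over.homMk v rfl

variable (sq : IsPullback p ((yon S).map s) a ((yon S).map c ≫ g))

include sq in
theorem exists_unique_lift {T' : Scheme.{u}} (x₀ x₁ : T' ⟶ W.left) (h : x₀ ≫ c.left = x₁ ≫ c.left)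
    (v : T' ⟶ V.left) (hv : v ≫ s.left = x₀) :
    ∃! w : T' ⟶ V.left, w ≫ s.left = x₁ ∧
      ∃ hw : w ≫ V.hom = v ≫ V.hom,
        (yon S).map (Over.homMk w hw : Over.mk (v ≫ V.hom) ⟶ V) ≫ p =
          (yon S).map (ptOver V v) ≫ p := by
  let Z : Over S := Over.mk (v ≫ V.hom)
  let z₀ : Z ⟶ V := ptOver V v
  let X₁ : Z ⟶ W := Over.homMk x₁ (by
    change x₁ ≫ W.hom = v ≫ V.hom
    rw [← Over.w c, ← Category.assoc, ← h, ← hv, Category.assoc, Category.assoc, Over.w c, Over.w s])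
  have hc : (z₀ ≫ s) ≫ c = X₁ ≫ c := Over.OverMorphism.ext (by
    change (v ≫ s.left) ≫ c.left = x₁ ≫ c.left
    rw [hv, h])
  obtain ⟨l, hl⟩ := (yon S).map_surjective (sq.lift ((yon S).map z₀ ≫ p) ((yon S).map X₁) (by
    rw [Category.assoc, sq.w, ← Functor.map_comp_assoc, ← Functor.map_comp_assoc, hc,
      Functor.map_comp_assoc]))
  refine ⟨l.left, ⟨?_, Over.w l, ?_⟩, ?_⟩
  · have : l ≫ s = X₁ := (yon S).map_injective (by rw [Functor.map_comp, hl, sq.lift_snd])
    exact congrArg CommaMorphism.left this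
  · change (yon S).map l ≫ p = _
    rw [hl, sq.lift_fst]
  · rintro w ⟨hw1, hw2, hw3⟩
    have : (Over.homMk w hw2 : Z ⟶ V) = l := by
      apply (yon S).map_injective
      apply sq.hom_ext
      · rw [hl, sq.lift_fst, hw3]
      · rw [hl, sq.lift_snd, ← Functor.map_comp]
        exact congrArg _ (Over.OverMorphism.ext hw1)
    exact congrArg CommaMorphism.left this

/-- The transported point. -/
noncomputable def move {T' : Scheme.{u}} (x₀ x₁ : T' ⟶ W.left) (h : x₀ ≫ c.left = x₁ ≫ c.left)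
    (v : Desc.Lifts (Over.mk s.left) x₀) : Desc.Lifts (Over.mk s.left) x₁ :=
  ⟨(exists_unique_lift sq x₀ x₁ h v.1 v.2).exists.choose,
    (exists_unique_lift sq x₀ x₁ h v.1 v.2).exists.choose_spec.1⟩

theorem move_eq {T' : Scheme.{u}} (x₀ x₁ : T' ⟶ W.left) (h : x₀ ≫ c.left = x₁ ≫ c.left)
    (v : Desc.Lifts (Over.mk s.left) x₀) (w : T' ⟶ V.left) (hw1 : w ≫ s.left = x₁)
    (hw : w ≫ V.hom = v.1 ≫ V.hom)
    (he : (yon S).map (Over.homMk w hw : Over.mk (v.1 ≫ V.hom) ⟶ V) ≫ p =
      (yon S).map (ptOver V v.1) ≫ p) :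
    (move sq x₀ x₁ h v).1 = w :=
  (exists_unique_lift sq x₀ x₁ h v.1 v.2).unique
    (exists_unique_lift sq x₀ x₁ h v.1 v.2).exists.choose_spec ⟨hw1, hw, he⟩

theorem move_spec {T' : Scheme.{u}} (x₀ x₁ : T' ⟶ W.left) (h : x₀ ≫ c.left = x₁ ≫ c.left)
    (v : Desc.Lifts (Over.mk s.left) x₀) :
    ∃ hw : (move sq x₀ x₁ h v).1 ≫ V.hom = v.1 ≫ V.hom,
      (yon S).map (Over.homMk (move sq x₀ x₁ h v).1 hw : Over.mk (v.1 ≫ V.hom) ⟶ V) ≫ p =
        (yon S).map (ptOver V v.1) ≫ p :=
  (exists_unique_lift sq x₀ x₁ h v.1 v.2).exists.choose_spec.2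

include sq in
/-- Equality of `p`-images of points does not depend on the chosen structure map. -/
theorem pt_congr {T' : Scheme.{u}} {v w : T' ⟶ V.left} {str : T' ⟶ S} (hv : v ≫ V.hom = str)
    (hw : w ≫ V.hom = str) (hw' : w ≫ V.hom = v ≫ V.hom)
    (e : (yon S).map (Over.homMk w hw' : Over.mk (v ≫ V.hom) ⟶ V) ≫ p =
      (yon S).map (ptOver V v) ≫ p) :
    (yon S).map (Over.homMk w hw : Over.mk str ⟶ V) ≫ p =
      (yon S).map (Over.homMk v hv : Over.mk str ⟶ V) ≫ p := by
  subst hv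
  exact e

theorem move_self {T' : Scheme.{u}} (x : T' ⟶ W.left) (v : Desc.Lifts (Over.mk s.left) x) :
    move sq x x rfl v = v :=
  Subtype.ext (move_eq sq x x rfl v v.1 v.2 rfl rfl)

theorem move_trans {T' : Scheme.{u}} (x₀ x₁ x₂ : T' ⟶ W.left) (h₀ : x₀ ≫ c.left = x₁ ≫ c.left)
    (h₁ : x₁ ≫ c.left = x₂ ≫ c.left) (v : Desc.Lifts (Over.mk s.left) x₀) :
    move sq x₁ x₂ h₁ (move sq x₀ x₁ h₀ v) = move sq x₀ x₂ (h₀.trans h₁) v := by
  obtain ⟨a₁, b₁⟩ := move_spec sq x₀ x₁ h₀ v
  obtain ⟨a₂, b₂⟩ := move_spec sq x₁ x₂ h₁ (move sq x₀ x₁ h₀ v)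
  refine Subtype.ext (move_eq sq x₀ x₂ (h₀.trans h₁) v _ (move sq x₁ x₂ h₁ _).2 (a₂.trans a₁) ?_).symm
  exact (pt_congr sq a₁ (a₂.trans a₁) a₂ b₂).trans b₁

/-- The descent datum of a base change. -/
noncomputable def ddOfSquare : Desc.SchDD c.left where
  obj := Over.mk s.left
  φ T' x₀ x₁ h :=
    { toFun := move sq x₀ x₁ h
      invFun := move sq x₁ x₀ h.symm
      left_inv := fun v => by rw [move_trans, move_self]
      right_inv := fun v => by rw [move_trans, move_self] }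
  φ_natural T₁ T₂ k x₀ x₁ h h' v v' hv' := by
    obtain ⟨a₁, b₁⟩ := move_spec sq x₀ x₁ h v
    change (move sq (k ≫ x₀) (k ≫ x₁) h' v').1 = k ≫ (move sq x₀ x₁ h v).1
    have hk : (k ≫ (move sq x₀ x₁ h v).1) ≫ V.hom = v'.1 ≫ V.hom := by
      rw [hv', Category.assoc, a₁, Category.assoc]
    refine move_eq sq _ _ h' v' _ (by rw [Category.assoc]; exact congrArg (k ≫ ·) (move sq x₀ x₁ h v).2)
      hk ?_
    let κ : Over.mk (v'.1 ≫ V.hom) ⟶ Over.mk (v.1 ≫ V.hom) :=
      Over.homMk k (by change k ≫ v.1 ≫ V.hom = v'.1 ≫ V.hom; rw [hv', Category.assoc])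
    rw [show (Over.homMk (k ≫ (move sq x₀ x₁ h v).1) hk : Over.mk (v'.1 ≫ V.hom) ⟶ V) =
        κ ≫ Over.homMk (move sq x₀ x₁ h v).1 a₁ from Over.OverMorphism.ext rfl,
      show ptOver V v'.1 = κ ≫ ptOver V v.1 from Over.OverMorphism.ext hv',
      Functor.map_comp_assoc, Functor.map_comp_assoc, b₁]
  φ_self T' x v := move_self sq x v
  φ_comp T' x₀ x₁ x₂ h₀ h₁ v := move_trans sq x₀ x₁ x₂ h₀ h₁ v

include sq in
theorem exists_isPullback_of_effective (hc : fppfSurj c.left)
    {U : Over T.left} (i : (Desc.toDD c.left).obj U ≅ ddOfSquare sq) :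
    ∃ (V₀ : Over S) (s₀ : V₀ ⟶ T) (p₀ : (yon S).obj V₀ ⟶ F),
      IsPullback p₀ ((yon S).map s₀) a g := by
  let V₀ : Over S := Over.mk (U.hom ≫ T.hom)
  let s₀ : V₀ ⟶ T := Over.homMk U.hom rfl
  let φ : pullback c.left U.hom ⟶ V.left := i.hom.hom.left
  have hi : φ ≫ s.left = pullback.fst c.left U.hom := Over.w i.hom.hom
  let A : Over S := Over.mk (pullback.snd c.left U.hom ≫ U.hom ≫ T.hom)
  let aV : A ⟶ V := Over.homMk φ (by
    change φ ≫ V.hom = pullback.snd c.left U.hom ≫ U.hom ≫ T.hom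
    rw [← Over.w s, ← Category.assoc, hi, ← Category.assoc, ← Over.w c, ← Category.assoc,
      pullback.condition, Category.assoc])
  let a2 : A ⟶ V₀ := Over.homMk (pullback.snd c.left U.hom) rfl
  have hisoA : IsIso aV := by
    have : IsIso ((Over.forget W.left).map i.hom.hom) := by
      have : IsIso i.hom.hom := ⟨i.inv.hom, congrArg Desc.SchDD.Hom.hom i.hom_inv_id,
        congrArg Desc.SchDD.Hom.hom i.inv_hom_id⟩
      infer_instance
    have : IsIso ((Over.forget S).map aV) := this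
    exact isIso_of_reflects_iso aV (Over.forget S)
  have ha2 : fppfSurj a2.left :=
    MorphismProperty.of_isPullback (P := fppfSurj) (IsPullback.of_hasPullback c.left U.hom) hc
  obtain ⟨p₀, hp₀, -⟩ := cover_existsUnique_desc a2 ha2 ((yon S).map aV ≫ p) (fun Z z₀ z₁ e => by
    let x₀ := z₀.left ≫ pullback.fst c.left U.hom
    let x₁ := z₁.left ≫ pullback.fst c.left U.hom
    have he : z₀.left ≫ pullback.snd c.left U.hom = z₁.left ≫ pullback.snd c.left U.hom :=
      congrArg CommaMorphism.left e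
    have hx : x₀ ≫ c.left = x₁ ≫ c.left := by
      simp only [x₀, x₁, Category.assoc, pullback.condition]
      rw [← Category.assoc, he, Category.assoc]
    let v : Desc.Lifts ((Desc.toDD c.left).obj U).obj x₀ := ⟨z₀.left, rfl⟩
    have hcan : (((Desc.toDD c.left).obj U).φ x₀ x₁ hx v).1 = z₁.left := by
      change (Desc.canMap c.left U x₀ x₁ hx v).1 = z₁.left
      rw [Desc.canMap_val]
      apply pullback.hom_ext
      · rw [pullback.lift_fst]
      · rw [pullback.lift_snd, he]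
    let w : Desc.Lifts (Over.mk s.left) x₀ :=
      ⟨z₀.left ≫ i.hom.hom.left, by rw [Category.assoc]; exact congrArg (z₀.left ≫ ·) hi⟩
    have hm : (move sq x₀ x₁ hx w).1 = z₁.left ≫ i.hom.hom.left := by
      have := i.hom.comm x₀ x₁ hx v w rfl
      rw [hcan] at this
      exact this
    obtain ⟨a₁, b₁⟩ := move_spec sq x₀ x₁ hx w
    rw [← Functor.map_comp_assoc, ← Functor.map_comp_assoc]
    have hz0 : (z₀ ≫ aV).left ≫ V.hom = Z.hom := Over.w (z₀ ≫ aV)
    have key := pt_congr sq (v := w.1) (w := (move sq x₀ x₁ hx w).1) (str := Z.hom) hz0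
      (a₁.trans hz0) a₁ b₁
    rw [show z₁ ≫ aV = Over.homMk (move sq x₀ x₁ hx w).1 (a₁.trans hz0) from
      Over.OverMorphism.ext hm.symm]
    exact key.symm)
  have hV : IsPullback ((yon S).map aV ≫ p) ((yon S).map (aV ≫ s)) a ((yon S).map c ≫ g) :=
    IsPullback.of_iso sq (asIso ((yon S).map aV)).symm (Iso.refl _) (Iso.refl _) (Iso.refl _)
      (by simp) (by simp) (by simp) (by simp)
  have hpl : IsPullback ((yon S).map a2) ((yon S).map (aV ≫ s)) ((yon S).map s₀) ((yon S).map c) := by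
    refine (IsPullback.of_map_of_faithful (Over.forget S) ?_ : IsPullback a2 (aV ≫ s) s₀ c).map (yon S)
    change IsPullback (pullback.snd c.left U.hom) (φ ≫ s.left) U.hom c.left
    rw [hi]
    exact (IsPullback.of_hasPullback c.left U.hom).flip
  refine ⟨V₀, s₀, p₀, isPullback_of_locLift hpl ?_ (by rw [hp₀]; exact hV) ?_⟩
  · refine (cover_hom_ext a2 ha2 ?_).symm
    rw [reassoc_of% hp₀, sq.w, ← Functor.map_comp_assoc, ← Functor.map_comp_assoc,
      ← Functor.map_comp_assoc]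
    congr 2
    exact (yon S).map_injective (by rw [Functor.map_comp _ a2 s₀]; exact (hpl.w.trans (by
      rw [Functor.map_comp _ (aV ≫ s) c])).symm)
  · exact locLift_of_repWith le_rfl ((repWith_yon_map_iff (S := S) fppfSurj c).2 hc)

end DD

theorem exists_affine_cover {W T : Over S} [CompactSpace ↥T.left] (c : W ⟶ T) (hc : fppfSurj c.left) :
    ∃ (W' : Over S) (k : W' ⟶ W), IsAffine W'.left ∧ fppfSurj (k ≫ c).left := by
  obtain ⟨h1, h2, h3⟩ := (fppfSurj_iff _).1 hc
  obtain ⟨K, hK⟩ := isCompact_univ.elim_finite_subcover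
    (fun O : W.left.affineOpens => c.left '' (O.1 : Set ↥W.left))
    (fun O => c.left.isOpenMap _ O.1.isOpen) (fun t _ => by
      obtain ⟨w, rfl⟩ := c.left.surjective t
      obtain ⟨O, hO, hw, -⟩ := exists_isAffineOpen_mem_and_subset (x := w) (U := ⊤) trivial
      exact Set.mem_iUnion.2 ⟨⟨O, hO⟩, w, hw, rfl⟩)
  let O : K → W.left.Opens := fun o => o.1.1
  have : Etale (sigmaOpensMap W O).left := etale_sigmaOpensMap W O
  refine ⟨sigmaOpens W O, sigmaOpensMap W O, isAffine_sigmaOpens W O (fun o => o.1.2),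
    (fppfSurj_iff _).2 ⟨⟨fun t => ?_⟩, ?_, ?_⟩⟩
  · obtain ⟨o, ho, w, hw, rfl⟩ := Set.mem_iUnion₂.1 (hK (Set.mem_univ t))
    obtain ⟨z, rfl⟩ := (range_sigmaOpensMap W O).ge (Set.mem_iUnion.2 ⟨⟨o, ho⟩, hw⟩)
    exact ⟨z, rfl⟩
  · change Flat ((sigmaOpensMap W O).left ≫ c.left); infer_instance
  · change LocallyOfFinitePresentation ((sigmaOpensMap W O).left ≫ c.left); infer_instance

/-- A morphism is representable if locally for fppf coverings its base changes are affine morphisms. -/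
theorem representable_of_local_affineHom {a : F ⟶ G}
    (h : ∀ (T : Over S) (g : (yon S).obj T ⟶ G), ∃ (W : Over S) (c : W ⟶ T) (V : Over S)
      (s : V ⟶ W) (p : (yon S).obj V ⟶ F), fppfSurj c.left ∧
        IsPullback p ((yon S).map s) a ((yon S).map c ≫ g) ∧ IsAffineHom s.left) :
    Representable a := by
  refine representable_of_affine fun T hT g => ?_
  obtain ⟨W, c, V, s, p, hc, sq, hs⟩ := h T g
  obtain ⟨W', k, hW', hkc⟩ := exists_affine_cover c hc
  have sqk := IsPullback.of_hasPullback s k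
  have sq' := (sqk.map (yon S)).paste_horiz sq
  rw [← Functor.map_comp_assoc] at sq'
  obtain ⟨h1, h2, h3⟩ := (fppfSurj_iff _).1 hkc
  have : QuasiCompact (k ≫ c).left := by
    have : QuasiCompact ((k ≫ c).left ≫ terminal.from T.left) := by
      rw [terminal.comp_from]; exact (compactSpace_iff_quasiCompact _).1 inferInstance
    exact QuasiCompact.of_comp _ (terminal.from T.left)
  have : IsAffineHom (pullback.snd s k).left :=
    MorphismProperty.of_isPullback (P := @IsAffineHom) (sqk.map (Over.forget S)) hs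
  have : IsAffineHom (ddOfSquare sq').obj.hom := this
  obtain ⟨U, ⟨i⟩⟩ := Desc59.effective_of_isAffineHom (k ≫ c).left (ddOfSquare sq')
  exact exists_isPullback_of_effective sq' hkc i

/-- Representability with an affine property descends along maps with local lifts. -/
theorem representable_of_locLift {a : F ⟶ G} {H Q : Sp S} {b : H ⟶ G} (hb : LocLift b)
    {b' : Q ⟶ F} {a' : Q ⟶ H} (sq : IsPullback b' a' a b) (h : RepWith @IsAffineHom a') :
    Representable a := by
  refine representable_of_local_affineHom fun T g => ?_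
  obtain ⟨W, c, l, hc, hl⟩ := hb T g
  obtain ⟨V, s, p, sq'⟩ := h.rep l
  refine ⟨W, c, V, s, p ≫ b', hc, ?_, h.property l p s sq'⟩
  rw [← hl]
  exact sq'.paste_horiz sq

end Groth.Agent.SpPts86
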