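import Groth.Agent.SpPts86.AffineDescent
import Groth.Agent.SpPts86.DiagDesc
import Mathlib.AlgebraicGeometry.Morphisms.Immersion
import Mathlib.AlgebraicGeometry.Morphisms.FlatDescent

/-!
Immersions descend along etale coverings, with representability; affine morphisms.
-/

universe u

set_option autoImplicit false

open CategoryTheory CategoryTheory.Limits AlgebraicGeometry
open AlgSp Groth.Agent.SpFP87

namespace Groth.Agent.SpPts86

variable {S : Scheme.{u}} {F G : Sp S}

set_option backward.isDefEq.respectTransparency.types false in
theorem isOpenImmersion_descends :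
    MorphismProperty.DescendsAlong (@IsOpenImmersion : MorphismProperty Scheme.{u}) fppfMor :=
  inferInstanceAs (MorphismProperty.DescendsAlong (@IsOpenImmersion : MorphismProperty Scheme.{u})
    (@Surjective ⊓ @Flat ⊓ @LocallyOfFinitePresentation))

set_option backward.isDefEq.respectTransparency.types false in
theorem isAffineHom_descends :
    MorphismProperty.DescendsAlong (@IsAffineHom : MorphismProperty Scheme.{u}) fppfMor :=
  descends_fppf_of_fpqc _ Unr55.isAffineHom

variable {a : F ⟶ G} {T V : Over S} {g : (yon S).obj T ⟶ G} {p : (yon S).obj V ⟶ F} {s : V ⟶ T}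

theorem repWith_isAffineHom_of_cover (hg : LocLift g) (sq : IsPullback p ((yon S).map s) a g)
    [IsAffineHom s.left] : RepWith @IsAffineHom a := by
  have := isAffineHom_descends.{u}
  have := isLocalAtTarget_fppf.{u} @IsAffineHom
  have h : RepWith @IsAffineHom ((yon S).map s) := (repWith_yon_map_iff _ _).2 inferInstance
  exact repWith_of_locLift _ (representable_of_locLift hg sq h) hg sq h

theorem repWith_isClosedImmersion_of_cover (hg : LocLift g) (sq : IsPullback p ((yon S).map s) a g)
    [IsClosedImmersion s.left] : RepWith @IsClosedImmersion a := by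
  have := isClosedImmersion_descends.{u}
  have := isLocalAtTarget_fppf.{u} @IsClosedImmersion
  exact repWith_of_locLift _ (repWith_isAffineHom_of_cover hg sq).rep hg sq
    ((repWith_yon_map_iff _ _).2 inferInstance)

theorem repWith_isImmersion_of_chart (hge : RepWith @Etale g) (hgs : RepWith @Surjective g)
    (sq : IsPullback p ((yon S).map s) a g) [IsImmersion s.left] : RepWith @IsImmersion a := by
  let R := Set.range (Points.map a)
  have hpre : Points.ofPt g ⁻¹' R = Set.range s.left := preimage_ofPt_range_map sq
  have hq := isOpenQuotientMap_ofPt hge hgs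
  have hW : IsOpen (coborder R) := by
    rw [← hq.isQuotientMap.isOpen_preimage, ← coborder_preimage hq.isOpenMap hq.continuous, hpre]
    exact s.left.isLocallyClosed_range.isOpen_coborder
  obtain ⟨a', ha'⟩ := exists_factor_of_range_subset (repWith_restrictι hW) a
    (by rw [range_map_restrictι hW]; exact subset_coborder)
  obtain ⟨O, hO, hO'⟩ : ∃ O : T.left.Opens, (O : Set ↥T.left) = Points.ofPt g ⁻¹' coborder R ∧
      O = s.left.coborderRange := by
    refine ⟨⟨_, hW.preimage (Points.continuous_ofPt g)⟩, rfl, ?_⟩
    ext1
    change Points.ofPt g ⁻¹' coborder R = coborder (Set.range s.left)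
    rw [← hpre, coborder_preimage hq.isOpenMap hq.continuous]
  obtain ⟨q, hqι⟩ := exists_restrict_lift (W := coborder R) ((yon S).map (openIncl T O) ≫ g) (by
    rintro - ⟨v, rfl⟩
    rw [ofPt_comp]
    exact hO.le v.2)
  have sqT : IsPullback q ((yon S).map (openIncl T O)) (restrictι G (coborder R)) g := by
    obtain ⟨O', s', q', sq'⟩ := (repWith_restrictι (F := G) hW).rep g
    have : IsOpenImmersion s'.left := (repWith_restrictι (F := G) hW).property g _ _ sq'
    have hr : Set.range s'.left = (O : Set ↥T.left) := by
      rw [← preimage_ofPt_range_map sq', range_map_restrictι hW, hO]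
    let e : openOver T O ⟶ O' := Over.homMk (IsOpenImmersion.lift s'.left O.ι (by
      rw [O.range_ι, hr])) (by
      rw [← Over.w s', IsOpenImmersion.lift_fac_assoc]; rfl)
    have he : e ≫ s' = openIncl T O := Over.OverMorphism.ext (IsOpenImmersion.lift_fac _ _ _)
    have : IsIso ((Over.forget S).map e) := by
      change IsIso (IsOpenImmersion.lift s'.left O.ι _)
      exact (IsOpenImmersion.isoOfRangeEq O.ι s'.left (by rw [O.range_ι, hr])).isIso_hom
    have : IsIso e := isIso_of_reflects_iso e (Over.forget S)
    refine IsPullback.of_iso sq' (asIso ((yon S).map e)).symm (Iso.refl _) (Iso.refl _) (Iso.refl _)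
      ?_ ?_ (by simp) (by simp)
    · simp only [Iso.symm_hom, Iso.refl_hom, Category.comp_id, asIso_inv]
      rw [IsIso.eq_inv_comp, ← cancel_mono (restrictι G (coborder R)), Category.assoc, sq'.w, hqι,
        ← Functor.map_comp_assoc, he]
    · simp only [Iso.symm_hom, Iso.refl_hom, Category.comp_id, asIso_inv]
      rw [IsIso.eq_inv_comp, ← Functor.map_comp, he]
  let l : V ⟶ openOver T O := Over.homMk (IsOpenImmersion.lift O.ι s.left (by
    rw [O.range_ι, hO']; exact subset_coborder)) (by
    change _ ≫ O.ι ≫ T.hom = V.hom
    rw [IsOpenImmersion.lift_fac_assoc]; exact Over.w s)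
  have hl : l ≫ openIncl T O = s := Over.OverMorphism.ext (IsOpenImmersion.lift_fac _ _ _)
  have : IsClosedImmersion l.left := by
    have : IsPreimmersion (l.left ≫ O.ι) := by
      rw [show l.left ≫ O.ι = s.left from congrArg CommaMorphism.left hl]; infer_instance
    have : IsPreimmersion l.left := IsPreimmersion.of_comp l.left O.ι
    refine IsClosedImmersion.of_isPreimmersion _ ?_
    have e : Set.range l.left = Subtype.val ⁻¹' Set.range s.left := by
      ext z
      constructor
      · rintro ⟨w, rfl⟩
        exact ⟨w, by rw [← hl]; rfl⟩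
      · rintro ⟨w, hw⟩
        refine ⟨w, O.ι.injective ?_⟩
        rw [← Scheme.Hom.comp_apply, show l.left ≫ O.ι = s.left from congrArg CommaMorphism.left hl]
        exact hw
    rw [e]
    refine (isClosed_preimage_val (s := (O : Set ↥T.left)) (t := Set.range s.left)).2 ?_
    have hOc : (O : Set ↥T.left) = coborder (Set.range s.left) := by rw [hO']; rfl
    rw [hOc, Set.inter_eq_right.mpr subset_coborder, coborder_inter_closure]
  have := mono_of_repWith_le isOpenImmersion_le_monomorphisms (repWith_restrictι (F := G) hW)
  have sql : IsPullback p ((yon S).map l) a' q := by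
    refine IsPullback.of_bot (by rw [← Functor.map_comp, hl, ha']; exact sq) ?_ sqT
    rw [← cancel_mono (restrictι G (coborder R)), Category.assoc, ha', Category.assoc, hqι,
      ← Functor.map_comp_assoc, hl]
    exact sq.w
  have hqe : RepWith @Etale q := (repWith_isStableUnderBaseChange _).of_isPullback sqT.flip hge
  have hqs : RepWith @Surjective q := (repWith_isStableUnderBaseChange _).of_isPullback sqT.flip hgs
  rw [← ha']
  exact MorphismProperty.comp_mem _ _ _
    (repWith_mono (fun _ _ f (_ : IsClosedImmersion f) => (inferInstance : IsImmersion f))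
      (repWith_isClosedImmersion_of_cover (locLift_of_atlas hqe hqs) sql))
    (repWith_mono (fun _ _ f (_ : IsOpenImmersion f) => (inferInstance : IsImmersion f))
      (repWith_restrictι (F := G) hW))

theorem repWith_isOpenImmersion_of_chart (hge : RepWith @Etale g) (hgs : RepWith @Surjective g)
    (sq : IsPullback p ((yon S).map s) a g) [IsOpenImmersion s.left] : RepWith @IsOpenImmersion a := by
  have := isOpenImmersion_descends.{u}
  have := isLocalAtTarget_fppf.{u} @IsOpenImmersion
  exact repWith_of_locLift _ (repWith_isImmersion_of_chart hge hgs sq).rep (locLift_of_atlas hge hgs)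
    sq ((repWith_yon_map_iff _ _).2 inferInstance)

theorem isAffineMor_of_repWith (h : RepWith @IsAffineHom a) : IsAffineMor a := by
  intro Z hZ g
  obtain ⟨W, i, fst, sq⟩ := h.rep g
  have : IsAffineHom i.left := h.property g fst i sq
  exact ⟨W, i, fst, sq, isAffine_of_isAffineHom i.left⟩

theorem repWith_of_isAffineMor (h : IsAffineMor a) : RepWith @IsAffineHom a := by
  refine repWith_of_affine_squares @IsAffineHom fun T hT g => ?_
  obtain ⟨W, i, fst, sq, hW⟩ := h hT g
  exact ⟨W, i, fst, sq, isAffineHom_of_isAffine i.left⟩

end Groth.Agent.SpPts86
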