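import Mathlib.AlgebraicGeometry.Morphisms.Finite
import Mathlib.AlgebraicGeometry.Morphisms.Integral
import Groth.Agent.SpPts86.ImmDescent
import Groth.Agent.SpPts86.Proper
import Groth.Agent.SpPts86.Props
import Groth.Prelude.Def_AlgSpMor5
import Groth.Prelude.Def_AlgSpCov

/-!
Properties of affine type: integral, finite, finite locally free.
-/

universe u

set_option autoImplicit false

open CategoryTheory CategoryTheory.Limits AlgebraicGeometry
open AlgSp Groth.Agent.SpFP87

namespace Groth.Agent.SpPts86

variable {S : Scheme.{u}} {X Y Q : Sp S}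

set_option backward.isDefEq.respectTransparency.types false in
theorem isIntegralHom_descends :
    MorphismProperty.DescendsAlong (@IsIntegralHom : MorphismProperty Scheme.{u}) fppfMor :=
  descends_fppf_of_fpqc _ Unr55.isIntegralHom

set_option backward.isDefEq.respectTransparency.types false in
theorem isFinite_descends :
    MorphismProperty.DescendsAlong (@IsFinite : MorphismProperty Scheme.{u}) fppfMor :=
  descends_fppf_of_fpqc _ Unr55.isFinite

theorem finLocFree_iff {U V : Scheme.{u}} (f : U ⟶ V) :
    finLocFree f ↔ IsFinite f ∧ Flat f ∧ LocallyOfFinitePresentation f := Iff.rfl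

theorem finLocFree_eq :
    finLocFree.{u} = (@IsFinite ⊓ (@Flat ⊓ @LocallyOfFinitePresentation) : MorphismProperty Scheme.{u}) := by
  ext U V f
  exact finLocFree_iff f

set_option backward.isDefEq.respectTransparency.types false in
instance isZariskiLocalAtTarget_finLocFree : IsZariskiLocalAtTarget finLocFree.{u} := by
  rw [finLocFree_eq]; infer_instance

set_option backward.isDefEq.respectTransparency.types false in
theorem finLocFree_descends : MorphismProperty.DescendsAlong finLocFree.{u} fppfMor := by
  have := isFinite_descends.{u}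
  have : MorphismProperty.DescendsAlong (@Flat : MorphismProperty Scheme.{u}) fppfMor := flat_descends.{u}
  have : MorphismProperty.DescendsAlong (@LocallyOfFinitePresentation : MorphismProperty Scheme.{u})
    fppfMor := lfp_descends.{u}
  rw [finLocFree_eq]; infer_instance

theorem finLocFree_le_affine : finLocFree.{u} ≤ @IsAffineHom := fun _ _ f h => by
  have : IsFinite f := h.1
  infer_instance

theorem isFinite_le_affine : (@IsFinite : MorphismProperty Scheme.{u}) ≤ @IsAffineHom :=
  fun _ _ f h => by have : IsFinite f := h; infer_instance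

theorem isIntegral_le_affine : (@IsIntegralHom : MorphismProperty Scheme.{u}) ≤ @IsAffineHom :=
  fun _ _ f h => by have : IsIntegralHom f := h; infer_instance

section AffP

variable (P : MorphismProperty Scheme.{u}) [P.IsStableUnderBaseChange] [IsZariskiLocalAtTarget P]

theorem repWith_iff_affSquares (hP : P ≤ @IsAffineHom) (f : X ⟶ Y) :
    (∀ ⦃Z : Over S⦄, IsAffine Z.left → ∀ (g : (yon S).obj Z ⟶ Y),
      ∃ (W : Over S) (i : W ⟶ Z) (fst : (yon S).obj W ⟶ X),
        IsPullback fst ((yon S).map i) f g ∧ IsAffine W.left ∧ P i.left) ↔ RepWith P f := by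
  refine ⟨fun h => repWith_of_affine_squares P fun T hT g => ?_, fun h Z hZ g => ?_⟩
  · obtain ⟨W, i, fst, sq, -, hi⟩ := h hT g
    exact ⟨W, i, fst, sq, hi⟩
  · obtain ⟨W, i, fst, sq⟩ := h.rep g
    have hi := h.property g fst i sq
    have : IsAffineHom i.left := hP _ hi
    exact ⟨W, i, fst, sq, isAffine_of_isAffineHom i.left, hi⟩

variable [P.DescendsAlong fppfMor]

theorem repWith_of_etale_cover (hP : P ≤ @IsAffineHom) {f : X ⟶ Y} {V : Over S}
    {g : (yon S).obj V ⟶ Y} (hge : RepWith @Etale g) (hgs : RepWith @Surjective g)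
    {fst : Q ⟶ X} {snd : Q ⟶ (yon S).obj V} (sq : IsPullback fst snd f g)
    (h : RepWith P snd) : RepWith P f := by
  have := isLocalAtTarget_fppf.{u} P
  exact repWith_of_locLift P (representable_of_locLift (locLift_of_atlas hge hgs) sq (repWith_mono hP h))
    (locLift_of_atlas hge hgs) sq h

end AffP

/-- A property local on the target may be tested on an open covering of the target. -/
theorem repWith_of_zar_cover (P : MorphismProperty Scheme.{u}) [P.IsStableUnderBaseChange]
    [IsZariskiLocalAtTarget P] {f : X ⟶ Y} {ι : Type u} {Yi : ι → Sp S} {j : ∀ i, Yi i ⟶ Y}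
    (hj : IsZarCover Yi j) {Xi : ι → Sp S} {p : ∀ i, Xi i ⟶ X} {q : ∀ i, Xi i ⟶ Yi i}
    (sq : ∀ i, IsPullback (p i) (q i) f (j i)) (hq : ∀ i, RepWith P (q i)) : RepWith P f := by
  have hP : P.RespectsIso := MorphismProperty.IsStableUnderBaseChange.respectsIso
  refine repWith_of_affine_squares P fun T _ g => ?_
  choose O c l sqO using fun i => (hj.1 i).rep g
  have hc : ∀ i, IsOpenImmersion (c i).left := fun i => (hj.1 i).property g _ _ (sqO i)
  let Op : ι → T.left.Opens := fun i => (c i).left.opensRange
  have hOp : ∀ t : ↥T.left, ∃ i, t ∈ Op i := fun t => by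
    obtain ⟨i, hi⟩ := hj.2 (Points.ofPt g t)
    refine ⟨i, (preimage_ofPt_range_map (sqO i)).le ?_⟩
    exact hi
  have hlift : ∀ i, ∃ m : (yon S).obj (openOver T (Op i)) ⟶ Yi i,
      m ≫ j i = (yon S).map (openIncl T (Op i)) ≫ g := fun i => by
    refine exists_factor_of_range_subset (hj.1 i) _ ?_
    rintro _ ⟨x, rfl⟩
    obtain ⟨t, rfl⟩ := (Points.schemeHomeo (openOver T (Op i))).surjective x
    have := (preimage_ofPt_range_map (sqO i)).ge t.2
    rw [Points.map_comp, Points.map_yon_map_apply]
    change Points.map g (Points.ofScheme T t.1) ∈ _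
    rw [← Points.ofPt_eq_map_ofScheme]
    exact this
  choose m hm using hlift
  choose V s pv sqV using fun i => (hq i).rep (m i)
  have sqF : ∀ i, IsPullback (pv i ≫ p i) ((yon S).map (s i)) f
      ((yon S).map (openIncl T (Op i)) ≫ g) := fun i => by
    rw [← hm i]
    exact (sqV i).paste_horiz (sq i)
  obtain ⟨W, w, pw, sqW⟩ := exists_isPullback_of_opens g Op hOp fun i => ⟨V i, s i, _, sqF i⟩
  refine ⟨W, w, pw, sqW, ?_⟩
  rw [IsZariskiLocalAtTarget.iff_of_iSup_eq_top (P := P) Op
    (TopologicalSpace.Opens.ext (by ext t; simpa using hOp t))]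
  intro i
  have hPs : P (s i).left := (hq i).property _ _ _ (sqV i)
  let n : V i ⟶ W := (yon S).preimage (sqW.lift (pv i ≫ p i) ((yon S).map (s i ≫ openIncl T (Op i)))
    (by rw [Functor.map_comp, Category.assoc]; exact (sqF i).w))
  have sq2 : IsPullback ((yon S).map n) ((yon S).map (s i)) ((yon S).map w)
      ((yon S).map (openIncl T (Op i))) := by
    refine IsPullback.of_right (by rw [Functor.map_preimage, sqW.lift_fst]; exact sqF i) ?_ sqW
    rw [Functor.map_preimage, sqW.lift_snd, Functor.map_comp]
  have sq3 := isPullback_left sq2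
  have e := (isPullback_morphismRestrict w.left (Op i)).flip
  rw [← e.isoIsPullback_hom_snd _ _ sq3, P.cancel_left_of_respectsIso]
  exact hPs

end Groth.Agent.SpPts86
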