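import Mathlib.AlgebraicGeometry.Morphisms.Proper
import Groth.Agent.SpPts86.Finite
import Groth.Agent.SpPts86.LocPMore
import Groth.Agent.SpPts86.EtaleMor
import Groth.Agent.S9922
import Groth.Agent.S9905

/-!
Integral and finite morphisms in terms of affine, universally closed, proper.
-/

universe u

set_option autoImplicit false

open CategoryTheory CategoryTheory.Limits AlgebraicGeometry
open AlgSp Groth.Agent.SpFP87

namespace Groth.Agent.SpPts86

variable {S : Scheme.{u}} {X Y Z : Sp S}

theorem isIntegralMor_iff (f : X ⟶ Y) : IsIntegralMor f ↔ RepWith @IsIntegralHom f :=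
  repWith_iff_affSquares @IsIntegralHom isIntegral_le_affine f

theorem isFiniteMor_iff (f : X ⟶ Y) : IsFiniteMor f ↔ RepWith @IsFinite f :=
  repWith_iff_affSquares @IsFinite isFinite_le_affine f

theorem repWith_le_inf {P Q R : MorphismProperty Scheme.{u}} {f : X ⟶ Y}
    (h : ∀ {U V : Scheme.{u}} (g : U ⟶ V), P g → Q g → R g)
    (hP : RepWith P f) (hQ : RepWith Q f) : RepWith R f :=
  ⟨hP.rep, fun _ _ g fst snd sq => h _ (hP.property g fst snd sq) (hQ.property g fst snd sq)⟩

theorem isAffineMor_of_le {P : MorphismProperty Scheme.{u}} (hP : P ≤ @IsAffineHom) {f : X ⟶ Y}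
    (h : RepWith P f) : IsAffineMor f := isAffineMor_of_repWith (repWith_mono hP h)

theorem isIntegralMor_iff_affine_univClosed' (f : X ⟶ Y) (hX : IsAlgSpace X) (hY : IsAlgSpace Y) :
    IsIntegralMor f ↔ IsAffineMor f ∧ IsUnivClosedMor f := by
  constructor
  · intro h
    have h' := (isIntegralMor_iff f).1 h
    exact ⟨isAffineMor_of_le isIntegral_le_affine h', (S9922.result (X := ⟨X, hX⟩) (Y := ⟨Y, hY⟩) ⟨f⟩ h'.rep).1
      (repWith_mono (fun _ _ g hg => by have : IsIntegralHom g := hg; infer_instance) h')⟩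
  · rintro ⟨ha, hu⟩
    have ha' := repWith_of_isAffineMor ha
    refine (isIntegralMor_iff f).2 (repWith_le_inf (fun g h1 h2 =>
      IsIntegralHom.iff_universallyClosed_and_isAffineHom.2 ⟨h1, h2⟩)
      ((S9922.result (X := ⟨X, hX⟩) (Y := ⟨Y, hY⟩) ⟨f⟩ ha'.rep).2 hu) ha')

theorem isFiniteMor_iff_affine_proper' (f : X ⟶ Y) (hX : IsAlgSpace X) (hY : IsAlgSpace Y) :
    IsFiniteMor f ↔ IsAffineMor f ∧ IsProperMor f := by
  constructor
  · intro h
    have h' := (isFiniteMor_iff f).1 h
    refine ⟨isAffineMor_of_le isFinite_le_affine h', ?_, ⟨?_, ?_⟩, ?_⟩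
    · exact (S9905.result (X := ⟨X, hX⟩) (Y := ⟨Y, hY⟩) ⟨f⟩ h'.rep).1.2
        (repWith_mono (fun _ _ g hg => by have : IsFinite g := hg; infer_instance) h')
    · exact locP_of_repWith hX.diag hY
        (repWith_mono (fun _ _ g hg => by have : IsFinite g := hg; infer_instance) h')
    · exact isQuasiCompactMor_of_repWith hY
        (repWith_mono (fun _ _ g hg => by have : IsFinite g := hg; infer_instance) h')
    · exact (S9922.result (X := ⟨X, hX⟩) (Y := ⟨Y, hY⟩) ⟨f⟩ h'.rep).1
        (repWith_mono (fun _ _ g hg => by have : IsFinite g := hg; infer_instance) h')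
  · rintro ⟨ha, hp⟩
    have ha' := repWith_of_isAffineMor ha
    have := lft_descends.{u}
    refine (isFiniteMor_iff f).2 (repWith_le_inf (fun g h1 h2 => ?_)
      ((isIntegralMor_iff f).1 ((isIntegralMor_iff_affine_univClosed' f hX hY).2 ⟨ha, hp.2.2⟩))
      (repWith_of_locP hY ha'.rep hp.2.1.1))
    exact (IsFinite.iff_isIntegralHom_and_locallyOfFiniteType g).2 ⟨h1, h2⟩

theorem isAffineMor_of_comp_separated {f : X ⟶ Y} {g : Y ⟶ Z}
    (hg : IsSeparatedMor g) (h : IsAffineMor (f ≫ g)) : IsAffineMor f :=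
  isAffineMor_of_repWith (repWith_of_comp
    (repWith_mono (fun _ _ k hk => by have : IsClosedImmersion k := hk; infer_instance) hg)
    (repWith_of_isAffineMor h))

end Groth.Agent.SpPts86
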