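import Mathlib.AlgebraicGeometry.Morphisms.ClosedImmersion
import Mathlib.AlgebraicGeometry.Limits
import Mathlib.AlgebraicGeometry.Morphisms.Separated
import Mathlib.RingTheory.TensorProduct.Maps

/-!
The map of rings from a tensor product over the integers is surjective exactly when the map to the
absolute product of two affine schemes is a closed immersion.
-/

universe u

set_option autoImplicit false

open CategoryTheory CategoryTheory.Limits AlgebraicGeometry TensorProduct

namespace Groth.Agent.SpPts86

variable {U V P : Scheme.{u}} [IsAffine U] [IsAffine V]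

/-- The map into the absolute product. -/
noncomputable def absLift (f : P ⟶ U) (g : P ⟶ V) :
    P ⟶ pullback (terminal.from U) (terminal.from V) :=
  pullback.lift f g (Subsingleton.elim _ _)

theorem isClosedImmersion_absLift [IsAffine P] (f : P ⟶ U) (g : P ⟶ V)
    (h : Function.Surjective
      (Algebra.TensorProduct.productMap f.appTop.hom.toIntAlgHom g.appTop.hom.toIntAlgHom)) :
    IsClosedImmersion (absLift f g) := by
  refine IsClosedImmersion.of_surjective_of_isAffine _ fun o => ?_
  obtain ⟨z, rfl⟩ := h o
  change ∃ a, (absLift f g).appTop.hom a = _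
  induction z using TensorProduct.induction_on with
  | zero => exact ⟨0, by simp⟩
  | tmul a b =>
    refine ⟨(pullback.fst (terminal.from U) (terminal.from V)).appTop.hom a *
      (pullback.snd (terminal.from U) (terminal.from V)).appTop.hom b, ?_⟩
    have e1 : f.appTop.hom a = (absLift f g).appTop.hom
        ((pullback.fst (terminal.from U) (terminal.from V)).appTop.hom a) := by
      conv_lhs => rw [← pullback.lift_fst f g (Subsingleton.elim (f ≫ terminal.from U) (g ≫ terminal.from V))]
      rfl
    have e2 : g.appTop.hom b = (absLift f g).appTop.hom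
        ((pullback.snd (terminal.from U) (terminal.from V)).appTop.hom b) := by
      conv_lhs => rw [← pullback.lift_snd f g (Subsingleton.elim (f ≫ terminal.from U) (g ≫ terminal.from V))]
      rfl
    rw [map_mul, ← e1, ← e2]
    rw [Algebra.TensorProduct.productMap_apply_tmul]
    rfl
  | add x y hx hy =>
    obtain ⟨a, ha⟩ := hx
    obtain ⟨b, hb⟩ := hy
    exact ⟨a + b, by rw [map_add, map_add, ha, hb]⟩

theorem isAffine_of_absLift (f : P ⟶ U) (g : P ⟶ V) [IsClosedImmersion (absLift f g)] : IsAffine P :=
  (IsClosedImmersion.isAffine_surjective_of_isAffine (absLift f g)).1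

theorem surjective_productMap (f : P ⟶ U) (g : P ⟶ V) [IsClosedImmersion (absLift f g)] :
    Function.Surjective
      (Algebra.TensorProduct.productMap f.appTop.hom.toIntAlgHom g.appTop.hom.toIntAlgHom) := by
  have := isAffine_of_absLift f g
  let m := Algebra.TensorProduct.productMap f.appTop.hom.toIntAlgHom g.appTop.hom.toIntAlgHom
  let C : Subring Γ(P, ⊤) := m.toRingHom.range
  let c₁ : Γ(U, ⊤) ⟶ CommRingCat.of C := CommRingCat.ofHom
    (f.appTop.hom.codRestrict C fun a => ⟨a ⊗ₜ 1, by simp [m]⟩)
  let c₂ : Γ(V, ⊤) ⟶ CommRingCat.of C := CommRingCat.ofHom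
    (g.appTop.hom.codRestrict C fun b => ⟨1 ⊗ₜ b, by simp [m]⟩)
  let i : CommRingCat.of C ⟶ Γ(P, ⊤) := CommRingCat.ofHom C.subtype
  have h1 : c₁ ≫ i = f.appTop := by ext; rfl
  have h2 : c₂ ≫ i = g.appTop := by ext; rfl
  let k : Spec (CommRingCat.of C) ⟶ pullback (terminal.from U) (terminal.from V) :=
    pullback.lift (Spec.map c₁ ≫ U.isoSpec.inv) (Spec.map c₂ ≫ V.isoSpec.inv) (Subsingleton.elim _ _)
  have e : P.isoSpec.hom ≫ Spec.map i ≫ k = absLift f g := by
    apply pullback.hom_ext
    · simp only [k, absLift, Category.assoc, pullback.lift_fst]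
      rw [← Spec.map_comp_assoc, h1, Scheme.isoSpec_inv_naturality, Iso.hom_inv_id_assoc]
    · simp only [k, absLift, Category.assoc, pullback.lift_snd]
      rw [← Spec.map_comp_assoc, h2, Scheme.isoSpec_inv_naturality, Iso.hom_inv_id_assoc]
  have : IsClosedImmersion ((P.isoSpec.hom ≫ Spec.map i) ≫ k) := by
    rw [Category.assoc, e]; infer_instance
  have : IsClosedImmersion (P.isoSpec.hom ≫ Spec.map i) := IsClosedImmersion.of_comp _ k
  have : IsClosedImmersion (Spec.map i) :=
    (MorphismProperty.cancel_left_of_respectsIso @IsClosedImmersion _ _).1 this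
  have hs := (IsClosedImmersion.isAffine_surjective_of_isAffine (Spec.map i)).2
  have hsi : Function.Surjective i.hom := fun o => by
    obtain ⟨c, hc⟩ := hs ((Scheme.ΓSpecIso Γ(P, ⊤)).inv.hom o)
    refine ⟨(Scheme.ΓSpecIso (CommRingCat.of C)).hom.hom c, ?_⟩
    have hn := congrArg (fun φ => φ.hom c) (Scheme.ΓSpecIso_naturality i)
    simp only [CommRingCat.comp_apply] at hn
    rw [← hn, hc, ← CommRingCat.comp_apply, Iso.inv_hom_id]
    rfl
  intro o
  obtain ⟨⟨_, z, hz⟩, rfl⟩ := hsi o
  exact ⟨z, hz⟩

end Groth.Agent.SpPts86
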