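import Groth.Agent.SpPts86.DiagCrit
import Groth.Agent.SpPts86.ProdMap

/-!
Comparing the product over the base with the absolute product.
-/

universe u

set_option autoImplicit false

open CategoryTheory CategoryTheory.Limits AlgebraicGeometry
open AlgSp

namespace Groth.Agent.SpPts86

variable {S : Scheme.{u}} {U V W : Over S}

noncomputable def toAbs (U V : Over S) :
    pullback U.hom V.hom ⟶ pullback (terminal.from U.left) (terminal.from V.left) :=
  pullback.lift (pullback.fst _ _) (pullback.snd _ _) (Subsingleton.elim _ _)

theorem schLift_toAbs (p : W ⟶ U) (q : W ⟶ V) :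
    schLift p q ≫ toAbs U V = absLift p.left q.left := by
  apply pullback.hom_ext <;>
    simp only [toAbs, absLift, Category.assoc, pullback.lift_fst, pullback.lift_snd, schLift_fst,
      schLift_snd]

theorem isSeparated_hom_of_isAffine (U : Over S) [IsAffine U.left] : IsSeparated U.hom := by
  have : IsSeparated (U.hom ≫ terminal.from S) := by
    rw [terminal.comp_from]; infer_instance
  exact IsSeparated.of_comp U.hom (terminal.from S)

theorem isSeparated_toAbs [IsAffine U.left] : IsSeparated (toAbs U V) := by
  have := isSeparated_hom_of_isAffine U
  have : IsSeparated (toAbs U V ≫ pullback.snd _ _) := by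
    rw [toAbs, pullback.lift_snd]; infer_instance
  exact IsSeparated.of_comp (toAbs U V) (pullback.snd _ _)

theorem isClosedImmersion_toAbs [S.IsSeparated] (U V : Over S) : IsClosedImmersion (toAbs U V) := by
  have e : toAbs U V = pullback.mapDesc U.hom V.hom (terminal.from S) ≫
      (pullback.congrHom (terminal.comp_from U.hom) (terminal.comp_from V.hom)).hom := by
    apply pullback.hom_ext <;>
      simp only [toAbs, pullback.mapDesc, pullback.map, Category.assoc, pullback.lift_fst, pullback.lift_snd,
        pullback.lift_fst_assoc, pullback.lift_snd_assoc, Category.comp_id, pullback.congrHom_hom]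
  rw [e]
  infer_instance

end Groth.Agent.SpPts86
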