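import Groth.Agent.SpPts86.QCMor
import Groth.Agent.SpPts86.DiagAbs

/-!
Products and fibre products of quasi-compact quasi-separated spaces.
-/

universe u

set_option autoImplicit false

open CategoryTheory CategoryTheory.Limits AlgebraicGeometry
open AlgSp Groth.Agent.SpFP87

namespace Groth.Agent.SpPts86

variable {S : Scheme.{u}} {X Y Z P : Sp S}

theorem compact_pullback_left [QuasiSeparatedSpace ↥S] {U V W : Over S} [CompactSpace ↥U.left]
    [CompactSpace ↥V.left] (p : W ⟶ U) (q : W ⟶ V) [QuasiCompact (schLift p q)] :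
    CompactSpace ↥W.left := by
  have : QuasiSeparated (terminal.from S) := (quasiSeparatedSpace_iff_quasiSeparated _).1 inferInstance
  have : QuasiCompact (U.hom ≫ terminal.from S) := by
    rw [terminal.comp_from]; exact (compactSpace_iff_quasiCompact _).1 inferInstance
  have : QuasiCompact U.hom := QuasiCompact.of_comp U.hom (terminal.from S)
  have : CompactSpace ↥(pullback U.hom V.hom) :=
    QuasiCompact.compactSpace_of_compactSpace (pullback.snd U.hom V.hom)
  exact QuasiCompact.compactSpace_of_compactSpace (schLift p q)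

theorem isQuasiCompactMor_of_qc_qs [QuasiSeparatedSpace ↥S] {f : X ⟶ Y} (hX : IsAlgSpace X)
    (hY : IsAlgSpace Y) [CompactSpace (Points X)] (hYqs : IsQuasiSeparatedSp Y) :
    IsQuasiCompactMor f := by
  refine isQuasiCompactMor_of_affine hX hY fun T hT g Q fst snd sq => ?_
  obtain ⟨U, p, hU, hp, hps⟩ := exists_affine_chart_of_compactSpace hX
  obtain ⟨W, a, b, sqW⟩ := exists_isPullback_yon hY.diag (p ≫ f) g
  have : QuasiCompact (schLift a b) := schLift_of_repWith_diag @QuasiCompact hYqs sqW
  have := compact_pullback_left a b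
  have := compactSpace_points_yon W
  obtain ⟨m, hm1, hm2⟩ : ∃ m : (yon S).obj W ⟶ Q,
      m ≫ fst = (yon S).map a ≫ p ∧ m ≫ snd = (yon S).map b :=
    ⟨sq.lift ((yon S).map a ≫ p) ((yon S).map b) (by rw [Category.assoc]; exact sqW.w),
      sq.lift_fst _ _ _, sq.lift_snd _ _ _⟩
  have sqm : IsPullback m ((yon S).map a) fst p :=
    IsPullback.of_right (by rw [hm2]; exact sqW.flip) hm1 sq.flip
  exact compactSpace_of_surjectiveMor
    (surjective_map_fst_of_isPullback sqm (isSurjectiveMor_of_repWith hps))

theorem repWith_prod_map {Q : MorphismProperty Scheme.{u}} [Q.IsStableUnderBaseChange]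
    [Q.IsMultiplicative] {A B A' B' : Sp S} {f : A ⟶ B} {g : A' ⟶ B'}
    (hf : RepWith Q f) (hg : RepWith Q g) : RepWith Q (prod.map f g) := by
  have h1 : RepWith Q (prod.map f (𝟙 A')) :=
    (repWith_isStableUnderBaseChange Q).of_isPullback (isPullback_prod_map_fst f A') hf
  have h2 : RepWith Q (prod.map g (𝟙 B)) :=
    (repWith_isStableUnderBaseChange Q).of_isPullback (isPullback_prod_map_fst g B) hg
  have e : prod.map f g = prod.map f (𝟙 A') ≫ (prod.braiding B A').hom ≫
      prod.map g (𝟙 B) ≫ (prod.braiding B' B).hom := by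
    apply Limits.prod.hom_ext
    · rw [prod.map_fst]; simp only [Category.assoc, prod.braiding_hom]
      rw [prod.lift_fst, prod.map_snd, Category.comp_id, prod.lift_snd, prod.map_fst]
    · rw [prod.map_snd]; simp only [Category.assoc, prod.braiding_hom]
      rw [prod.lift_snd, prod.map_fst, prod.lift_fst_assoc, prod.map_snd_assoc, Category.id_comp]
  have hiso : ∀ {M N : Sp S} (φ : M ≅ N), RepWith Q φ.hom := fun φ =>
    MorphismProperty.of_isIso (RepWith (S := S) Q) φ.hom
  rw [e]
  exact MorphismProperty.comp_mem _ _ _ h1 (MorphismProperty.comp_mem _ _ _ (hiso _)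
    (MorphismProperty.comp_mem _ _ _ h2 (hiso _)))

theorem repWith_diag_prod {Q : MorphismProperty Scheme.{u}} [Q.IsStableUnderBaseChange]
    [Q.IsMultiplicative] (hX : RepWith Q (Limits.diag X)) (hY : RepWith Q (Limits.diag Y)) :
    RepWith Q (Limits.diag (X ⨯ Y)) := by
  let e : (X ⨯ X) ⨯ (Y ⨯ Y) ≅ (X ⨯ Y) ⨯ (X ⨯ Y) :=
    { hom := prod.lift (prod.map prod.fst prod.fst) (prod.map prod.snd prod.snd)
      inv := prod.lift (prod.map prod.fst prod.fst) (prod.map prod.snd prod.snd)
      hom_inv_id := by
        apply Limits.prod.hom_ext <;> apply Limits.prod.hom_ext <;>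
          simp only [Category.assoc, Category.id_comp, prod.lift_fst, prod.lift_snd, prod.map_fst,
            prod.map_snd, prod.lift_fst_assoc, prod.lift_snd_assoc]
      inv_hom_id := by
        apply Limits.prod.hom_ext <;> apply Limits.prod.hom_ext <;>
          simp only [Category.assoc, Category.id_comp, prod.lift_fst, prod.lift_snd, prod.map_fst,
            prod.map_snd, prod.lift_fst_assoc, prod.lift_snd_assoc] }
  have he : Limits.diag (X ⨯ Y) = prod.map (Limits.diag X) (Limits.diag Y) ≫ e.hom := by
    apply Limits.prod.hom_ext <;> apply Limits.prod.hom_ext <;>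
      simp only [e, Category.assoc, Category.id_comp, Category.comp_id, prod.lift_fst, prod.lift_snd,
        prod.map_fst, prod.map_snd, prod.map_fst_assoc, prod.map_snd_assoc, prod.lift_fst_assoc,
        prod.lift_snd_assoc]
  rw [he]
  have : IsIso e.hom := Iso.isIso_hom e
  exact (MorphismProperty.cancel_right_of_respectsIso (RepWith Q) _ _).2 (repWith_prod_map hX hY)

theorem repWith_diag_of_isPullback {Q : MorphismProperty Scheme.{u}} [Q.IsStableUnderBaseChange]
    [Q.IsMultiplicative] {fst : P ⟶ X} {snd : P ⟶ Z} {f : X ⟶ Y} {g : Z ⟶ Y}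
    (sq : IsPullback fst snd f g) (hX : RepWith Q (Limits.diag X))
    (hZ : RepWith Q (Limits.diag Z)) : RepWith Q (Limits.diag P) := by
  let j := prod.lift fst snd
  have : Mono j := ⟨fun a b hab => sq.hom_ext
    (by have := congrArg (· ≫ (prod.fst : X ⨯ Z ⟶ X)) hab
        simp only [j, Category.assoc, prod.lift_fst] at this; exact this)
    (by have := congrArg (· ≫ (prod.snd : X ⨯ Z ⟶ Z)) hab
        simp only [j, Category.assoc, prod.lift_snd] at this; exact this)⟩
  have h1 : IsPullback j (Limits.diag P) (Limits.diag (X ⨯ Z)) (prod.map j j) := by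
    simpa using isPullback_prodLift (IsPullback.of_horiz_isIso_mono ⟨rfl⟩ :
      IsPullback (𝟙 P) (𝟙 P) j j)
  exact (repWith_isStableUnderBaseChange Q).of_isPullback h1 (repWith_diag_prod hX hZ)

end Groth.Agent.SpPts86
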