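import Groth.Prelude.Def_AlgSp4
import Groth.Prelude.Def_AlgSpDec
import Mathlib.AlgebraicGeometry.AlgClosed.Basic
import Mathlib.AlgebraicGeometry.Morphisms.QuasiFinite
import Groth.Agent.SpFP87.EtLocInst
import Groth.Agent.SpPts86.Basic

/-!
Lifting geometric points along etale maps from schemes.
-/

universe u

set_option autoImplicit false

open CategoryTheory CategoryTheory.Limits AlgebraicGeometry
open AlgSp

namespace Groth.Agent.SpPts86

theorem exists_section_of_etale {K : Type u} [Field K] [IsAlgClosed K] {W : Scheme.{u}}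
    (f : W ⟶ Spec (CommRingCat.of K)) [Etale f] (w : ↥W) :
    ∃ σ : Spec (CommRingCat.of K) ⟶ W, σ ≫ f = 𝟙 _ ∧ σ (IsLocalRing.closedPoint K) = w := by
  have : LocallyQuasiFinite f := SpFP87.etale_locallyQuasiFinite f inferInstance
  have hd := f.isDiscrete_preimage_singleton (IsLocalRing.closedPoint K)
  have e : f ⁻¹' {IsLocalRing.closedPoint K} = Set.univ :=
    Set.eq_univ_iff_forall.2 fun _ => Subsingleton.elim (α := PrimeSpectrum K) _ _
  have : DiscreteTopology ↥W := isDiscrete_univ_iff.1 (e ▸ hd)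
  exact ⟨pointOfClosedPoint f w (isClosed_discrete _), pointOfClosedPoint_comp _ _ _,
    pointOfClosedPoint_apply _ _ _ _⟩

/-- A geometric point lifts to a given compatible point of an etale scheme over the space. -/
theorem exists_lift_of_etale {S : Scheme.{u}} {G : Sp S} {T : Over S} {c : (yon S).obj T ⟶ G}
    (hc : RepWith @Etale c) (p : FieldPt G) (hp : p.IsGeometric) (t : ↥T.left)
    (ht : Points.ofPt c t = Points.mk p) :
    ∃ l : p.pt ⟶ T, (yon S).map l ≫ c = p.toHom ∧ l.left (IsLocalRing.closedPoint p.K) = t := by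
  have : IsAlgClosed p.K := hp
  obtain ⟨W, snd, fst, sq⟩ := hc.rep p.toHom
  have het : Etale snd.left := hc.property p.toHom fst snd sq
  obtain ⟨fst, rfl⟩ := (yon S).map_surjective fst
  obtain ⟨w, hwt, -⟩ := exists_pt_of_isPullback' sq t (IsLocalRing.closedPoint p.K : ↥p.pt.left)
    (ht.trans (Points.ofPt_toHom p _).symm)
  have : Etale (snd.left : W.left ⟶ Spec (CommRingCat.of p.K)) := het
  obtain ⟨σ, hσ, hσw⟩ := exists_section_of_etale (snd.left : W.left ⟶ Spec (CommRingCat.of p.K)) w
  let σ' : p.pt ⟶ W := Over.homMk σ (by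
    show σ ≫ W.hom = p.str
    rw [← Over.w snd]
    exact (Category.assoc _ _ _).symm.trans ((congrArg (· ≫ p.str) hσ).trans (Category.id_comp _)))
  have h1 : σ' ≫ snd = 𝟙 _ := Over.OverMorphism.ext hσ
  refine ⟨σ' ≫ fst, ?_, ?_⟩
  · rw [Functor.map_comp, Category.assoc, sq.w, ← Category.assoc, ← Functor.map_comp, h1,
      CategoryTheory.Functor.map_id, Category.id_comp]
  · change (σ ≫ fst.left) _ = t
    rw [Scheme.Hom.comp_apply, hσw, hwt]

end Groth.Agent.SpPts86
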