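import Groth.Agent.SpPts86.PieceHom
import Groth.Agent.SpPts86.LqfSep
import Groth.Agent.SpPts86.ZarGlue
import Groth.Agent.SpPts86.QuotSpace
import Groth.Agent.SpPts86.GeomLift
import Groth.Agent.SpPts86.Props
import Mathlib.AlgebraicGeometry.Sites.AffineEtale
import Mathlib.AlgebraicGeometry.AlgClosed.Basic
import Mathlib.AlgebraicGeometry.Morphisms.Smooth

/-!
The sheaf of pieces is etale and separated over the sheaf.
-/

universe u

set_option autoImplicit false

open CategoryTheory CategoryTheory.Limits AlgebraicGeometry Opposite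
open AlgSp Groth.Agent.SpFP87

namespace Groth.Agent.SpPts86

variable {S : Scheme.{u}} {U : Over S} {F : Sp S} {π : (yon S).obj U ⟶ F} {hπ : Representable π}

theorem exists_open_factor {T : Over S} (E : T.left.Opens) {P : Sp S} (f : P ⟶ (yon S).obj T)
    (h : ∀ (T' : Over S) (a : (yon S).obj T' ⟶ P) (m : T' ⟶ T), a ≫ f = (yon S).map m →
      Set.range m.left ⊆ (E : Set ↥T.left)) :
    ∃ l : P ⟶ (yon S).obj (openOver T E), l ≫ (yon S).map (openIncl T E) = f := by
  have : Mono ((yon S).map (openIncl T E)) := mono_of_repWith_le isOpenImmersion_le_monomorphisms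
    ((repWith_yon_map_iff _ _).2 (inferInstanceAs (IsOpenImmersion E.ι)))
  refine exists_factor_of_forall_yon f fun T' a => ?_
  obtain ⟨m, hm⟩ := (yon S).map_surjective (a ≫ f)
  have hr : Set.range m.left ⊆ Set.range E.ι := by rw [E.range_ι]; exact h T' a m hm.symm
  let b : T' ⟶ openOver T E := Over.homMk (IsOpenImmersion.lift E.ι m.left hr) (by
    change IsOpenImmersion.lift E.ι m.left hr ≫ E.ι ≫ T.hom = T'.hom
    rw [IsOpenImmersion.lift_fac_assoc, Over.w])
  refine ⟨(yon S).map b, ?_⟩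
  rw [← Functor.map_comp, ← hm]
  congr 1
  exact Over.OverMorphism.ext (IsOpenImmersion.lift_fac _ _ _)

theorem mono_openIncl (T : Over S) (E : T.left.Opens) : Mono ((yon S).map (openIncl T E)) :=
  mono_of_repWith_le isOpenImmersion_le_monomorphisms
    ((repWith_yon_map_iff _ _).2 (inferInstanceAs (IsOpenImmersion E.ι)))

set_option backward.isDefEq.respectTransparency.types false in
theorem repWith_closedImm_diagonal_pieceπ (hfl : RepWith @Flat π) (hfp : RepWith @LocallyOfFinitePresentation π)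
    (hsep : RepWith @IsSeparated π) : RepWith @IsClosedImmersion (pullback.diagonal (pieceπ hπ)) := by
  refine MorphismProperty.relative.of_exists fun T g => ?_
  obtain ⟨E, hE, hiff⟩ := exists_eqLocus hfl hfp hsep
    (a := g ≫ pullback.fst (pieceπ hπ) (pieceπ hπ)) (b := g ≫ pullback.snd (pieceπ hπ) (pieceπ hπ))
    (by rw [Category.assoc, Category.assoc, pullback.condition])
  have := mono_openIncl T E
  have hab : (yon S).map (openIncl T E) ≫ g ≫ pullback.fst (pieceπ hπ) (pieceπ hπ) =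
      (yon S).map (openIncl T E) ≫ g ≫ pullback.snd (pieceπ hπ) (pieceπ hπ) :=
    (hiff _ _).2 (le_of_eq E.range_ι)
  have w : ((yon S).map (openIncl T E) ≫ g ≫ pullback.fst (pieceπ hπ) (pieceπ hπ)) ≫
      pullback.diagonal (pieceπ hπ) = (yon S).map (openIncl T E) ≫ g := by
    apply pullback.hom_ext
    · rw [Category.assoc, pullback.diagonal_fst, Category.comp_id, Category.assoc]
    · rw [Category.assoc, pullback.diagonal_snd, Category.comp_id, hab, Category.assoc]
  have key : ∀ c : PullbackCone (pullback.diagonal (pieceπ hπ)) g,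
      ∃ l, l ≫ (yon S).map (openIncl T E) = c.snd := fun c =>
    exists_open_factor E c.snd fun T' a m hm => by
      refine (hiff T' m).1 ?_
      have h1 := congrArg (fun q => a ≫ q ≫ pullback.fst (pieceπ hπ) (pieceπ hπ)) c.condition
      have h2 := congrArg (fun q => a ≫ q ≫ pullback.snd (pieceπ hπ) (pieceπ hπ)) c.condition
      simp only [Category.assoc, pullback.diagonal_fst, pullback.diagonal_snd, Category.comp_id] at h1 h2
      rw [reassoc_of% hm] at h1 h2
      exact h1.symm.trans h2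
  choose l hl using key
  have hfst : ∀ c : PullbackCone (pullback.diagonal (pieceπ hπ)) g,
      c.fst = c.snd ≫ g ≫ pullback.fst (pieceπ hπ) (pieceπ hπ) := fun c => by
    have h1 := congrArg (· ≫ pullback.fst (pieceπ hπ) (pieceπ hπ)) c.condition
    simpa only [Category.assoc, pullback.diagonal_fst, Category.comp_id] using h1
  refine ⟨openOver T E, _, openIncl T E, ⟨⟨w⟩, ⟨PullbackCone.IsLimit.mk _ l (fun c => ?_) hl
    (fun c m _ hm => ?_)⟩⟩, ?_⟩
  · rw [reassoc_of% (hl c), hfst]
  · rw [← cancel_mono ((yon S).map (openIncl T E)), hm, hl]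
  · change IsClosedImmersion E.ι
    refine IsClosedImmersion.of_isPreimmersion _ ?_
    rw [E.range_ι]
    exact hE

set_option backward.isDefEq.respectTransparency.types false in
theorem isSeparatedMor_of_isPullback {X Y X' Y' : Sp S} {f : X ⟶ Y} {g : Y' ⟶ Y} {fst : X' ⟶ X}
    {f' : X' ⟶ Y'} (sq : IsPullback fst f' f g) (h : IsSeparatedMor f) : IsSeparatedMor f' := by
  have hd : (MorphismProperty.diagonal (RepWith (S := S) @IsClosedImmersion)) f := h
  exact MorphismProperty.of_isPullback (P := MorphismProperty.diagonal (RepWith (S := S) @IsClosedImmersion)) sq hd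

section

variable (hfl : RepWith @Flat π) (hfp : RepWith @LocallyOfFinitePresentation π)
  (hsep : RepWith @IsSeparated π) (hqf : RepWith @LocallyQuasiFinite π)

include hfl hfp hsep in
/-- Equality of two maps into a fibre of the sheaf of pieces, tested on an open and closed subscheme. -/
theorem exists_eqLocus_baseChange {T W : Over S} (g : (yon S).obj T ⟶ F)
    (a b : (yon S).obj W ⟶ pullback (pieceπ hπ) g)
    (hab : a ≫ pullback.snd _ _ = b ≫ pullback.snd _ _) :
    ∃ E : W.left.Opens, IsClosed (E : Set ↥W.left) ∧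
      ∀ (T' : Over S) (h : T' ⟶ W),
        (yon S).map h ≫ a = (yon S).map h ≫ b ↔ Set.range h.left ⊆ (E : Set ↥W.left) := by
  obtain ⟨E, hE, hiff⟩ := exists_eqLocus hfl hfp hsep
    (a := a ≫ pullback.fst (pieceπ hπ) g) (b := b ≫ pullback.fst (pieceπ hπ) g)
    (by rw [Category.assoc, Category.assoc, pullback.condition, reassoc_of% hab])
  refine ⟨E, hE, fun T' h => ?_⟩
  rw [← hiff T' h]
  refine ⟨fun e => by rw [reassoc_of% e], fun e => pullback.hom_ext ?_ ?_⟩
  · rw [Category.assoc, Category.assoc, e]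
  · rw [Category.assoc, Category.assoc, hab]

include hfl hfp hsep in
/-- A chart of a fibre of the sheaf of pieces which is etale over the base is etale. -/
theorem isAlgSpace_of_pieceChart {T W : Over S} (g : (yon S).obj T ⟶ F)
    (l : (yon S).obj W ⟶ pullback (pieceπ hπ) g) (c : W ⟶ T) [Etale c.left]
    (hl : l ≫ pullback.snd _ _ = (yon S).map c) (hlift : LocLift l) :
    IsAlgSpace (pullback (pieceπ hπ) g) ∧ RepWith @Etale l ∧ RepWith @Surjective l := by
  have hP : IsPullback (pullback.fst c c).left (pullback.snd c c).left c.left c.left :=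
    (IsPullback.of_hasPullback c c).map (Over.forget S)
  have : Etale (pullback.fst c c).left := MorphismProperty.of_isPullback (P := @Etale) hP.flip inferInstance
  have : Etale (pullback.snd c c).left := MorphismProperty.of_isPullback (P := @Etale) hP inferInstance
  obtain ⟨E, -, hiff⟩ := exists_eqLocus_baseChange hfl hfp hsep g
    ((yon S).map (pullback.fst c c) ≫ l) ((yon S).map (pullback.snd c c) ≫ l)
    (by rw [Category.assoc, Category.assoc, hl, ← Functor.map_comp, ← Functor.map_comp, pullback.condition])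
  have := mono_openIncl (pullback c c) E
  have sqP := (IsPullback.of_hasPullback c c).map (yon S)
  let t := openIncl (pullback c c) E ≫ pullback.fst c c
  let s := openIncl (pullback c c) E ≫ pullback.snd c c
  have : IsOpenImmersion (openIncl (pullback c c) E).left := inferInstanceAs (IsOpenImmersion E.ι)
  have : Etale t.left := by rw [Over.comp_left]; infer_instance
  have : Etale s.left := by rw [Over.comp_left]; infer_instance
  have w : (yon S).map t ≫ l = (yon S).map s ≫ l := by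
    rw [Functor.map_comp, Functor.map_comp, Category.assoc, Category.assoc]
    exact (hiff _ _).2 (le_of_eq E.range_ι)
  have hc : ∀ k : PullbackCone l l, k.fst ≫ (yon S).map c = k.snd ≫ (yon S).map c := fun k => by
    rw [← hl, reassoc_of% k.condition]
  have key : ∀ k : PullbackCone l l,
      ∃ m, m ≫ (yon S).map (openIncl (pullback c c) E) = sqP.lift k.fst k.snd (hc k) := fun k =>
    exists_open_factor E _ fun T' a m hm => by
      refine (hiff T' m).1 ?_
      rw [← reassoc_of% hm, ← reassoc_of% hm, sqP.lift_fst_assoc, sqP.lift_snd_assoc, k.condition]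
  choose m hm using key
  have sq : IsPullback ((yon S).map t) ((yon S).map s) l l := by
    refine ⟨⟨w⟩, ⟨PullbackCone.IsLimit.mk _ m (fun k => ?_) (fun k => ?_) (fun k j h1 h2 => ?_)⟩⟩
    · rw [Functor.map_comp, reassoc_of% (hm k), sqP.lift_fst]
    · rw [Functor.map_comp, reassoc_of% (hm k), sqP.lift_snd]
    · rw [← cancel_mono ((yon S).map (openIncl (pullback c c) E)), hm]
      apply sqP.hom_ext
      · rw [sqP.lift_fst, Category.assoc, ← Functor.map_comp]; exact h1
      · rw [sqP.lift_snd, Category.assoc, ← Functor.map_comp]; exact h2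
  exact isAlgSpace_of_kernelPair hlift sq

include hfl hfp hsep hqf in
/-- A piece over a geometric point extends to an etale neighbourhood. -/
theorem exists_piece_nhd {T P : Over S} {Ω : Type u} [Field Ω] [IsAlgClosed Ω]
    (eP : P.left = Spec (CommRingCat.of Ω)) (g : (yon S).obj T ⟶ F) (τ₀ : P ⟶ T)
    (a : (yon S).obj P ⟶ pieceSheaf π hπ) (ha : a ≫ pieceπ hπ = (yon S).map τ₀ ≫ g)
    (hlft : RepWith @LocallyOfFiniteType π) :
    ∃ (T₂ : Over S) (d : T₂ ⟶ T) (t : P ⟶ T₂) (b : (yon S).obj T₂ ⟶ pieceSheaf π hπ),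
      IsAffine T₂.left ∧ Etale d.left ∧ t ≫ d = τ₀ ∧ b ≫ pieceπ hπ = (yon S).map d ≫ g ∧
      (yon S).map t ≫ b = a := by
  obtain ⟨P₀, hstr, rfl⟩ : ∃ (P₀ : Scheme.{u}) (h : P₀ ⟶ S), P = Over.mk h := ⟨P.left, P.hom, rfl⟩
  change P₀ = Spec (CommRingCat.of Ω) at eP
  subst eP
  obtain ⟨V, s, p, sq⟩ := exists_isPullback_of_rep hπ g
  have hs : IsSeparated s.left := hsep.property _ _ _ sq.flip
  have hsl : LocallyOfFiniteType s.left := hlft.property _ _ _ sq.flip
  have hsq : LocallyQuasiFinite s.left := hqf.property _ _ _ sq.flip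
  obtain ⟨V₀, s₀, p₀, sq₀⟩ := exists_isPullback_of_rep hπ ((yon S).map τ₀ ≫ g)
  obtain ⟨k₀, hk₀, hk₀'⟩ := exists_baseChange sq τ₀ sq₀
  have hg₀ : Good π ((yon S).map τ₀ ≫ g) (pieceSet a) := ha ▸ good_pieceSet a
  obtain ⟨O₀, hO₀, hO₀s, e₀, -⟩ := hg₀.piece_self sq₀
  let f₀ : V₀.left ⟶ Spec (CommRingCat.of Ω) := s₀.left
  have : LocallyQuasiFinite f₀ := MorphismProperty.of_isPullback (P := @LocallyQuasiFinite) hk₀' hsq
  have : LocallyOfFiniteType f₀ := MorphismProperty.of_isPullback (P := @LocallyOfFiniteType) hk₀' hsl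
  have : IsSeparated f₀ := MorphismProperty.of_isPullback (P := @IsSeparated) hk₀' hs
  have hclosed : ∀ v : ↥V₀.left, IsClosed ({v} : Set ↥V₀.left) := by
    have hd := f₀.isDiscrete_preimage_singleton (pt0 Ω)
    have e : f₀ ⁻¹' {pt0 Ω} = Set.univ :=
      Set.eq_univ_iff_forall.2 fun _ => Subsingleton.elim (α := PrimeSpectrum Ω) _ _
    have : DiscreteTopology ↥V₀.left := isDiscrete_univ_iff.1 (e ▸ hd)
    exact fun v => isClosed_discrete _
  let A : Set (Spec (CommRingCat.of Ω) ⟶ V.left) :=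
    (fun σ => σ ≫ k₀.left) '' {σ | σ ≫ f₀ = 𝟙 _ ∧ σ (pt0 Ω) ∈ O₀}
  have hAfin : A.Finite := by
    refine Set.Finite.image _ ?_
    have : IsFinite (O₀.ι ≫ f₀) := hO₀
    have hfin : (O₀ : Set ↥V₀.left).Finite := by
      have h1 : (Set.univ : Set ↥O₀.toScheme).Finite := by
        have := IsFinite.finite_preimage_singleton (O₀.ι ≫ f₀) (pt0 Ω)
        refine this.subset fun z _ => ?_
        exact Subsingleton.elim (α := PrimeSpectrum Ω) _ _
      have := h1.image O₀.ι
      rwa [Set.image_univ, Scheme.Opens.range_ι] at this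
    refine Set.Finite.of_finite_image (hfin.subset ?_) (f := fun σ : Spec (CommRingCat.of Ω) ⟶ V₀.left => σ (pt0 Ω)) ?_
    · rintro _ ⟨σ, hσ, rfl⟩
      exact hσ.2
    · intro σ hσ σ' hσ' e
      exact ext_of_apply_closedPoint_eq f₀ hσ.1 hσ'.1 e
  obtain ⟨T', τ, hT', hτ, t', ht', O, hO, hOiff⟩ := exists_etale_piece_set s.left τ₀.left A hAfin (by
    rintro _ ⟨σ, hσ, rfl⟩
    rw [Category.assoc, hk₀'.w]
    exact (Category.assoc _ _ _).symm.trans ((congrArg (· ≫ τ₀.left) hσ.1).trans (Category.id_comp _)))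
  let q := pullback.snd s.left τ
  have : Flat q := MorphismProperty.of_isPullback (P := @Flat) (IsPullback.of_hasPullback s.left τ)
    (hfl.property _ _ _ sq.flip)
  have : LocallyOfFinitePresentation q := MorphismProperty.of_isPullback (P := @LocallyOfFinitePresentation)
    (IsPullback.of_hasPullback s.left τ) (hfp.property _ _ _ sq.flip)
  let U₀ : T'.Opens := ⟨q '' (O : Set ↥(pullback s.left τ)), q.isOpenMap _ O.isOpen⟩
  have : IsFinite (O.ι ≫ q) := hO
  have : IsAffine T' := hT'
  have hU₀c : IsClosed (U₀ : Set ↥T') := by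
    change IsClosed (q '' (O : Set ↥(pullback s.left τ)))
    rw [← O.range_ι, ← Set.range_comp]
    exact (O.ι ≫ q).isClosedMap.isClosed_range
  have : IsClosedImmersion U₀.ι := IsClosedImmersion.of_isPreimmersion _ (by rw [U₀.range_ι]; exact hU₀c)
  have hU₀a : IsAffine U₀.toScheme := isAffine_of_isAffineHom U₀.ι
  let T₂ : Over S := Over.mk ((U₀.ι ≫ τ) ≫ T.hom)
  let d : T₂ ⟶ T := Over.homMk (U₀.ι ≫ τ) rfl
  let k₁ : V₀.left ⟶ pullback s.left τ := pullback.lift k₀.left (f₀ ≫ t') (by
    rw [Category.assoc, ht']; exact hk₀'.w)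
  have hk₁ : ∀ v : ↥V₀.left, k₁ v ∈ O ↔ v ∈ O₀ := by
    intro v
    let σ := pointOfClosedPoint f₀ v (hclosed v)
    have hσ : σ ≫ f₀ = 𝟙 _ := pointOfClosedPoint_comp _ _ _
    have hσv : σ (pt0 Ω) = v := pointOfClosedPoint_apply _ _ _ _
    have hy : (σ ≫ k₀.left) ≫ s.left = t' ≫ τ := by
      rw [ht', Category.assoc, hk₀'.w]
      exact (Category.assoc _ _ _).symm.trans ((congrArg (· ≫ τ₀.left) hσ).trans (Category.id_comp _))
    have e : σ ≫ k₁ = pullback.lift (σ ≫ k₀.left) t' hy := by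
      apply pullback.hom_ext
      · rw [Category.assoc, pullback.lift_fst, pullback.lift_fst]
      · rw [Category.assoc, pullback.lift_snd, pullback.lift_snd, reassoc_of% hσ]
    rw [← hσv, ← Scheme.Hom.comp_apply, e, hOiff]
    constructor
    · rintro ⟨σ', hσ', e'⟩
      have : σ' = σ := hk₀'.hom_ext e' (hσ'.1.trans hσ.symm)
      rw [← this]
      exact hσ'.2
    · intro h
      exact ⟨σ, ⟨hσ, h⟩, rfl⟩
  obtain ⟨w₀, -⟩ := hO₀s.surj (pt0 Ω)
  have hr : Set.range t' ⊆ Set.range U₀.ι := by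
    rw [U₀.range_ι]
    rintro _ ⟨x, rfl⟩
    refine ⟨k₁ (O₀.ι w₀), (hk₁ _).2 w₀.2, ?_⟩
    rw [← Scheme.Hom.comp_apply k₁, pullback.lift_snd, Scheme.Hom.comp_apply]
    exact congrArg _ (Subsingleton.elim (α := PrimeSpectrum Ω) _ _)
  let t : Over.mk hstr ⟶ T₂ := Over.homMk (IsOpenImmersion.lift U₀.ι t' hr) (by
    change IsOpenImmersion.lift U₀.ι t' hr ≫ (U₀.ι ≫ τ) ≫ T.hom = hstr
    rw [Category.assoc, IsOpenImmersion.lift_fac_assoc, reassoc_of% ht', Over.w τ₀]
    rfl)
  have htd : t ≫ d = τ₀ := Over.OverMorphism.ext (by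
    change IsOpenImmersion.lift U₀.ι t' hr ≫ U₀.ι ≫ τ = τ₀.left
    rw [IsOpenImmersion.lift_fac_assoc, ht'])
  obtain ⟨V₂, s₂, p₂, sq₂⟩ := exists_isPullback_of_rep hπ ((yon S).map d ≫ g)
  obtain ⟨k₂, hk₂, hk₂'⟩ := exists_baseChange sq d sq₂
  let m : V₂.left ⟶ pullback s.left τ := pullback.lift k₂.left (s₂.left ≫ U₀.ι) (by
    rw [hk₂'.w, Category.assoc]; rfl)
  have sqm : IsPullback m s₂.left q U₀.ι := by
    refine IsPullback.of_right ?_ (pullback.lift_snd _ _ _) (IsPullback.of_hasPullback s.left τ)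
    rw [pullback.lift_fst]
    exact hk₂'
  let O₂ : V₂.left.Opens := m ⁻¹ᵁ O
  have hgood : Good π ((yon S).map d ≫ g) (schLift s₂ p₂ '' O₂) := by
    refine ⟨V₂, s₂, p₂, sq₂, O₂, IsPiece.baseChange sqm hO, ⟨fun x => ?_⟩, rfl⟩
    obtain ⟨o, ho, hox⟩ := x.2
    obtain ⟨w, hw, hwx⟩ := Scheme.exists_preimage_of_isPullback sqm o x hox
    exact ⟨⟨w, by change m w ∈ O; rw [hw]; exact ho⟩, hwx⟩
  obtain ⟨b, hb, hbZ⟩ := exists_pieceHom hπ hgood
  refine ⟨T₂, d, t, b, hU₀a, ?_, htd, hb, ?_⟩
  · change Etale (U₀.ι ≫ τ)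
    infer_instance
  · have eg : ((yon S).map t ≫ b) ≫ pieceπ hπ = (yon S).map τ₀ ≫ g := by
      rw [Category.assoc, hb, ← Functor.map_comp_assoc, htd]
    refine pieceHom_ext (eg.trans ha.symm) ?_
    obtain ⟨k₃, hk₃, hk₃'⟩ := exists_baseChange sq₂ t (s' := s₀) (p' := p₀) (by
      rwa [← Functor.map_comp_assoc, htd])
    have := mono_schLift sq
    have e32 : k₃.left ≫ k₂.left = k₀.left := by
      rw [← cancel_mono (schLift s p), Category.assoc, hk₂.w, reassoc_of% hk₃.w, hk₀.w, ← htd,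
        mapProd_comp]
    have e31 : k₃.left ≫ m = k₁ := by
      apply pullback.hom_ext
      · rw [Category.assoc, pullback.lift_fst, pullback.lift_fst, e32]
      · rw [Category.assoc, pullback.lift_snd, pullback.lift_snd, reassoc_of% hk₃'.w]
        change f₀ ≫ IsOpenImmersion.lift U₀.ι t' hr ≫ U₀.ι = f₀ ≫ t'
        rw [IsOpenImmersion.lift_fac]
    rw [pieceSet_map, hbZ, ← e₀, ← image_preimage_of_isPullback hk₃]
    congr 1
    ext v
    change m (k₃.left v) ∈ O ↔ v ∈ O₀
    rw [← Scheme.Hom.comp_apply, e31]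
    exact hk₁ v

include hfl hfp hsep hqf in
set_option maxHeartbeats 400000 in
set_option backward.isDefEq.respectTransparency.types false in
/-- The fibres of the sheaf of pieces have etale charts. -/
theorem exists_pieceChart {T : Over S} (g : (yon S).obj T ⟶ F)
    (hlft : RepWith @LocallyOfFiniteType π) :
    ∃ (W : Over S) (c : W ⟶ T) (l : (yon S).obj W ⟶ pullback (pieceπ hπ) g),
      Etale c.left ∧ l ≫ pullback.snd _ _ = (yon S).map c ∧ LocLift l := by
  let eS := equivSmallModel.{u} T.left.AffineEtale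
  let Y := fun x => (Scheme.AffineEtale.Spec T.left).obj (eS.inverse.obj x)
  let Wx : SmallModel.{u} T.left.AffineEtale → Over S := fun x => Over.mk ((Y x).hom ≫ T.hom)
  let cx : ∀ x, Wx x ⟶ T := fun x => Over.homMk (Y x).hom rfl
  let ι := Σ x, {Z : Set ↥(pullback (Wx x).hom U.hom) // Good π ((yon S).map (cx x) ≫ g) Z}
  let V : ι → Over S := fun i => Wx i.1
  choose ai hai haZ using fun i : ι => exists_pieceHom hπ i.2.2
  obtain ⟨A, hA⟩ := sigma_glue V ai
  let c : sigmaOver V ⟶ T := sigmaOut fun i => cx i.1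
  have hce : Etale c.left :=
    IsZariskiLocalAtSource.sigmaDesc (P := @Etale) fun i => (Y i.1).prop
  have hAc : A ≫ pieceπ hπ = (yon S).map c ≫ g := by
    refine open_cover_hom_ext V (sigmaIn V)
      (fun i => inferInstanceAs (IsOpenImmersion (Sigma.ι (fun i => (V i).left) i))) (fun w => ?_) fun i => ?_
    · obtain ⟨⟨i, v⟩, hv⟩ := (sigmaMk (fun i => (V i).left)).surjective w
      exact ⟨i, v, by rw [← hv, sigmaMk_mk]; rfl⟩
    · rw [reassoc_of% (hA i), hai, ← Functor.map_comp_assoc, sigmaIn_out]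
  let l := pullback.lift A ((yon S).map c) hAc
  refine ⟨sigmaOver V, c, l, hce, pullback.lift_snd _ _ _, fun Q e => ?_⟩
  obtain ⟨m, hm⟩ := (yon S).map_surjective (e ≫ pullback.snd _ _)
  obtain ⟨E, -, hiff⟩ := exists_eqLocus_baseChange hfl hfp hsep g
    ((yon S).map (pullback.fst m c) ≫ e) ((yon S).map (pullback.snd m c) ≫ l)
    (by rw [Category.assoc, Category.assoc, ← hm, pullback.lift_snd, ← Functor.map_comp, ← Functor.map_comp,
      pullback.condition])
  have hP : IsPullback (pullback.fst m c).left (pullback.snd m c).left m.left c.left :=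
    (IsPullback.of_hasPullback m c).map (Over.forget S)
  have : Etale (pullback.fst m c).left := MorphismProperty.of_isPullback (P := @Etale) hP.flip hce
  refine ⟨openOver (pullback m c) E, openIncl _ E ≫ pullback.fst m c,
    (yon S).map (openIncl _ E) ≫ (yon S).map (pullback.snd m c), ?_, ?_⟩
  swap
  · rw [Functor.map_comp, Category.assoc, Category.assoc]
    exact ((hiff _ _).2 (le_of_eq E.range_ι)).symm
  refine etale_surjective_le_fppfSurj _ ⟨?_, ⟨fun x => ?_⟩⟩
  · change Etale (E.ι ≫ (pullback.fst m c).left)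
    infer_instance
  let Ω := AlgebraicClosure (Q.left.residueField x)
  let σ : Spec (CommRingCat.of Ω) ⟶ Q.left :=
    Spec.map (CommRingCat.ofHom (algebraMap (Q.left.residueField x) Ω)) ≫ Q.left.fromSpecResidueField x
  let P : Over S := Over.mk (σ ≫ Q.hom)
  let σ' : P ⟶ Q := Over.homMk σ rfl
  obtain ⟨T₂, d, t, b, hT₂, hd, htd, hb, hba⟩ := exists_piece_nhd hfl hfp hsep hqf (P := P) (Ω := Ω) rfl g
    (σ' ≫ m) ((yon S).map σ' ≫ e ≫ pullback.fst _ _)
    (by rw [Category.assoc, Category.assoc, pullback.condition, ← reassoc_of% hm, ← Functor.map_comp_assoc]) hlft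
  have : IsAffine T₂.left := hT₂
  have : Etale (T₂.left.isoSpec.inv ≫ d.left) := inferInstance
  let j := (Scheme.AffineEtale.Spec T.left).mapIso
    (eS.unitIso.app (Scheme.AffineEtale.mk (T₂.left.isoSpec.inv ≫ d.left)))
  let x₁ := eS.functor.obj (Scheme.AffineEtale.mk (T₂.left.isoSpec.inv ≫ d.left))
  let u₁ : T₂.left ⟶ (Y x₁).left := T₂.left.isoSpec.hom ≫ j.hom.left
  let u₂ : (Y x₁).left ⟶ T₂.left := j.inv.left ≫ T₂.left.isoSpec.inv
  have hu₂ : u₂ ≫ d.left = (Y x₁).hom := by
    rw [Category.assoc]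
    exact MorphismProperty.Over.w j.inv
  have hu₁₂ : u₁ ≫ u₂ = 𝟙 _ := by
    have h1 : j.hom.left ≫ j.inv.left = 𝟙 _ := congrArg (fun f => f.left) j.hom_inv_id
    exact (Category.assoc _ _ _).trans (((congrArg (T₂.left.isoSpec.hom ≫ ·)
      ((Category.assoc _ _ _).symm.trans ((congrArg (· ≫ T₂.left.isoSpec.inv) h1).trans (Category.id_comp _))))).trans
      T₂.left.isoSpec.hom_inv_id)
  let r₂ : Wx x₁ ⟶ T₂ := Over.homMk u₂ (by
    change u₂ ≫ T₂.hom = (Y x₁).hom ≫ T.hom
    exact ((congrArg (· ≫ T.hom) hu₂).symm.trans ((Category.assoc _ _ _).trans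
      (congrArg (u₂ ≫ ·) (Over.w d)))).symm)
  let r₁ : T₂ ⟶ Wx x₁ := Over.homMk u₁ (by
    change u₁ ≫ (Y x₁).hom ≫ T.hom = T₂.hom
    exact (congrArg (u₁ ≫ ·) ((congrArg (· ≫ T.hom) hu₂).symm.trans ((Category.assoc _ _ _).trans
      (congrArg (u₂ ≫ ·) (Over.w d))))).trans ((Category.assoc _ _ _).symm.trans
        ((congrArg (· ≫ T₂.hom) hu₁₂).trans (Category.id_comp _))))
  have hr₂ : r₂ ≫ d = cx x₁ := Over.OverMorphism.ext hu₂
  have hr₁₂ : r₁ ≫ r₂ = 𝟙 _ := Over.OverMorphism.ext hu₁₂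
  have hZ : Good π ((yon S).map (cx x₁) ≫ g) (pieceSet ((yon S).map r₂ ≫ b)) := by
    have := good_pieceSet ((yon S).map r₂ ≫ b)
    rwa [Category.assoc, hb, ← Functor.map_comp_assoc, hr₂] at this
  let i : ι := ⟨x₁, _, hZ⟩
  have hi : ai i = (yon S).map r₂ ≫ b := pieceHom_ext (by
    rw [hai, Category.assoc, hb, ← Functor.map_comp_assoc, hr₂]) (haZ i)
  let w : P ⟶ sigmaOver V := t ≫ r₁ ≫ sigmaIn V i
  have hwc : σ' ≫ m = w ≫ c := by
    rw [Category.assoc, Category.assoc, sigmaIn_out, ← hr₂, ← Category.assoc r₁, hr₁₂, Category.id_comp, htd]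
  let z : P ⟶ pullback m c := pullback.lift σ' w hwc
  have hz : Set.range z.left ⊆ (E : Set ↥(pullback m c).left) := by
    refine (hiff P z).1 ?_
    rw [← Functor.map_comp_assoc, ← Functor.map_comp_assoc, pullback.lift_fst, pullback.lift_snd]
    apply pullback.hom_ext
    · rw [Category.assoc, Category.assoc, pullback.lift_fst, ← hba, Functor.map_comp, Functor.map_comp,
        Category.assoc, Category.assoc, hA i, hi, ← (yon S).map_comp_assoc r₁, hr₁₂,
        CategoryTheory.Functor.map_id, Category.id_comp]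
    · rw [Category.assoc, Category.assoc, pullback.lift_snd, ← hm, ← Functor.map_comp, ← Functor.map_comp, hwc]
  let y : ↥(openOver (pullback m c) E).left := (⟨z.left (pt0 Ω), hz ⟨_, rfl⟩⟩ : ↥E.toScheme)
  refine ⟨y, ?_⟩
  rw [Over.comp_left, Scheme.Hom.comp_apply]
  have e1 : z.left ≫ (pullback.fst m c).left = σ := congrArg CommaMorphism.left (pullback.lift_fst σ' w hwc)
  have e2 : (openIncl (pullback m c) E).left y = z.left (pt0 Ω) := rfl
  rw [e2]
  refine (Scheme.Hom.comp_apply _ _ _).symm.trans ?_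
  exact (congrArg (fun f : Spec (CommRingCat.of Ω) ⟶ Q.left => f (pt0 Ω)) e1).trans
    (Scheme.fromSpecResidueField_apply x _)

end

end Groth.Agent.SpPts86
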