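import Groth.Agent.SpPts86.Slice
import Groth.Agent.S5223
import Groth.Agent.S0386
import Mathlib.AlgebraicGeometry.ZariskisMainTheorem
import Mathlib.AlgebraicGeometry.Morphisms.UniversallyOpen

/-!
The flat quasi-finite locus of a slice descends to the slice.
-/

universe u

set_option autoImplicit false

open CategoryTheory CategoryTheory.Limits AlgebraicGeometry

namespace Groth.Agent.SpPts86

variable {X Y Z R : Scheme.{u}}

/-- Flat and quasi-finite at a point. -/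
def FlatQFAt (f : X ⟶ Y) (x : ↥X) : Prop := (f.stalkMap x).hom.Flat ∧ f.QuasiFiniteAt x

theorem isOpen_flatQFAt (f : X ⟶ Y) [LocallyOfFinitePresentation f] :
    IsOpen {x | FlatQFAt f x} :=
  (Groth.Agent.S0386.result f).inter f.isOpen_quasiFiniteAt

theorem flatQFAt_of_isPullback {X' Y' : Scheme.{u}} {p : X' ⟶ X} {m : X' ⟶ Y'} {f : X ⟶ Y} {t : Y' ⟶ Y}
    (sq : IsPullback p m f t) [Flat t] [LocallyOfFiniteType f] (y : ↥X') :
    FlatQFAt m y ↔ FlatQFAt f (p y) :=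
  and_congr (Groth.Agent.S5223.result sq y) (Set.ext_iff.1 (Groth.Agent.S9389.result f t p m sq) y)

theorem flatQFAt_comp_iff (j : X ⟶ Y) [IsOpenImmersion j] (f : Y ⟶ Z) (x : ↥X) :
    FlatQFAt (j ≫ f) x ↔ FlatQFAt f (j x) :=
  and_congr (Unr55.stalkMap_iff_of_square RingHom.Flat.respectsIso f (j ≫ f) j (𝟙 Z)
    (Category.comp_id _).symm x).symm Scheme.Hom.quasiFiniteAt_comp_iff_of_isOpenImmersion

theorem flat_locallyQuasiFinite_of_forall (f : X ⟶ Y) [LocallyOfFiniteType f] (h : ∀ x, FlatQFAt f x) :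
    Flat f ∧ LocallyQuasiFinite f := by
  refine ⟨(Flat.iff_flat_stalkMap f).2 fun x => (h x).1, locallyQuasiFinite_iff_isDiscrete_preimage_singleton.2 fun y => ?_⟩
  constructor
  refine discreteTopology_iff_isOpen_singleton.2 fun ⟨x, hx⟩ => ?_
  obtain rfl : f x = y := hx
  have h1 := Scheme.Hom.quasiFiniteAt_iff_isOpen_singleton_asFiber.1 (h x).2
  rw [← (f.fiberHomeo (f x)).isOpen_image] at h1
  convert h1 using 1
  rw [Set.image_singleton]; simp [Scheme.Hom.asFiber]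

/-- A locus which is saturated for the fibres of an open map is the preimage of an open set. -/
theorem exists_open_saturated {ρ : X ⟶ Z} (hρ : IsOpenMap ρ) (f : X ⟶ Y) [LocallyOfFinitePresentation f]
    {p₁ p₂ : R ⟶ X} (hsurj : ∀ x x', ρ x = ρ x' → ∃ y, p₁ y = x ∧ p₂ y = x')
    (h : ∀ y, FlatQFAt f (p₁ y) ↔ FlatQFAt f (p₂ y)) :
    ∃ Z₀ : Z.Opens, ∀ x, ρ x ∈ Z₀ ↔ FlatQFAt f x := by
  refine ⟨⟨ρ '' {x | FlatQFAt f x}, hρ _ (isOpen_flatQFAt f)⟩, fun x => ⟨?_, fun hx => ⟨x, hx, rfl⟩⟩⟩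
  rintro ⟨x', hx', e⟩
  obtain ⟨y, rfl, rfl⟩ := hsurj x' x e
  exact (h y).1 hx'

end Groth.Agent.SpPts86
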