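import Groth.Agent.SpPts86.Charts
import Groth.Agent.SpPts86.Subspace
import Groth.Agent.S3843
import Groth.Prelude.Def_AlgSpSub
import Mathlib.AlgebraicGeometry.Morphisms.Flat
import Mathlib.RingTheory.LocalRing.ResidueField.Basic

/-!
Schematically dense open subspaces.
-/

universe u

set_option autoImplicit false
set_option backward.isDefEq.respectTransparency false

open CategoryTheory CategoryTheory.Limits AlgebraicGeometry
open AlgSp Groth.Agent.SpFP87

namespace Groth.Agent.SpPts86

theorem app_injective_of_flat_surjective {V' V : Scheme.{u}} (g : V' ⟶ V) [Flat g] [Surjective g]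
    (O : V.Opens) : Function.Injective (g.app O) := by
  rw [injective_iff_map_eq_zero]
  intro s hs
  refine TopCat.Presheaf.section_ext V.sheaf O s 0 fun x hx => ?_
  obtain ⟨x', rfl⟩ := g.surjective x
  letI := (g.stalkMap x').hom.toAlgebra
  have : IsLocalHom (algebraMap (V.presheaf.stalk (g x')) (V'.presheaf.stalk x')) :=
    inferInstanceAs (IsLocalHom (g.stalkMap x').hom)
  have : Module.Flat (V.presheaf.stalk (g x')) (V'.presheaf.stalk x') := Flat.stalkMap g x'
  have := Module.FaithfullyFlat.of_flat_of_isLocalHom (A := V.presheaf.stalk (g x')) (B := V'.presheaf.stalk x')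
  apply FaithfulSMul.algebraMap_injective (V.presheaf.stalk (g x')) (V'.presheaf.stalk x')
  show g.stalkMap x' (V.presheaf.germ O (g x') hx s) = g.stalkMap x' (V.presheaf.germ O (g x') hx 0)
  rw [Scheme.Hom.germ_stalkMap_apply, hs, map_zero, map_zero, map_zero]

/-- Schematic density descends along faithfully flat morphisms. -/
theorem isSchematicallyDense_of_preimage {V' V : Scheme.{u}} (g : V' ⟶ V) [Flat g] [Surjective g]
    (W : V.Opens) (h : CInt.IsSchematicallyDense (g ⁻¹ᵁ W)) : CInt.IsSchematicallyDense W := by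
  intro O
  rw [injective_iff_map_eq_zero]
  intro s hs
  apply app_injective_of_flat_surjective g O
  rw [map_zero]
  refine (injective_iff_map_eq_zero _).1 (h (g ⁻¹ᵁ O)) _ ?_
  have h2 : V'.presheaf.map _ (g.app O s) = g.app (O ⊓ W) (V.presheaf.map (homOfLE (inf_le_left : O ⊓ W ≤ O)).op s) :=
    (ConcreteCategory.congr_hom (g.naturality (homOfLE (inf_le_left : O ⊓ W ≤ O)).op) s).symm
  exact h2.trans ((congrArg _ hs).trans (map_zero _))

theorem isSchematicallyDense_inf {V : Scheme.{u}} {A B : V.Opens} (hA : CInt.IsSchematicallyDense A)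
    (hB : CInt.IsSchematicallyDense B) : CInt.IsSchematicallyDense (A ⊓ B) := by
  intro O
  rw [injective_iff_map_eq_zero]
  intro s hs
  refine (injective_iff_map_eq_zero _).1 (hA O) s ((injective_iff_map_eq_zero _).1 (hB (O ⊓ A)) _ ?_)
  have h2 := congrArg (V.presheaf.map (eqToHom (inf_assoc O A B)).op) hs
  rw [map_zero, ← ConcreteCategory.comp_apply, ← Functor.map_comp] at h2
  rw [← ConcreteCategory.comp_apply, ← Functor.map_comp]
  exact h2

variable {S : Scheme.{u}} {G F : Sp S}

/-- The inverse image of an open subspace in a chart, as an open subscheme. -/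
theorem exists_isPullback_opens {j : G ⟶ F} (hj : RepWith @IsOpenImmersion j) {V : Over S}
    (φ : (yon S).obj V ⟶ F) :
    ∃ (W : V.left.Opens) (fst : (yon S).obj (Over.mk (W.ι ≫ V.hom)) ⟶ G),
      IsPullback fst ((yon S).map (Over.homMk W.ι rfl : Over.mk (W.ι ≫ V.hom) ⟶ V)) j φ ∧
        (W : Set ↥V.left) = Points.ofPt φ ⁻¹' Set.range (Points.map j) := by
  obtain ⟨V', snd, fst, sq⟩ := hj.1 φ
  have : IsOpenImmersion snd.left := hj.2 _ fst snd sq
  let W := snd.left.opensRange
  let i := IsOpenImmersion.isoOfRangeEq W.ι snd.left (by rw [Scheme.Opens.range_ι]; rfl)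
  have hi : i.hom ≫ snd.left = W.ι := IsOpenImmersion.isoOfRangeEq_hom_fac _ _ _
  let e : Over.mk (W.ι ≫ V.hom) ≅ V' := Over.isoMk i (by
    show i.hom ≫ V'.hom = W.ι ≫ V.hom
    rw [← hi, Category.assoc, Over.w snd])
  refine ⟨W, (yon S).map e.hom ≫ fst, ?_, ?_⟩
  · refine IsPullback.of_iso sq ((yon S).mapIso e.symm) (Iso.refl _) (Iso.refl _) (Iso.refl _) ?_ ?_
      (by simp) (by simp)
    · simp [← Functor.map_comp_assoc]
    · rw [Iso.refl_hom, Category.comp_id, Functor.mapIso_hom, ← Functor.map_comp]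
      congr 1
      apply Over.OverMorphism.ext
      show snd.left = i.inv ≫ W.ι
      rw [← hi, Iso.inv_hom_id_assoc]
  · rw [preimage_ofPt_range_map sq]
    rfl

theorem coe_of_isPullback {j : G ⟶ F} {V : Over S} {φ : (yon S).obj V ⟶ F} {W : V.left.Opens}
    {fst : (yon S).obj (Over.mk (W.ι ≫ V.hom)) ⟶ G}
    (sq : IsPullback fst ((yon S).map (Over.homMk W.ι rfl : Over.mk (W.ι ≫ V.hom) ⟶ V)) j φ) :
    (W : Set ↥V.left) = Points.ofPt φ ⁻¹' Set.range (Points.map j) := by
  rw [preimage_ofPt_range_map sq]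
  exact (Scheme.Opens.range_ι W).symm

/-- An open subspace dense on one atlas is dense on every chart. -/
theorem isSchematicallyDense_chart (hF : IsAlgSpace F) {j : G ⟶ F} (hj : IsSchDense j) {V : Over S}
    {φ : (yon S).obj V ⟶ F} (hφ : RepWith @Etale φ) (W : V.left.Opens)
    (hW : (W : Set ↥V.left) = Points.ofPt φ ⁻¹' Set.range (Points.map j)) :
    CInt.IsSchematicallyDense W := by
  obtain ⟨-, V₀, φ₀, W₀, fst₀, hφ₀, hs₀, sq₀, hd⟩ := hj
  obtain ⟨R, q, r, hq, hr, sq, -, hrs, -⟩ := exists_common_chart hF hφ₀ hφ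
  have := hq
  have := hr
  have := hrs hs₀
  refine isSchematicallyDense_of_preimage r.left W ?_
  have e : r.left ⁻¹ᵁ W = q.left ⁻¹ᵁ W₀ := by
    ext z
    show r.left z ∈ (W : Set ↥V.left) ↔ q.left z ∈ (W₀ : Set ↥V₀.left)
    rw [hW, coe_of_isPullback sq₀, Set.mem_preimage, Set.mem_preimage, ofPt_eq_of_isPullback sq z]
  rw [e]
  exact S3843.result q.left W₀ hd

end Groth.Agent.SpPts86
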