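import Groth.Agent.SpPts86.Codim
import Groth.Agent.SpFP87.EtLocInst
import Groth.Prelude.Def_AlgSpDec
import Groth.Prelude.Def_AlgSpMor5

/-!
Properties of morphisms at points do not depend on the chart diagram.
-/

universe u

set_option autoImplicit false

open CategoryTheory CategoryTheory.Limits AlgebraicGeometry Topology
open AlgSp Groth.Agent.SpFP87

namespace Groth.Agent.SpPts86

variable {S : Scheme.{u}} {X Y : Sp S}

/-- A property of pointed morphisms invariant along etale squares. -/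
def EtInv (Q : ∀ (U V : Scheme.{u}), (U ⟶ V) → ↥U → Prop) : Prop :=
  ∀ {U U' V V' : Scheme.{u}} (h : U ⟶ V) (h' : U' ⟶ V') (a : U' ⟶ U) (b : V' ⟶ V),
    Etale a → Etale b → h' ≫ b = a ≫ h → ∀ u' : U', Q U V h (a u') ↔ Q U' V' h' u'

/-- Two chart diagrams are dominated by a third one through any two points over the same point. -/
theorem exists_roof (hX : IsAlgSpace X) (hY : IsAlgSpace Y) {f : X ⟶ Y} {U V U' V' : Over S}
    {a : (yon S).obj U ⟶ X} {b : (yon S).obj V ⟶ Y} {h : U ⟶ V}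
    {a' : (yon S).obj U' ⟶ X} {b' : (yon S).obj V' ⟶ Y} {h' : U' ⟶ V'}
    (ha : RepWith @Etale a) (hb : RepWith @Etale b) (w : a ≫ f = (yon S).map h ≫ b)
    (ha' : RepWith @Etale a') (hb' : RepWith @Etale b') (w' : a' ≫ f = (yon S).map h' ≫ b')
    {u : ↥U.left} {u' : ↥U'.left} (e : Points.ofPt a u = Points.ofPt a' u') :
    ∃ (W W' : Over S) (g : W ⟶ W') (p : W ⟶ U) (q : W ⟶ U') (r : W' ⟶ V) (s : W' ⟶ V') (z : ↥W.left),
      Etale p.left ∧ Etale q.left ∧ Etale r.left ∧ Etale s.left ∧ g.left ≫ r.left = p.left ≫ h.left ∧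
      g.left ≫ s.left = q.left ≫ h'.left ∧ p.left z = u ∧ q.left z = u' := by
  obtain ⟨W, p, q, hp, hq, sq, -, -, -⟩ := exists_common_chart hX ha ha'
  obtain ⟨W', r, s, hr, hs, sq', -, -, -⟩ := exists_common_chart hY hb hb'
  obtain ⟨z, hz1, hz2⟩ := exists_pt_common_chart sq u u' e
  obtain ⟨g, hg⟩ := (yon S).map_surjective (sq'.lift ((yon S).map (p ≫ h)) ((yon S).map (q ≫ h')) (by
    rw [Functor.map_comp, Functor.map_comp, Category.assoc, Category.assoc, ← w, ← w', ← Category.assoc,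
      sq.w, Category.assoc]))
  refine ⟨W, W', g, p, q, r, s, z, hp, hq, hr, hs, ?_, ?_, hz1, hz2⟩
  · have : g ≫ r = p ≫ h := (yon S).map_injective (by rw [Functor.map_comp, hg, sq'.lift_fst])
    exact congrArg CommaMorphism.left this
  · have : g ≫ s = q ≫ h' := (yon S).map_injective (by rw [Functor.map_comp, hg, sq'.lift_snd])
    exact congrArg CommaMorphism.left this

theorem forall_diagram_of_hasAtMor (hX : IsAlgSpace X) (hY : IsAlgSpace Y) {f : X ⟶ Y}
    {Q : ∀ (U V : Scheme.{u}), (U ⟶ V) → ↥U → Prop} (hQ : EtInv Q) {x : Points X} (hx : HasAtMor Q f x)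
    {U V : Over S} {a : (yon S).obj U ⟶ X} {b : (yon S).obj V ⟶ Y} {h : U ⟶ V}
    (ha : RepWith @Etale a) (hb : RepWith @Etale b) (w : a ≫ f = (yon S).map h ≫ b) {u : ↥U.left}
    (hu : Points.ofPt a u = x) : Q U.left V.left h.left u := by
  obtain ⟨U', V', a', b', h', u', ha', hb', w', hu', hq⟩ := hx
  obtain ⟨W, W', g, p, q, r, s, z, hp, hq', hr, hs, e1, e2, hz1, hz2⟩ :=
    exists_roof hX hY ha hb w ha' hb' w' (hu.trans hu'.symm)
  rw [← hz1, hQ h.left g.left p.left r.left hp hr e1 z]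
  rw [← hz2, hQ h'.left g.left q.left s.left hq' hs e2 z] at hq
  exact hq

theorem exists_diagram_through (hX : IsAlgSpace X) (hY : IsAlgSpace Y) (f : X ⟶ Y) (x : Points X) :
    ∃ (U V : Over S) (a : (yon S).obj U ⟶ X) (b : (yon S).obj V ⟶ Y) (h : U ⟶ V) (u : ↥U.left),
      RepWith @Etale a ∧ RepWith @Etale b ∧ a ≫ f = (yon S).map h ≫ b ∧ Points.ofPt a u = x := by
  obtain ⟨V, b, hb, hbs⟩ := hY.atlas
  obtain ⟨U, a, h, ha, has, w⟩ := exists_compatible_chart f hX hY.diag hb hbs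
  obtain ⟨u, hu⟩ := surjective_ofPt has x
  exact ⟨U, V, a, b, h, u, ha, hb, w, hu⟩

theorem hasAtMor_iff_forall (hX : IsAlgSpace X) (hY : IsAlgSpace Y) {f : X ⟶ Y}
    {Q : ∀ (U V : Scheme.{u}), (U ⟶ V) → ↥U → Prop} (hQ : EtInv Q) (x : Points X) :
    HasAtMor Q f x ↔ ∀ (U V : Over S) (a : (yon S).obj U ⟶ X) (b : (yon S).obj V ⟶ Y) (h : U ⟶ V) (u : ↥U.left),
      RepWith @Etale a → RepWith @Etale b → a ≫ f = (yon S).map h ≫ b → Points.ofPt a u = x →
        Q U.left V.left h.left u := by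
  refine ⟨fun hx U V a b h u ha hb w hu => forall_diagram_of_hasAtMor hX hY hQ hx ha hb w hu, fun H => ?_⟩
  obtain ⟨U, V, a, b, h, u, ha, hb, w, hu⟩ := exists_diagram_through hX hY f x
  exact ⟨U, V, a, b, h, u, ha, hb, w, hu, H U V a b h u ha hb w hu⟩

theorem etInv_fibreDim (p : WithBot ℕ∞ → Prop) :
    EtInv fun _ _ h u => p (FlatMor.fibreDimAt h u) := fun h h' a b ha hb comm u' => by
  have := ha; have := hb
  exact iff_of_eq (congrArg p (Desc59.EtaleDim.fibreDimAt_eq h h' a b comm u'))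

/-- A morphism has `P` near a point of the source. -/
def NearPt (P : MorphismProperty Scheme.{u}) : ∀ (U V : Scheme.{u}), (U ⟶ V) → ↥U → Prop :=
  fun U _ h u => ∃ W : U.Opens, u ∈ W ∧ P (W.ι ≫ h)

theorem etInv_nearPt (P : MorphismProperty Scheme.{u}) [EtLoc P] : EtInv (NearPt P) := by
  intro U U' V V' h h' a b ha hb comm u'
  constructor
  · rintro ⟨W, hW, hP⟩
    let W' : U'.Opens := a ⁻¹ᵁ W
    refine ⟨W', hW, EtLoc.of_comp_etale _ b hb ?_⟩
    rw [Category.assoc, comm, ← Category.assoc, ← morphismRestrict_ι a W, Category.assoc]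
    exact P.comp_mem _ _ (EtLoc.of_etale _ inferInstance) hP
  · rintro ⟨W', hW', hP⟩
    have he : Etale (W'.ι ≫ a) := inferInstance
    let O : U.Opens := ⟨Set.range (W'.ι ≫ a), (W'.ι ≫ a).isOpenMap.isOpen_range⟩
    let c : W'.toScheme ⟶ O.toScheme := IsOpenImmersion.lift O.ι (W'.ι ≫ a)
      (by rintro _ ⟨z, rfl⟩; exact ⟨⟨_, z, rfl⟩, rfl⟩)
    have hc : c ≫ O.ι = W'.ι ≫ a := IsOpenImmersion.lift_fac _ _ _
    have : Etale c := by
      have : Etale (c ≫ O.ι) := hc ▸ he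
      exact Etale.of_comp c O.ι
    have : Surjective c := ⟨fun y => by
      obtain ⟨z, hz⟩ : y.1 ∈ Set.range (W'.ι ≫ a) := y.2
      refine ⟨z, O.ι.injective ?_⟩
      rw [← Scheme.Hom.comp_apply, hc]
      exact hz⟩
    refine ⟨O, ⟨⟨u', hW'⟩, rfl⟩, EtLoc.of_cover c _ inferInstance inferInstance ?_⟩
    rw [reassoc_of% hc, ← comm, ← Category.assoc]
    exact P.comp_mem _ _ hP (EtLoc.of_etale _ hb)

end Groth.Agent.SpPts86
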