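import Groth.Agent.SpPts86.HasAtMorInv
import Groth.Agent.FibDim94.BaseChange

/-!
Properties of morphisms at points and base change.
-/

universe u

set_option autoImplicit false

open CategoryTheory CategoryTheory.Limits AlgebraicGeometry Topology
open AlgSp Groth.Agent.SpFP87

namespace Groth.Agent.SpPts86

variable {S : Scheme.{u}} {X Y X' Y' : Sp S}

theorem isPullback_left_of_yon {A B C D : Over S} {p : A ⟶ B} {q : A ⟶ C} {r : B ⟶ D} {s : C ⟶ D}
    (h : IsPullback ((yon S).map p) ((yon S).map q) ((yon S).map r) ((yon S).map s)) :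
    IsPullback p.left q.left r.left s.left :=
  (IsPullback.of_map (yon S)
    ((yon S).map_injective (by rw [Functor.map_comp, Functor.map_comp]; exact h.w)) h).map (Over.forget S)

theorem hasAtMor_baseChange_iff (P : MorphismProperty Scheme.{u}) [EtLoc P]
    {Q : ∀ (U V : Scheme.{u}), (U ⟶ V) → ↥U → Prop} (hQ : EtInv Q)
    (hbc : ∀ {A B C D : Scheme.{u}} (p : A ⟶ B) (q : A ⟶ C) (f : B ⟶ D) (g : C ⟶ D),
      IsPullback p q f g → P f → ∀ a : A, Q A C q a ↔ Q B D f (p a))
    {fst : X' ⟶ X} {snd : X' ⟶ Y'} {f : X ⟶ Y} {g : Y' ⟶ Y} (sq : IsPullback fst snd f g)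
    (hX : IsAlgSpace X) (hY : IsAlgSpace Y) (hY' : IsAlgSpace Y') (hf : LocP P f) (x' : Points X') :
    HasAtMor Q snd x' ↔ HasAtMor Q f (Points.map fst x') := by
  obtain ⟨V, b, hb, hbs⟩ := hY.atlas
  obtain ⟨U, a, h, ha, has, w⟩ := exists_compatible_chart f hX hY.diag hb hbs
  obtain ⟨V', b', k, hb', hbs', w'⟩ := exists_compatible_chart g hY' hY.diag hb hbs
  have hX' := isAlgSpace_of_isPullback sq hX hY' hY.diag
  obtain ⟨W, r, s, c, hc, sqW, hc1, hc2⟩ := exists_chart_of_isPullback sq hY.diag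
    (@Etale ⊓ @Surjective) a b' ((repWith_inf_iff a).2 ⟨ha, has⟩) ((repWith_inf_iff b').2 ⟨hb', hbs'⟩)
  obtain ⟨hc, hcs⟩ := (repWith_inf_iff c).1 hc
  obtain ⟨V₂, r₂, s₂, sqV⟩ := exists_isPullback_yon hY.diag b b
  obtain ⟨A, α, β, sqA⟩ := exists_isPullback_yon (IsAlgSpace.yon_obj V).diag
    ((yon S).map h) ((yon S).map r₂)
  have hsA := isPullback_left_of_yon sqA
  have hs₂ : Etale s₂.left := etale_snd_of_isPullback sqV hb
  have hβ : P β.left := P.of_isPullback (sq := hsA) (hf a b h ha hb w)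
  have hA : IsPullback ((yon S).map α) ((yon S).map (β ≫ s₂)) (a ≫ f) b := by
    rw [w, Functor.map_comp]
    exact IsPullback.paste_vert sqA sqV
  let n : W ⟶ A := (yon S).preimage (hA.lift ((yon S).map r) ((yon S).map (s ≫ k))
    (by rw [sqW.w, Functor.map_comp, Category.assoc, w']))
  have hn1 : n ≫ α = r := (yon S).map_injective (by
    rw [Functor.map_comp, Functor.map_preimage, hA.lift_fst])
  have hn : IsPullback ((yon S).map n) ((yon S).map s) ((yon S).map (β ≫ s₂)) ((yon S).map k) := by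
    refine IsPullback.of_right (h₁₂ := (yon S).map α) (v₁₃ := a ≫ f) (h₂₂ := b) ?_ ?_ hA
    · rw [Functor.map_preimage, hA.lift_fst, ← w']; exact sqW
    · rw [Functor.map_preimage, hA.lift_snd, Functor.map_comp]
  obtain ⟨z, rfl⟩ := surjective_ofPt hcs x'
  have hx : Points.ofPt a (r.left z) = Points.map fst (Points.ofPt c z) := by
    rw [Points.map_ofPt, hc1, ofPt_comp]
  have key : Q W.left V'.left s.left z ↔ Q U.left V.left h.left (r.left z) := by
    rw [hbc n.left s.left (β ≫ s₂).left k.left (isPullback_left_of_yon hn)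
      (by rw [Over.comp_left]; exact P.comp_mem _ _ hβ (EtLoc.of_etale _ hs₂))]
    have e := hQ (β ≫ s₂).left β.left (𝟙 A.left) s₂.left inferInstance hs₂
      (by rw [Category.id_comp, Over.comp_left]) (n.left z)
    replace e : Q A.left V.left (β ≫ s₂).left (n.left z) ↔ Q A.left V₂.left β.left (n.left z) := e
    rw [e, hbc α.left β.left h.left r₂.left hsA (hf a b h ha hb w), ← hn1, Over.comp_left,
      Scheme.Hom.comp_apply]
  constructor
  · intro H
    exact ⟨U, V, a, b, h, r.left z, ha, hb, w, hx,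
      key.1 (forall_diagram_of_hasAtMor hX' hY' hQ H hc hb' hc2 rfl)⟩
  · intro H
    exact ⟨W, V', c, b', s, z, hc, hb', hc2, rfl,
      key.2 (forall_diagram_of_hasAtMor hX hY hQ H ha hb w hx)⟩

theorem hasAtMor_fibreDim_baseChange (p : WithBot ℕ∞ → Prop) {fst : X' ⟶ X} {snd : X' ⟶ Y'} {f : X ⟶ Y}
    {g : Y' ⟶ Y} (sq : IsPullback fst snd f g) (hX : IsAlgSpace X) (hY : IsAlgSpace Y) (hY' : IsAlgSpace Y')
    (hf : LocP @LocallyOfFiniteType f) (x' : Points X') :
    HasAtMor (fun _ _ h u => p (FlatMor.fibreDimAt h u)) snd x' ↔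
      HasAtMor (fun _ _ h u => p (FlatMor.fibreDimAt h u)) f (Points.map fst x') :=
  hasAtMor_baseChange_iff @LocallyOfFiniteType (etInv_fibreDim p)
    (fun _ _ f _ sq hf a => by
      have := hf
      exact iff_of_eq (congrArg p (FibDim94.fibreDimAt_eq_of_isPullback sq a))) sq hX hY hY' hf x'

end Groth.Agent.SpPts86
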