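import Groth.Agent.SpPts86.DecentLocal
import Groth.Agent.SpFP87.Basic
import Groth.Agent.SpFP87.EtLocInst
import Mathlib.AlgebraicGeometry.Morphisms.QuasiFinite
import Mathlib.AlgebraicGeometry.Morphisms.UniversallyOpen
import Mathlib.AlgebraicGeometry.Morphisms.Etale

/-!
Points of decent spaces: quasi-compactness of field points, no specializations in fibres of charts.
-/

universe u

set_option autoImplicit false

open CategoryTheory CategoryTheory.Limits AlgebraicGeometry Topology
open AlgSp

namespace Groth.Agent.SpPts86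

variable {S : Scheme.{u}} {X Y : Sp S}

theorem repWith_qc_fieldPt_of_mono {p q : FieldPt X} [Mono p.toHom]
    (hp : RepWith @QuasiCompact p.toHom) (h : Points.mk q = Points.mk p) :
    RepWith @QuasiCompact q.toHom := by
  obtain ⟨V, snd, fst, sq⟩ := hp.1 q.toHom
  obtain ⟨ψ, rfl⟩ := (yon S).map_surjective fst
  obtain ⟨v, -, -⟩ := exists_pt_of_isPullback' sq (IsLocalRing.closedPoint p.K)
    (IsLocalRing.closedPoint q.K) ((Points.ofPt_toHom p _).trans (h.symm.trans (Points.ofPt_toHom q _).symm))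
  have : Nonempty ↥V.left := ⟨v⟩
  have : Mono ((yon S).map snd) :=
    MorphismProperty.of_isPullback (P := MorphismProperty.monomorphisms (Sp S)) sq ‹Mono p.toHom›
  have : Mono snd := (yon S).mono_of_mono_map (f := snd) ‹_›
  have : Mono snd.left := inferInstanceAs (Mono ((Over.forget S).map snd))
  have : IsIso snd.left := isIso_of_mono_spec_field (L := q.K) snd.left
  have : IsIso ((Over.forget S).map snd) := inferInstanceAs (IsIso snd.left)
  have : IsIso snd := isIso_of_reflects_iso snd (Over.forget S)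
  have e : q.toHom = (yon S).map (inv snd ≫ ψ) ≫ p.toHom := by
    rw [Functor.map_comp, Category.assoc, sq.w, ← Category.assoc, ← Functor.map_comp,
      IsIso.inv_hom_id, CategoryTheory.Functor.map_id, Category.id_comp]
  rw [e]
  refine (repWith_isMultiplicative (S := S) @QuasiCompact).comp_mem _ _ ((repWith_yon_map_iff _ _).2 ?_) hp
  change QuasiCompact (inv snd ≫ ψ).left
  have : IsAffine q.pt.left := inferInstanceAs (IsAffine (Spec (.of q.K)))
  have : IsAffine p.pt.left := inferInstanceAs (IsAffine (Spec (.of p.K)))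
  have : IsAffineHom (inv snd ≫ ψ).left := isAffineHom_of_isAffine _
  infer_instance

theorem isDecent_of_representable (f : X ⟶ Y) (hf : Representable f) (hY : IsDecent Y) :
    IsDecent X := by
  intro x
  obtain ⟨p, hp, hpm, hpq⟩ := hY (Points.map f x)
  obtain ⟨V, snd, fst, sq⟩ := hf p.toHom
  obtain ⟨v, hv, -⟩ := exists_pt_of_isPullback sq x (IsLocalRing.closedPoint p.K)
    (hp.symm.trans (Points.ofPt_toHom p _).symm)
  refine ⟨FieldPt.ofPt fst v, hv, ?_, ?_⟩
  · rw [FieldPt.toHom_ofPt]
    have hm : Mono fst :=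
      MorphismProperty.of_isPullback (P := MorphismProperty.monomorphisms (Sp S)) sq.flip hpm
    have : Mono (Over.homMk (V.left.fromSpecResidueField v) rfl :
        Over.mk (V.left.fromSpecResidueField v ≫ V.hom) ⟶ V) :=
      (Over.forget S).mono_of_mono_map (inferInstanceAs (Mono (V.left.fromSpecResidueField v)))
    exact @mono_comp _ _ _ _ _ _ (@Functor.map_mono _ _ _ _ (yon S) _ _ _ _ this) _ hm
  · rw [FieldPt.toHom_ofPt]
    refine (repWith_isMultiplicative (S := S) @QuasiCompact).comp_mem _ _ ((repWith_yon_map_iff _ _).2 ?_)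
      ((repWith_isStableUnderBaseChange _).of_isPullback sq.flip hpq)
    change QuasiCompact (V.left.fromSpecResidueField v)
    refine (quasiCompact_iff _).2 fun W _ _ => Set.Subsingleton.isCompact fun a _ b _ => ?_
    exact Subsingleton.elim (α := PrimeSpectrum (V.left.residueField v)) a b

theorem no_specialization_in_fibre (hXd : Representable (Limits.diag X)) (hX : IsDecent X)
    {U : Over S} {a : (yon S).obj U ⟶ X} (ha : RepWith @Etale a) {u u' : ↥U.left}
    (he : Points.ofPt a u = Points.ofPt a u') (hs : u' ⤳ u) : u = u' := by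
  by_contra hne
  obtain ⟨p, hp, hpm, hpq⟩ := hX (Points.ofPt a u)
  obtain ⟨V, snd, fst, sq⟩ := hpq.1 a
  obtain ⟨ψ, rfl⟩ := (yon S).map_surjective fst
  have : QuasiCompact snd.left := hpq.2 a _ snd sq
  have : Etale ψ.left := (repWith_yon_map_iff _ _).1
    ((repWith_isStableUnderBaseChange _).of_isPullback sq.flip ha)
  have := SpFP87.etale_locallyQuasiFinite ψ.left ‹_›
  have hdisc : DiscreteTopology ↥V.left := by
    have h := ψ.left.isDiscrete_preimage_singleton (IsLocalRing.closedPoint p.K)
    have huniv : ψ.left ⁻¹' {IsLocalRing.closedPoint p.K} = Set.univ :=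
      Set.eq_univ_of_forall fun w => Subsingleton.elim (α := PrimeSpectrum p.K) _ _
    exact isDiscrete_univ_iff.1 (huniv ▸ h)
  obtain ⟨W, hW, huW, -⟩ := exists_isAffineOpen_mem_and_subset (x := u) (U := ⊤) trivial
  have hc : (snd.left ⁻¹' (W : Set ↥U.left)).Finite :=
    (snd.left.isCompact_preimage (U := W) hW.isCompact).finite_of_discrete
  let F := {w : ↥U.left | w ∈ W ∧ Points.ofPt a w = Points.ofPt a u}
  have hF : F.Finite := (hc.image snd.left).subset fun w hw => by
    obtain ⟨v, -, hv⟩ := exists_pt_of_isPullback' sq (IsLocalRing.closedPoint p.K) w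
      ((Points.ofPt_toHom p _).trans (hp.trans hw.2.symm))
    exact ⟨v, show snd.left v ∈ W from hv ▸ hw.1, hv⟩
  obtain ⟨R, t, s, sqR⟩ := SpFP87.exists_isPullback_yon hXd a a
  have : Etale t.left := (repWith_yon_map_iff _ _).1
    ((repWith_isStableUnderBaseChange _).of_isPullback sqR.flip ha)
  have : Etale s.left := (repWith_yon_map_iff _ _).1
    ((repWith_isStableUnderBaseChange _).of_isPullback sqR ha)
  have := SpFP87.etale_locallyQuasiFinite s.left ‹_›
  let M := {w ∈ F | ∃ w' ∈ F, w' ⤳ w ∧ w' ≠ w}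
  have hMne : u ∈ M :=
    ⟨⟨huW, rfl⟩, u', ⟨hs.mem_open W.2 huW, he.symm⟩, hs, Ne.symm hne⟩
  have step : ∀ w ∈ M, ∃ w' ∈ M, w' ⤳ w ∧ w' ≠ w := by
    rintro w ⟨hw, w', hw', hs', hne'⟩
    refine ⟨w', ⟨hw', ?_⟩, hs', hne'⟩
    obtain ⟨r, hr1, hr2⟩ := exists_pt_of_isPullback' sqR w w' (hw.2.trans hw'.2.symm)
    obtain ⟨r', hr', hr'1⟩ := Flat.generalizingMap t.left (hr1 ▸ hs' : w' ⤳ t.left r)
    have hsp : s.left r' ⤳ w' := hr2 ▸ hr'.map s.left.continuous
    refine ⟨s.left r', ⟨hsp.mem_open W.2 hw'.1, ?_⟩, hsp, fun e => ?_⟩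
    · rw [← ofPt_eq_of_isPullback sqR r', hr'1]; exact hw'.2
    · have hd := s.left.isDiscrete_preimage_singleton w'
      have hrr : r' = r := by
        have : DiscreteTopology ↥(s.left ⁻¹' {w'}) := hd.to_subtype
        have h' : (⟨r', e⟩ : ↥(s.left ⁻¹' {w'})) ⤳ ⟨r, hr2⟩ :=
          (subtype_specializes_iff _ _).2 hr'
        exact congrArg Subtype.val h'.eq
      exact hne' (hr'1.symm.trans ((congrArg t.left hrr).trans hr1))
  have hMfin : M.Finite := hF.subset fun w hw => hw.1
  obtain ⟨m, hm, hmax⟩ := Set.Finite.exists_maximalFor (fun w => closure ({w} : Set ↥U.left)) M hMfin ⟨u, hMne⟩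
  obtain ⟨w', hw', hs', hne'⟩ := step m hm
  have h1 := hmax hw' (specializes_iff_closure_subset.1 hs')
  exact hne' ((Specializes.antisymm hs' (specializes_iff_closure_subset.2 h1)).eq)

end Groth.Agent.SpPts86
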