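import Groth.Agent.SpPts86.HasAtMorInv
import Groth.Agent.Cyc90.FlatRelDim
import Groth.Prelude.Def_Dual3

/-!
Residual transcendence degrees along chart diagrams.
-/

universe u

set_option autoImplicit false

open CategoryTheory CategoryTheory.Limits AlgebraicGeometry
open AlgSp Groth.Agent.SpFP87

namespace Groth.Agent.SpPts86

theorem resTrdeg_eq_fdeg {U V : Scheme.{u}} (h : U ⟶ V) [LocallyOfFiniteType h] (u : U) :
    Dual3.resTrdeg h u = (E4O.fdeg h u : Cardinal.{u}) :=
  Cyc90.trdeg_residueField_eq_fdeg h u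

theorem resTrdeg_comp {A B C : Scheme.{u}} (h : A ⟶ B) (g : B ⟶ C) (x : A) :
    Dual3.resTrdeg (h ≫ g) x = Dual3.resTrdeg h x + Dual3.resTrdeg g (h x) := by
  let K := C.residueField (g (h x)); let L := B.residueField (h x); let M := A.residueField x
  letI aKL : Algebra K L := (g.residueFieldMap (h x)).hom.toAlgebra
  letI aLM : Algebra L M := (h.residueFieldMap x).hom.toAlgebra
  letI aKM : Algebra K M := ((h ≫ g).residueFieldMap x).hom.toAlgebra
  have : IsScalarTower K L M := IsScalarTower.of_algebraMap_eq' (by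
    change ((h ≫ g).residueFieldMap x).hom = _
    rw [Scheme.residueFieldMap_comp]
    rfl)
  have e : Algebra.trdeg K L + Algebra.trdeg L M = Algebra.trdeg K M := trdeg_add_eq K L (A := M)
  exact e.symm.trans (add_comm _ _)

theorem etInv_resTrdeg (p : Cardinal.{u} → Prop) :
    EtInv fun _ _ h u => p (Dual3.resTrdeg h u) := fun h h' a b ha hb comm u' => by
  have := ha; have := hb
  exact iff_of_eq (congrArg p (Desc59.EtaleDim.trdeg_eq h h' a b comm u'))

/-- Simultaneous charts along a composition, through a point. -/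
theorem exists_diagram_comp {S : Scheme.{u}} {X Y Z : Sp S} (hX : IsAlgSpace X) (hY : IsAlgSpace Y)
    (hZ : IsAlgSpace Z) (f : X ⟶ Y) (g : Y ⟶ Z) (x : Points X) :
    ∃ (U V W : Over S) (a : (yon S).obj U ⟶ X) (b : (yon S).obj V ⟶ Y) (c : (yon S).obj W ⟶ Z)
      (h : U ⟶ V) (k : V ⟶ W) (u : ↥U.left), RepWith @Etale a ∧ RepWith @Etale b ∧ RepWith @Etale c ∧
      a ≫ f = (yon S).map h ≫ b ∧ b ≫ g = (yon S).map k ≫ c ∧
      a ≫ f ≫ g = (yon S).map (h ≫ k) ≫ c ∧ Points.ofPt a u = x ∧
      Points.ofPt b (h.left u) = Points.map f x := by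
  obtain ⟨W, c, hc, hcs⟩ := hZ.atlas
  obtain ⟨V, b, k, hb, hbs, w'⟩ := exists_compatible_chart g hY hZ.diag hc hcs
  obtain ⟨U, a, h, ha, has, w⟩ := exists_compatible_chart f hX hY.diag hb hbs
  obtain ⟨u, hu⟩ := surjective_ofPt has x
  refine ⟨U, V, W, a, b, c, h, k, u, ha, hb, hc, w, w', ?_, hu, ?_⟩
  · rw [← Category.assoc, w, Category.assoc, w', Functor.map_comp, Category.assoc]
  · rw [← hu, Points.map_ofPt, w, ofPt_comp]

end Groth.Agent.SpPts86
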