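import Groth.Agent.EGA4Alg4.CMMod

/-!
Regular sequences from a given ideal in a Cohen-Macaulay module.
-/

universe u

set_option autoImplicit false

open IsLocalRing RingTheory.Sequence Module
open scoped Pointwise

namespace Groth.Agent.SpPts86

/-- A regular sequence with zero-dimensional quotient may be chosen in an ideal which generates an
ideal of definition. -/
theorem exists_regularSeq_of_radical {O A : Type u} [CommRing O] [CommRing A] [IsLocalRing A]
    [IsNoetherianRing A] (φ : O →+* A) (I : Ideal O) (hI : maximalIdeal A ≤ (I.map φ).radical)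
    (hI' : ∀ o ∈ I, φ o ∈ maximalIdeal A) :
    ∀ (n : ℕ) {M : Type u} [AddCommGroup M] [Module A M] [Module.Finite A M],
      LocCoh.IsCohenMacaulayModule A M → supportDim A M = n →
      ∃ os : List O, (∀ o ∈ os, o ∈ I) ∧ IsWeaklyRegular M (os.map φ) ∧
        supportDim A (M ⧸ (Ideal.ofList (os.map φ) • (⊤ : Submodule A M))) = 0 := by
  intro n
  induction n with
  | zero =>
    intro M _ _ _ _ hn
    refine ⟨[], by simp, IsWeaklyRegular.nil A _, ?_⟩
    rw [List.map_nil, supportDim_eq_of_equiv (Submodule.quotEquivOfEqBot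
      (Ideal.ofList ([] : List A) • (⊤ : Submodule A M)) (by simp)), hn]
    rfl
  | succ n ih =>
    intro M _ _ _ hM hn
    have := EGA4Alg4.isCohenMacaulayModule_nontrivial hM
    obtain ⟨o, ho, hreg⟩ : ∃ o ∈ I, IsSMulRegular M (φ o) := by
      by_contra! hc
      have hsub : (I : Set O) ⊆ ⋃ q ∈ ((associatedPrimes.finite A M).toFinset : Set (Ideal A)),
          ((q.comap φ : Ideal O) : Set O) := by
        intro o ho
        have : φ o ∈ ⋃ q ∈ associatedPrimes A M, (q : Set A) := by
          rw [biUnion_associatedPrimes_eq_compl_regular A]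
          exact hc o ho
        obtain ⟨q, hq, hoq⟩ := Set.mem_iUnion₂.1 this
        exact Set.mem_iUnion₂.2 ⟨q, by simpa using hq, hoq⟩
      obtain ⟨q, hq, hle⟩ := (Ideal.subset_union_prime (R := O) ⊥ ⊥ fun q hq _ _ => by
        have := ((associatedPrimes.finite A M).mem_toFinset.1 hq).isPrime
        exact Ideal.IsPrime.comap φ).1 hsub
      have hq' := (associatedPrimes.finite A M).mem_toFinset.1 hq
      have hmq : maximalIdeal A ≤ q := hI.trans
        ((Ideal.radical_mono (Ideal.map_le_iff_le_comap.2 hle)).trans hq'.isPrime.radical.le)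
      have e : q = maximalIdeal A := ((maximalIdeal.isMaximal A).eq_of_le hq'.isPrime.ne_top hmq).symm
      have h0 := EGA4Alg4.ringKrullDim_quotient_assoc hM hq'
      rw [hn, e, ringKrullDim_eq_zero_of_isField ((Ideal.Quotient.maximal_ideal_iff_isField_quotient _).mp
        inferInstance)] at h0
      exact absurd h0 (by exact_mod_cast (Nat.succ_ne_zero n).symm)
    have hm : φ o ∈ maximalIdeal A := hI' o ho
    have := nontrivial_quotSMulTop_of_mem_maximalIdeal M hm
    obtain ⟨d, hd⟩ := EGA4Alg4.exists_supportDim_eq (A := A) (M := QuotSMulTop (φ o) M)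
    obtain ⟨b, hb⟩ := EGA4Alg4.exists_depth_eq (A := A) (M := QuotSMulTop (φ o) M)
    have h4 := supportDim_quotSMulTop_succ_eq_supportDim hreg hm
    rw [hd, hn] at h4
    have hdn : d = n := by
      have : d + 1 = n + 1 := by exact_mod_cast h4
      omega
    subst hdn
    have hCM : LocCoh.IsCohenMacaulayModule A (QuotSMulTop (φ o) M) := by
      rw [LocCoh.IsCohenMacaulayModule] at hM ⊢
      rw [hn, ← EGA4Alg4.depth_quotSMulTop_add_one hm hreg, hb] at hM
      have : d + 1 = b + 1 := by exact_mod_cast hM
      rw [hd, hb, show d = b by omega]; rfl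
    obtain ⟨os, hos, hosreg, hos0⟩ := ih hCM hd
    refine ⟨o :: os, List.forall_mem_cons.2 ⟨ho, hos⟩, ?_, ?_⟩
    · rw [List.map_cons]
      exact IsWeaklyRegular.cons hreg hosreg
    · rw [List.map_cons, EGA4Alg4.supportDim_cons, hos0]

end Groth.Agent.SpPts86
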