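import Groth.Agent.SpPts86.DecentFib
import Groth.Agent.SpFP87.DecentPts
import Groth.Agent.SpFP87.Reduced

/-!
Specializations at points with finite fibres.
-/

universe u

set_option autoImplicit false

open CategoryTheory CategoryTheory.Limits AlgebraicGeometry Topology
open AlgSp Groth.Agent.SpFP87

namespace Groth.Agent.SpPts86

variable {S : Scheme.{u}} {X Y : Sp S}

theorem finite_fibre_of_qc_point (hX : IsAlgSpace X) {q : FieldPt X} (hq : RepWith @QuasiCompact q.toHom)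
    {V : Over S} [IsAffine V.left] {ψ : (yon S).obj V ⟶ X} (hψ : RepWith @Etale ψ) :
    (Points.ofPt ψ ⁻¹' {Points.mk q}).Finite := by
  obtain ⟨R, t, s, sq⟩ := exists_isPullback_yon hX.diag ψ ψ
  exact (finFib_of_qc_point hq V ψ inferInstance hψ R s t sq).1

theorem eq_of_specializes_of_finite_fibre (hX : IsAlgSpace X) {x : Points X}
    (hx : ∀ (V : Over S) (b : (yon S).obj V ⟶ X), IsAffine V.left → RepWith @Etale b →
      (Points.ofPt b ⁻¹' {x}).Finite)
    {U : Over S} {φ : (yon S).obj U ⟶ X} (hφ : RepWith @Etale φ) {a b : ↥U.left} (h : a ⤳ b)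
    (ea : Points.ofPt φ a = x) (eb : Points.ofPt φ b = x) : a = b := by
  by_contra hne
  obtain ⟨W, hWaff, hbW, hW⟩ := exists_affine_subchart hφ b
  let V : Over S := Over.mk (W.ι ≫ U.hom)
  let ψ : (yon S).obj V ⟶ X := (yon S).map (Over.homMk W.ι rfl : V ⟶ U) ≫ φ
  have haW : a ∈ W := h.mem_open W.isOpen hbW
  obtain ⟨R, t, s, _, _, sq, -, -, -⟩ := exists_common_chart hX hW hW
  have : LocallyQuasiFinite t.left := SpFP87.etale_locallyQuasiFinite _ ‹_›
  let F := {z : ↥V.left // Points.ofPt ψ z = x}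
  have : Finite F := (hx V ψ hWaff hW).to_subtype
  let r : F → F → Prop := fun c d => c.1 ⤳ d.1 ∧ c.1 ≠ d.1
  have : IsTrans F r := ⟨fun c d e hcd hde => ⟨hcd.1.trans hde.1, fun hce =>
    hde.2 ((Specializes.antisymm hde.1 (hce ▸ hcd.1)).eq)⟩⟩
  have : Std.Irrefl r := ⟨fun c hc => hc.2 rfl⟩
  have hwf : WellFounded r := Finite.wellFounded_of_trans_of_irrefl r
  suffices ∀ c d : F, ¬ r c d by
    refine this ⟨(⟨a, haW⟩ : W.toScheme), ?_⟩ ⟨(⟨b, hbW⟩ : W.toScheme), ?_⟩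
      ⟨(subtype_specializes_iff _ _).2 h, fun h' => hne (congrArg Subtype.val h')⟩
    · change Points.ofPt ((yon S).map _ ≫ φ) _ = x
      rw [ofPt_comp]; exact ea
    · change Points.ofPt ((yon S).map _ ≫ φ) _ = x
      rw [ofPt_comp]; exact eb
  intro c
  induction c using hwf.induction with
  | _ c ih =>
    intro d hcd
    obtain ⟨z, hzt, hzs⟩ := exists_pt_common_chart sq c.1 d.1 (c.2.trans d.2.symm)
    obtain ⟨z', hz', hz's⟩ := Flat.generalizingMap s.left (show c.1 ⤳ s.left z from hzs ▸ hcd.1)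
    have hc' : Points.ofPt ψ (t.left z') = x := by
      rw [ofPt_eq_of_isPullback sq z', hz's]
      exact c.2
    refine ih ⟨t.left z', hc'⟩ ⟨hzt ▸ hz'.map t.left.continuous, fun e' => ?_⟩ c
      ⟨hzt ▸ hz'.map t.left.continuous, fun e' => ?_⟩
    all_goals
      have := eq_of_specializes_of_locallyQuasiFinite t.left hz' (e'.trans hzt.symm)
      subst this
      exact hcd.2 (hz's.symm.trans hzs)

theorem exists_generalization_lift_of_qc_point (hX : IsAlgSpace X) {q : FieldPt X}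
    (hq : RepWith @QuasiCompact q.toHom) {U : Over S} {φ : (yon S).obj U ⟶ X} (hφ : RepWith @Etale φ)
    {b : ↥U.left} (h : Points.mk q ⤳ Points.ofPt φ b) :
    ∃ a : ↥U.left, a ⤳ b ∧ Points.ofPt φ a = Points.mk q := by
  obtain ⟨W, hWaff, hbW, hW⟩ := exists_affine_subchart hφ b
  have := hWaff
  let V : Over S := Over.mk (W.ι ≫ U.hom)
  let ψ : (yon S).obj V ⟶ X := (yon S).map (Over.homMk W.ι rfl : V ⟶ U) ≫ φ
  have hF := finite_fibre_of_qc_point hX hq hW
  have hcl : (⟨b, hbW⟩ : W.toScheme) ∈ closure (Points.ofPt ψ ⁻¹' {Points.mk q}) := by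
    refine mem_closure_iff.2 fun O hO hbO => ?_
    have hb : Points.ofPt φ b ∈ Points.ofPt ψ '' O := ⟨(⟨b, hbW⟩ : W.toScheme), hbO, by
      change Points.ofPt ((yon S).map _ ≫ φ) _ = _
      rw [ofPt_comp]; rfl⟩
    obtain ⟨z, hz, hzx⟩ := h.mem_open (isOpenMap_ofPt hW O hO) hb
    exact ⟨z, hz, hzx⟩
  obtain ⟨a, ha, hab⟩ : ∃ a ∈ Points.ofPt ψ ⁻¹' {Points.mk q}, a ⤳ (⟨b, hbW⟩ : W.toScheme) := by
    rw [← Set.biUnion_of_singleton (Points.ofPt ψ ⁻¹' {Points.mk q}), hF.closure_biUnion] at hcl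
    obtain ⟨a, ha, hab⟩ := Set.mem_iUnion₂.1 hcl
    exact ⟨a, ha, specializes_iff_mem_closure.2 hab⟩
  refine ⟨a.1, (subtype_specializes_iff _ _).1 hab, ?_⟩
  have : Points.ofPt ((yon S).map (Over.homMk W.ι rfl : V ⟶ U) ≫ φ) a = Points.mk q := ha
  rwa [ofPt_comp] at this

theorem exists_generalization_lift_of_flat {f : Y ⟶ X} (hY : IsAlgSpace Y) (hX : IsAlgSpace X)
    (hf : LocP @Flat f) {q : FieldPt X} (hq : RepWith @QuasiCompact q.toHom) {y : Points Y}
    (h : Points.mk q ⤳ Points.map f y) :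
    ∃ y' : Points Y, y' ⤳ y ∧ Points.map f y' = Points.mk q := by
  obtain ⟨V, b, hb, hbs⟩ := hX.atlas
  obtain ⟨U, a, g, ha, hw, has, -⟩ := exists_surjective_compatible_chart f hY hX hb
  obtain ⟨u₁, rfl⟩ := surjective_ofPt (has hbs) y
  have : Flat g.left := hf a b g ha hb hw
  rw [Points.map_ofPt, hw, ofPt_comp] at h
  obtain ⟨v', hv', hv'x⟩ := exists_generalization_lift_of_qc_point hX hq hb h
  obtain ⟨u', hu', rfl⟩ := Flat.generalizingMap g.left hv'
  exact ⟨Points.ofPt a u', hu'.map (Points.continuous_ofPt a),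
    by rw [Points.map_ofPt, hw, ofPt_comp, hv'x]⟩

end Groth.Agent.SpPts86
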