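import Groth.Agent.Desc59.EtaleDim
import Groth.Agent.Grp57.Dim
import Groth.Agent.SpFP87.DecentDim
import Groth.Agent.SpFP87.Reduced
import Groth.Agent.SpPts86.EtaleMor

/-!
Dimensions of local rings of charts; codimension zero points.
-/

universe u

set_option autoImplicit false

open CategoryTheory CategoryTheory.Limits AlgebraicGeometry Topology
open AlgSp Groth.Agent.SpFP87

namespace Groth.Agent.SpPts86

variable {S : Scheme.{u}} {X Y : Sp S}

theorem coheight_of_etale {A B : Scheme.{u}} (f : A ⟶ B) [Etale f] (a : A) :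
    Order.coheight a = Order.coheight (f a) := by
  refine Order.coheight_eq_of_strictMono f (fun c d h => ?_) (fun c y h => ?_) a
  · refine lt_iff_le_not_ge.2 ⟨h.le.map f.continuous, fun h' => h.not_ge ?_⟩
    have := Desc59.EtaleDim.discrete_fibre f h.le
      ((show f c ⤳ f d from h').antisymm (show f d ⤳ f c from h.le.map f.continuous)).eq.symm
    rw [this]
  · obtain ⟨c', hc', rfl⟩ := Flat.generalizingMap f h.le
    refine ⟨c', lt_iff_le_not_ge.2 ⟨hc', fun h' => h.not_ge ?_⟩, rfl⟩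
    exact (show c ⤳ c' from h').map f.continuous

theorem ringKrullDim_stalk_etale {A B : Scheme.{u}} (f : A ⟶ B) [Etale f] (a : A) :
    ringKrullDim (A.presheaf.stalk a) = ringKrullDim (B.presheaf.stalk (f a)) := by
  rw [ringKrullDim_stalk_eq_coheight, ringKrullDim_stalk_eq_coheight, coheight_of_etale f a]

/-- Properties of pointed schemes invariant along etale morphisms do not depend on the chart. -/
theorem forall_chart_of_hasAt (hX : IsAlgSpace X) {Q : ∀ U : Scheme.{u}, ↥U → Prop}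
    (hQ : ∀ {A B : Scheme.{u}} (f : A ⟶ B), Etale f → ∀ a : A, Q A a ↔ Q B (f a)) {x : Points X}
    (h : HasAt Q X x) {U : Over S} {a : (yon S).obj U ⟶ X} (ha : RepWith @Etale a) {u : ↥U.left}
    (hu : Points.ofPt a u = x) : Q U.left u := by
  obtain ⟨V, b, v, hb, hbv, hv⟩ := h
  obtain ⟨W, q, r, hq, hr, sq, -, -, -⟩ := exists_common_chart hX hb ha
  obtain ⟨w, hw1, hw2⟩ := exists_pt_common_chart sq v u (hbv.trans hu.symm)
  rw [← hw2, ← hQ r.left hr w]
  rw [← hw1, ← hQ q.left hq w] at hv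
  exact hv

theorem hasAt_iff_forall_chart (hX : IsAlgSpace X) {Q : ∀ U : Scheme.{u}, ↥U → Prop}
    (hQ : ∀ {A B : Scheme.{u}} (f : A ⟶ B), Etale f → ∀ a : A, Q A a ↔ Q B (f a)) (x : Points X) :
    HasAt Q X x ↔ ∀ (U : Over S) (a : (yon S).obj U ⟶ X) (u : ↥U.left),
      RepWith @Etale a → Points.ofPt a u = x → Q U.left u := by
  refine ⟨fun h U a u ha hu => forall_chart_of_hasAt hX hQ h ha hu, fun h => ?_⟩
  obtain ⟨U, a, ha, has⟩ := hX.atlas
  obtain ⟨u, hu⟩ := surjective_ofPt has x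
  exact ⟨U, a, u, ha, hu, h U a u ha hu⟩

theorem hasAt_iff_of_isEtaleMor (hX : IsAlgSpace X) (hY : IsAlgSpace Y) {f : X ⟶ Y} (hf : IsEtaleMor f)
    {Q : ∀ U : Scheme.{u}, ↥U → Prop}
    (hQ : ∀ {A B : Scheme.{u}} (g : A ⟶ B), Etale g → ∀ a : A, Q A a ↔ Q B (g a)) (x : Points X) :
    HasAt Q X x ↔ HasAt Q Y (Points.map f x) := by
  refine ⟨?_, fun h => ?_⟩
  · rintro ⟨U, a, u, ha, rfl, hu⟩
    exact ⟨U, a ≫ f, u, hf a ha, (Points.map_ofPt a f u).symm, hu⟩
  · obtain ⟨U, a, ha, has⟩ := hX.atlas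
    obtain ⟨u, rfl⟩ := surjective_ofPt has x
    exact ⟨U, a, u, ha, rfl, forall_chart_of_hasAt hY hQ h (hf a ha) (Points.map_ofPt a f u).symm⟩

theorem invariant_stalkDim (d : WithBot ℕ∞) {A B : Scheme.{u}} (g : A ⟶ B) (hg : Etale g) (a : A) :
    ringKrullDim ↥(A.presheaf.stalk a) = d ↔ ringKrullDim ↥(B.presheaf.stalk (g a)) = d := by
  have := hg
  rw [ringKrullDim_stalk_etale g a]

theorem invariant_localDim (d : WithBot ℕ∞) {A B : Scheme.{u}} (g : A ⟶ B) (hg : Etale g) (a : A) :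
    FlatMor.localDim ↥A a = d ↔ FlatMor.localDim ↥B (g a) = d := by
  have := hg
  rw [Desc59.EtaleDim.localDim_eq g a]

theorem topologicalKrullDim_le_of_etale_surjective {A B : Scheme.{u}} (f : A ⟶ B) [Etale f] [Surjective f] :
    topologicalKrullDim ↥B ≤ topologicalKrullDim ↥A := by
  rw [Grp57.topologicalKrullDim_eq_iSup_coheight, Grp57.topologicalKrullDim_eq_iSup_coheight]
  refine iSup_le fun b => ?_
  obtain ⟨a, rfl⟩ := f.surjective b
  rw [← coheight_of_etale f a]
  exact le_iSup (fun z : ↥A => ((Order.coheight z : ℕ∞) : WithBot ℕ∞)) a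

theorem dim_eq_of_isEtaleMor (hX : IsAlgSpace X) (hY : IsAlgSpace Y) {f : X ⟶ Y} (hf : IsEtaleMor f)
    (hs : IsSurjectiveMor f) : dim X = dim Y := by
  apply le_antisymm
  · exact iSup_le fun U => iSup₂_le fun a ha =>
      le_iSup_of_le U (le_iSup₂_of_le (a ≫ f) (hf a ha) le_rfl)
  · refine iSup_le fun V => iSup₂_le fun b hb => ?_
    obtain ⟨U, a, g, ha, hw, -, hgs⟩ := exists_surjective_compatible_chart f hX hY hb
    have := hgs hs
    have : Etale g.left := locP_etale_of_isEtaleMor hf a b g ha hb hw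
    exact le_iSup_of_le U (le_iSup₂_of_le a ha (topologicalKrullDim_le_of_etale_surjective g.left))

/-- Every point of a scheme generalizes to a point with zero-dimensional local ring. -/
theorem exists_codimZero_generalization {A : Scheme.{u}} (a : A) :
    ∃ η : A, η ⤳ a ∧ ringKrullDim (A.presheaf.stalk η) = 0 := by
  obtain ⟨T, hT, haT⟩ := exists_mem_irreducibleComponents_subset_of_isIrreducible ({a} : Set A)
    isIrreducible_singleton
  obtain ⟨η, hη⟩ := QuasiSober.sober hT.1 (isClosed_of_mem_irreducibleComponents _ hT)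
  refine ⟨η, hη.specializes (haT rfl), (SpFP87.dim_stalk_eq_zero_iff η).2 fun b hb => ?_⟩
  have h1 : closure ({b} : Set A) ⊆ T := by
    refine hT.2 isIrreducible_singleton.closure ?_
    rw [← hη.def]
    exact specializes_iff_closure_subset.1 hb
  have h2 : η ⤳ b := hη.specializes (h1 (subset_closure rfl))
  exact (Specializes.antisymm hb h2).eq

theorem dense_codimZero (hX : IsAlgSpace X) :
    Dense {x : Points X | HasAt (fun U u => ringKrullDim ↥(U.presheaf.stalk u) = 0) X x} := by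
  obtain ⟨U, a, ha, has⟩ := hX.atlas
  refine dense_iff_inter_open.2 fun O hO ⟨x, hx⟩ => ?_
  obtain ⟨u, rfl⟩ := surjective_ofPt has x
  obtain ⟨η, hη, hd⟩ := exists_codimZero_generalization u
  exact ⟨Points.ofPt a η, (hη.map (Points.continuous_ofPt a)).mem_open hO hx, U, a, η, ha, rfl, hd⟩

theorem codimZero_map_of_flat (hX : IsAlgSpace X) (hY : IsAlgSpace Y) {f : X ⟶ Y} (hf : LocP @Flat f)
    {x : Points X} (hx : HasAt (fun U u => ringKrullDim ↥(U.presheaf.stalk u) = 0) X x) :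
    HasAt (fun U u => ringKrullDim ↥(U.presheaf.stalk u) = 0) Y (Points.map f x) := by
  obtain ⟨V, b, hb, hbs⟩ := hY.atlas
  obtain ⟨U, a, g, ha, hw, has, -⟩ := exists_surjective_compatible_chart f hX hY hb
  obtain ⟨u, rfl⟩ := surjective_ofPt (has hbs) x
  have hu := (SpFP87.dim_stalk_eq_zero_iff u).1
    (forall_chart_of_hasAt hX (fun g hg a => invariant_stalkDim 0 g hg a) hx ha rfl)
  have : Flat g.left := hf a b g ha hb hw
  refine ⟨V, b, g.left u, hb, ?_, (SpFP87.dim_stalk_eq_zero_iff _).2 fun v hv => ?_⟩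
  · rw [Points.map_ofPt, hw, ofPt_comp]
  · obtain ⟨u', hu', rfl⟩ := Flat.generalizingMap g.left hv
    rw [hu u' hu']

theorem coheight_le_of_lqf {A B : Scheme.{u}} (f : A ⟶ B) [LocallyQuasiFinite f] (a : A) :
    Order.coheight a ≤ Order.coheight (f a) := by
  refine Order.coheight_le_coheight_apply_of_strictMono f (fun c d h => ?_) a
  refine lt_iff_le_not_ge.2 ⟨h.le.map f.continuous, fun h' => h.not_ge ?_⟩
  have := SpFP87.eq_of_specializes_of_locallyQuasiFinite f h.le
    ((show f c ⤳ f d from h').antisymm (show f d ⤳ f c from h.le.map f.continuous)).eq.symm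
  rw [this]

theorem exists_chart_coheight_le (hX : IsAlgSpace X) (hY : IsAlgSpace Y) {f : X ⟶ Y}
    (hf : LocP (@LocallyQuasiFinite ⊓ @LocallyOfFiniteType) f) {U : Over S} {a : (yon S).obj U ⟶ X}
    (ha : RepWith @Etale a) (u : ↥U.left) :
    ∃ (V : Over S) (b : (yon S).obj V ⟶ Y) (v : ↥V.left), RepWith @Etale b ∧
      Points.ofPt b v = Points.map f (Points.ofPt a u) ∧ Order.coheight u ≤ Order.coheight v := by
  obtain ⟨V, b, hb, hbs⟩ := hY.atlas
  obtain ⟨U', a', g, ha', hw, has, -⟩ := exists_surjective_compatible_chart f hX hY hb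
  obtain ⟨u', hu'⟩ := surjective_ofPt (has hbs) (Points.ofPt a u)
  obtain ⟨W, q, r, _, _, sq, -, -, -⟩ := exists_common_chart hX ha' ha
  obtain ⟨w, hw1, hw2⟩ := exists_pt_common_chart sq u' u hu'
  have : LocallyQuasiFinite g.left := (hf a' b g ha' hb hw).1
  refine ⟨V, b, g.left u', hb, ?_, ?_⟩
  · rw [← hu', Points.map_ofPt, hw, ofPt_comp]
  · rw [← hw2, ← coheight_of_etale r.left w, coheight_of_etale q.left w, hw1]
    exact coheight_le_of_lqf g.left u'

theorem dim_le_dim_of_lqf (hX : IsAlgSpace X) (hY : IsAlgSpace Y) {f : X ⟶ Y}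
    (hf : LocP (@LocallyQuasiFinite ⊓ @LocallyOfFiniteType) f) : dim X ≤ dim Y := by
  refine iSup_le fun U => iSup₂_le fun a ha => ?_
  rw [Grp57.topologicalKrullDim_eq_iSup_coheight]
  refine iSup_le fun u => ?_
  obtain ⟨V, b, v, hb, -, hv⟩ := exists_chart_coheight_le hX hY hf ha u
  refine le_iSup_of_le V (le_iSup₂_of_le b hb ?_)
  rw [Grp57.topologicalKrullDim_eq_iSup_coheight]
  exact le_iSup_of_le v (WithBot.coe_le_coe.2 hv)

theorem stalkDim_le_of_lqf (hX : IsAlgSpace X) (hY : IsAlgSpace Y) {f : X ⟶ Y}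
    (hf : LocP (@LocallyQuasiFinite ⊓ @LocallyOfFiniteType) f) {x : Points X} {d e : WithBot ℕ∞}
    (hx : HasAt (fun U u => ringKrullDim ↥(U.presheaf.stalk u) = d) X x)
    (hy : HasAt (fun V v => ringKrullDim ↥(V.presheaf.stalk v) = e) Y (Points.map f x)) : d ≤ e := by
  obtain ⟨U, a, u, ha, rfl, hu⟩ := hx
  obtain ⟨V, b, v, hb, hbv, hv⟩ := exists_chart_coheight_le hX hY hf ha u
  rw [← hu, ← forall_chart_of_hasAt hY (fun g hg a => invariant_stalkDim e g hg a) hy hb hbv,
    ringKrullDim_stalk_eq_coheight, ringKrullDim_stalk_eq_coheight]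
  exact WithBot.coe_le_coe.2 hv

end Groth.Agent.SpPts86
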