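import Groth.Agent.SpPts86.BigField
import Groth.Agent.SpPts86.GeomLift
import Groth.Agent.SpPts86.Compact
import Groth.Agent.SpPts86.Charts
import Groth.Agent.Desc59.EtaleDim

/-!
Points valued in a large algebraically closed field.
-/

universe u

set_option autoImplicit false
set_option backward.isDefEq.respectTransparency false
set_option linter.style.haveILetI false

open CategoryTheory CategoryTheory.Limits AlgebraicGeometry Cardinal
open AlgSp Groth.Agent.SpFP87

namespace Groth.Agent.SpPts86

/-- A small extension embeds into a large algebraically closed one. -/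
theorem exists_algHom_of_card_lt {A B K : Type u} [Field A] [Field B] [Field K] [Algebra A B] [Algebra A K]
    [IsAlgClosed K] (h : #B < #K) : Nonempty (B →ₐ[A] K) := by
  obtain ⟨t, ht⟩ := exists_isTranscendenceBasis A B
  rcases isEmpty_or_nonempty t with ht' | ht'
  · haveI : Algebra.IsAlgebraic A B := ht.isEmpty_iff_isAlgebraic.1 ht'
    exact ⟨IsAlgClosed.lift⟩
  · haveI : Infinite B := by
      obtain ⟨x⟩ := ht'
      refine Infinite.of_injective (fun n : ℕ => (x : B) ^ n) fun m n e => ?_
      have := ht.1.transcendental x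
      by_contra hne
      rcases Nat.lt_or_gt_of_ne hne with hlt | hlt
      · exact this ⟨Polynomial.X ^ n - Polynomial.X ^ m,
          fun h0 => by
            have := congrArg (fun p => p.coeff n) h0
            simp [Polynomial.coeff_X_pow, hlt.ne'] at this,
          by simp [e]⟩
      · exact this ⟨Polynomial.X ^ m - Polynomial.X ^ n,
          fun h0 => by
            have := congrArg (fun p => p.coeff m) h0
            simp [Polynomial.coeff_X_pow, hlt.ne'] at this,
          by simp [e]⟩
    have hA : max #A ℵ₀ < #K := max_lt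
      (lt_of_le_of_lt (mk_le_of_injective (algebraMap A B).injective) h)
      (lt_of_le_of_lt (aleph0_le_mk B) h)
    obtain ⟨s, hs⟩ := exists_isTranscendenceBasis A K
    obtain ⟨e⟩ : Nonempty (t ↪ s) := le_def t s |>.1 <| by
      rw [← card_transcendenceBasis hs hA]
      exact ((mk_set_le t).trans h.le)
    let j : Algebra.adjoin A (Set.range ((↑) : t → B)) →ₐ[A] K :=
      (MvPolynomial.aeval fun i => ((e i : s) : K)).comp ht.1.aevalEquiv.symm.toAlgHom
    have hj : Function.Injective j :=
      (algebraicIndependent_iff_injective_aeval.1 (hs.1.comp e e.injective)).comp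
        ht.1.aevalEquiv.symm.injective
    letI := j.toRingHom.toAlgebra
    haveI : IsScalarTower A (Algebra.adjoin A (Set.range ((↑) : t → B))) K :=
      IsScalarTower.of_algebraMap_eq fun a => (j.commutes a).symm
    haveI : Algebra.IsAlgebraic (Algebra.adjoin A (Set.range ((↑) : t → B))) B := ht.isAlgebraic
    haveI : FaithfulSMul (Algebra.adjoin A (Set.range ((↑) : t → B))) K :=
      (faithfulSMul_iff_algebraMap_injective _ _).2 hj
    exact ⟨(IsAlgClosed.lift : B →ₐ[Algebra.adjoin A (Set.range ((↑) : t → B))] K).restrictScalars A⟩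

theorem card_lt_of_finite {A B K : Type u} [Field A] [Field B] [Field K] [Infinite K] (φ : A →+* B)
    (hφ : φ.Finite) (h : #A < #K) : #B < #K := by
  letI := φ.toAlgebra
  haveI : Module.Finite A B := hφ
  rcases finite_or_infinite A with hA | hA
  · haveI : _root_.Finite B := Module.finite_of_finite A
    exact lt_of_lt_of_le (lt_aleph0_of_finite _) (aleph0_le_mk K)
  · haveI : Algebra.IsAlgebraic A B := Algebra.IsAlgebraic.of_finite A B
    refine lt_of_le_of_lt (Algebra.IsAlgebraic.cardinalMk_le_max A B) (max_lt h ?_)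
    exact lt_of_le_of_lt (aleph0_le_mk A) h

theorem exists_spec_lift {U V : Scheme.{u}} (q : U ⟶ V) (w : ↥U) {K : Type u} [Field K] [IsAlgClosed K]
    (l : Spec (CommRingCat.of K) ⟶ V) (hl : l (IsLocalRing.closedPoint K) = q w)
    (h : #(U.residueField w) < #K) :
    ∃ σ : Spec (CommRingCat.of K) ⟶ U, σ ≫ q = l ∧ σ (IsLocalRing.closedPoint K) = w := by
  let φ : V.residueField (q w) ⟶ CommRingCat.of K :=
    (V.residueFieldCongr hl.symm).hom ≫ V.descResidueField (Scheme.stalkClosedPointTo l)
  letI : Algebra (V.residueField (q w)) (U.residueField w) := (q.residueFieldMap w).hom.toAlgebra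
  letI : Algebra (V.residueField (q w)) K := φ.hom.toAlgebra
  obtain ⟨ψ⟩ := exists_algHom_of_card_lt (A := V.residueField (q w)) h
  have hψ : q.residueFieldMap w ≫ CommRingCat.ofHom ψ.toRingHom = φ :=
    CommRingCat.hom_ext (RingHom.ext fun a => ψ.commutes a)
  refine ⟨Spec.map (CommRingCat.ofHom ψ.toRingHom) ≫ U.fromSpecResidueField w, ?_, ?_⟩
  · rw [Category.assoc, ← Scheme.Hom.SpecMap_residueFieldMap_fromSpecResidueField, ← Category.assoc,
      ← Spec.map_comp, hψ, Spec.map_comp, Category.assoc, Scheme.residueFieldCongr_fromSpecResidueField]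
    exact Scheme.descResidueField_stalkClosedPointTo_fromSpecResidueField K V l
  · rw [Scheme.Hom.comp_apply]; exact Scheme.fromSpecResidueField_apply _ _

theorem exists_geometric_lift_large {S : Scheme.{u}} {X Y : Sp S} (hY : IsAlgSpace Y) (f : X ⟶ Y) {U : Over S}
    (a : (yon S).obj U ⟶ X) (has : RepWith @Surjective a) (ybar : FieldPt Y) (hy : ybar.IsGeometric)
    (hk : ∀ u : ↥U.left, #(U.left.residueField u) < #ybar.K) (x : Points X)
    (hx : Points.map f x = Points.mk ybar) :
    ∃ xbar : (yon S).obj ybar.pt ⟶ X, xbar ≫ f = ybar.toHom ∧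
      Points.ofPt xbar (IsLocalRing.closedPoint ybar.K) = x := by
  haveI : IsAlgClosed ybar.K := hy
  obtain ⟨u, hu⟩ := surjective_ofPt has x
  obtain ⟨V, b, hb, hbs⟩ := hY.atlas
  obtain ⟨v, hv⟩ := surjective_ofPt hbs (Points.mk ybar)
  obtain ⟨l, hl, hlv⟩ := exists_lift_of_etale hb ybar hy v hv
  obtain ⟨U', p, q, sq⟩ := exists_isPullback_yon hY.diag (a ≫ f) b
  obtain ⟨w, hwu, hwv⟩ := exists_pt_of_isPullback' sq u v (by
    rw [← Points.map_ofPt, hu, hx, hv])
  haveI : Etale p.left := etale_snd_of_isPullback sq.flip hb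
  haveI : Infinite ybar.K := inferInstance
  have hcard : #(U'.left.residueField w) < #ybar.K :=
    card_lt_of_finite _ (Desc59.EtaleDim.finite_residueFieldMap p.left w) (hk _)
  obtain ⟨σ, hσ, hσw⟩ := exists_spec_lift q.left w (K := ybar.K) l.left (hlv.trans hwv.symm) hcard
  let σ' : ybar.pt ⟶ U' := Over.homMk σ (by
    rw [← Over.w q, ← Category.assoc, hσ]
    exact Over.w l)
  have hσ' : σ' ≫ q = l := Over.OverMorphism.ext hσ
  refine ⟨(yon S).map (σ' ≫ p) ≫ a, ?_, ?_⟩
  · rw [Category.assoc, Functor.map_comp_assoc, sq.w, ← Functor.map_comp_assoc, hσ', hl]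
  · rw [ofPt_comp, Over.comp_left, Scheme.Hom.comp_apply, show σ'.left = σ from rfl]
    erw [hσw]
    rw [hwu, hu]

end Groth.Agent.SpPts86
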