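import Groth.Agent.SpPts86.SchImageApps
import Groth.Agent.SpFP87.CutOut
import Groth.Agent.Div89.Comap
import Groth.Prelude.Def_AlgSpModX

/-!
The ideals of representable morphisms on affine etale charts.
-/

universe u

set_option autoImplicit false
set_option backward.isDefEq.respectTransparency false
set_option linter.style.haveILetI false

open CategoryTheory CategoryTheory.Limits AlgebraicGeometry Opposite
open AlgSp
open Groth.Agent.SpFP87

namespace Groth.Agent.SpPts86

theorem ofIdealTop_ideal_top {T : Scheme.{u}} [IsAffine T] (I : Ideal Γ(T, ⊤)) :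
    (Scheme.IdealSheafData.ofIdealTop I).ideal ⟨⊤, isAffineOpen_top T⟩ = I := by
  simp

theorem ker_ideal_top {A T : Scheme.{u}} [IsAffine T] (h : A ⟶ T) :
    h.ker.ideal ⟨⊤, isAffineOpen_top T⟩ = RingHom.ker h.appTop.hom := by
  rw [Scheme.ker_of_isAffine, ofIdealTop_ideal_top]

variable {S : Scheme.{u}} {X Y Z : Sp S}

theorem isImCover_of_representable {f : X ⟶ Y} (hf : Representable f) {T : Over S}
    (t : (yon S).obj T ⟶ Y) : IsImCover f t (hf.snd t) := by
  refine ⟨⟨hf.fst t, (hf.isPullback t).w⟩, fun B b hB e => ?_⟩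
  obtain ⟨m, hm⟩ := (yon S).map_surjective ((hf.isPullback t).lift b ((yon S).map hB) e)
  exact ⟨B, 𝟙 B, m, inferInstanceAs (Flat (𝟙 B.left)), inferInstanceAs (Surjective (𝟙 B.left)),
    (yon S).map_injective (by rw [Functor.map_comp, hm, IsPullback.lift_snd, Category.id_comp])⟩

theorem idealOfRep_ideal_eq {f : X ⟶ Y} (hf : Representable f) (E : EtOver Y)
    (hE : IsAffine E.obj.left.left) :
    (idealOfRep hf).ideal E hE = (imIdeal f E.obj.hom).ideal ⟨⊤, @isAffineOpen_top _ hE⟩ := by
  haveI := hE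
  rw [(isImCover_of_representable hf E.obj.hom).imIdeal_eq, ker_ideal_top]
  rfl

theorem imIdeal_closed_eq {i : Z ⟶ Y} (hi : RepWith @IsClosedImmersion i) {T : Over S}
    (t : (yon S).obj T ⟶ Y) : imIdeal i t = idealOf hi t :=
  (isImCover_of_representable hi.rep t).imIdeal_eq

/-- An affine open of an etale chart is an etale chart. -/
theorem repWith_etale_opIncl {U : Over S} {a : (yon S).obj U ⟶ Y} (ha : RepWith @Etale a)
    (W : U.left.Opens) : RepWith @Etale ((yon S).map (opIncl U W) ≫ a) :=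
  (repWith_isMultiplicative (S := S) @Etale).comp_mem _ _
    ((repWith_yon_map_iff _ _).2 (inferInstanceAs (Etale W.ι))) ha

/-- A morphism factors through a closed subspace iff on affine etale charts the ideal of the subspace
lies in the ideal of the image. -/
theorem factor_iff_idealOf_le (hY : IsAlgSpace Y) {i : Z ⟶ Y} (hi : RepWith @IsClosedImmersion i)
    (x : X ⟶ Y) :
    (∃ k : X ⟶ Z, k ≫ i = x) ↔ ∀ (E : EtOver Y), IsAffine E.obj.left.left →
      idealOf hi E.obj.hom ≤ imIdeal x E.obj.hom := by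
  refine ⟨fun h E _ => idealOf_le_imIdeal hi h _, fun H => ?_⟩
  have := mono_of_repWith_le isClosedImmersion_le_monomorphisms hi
  obtain ⟨U, a, ha, has⟩ := hY.atlas
  refine exists_factor_of_forall_yon x fun T b => exists_lift_of_comap_eq_bot hi ha has _ ?_
  intro T' e r _ w
  refine Desc59.IdealFpqc.ext_of_family (fun V : U.left.affineOpens => (r.left ⁻¹ᵁ V.1).ι)
    (fun V => inferInstance) (fun z => ?_) fun V => ?_
  · obtain ⟨V, y, hy⟩ := exists_mem_affineOpens U.left (r.left z)
    exact ⟨V, ⟨z, show r.left z ∈ V.1 from hy ▸ y.2⟩, rfl⟩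
  · let hV : opOver T' (r.left ⁻¹ᵁ V.1) ⟶ opOver U V.1 := Over.homMk (r.left ∣_ V.1) (by
      show (r.left ∣_ V.1) ≫ V.1.ι ≫ U.hom = (r.left ⁻¹ᵁ V.1).ι ≫ T'.hom
      rw [morphismRestrict_ι_assoc, Over.w r])
    have hc : opIncl T' (r.left ⁻¹ᵁ V.1) ≫ r = hV ≫ opIncl U V.1 :=
      Over.OverMorphism.ext (morphismRestrict_ι _ _).symm
    have h1 := H (EtOver.mk _ (repWith_etale_opIncl ha V.1)) V.2
    rw [Scheme.IdealSheafData.comap_bot, ← Scheme.IdealSheafData.comap_comp, ← morphismRestrict_ι,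
      Scheme.IdealSheafData.comap_comp, comap_eq_bot_iff]
    rw [← show (opIncl U V.1).left = V.1.ι from rfl, ← idealOf_comp]
    refine h1.trans (imIdeal_le_ker ((yon S).map (opIncl T' _) ≫ (yon S).map e ≫ b) hV ?_)
    show (((yon S).map (opIncl T' (r.left ⁻¹ᵁ V.1)) ≫ (yon S).map e ≫ b) ≫ x :) =
      (yon S).map hV ≫ (yon S).map (opIncl U V.1) ≫ a
    rw [Category.assoc, Category.assoc, ← w, ← Functor.map_comp_assoc, hc, Functor.map_comp_assoc]

/-- Inclusion of ideals on all affine etale charts, for a closed subspace. -/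
theorem idealOfRep_le_iff {i : Z ⟶ Y} (hi : RepWith @IsClosedImmersion i) {x : X ⟶ Y}
    (hx : Representable x) :
    idealOfRep hi.1 ≤ idealOfRep hx ↔ ∀ (E : EtOver Y), IsAffine E.obj.left.left →
      idealOf hi E.obj.hom ≤ imIdeal x E.obj.hom := by
  rw [IdealEt.le_def]
  constructor
  · intro H E hE
    refine Scheme.IdealSheafData.le_of_isAffine ?_
    have h := H E hE
    rwa [idealOfRep_ideal hi E hE, idealOfRep_ideal_eq hx E hE] at h
  · intro H E hE
    rw [idealOfRep_ideal hi E hE, idealOfRep_ideal_eq hx E hE]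
    exact H E hE ⟨⊤, isAffineOpen_top _⟩

theorem idealOfRep_le_iff_factor (hY : IsAlgSpace Y) {i : Z ⟶ Y} (hi : RepWith @IsClosedImmersion i)
    {x : X ⟶ Y} (hx : Representable x) :
    idealOfRep hi.1 ≤ idealOfRep hx ↔ ∃ k : X ⟶ Z, k ≫ i = x := by
  rw [idealOfRep_le_iff hi hx, factor_iff_idealOf_le hY hi x]

theorem idealOfRep_isQCoh {f : X ⟶ Y} (hf : Representable f) (hqc : IsQuasiCompactMor f) :
    (idealOfRep hf).IsQCoh := by
  intro E E' g hE hE'
  haveI := hE
  haveI := hE'
  haveI := EtOver.etale_left g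
  have h : imIdeal f E'.obj.hom = (imIdeal f E.obj.hom).comap g.hom.left.left :=
    (congrArg (imIdeal f) (EtOver.w g).symm).trans (imIdeal_comap hqc g.hom.left)
  rw [idealOfRep_ideal_eq hf E hE, idealOfRep_ideal_eq hf E' hE', h,
    Div89.ideal_comap_top_of_isAffine]

theorem isSchImage_iff_isCutOutBy (hY : IsAlgSpace Y) {f : X ⟶ Y} (hf : Representable f)
    (hqc : IsQuasiCompactMor f) (i : Z ⟶ Y) :
    IsSchImage f i ↔ IsCutOutBy (idealOfRep hf) i := by
  constructor
  · intro h
    refine ⟨h.1, ?_⟩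
    obtain ⟨I, hI⟩ : ∃ I, I = idealOfRep hf := ⟨_, rfl⟩
    have : ∀ (E : EtOver Y) (hE : IsAffine E.obj.left.left),
        (idealOfRep h.1.1).ideal E hE = (idealOfRep hf).ideal E hE := fun E hE => by
      rw [idealOfRep_ideal h.1 E hE, idealOfRep_ideal_eq hf E hE,
        idealOf_schImage hY hqc h h.1 _ E.property]
    exact IdealEt.ext (funext fun E => funext fun hE => this E hE)
  · rintro ⟨hi, e⟩
    have heq : ∀ (E : EtOver Y), IsAffine E.obj.left.left →
        idealOf hi E.obj.hom = imIdeal f E.obj.hom := fun E hE => by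
      haveI := hE
      refine Scheme.IdealSheafData.ext_of_isAffine ?_
      have := congrArg (fun I => I.ideal E hE) e
      rwa [idealOfRep_ideal hi E hE, idealOfRep_ideal_eq hf E hE] at this
    refine ⟨hi, (factor_iff_idealOf_le hY hi f).2 fun E hE => (heq E hE).le,
      fun Z' i' _ hi' hfac => (factor_iff_idealOf_le hY hi' i).2 fun E hE => ?_⟩
    rw [imIdeal_closed_eq hi, heq E hE]
    exact idealOf_le_imIdeal hi' hfac _

end Groth.Agent.SpPts86
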