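import Groth.Agent.SpPts86.FiniteCrit
import Groth.Agent.SpPts86.ImmDescent
import Groth.Agent.SpFP87.Basic
import Mathlib.CategoryTheory.Limits.Constructions.Over.Connected
import Mathlib.AlgebraicGeometry.AffineTransitionLimit
import Mathlib.CategoryTheory.Sites.PreservesLimits

/-!
Limits of sheaves along affine transition maps: affine charts of the limit.
-/

universe u

set_option autoImplicit false
set_option backward.isDefEq.respectTransparency false
set_option linter.style.haveILetI false

open CategoryTheory CategoryTheory.Limits AlgebraicGeometry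
open AlgSp

namespace Groth.Agent.SpPts86

variable {S : Scheme.{u}} {I : Type u} [SmallCategory I] [IsCofiltered I] {D : I ⥤ Sp S}

/-- An affine scheme over a term of the system pulls back to a system of affine schemes, whose limit is
the pullback to the limit sheaf. -/
theorem exists_affine_limit_chart (hDa : ∀ (i j : I) (φ : i ⟶ j), IsAffineMor (D.map φ))
    {c : Cone D} (hc : IsLimit c) (i : I) {Z : Over S} (hZ : IsAffine Z.left) (g : (yon S).obj Z ⟶ D.obj i) :
    ∃ (W : Over i ⥤ Over S) (fst : ∀ k, (yon S).obj (W.obj k) ⟶ D.obj k.left) (w : ∀ k, W.obj k ⟶ Z)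
      (cL : Cone W) (_ : IsLimit cL) (_ : IsLimit ((Over.forget S).mapCone cL))
      (fL : (yon S).obj cL.pt ⟶ c.pt) (iL : cL.pt ⟶ Z),
      (∀ k, IsPullback (fst k) ((yon S).map (w k)) (D.map k.hom) g) ∧
      (∀ k, IsAffine (W.obj k).left) ∧
      (∀ {k l : Over i} (φ : k ⟶ l), (yon S).map (W.map φ) ≫ fst l = fst k ≫ D.map φ.left) ∧
      (∀ {k l : Over i} (φ : k ⟶ l), W.map φ ≫ w l = w k) ∧
      (∀ k, cL.π.app k ≫ w k = iL) ∧
      (∀ k, fL ≫ c.π.app k.left = (yon S).map (cL.π.app k) ≫ fst k) ∧
      IsPullback fL ((yon S).map iL) (c.π.app i) g ∧ IsAffine cL.pt.left := by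
  classical
  have hsq := fun k : Over i => hDa k.left i k.hom hZ g
  choose W w fst sq hW using hsq
  have hmap : ∀ {k l : Over i} (φ : k ⟶ l), ∃ e : W k ⟶ W l,
      (yon S).map e ≫ fst l = fst k ≫ D.map φ.left ∧ e ≫ w l = w k := by
    intro k l φ
    obtain ⟨e, he⟩ := (yon S).map_surjective ((sq l).lift (fst k ≫ D.map φ.left) ((yon S).map (w k))
      (by rw [Category.assoc, ← Functor.map_comp, Over.w φ, (sq k).w]))
    exact ⟨e, by rw [he, (sq l).lift_fst],
      (yon S).map_injective (by rw [Functor.map_comp, he, (sq l).lift_snd])⟩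
  choose e he₁ he₂ using @hmap
  have hext : ∀ {l : Over i} {A : Over S} (a b : A ⟶ W l),
      (yon S).map a ≫ fst l = (yon S).map b ≫ fst l → a ≫ w l = b ≫ w l → a = b :=
    fun {l} A a b h1 h2 => (yon S).map_injective ((sq l).hom_ext h1
      (by rw [← Functor.map_comp, ← Functor.map_comp, h2]))
  let F : Over i ⥤ Over S :=
    { obj := W
      map := fun φ => e φ
      map_id := fun k => hext _ _
          (by rw [he₁, Over.id_left, CategoryTheory.Functor.map_id, Category.comp_id,
            CategoryTheory.Functor.map_id, Category.id_comp])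
          (by rw [he₂, Category.id_comp])
      map_comp := fun {a b d} φ ψ => hext _ _
          (by rw [he₁, Functor.map_comp, Category.assoc, he₁, ← Category.assoc, he₁, Category.assoc,
            ← Functor.map_comp, Over.comp_left])
          (by rw [he₂, Category.assoc, he₂, he₂]) }
  let E : Over i ⥤ AffineScheme.{u} :=
    { obj := fun k => AffineScheme.mk (W k).left (hW k)
      map := fun φ => AffineScheme.ofHom (X := (W _).left) (Y := (W _).left) (e φ).left
      map_id := fun k => AffineScheme.forgetToScheme.map_injective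
        (congrArg CommaMorphism.left (F.map_id k))
      map_comp := fun {a b d} φ ψ => AffineScheme.forgetToScheme.map_injective
        (congrArg CommaMorphism.left (F.map_comp φ ψ)) }
  let cE := AffineScheme.forgetToScheme.mapCone (limit.cone E)
  have hcE : IsLimit cE := isLimitOfPreserves _ (limit.isLimit E)
  let t : Over i := Over.mk (𝟙 i)
  have hto : ∀ k : Over i, ∃ φ : k ⟶ t, φ.left = k.hom := fun k => ⟨Over.homMk k.hom (by simp [t]), rfl⟩
  have hcw : ∀ {k l : Over i} (φ : k ⟶ l), cE.π.app k ≫ (e φ).left = cE.π.app l := fun φ => cE.w φ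
  let str : cE.pt ⟶ S := cE.π.app t ≫ (W t).hom
  have hstr : ∀ k, cE.π.app k ≫ (W k).hom = str := fun k => by
    obtain ⟨φ, -⟩ := hto k
    show cE.π.app k ≫ (W k).hom = cE.π.app t ≫ (W t).hom
    rw [← hcw φ, ← Over.w (e φ), Category.assoc]
  let cL : Cone F :=
    { pt := Over.mk str
      π := { app := fun k => Over.homMk (cE.π.app k) (hstr k)
             naturality := fun k l φ => by
              apply Over.OverMorphism.ext
              exact (Category.id_comp _).trans (hcw φ).symm } }
  haveI : IsConnected (Over i) := IsCofiltered.isConnected _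
  have hLS : IsLimit ((Over.forget S).mapCone cL) :=
    hcE.ofIsoLimit (Cone.ext (Iso.refl _) (fun k => (Category.id_comp _).symm))
  have hL : IsLimit cL := isLimitOfReflects (Over.forget S) hLS
  let cD : Cone (Over.forget i ⋙ D) :=
    { pt := (yon S).obj cL.pt
      π := { app := fun k => (yon S).map (cL.π.app k) ≫ fst k
             naturality := fun k l φ => by
              have h2 : (yon S).map (cL.π.app l) ≫ fst l = ((yon S).map (cL.π.app k) ≫ fst k) ≫ D.map φ.left := by
                rw [← cL.w φ, Functor.map_comp, Category.assoc, Category.assoc]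
                exact congrArg _ (he₁ φ)
              exact (Category.id_comp _).trans h2 } }
  let cD' : Cone D := (Functor.Initial.extendCone (F := Over.forget i)).obj cD
  have hcD' : ∀ k : Over i, cD'.π.app k.left = (yon S).map (cL.π.app k) ≫ fst k := fun k =>
    Functor.Initial.extendCone_obj_π_app' (F := Over.forget i) cD (𝟙 k.left) |>.trans (by simp [cD])
  let fL := hc.lift cD'
  let iL := cL.π.app t ≫ w t
  have hiL : ∀ k, cL.π.app k ≫ w k = iL := fun k => by
    obtain ⟨φ, -⟩ := hto k
    show _ = cL.π.app t ≫ w t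
    rw [← he₂ φ, ← cL.w φ, Category.assoc]
  have hfL : ∀ k, fL ≫ c.π.app k.left = (yon S).map (cL.π.app k) ≫ fst k := fun k => by
    rw [hc.fac, hcD']
  refine ⟨F, fst, w, cL, hL, hLS, fL, iL, sq, hW, fun φ => he₁ φ, fun φ => he₂ φ, hiL, hfL, ?_,
    inferInstanceAs (IsAffine ((limit E).obj))⟩
  have hY := isLimitOfPreserves (yon S) hL
  have hw : fL ≫ c.π.app i = (yon S).map iL ≫ g := by
    rw [show c.π.app i = c.π.app t.left from rfl, hfL t, ← hiL t, Functor.map_comp, Category.assoc,
      ← (sq t).w]
    congr 1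
    change fst t = fst t ≫ D.map (𝟙 i)
    exact (((fst t) ≫= D.map_id t.left).trans (Category.comp_id _)).symm
  refine IsPullback.mk' hw (fun Q a a' h1 h2 => hY.hom_ext fun k => (sq k).hom_ext ?_ ?_) fun Q a b hab => ?_
  · change (a ≫ (yon S).map (cL.π.app k)) ≫ fst k = (a' ≫ (yon S).map (cL.π.app k)) ≫ fst k
    rw [Category.assoc, Category.assoc, ← hfL, reassoc_of% h1]
  · change (a ≫ (yon S).map (cL.π.app k)) ≫ (yon S).map (w k) = (a' ≫ (yon S).map (cL.π.app k)) ≫ (yon S).map (w k)
    rw [Category.assoc, Category.assoc, ← Functor.map_comp, hiL, h2]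
  · have hab' : ∀ k : Over i, (a ≫ c.π.app k.left) ≫ D.map k.hom = b ≫ g := fun k => by
      rw [Category.assoc, c.w, hab]
    let cQ : Cone (F ⋙ yon S) :=
      { pt := Q
        π := { app := fun k => (sq k).lift (a ≫ c.π.app k.left) b (hab' k)
               naturality := fun k l φ => by
                refine (Category.id_comp _).trans ((sq l).hom_ext ?_ ?_)
                · rw [(sq l).lift_fst]
                  change _ = ((sq k).lift _ _ _ ≫ (yon S).map (e φ)) ≫ fst l
                  rw [Category.assoc, he₁, ← Category.assoc, (sq k).lift_fst, Category.assoc, c.w]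
                · rw [(sq l).lift_snd]
                  change _ = ((sq k).lift _ _ _ ≫ (yon S).map (e φ)) ≫ (yon S).map (w l)
                  rw [Category.assoc, ← Functor.map_comp, he₂, (sq k).lift_snd] } }
    have hl : ∀ k, hY.lift cQ ≫ (yon S).map (cL.π.app k) = (sq k).lift (a ≫ c.π.app k.left) b (hab' k) :=
      fun k => hY.fac cQ k
    refine ⟨hY.lift cQ, hc.hom_ext fun j => ?_, ?_⟩
    · obtain ⟨m, m₁, m₂, -⟩ := IsCofilteredOrEmpty.cone_objs j i
      let k : Over i := Over.mk m₂
      rw [← c.w m₁, ← Category.assoc, ← Category.assoc]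
      congr 1
      change (hY.lift cQ ≫ fL) ≫ c.π.app k.left = a ≫ c.π.app k.left
      rw [Category.assoc, hfL, ← Category.assoc, hl, (sq k).lift_fst]
    · rw [← hiL t, Functor.map_comp, ← Category.assoc, hl, (sq t).lift_snd]

/-- The projections from a limit along affine transition maps are affine. -/
theorem isAffineMor_π (hDa : ∀ (i j : I) (φ : i ⟶ j), IsAffineMor (D.map φ))
    {c : Cone D} (hc : IsLimit c) (i : I) : IsAffineMor (c.π.app i) := by
  intro Z hZ g
  obtain ⟨W, fst, w, cL, -, -, fL, iL, -, -, -, -, -, -, sq, hL⟩ := exists_affine_limit_chart hDa hc i hZ g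
  exact ⟨cL.pt, iL, fL, sq, hL⟩

theorem isAlgSpace_limit (hD : ∀ i, IsAlgSpace (D.obj i))
    (hDa : ∀ (i j : I) (φ : i ⟶ j), IsAffineMor (D.map φ))
    {c : Cone D} (hc : IsLimit c) : IsAlgSpace c.pt := by
  obtain ⟨i⟩ := IsCofiltered.nonempty (C := I)
  exact Groth.Agent.SpFP87.isAlgSpace_of_representable (c.π.app i)
    (repWith_of_isAffineMor (isAffineMor_π hDa hc i)).rep (hD i)

end Groth.Agent.SpPts86
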