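import Groth.Agent.SpPts86.DescMor
import Groth.Agent.SpPts86.FiniteCrit
import Groth.Agent.SpPts86.PieceChart
import Groth.Agent.SpPts86.ImmDescent
import Groth.Agent.SpPts86.Boot
import Groth.Agent.SpPts86.Finite
import Groth.Agent.SpFP87.MonoTfae
import Groth.Agent.SpFP87.ThickCart
import Groth.Agent.SpFP87.LocalST
import Groth.Agent.SpFP87.FpqcMono
import Groth.Agent.LimDesc62.QuasiFinite
import Groth.Agent.Lim60.Props

/-!
Reindexing a descent problem to a later stage; isomorphisms, closed immersions, finite morphisms.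
-/

universe u

set_option autoImplicit false
set_option backward.isDefEq.respectTransparency false
set_option linter.style.haveILetI false

open CategoryTheory CategoryTheory.Limits AlgebraicGeometry
open AlgSp Groth.Agent.SpFP87

namespace Groth.Agent.SpPts86

variable {S : Scheme.{u}}

/-- Lifting a base change along an intermediate stage. -/
theorem exists_stage_lift {X₀ Y₀ B₀ B₁ B₂ Y₁ Y₂ X₁ X₂ : Sp S} {f₀ : X₀ ⟶ Y₀} {b₀ : Y₀ ⟶ B₀}
    {β : B₁ ⟶ B₀} {β' : B₂ ⟶ B₁} {β'' : B₂ ⟶ B₀} (e : β' ≫ β = β'')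
    {p₁ : Y₁ ⟶ Y₀} {q₁ : Y₁ ⟶ B₁} (hY₁ : IsPullback p₁ q₁ b₀ β)
    {r₁ : X₁ ⟶ X₀} {f₁ : X₁ ⟶ Y₁} (hX₁ : IsPullback r₁ f₁ f₀ p₁)
    {p₂ : Y₂ ⟶ Y₀} {q₂ : Y₂ ⟶ B₂} (hY₂ : IsPullback p₂ q₂ b₀ β'')
    {r₂ : X₂ ⟶ X₀} {f₂ : X₂ ⟶ Y₂} (hX₂ : IsPullback r₂ f₂ f₀ p₂) :
    ∃ (p : Y₂ ⟶ Y₁) (r : X₂ ⟶ X₁), IsPullback p q₂ q₁ β' ∧ IsPullback r f₂ f₁ p := by
  subst e
  let p := hY₁.lift p₂ (q₂ ≫ β') (by rw [Category.assoc]; exact hY₂.w)
  have hp : p ≫ p₁ = p₂ := hY₁.lift_fst _ _ _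
  let r := hX₁.lift r₂ (f₂ ≫ p) (by rw [Category.assoc, hp]; exact hX₂.w)
  exact ⟨p, r, IsPullback.of_right (hp.symm ▸ hY₂) (hY₁.lift_snd _ _ _) hY₁,
    IsPullback.of_right (by rw [hp, hX₁.lift_fst]; exact hX₂) (hX₁.lift_snd _ _ _) hX₁⟩

variable {I : Type u} [SmallCategory I] [IsCofiltered I] {D : I ⥤ Sp S}
  {c : Cone D} {i₀ : I} {X₀ Y₀ X Y : Sp S} {f₀ : X₀ ⟶ Y₀} {b₀ : Y₀ ⟶ D.obj i₀}
  {f : X ⟶ Y} {pY : Y ⟶ Y₀} {qY : Y ⟶ c.pt} {pX : X ⟶ X₀}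
  [QuasiSeparatedSpace ↥S] (hD : ∀ i, IsAlgSpace (D.obj i))
  (hDa : ∀ (i j : I) (φ : i ⟶ j), IsAffineMor (D.map φ)) (hc : IsLimit c)
  (hX₀ : IsAlgSpace X₀) (hY₀ : IsAlgSpace Y₀)
  (hXqc : IsQuasiCompactSp X₀) (hXqs : IsQuasiSeparatedSp X₀)
  (hYqc : IsQuasiCompactSp Y₀) (hYqs : IsQuasiSeparatedSp Y₀)
  (hY : IsPullback pY qY b₀ (c.π.app i₀)) (hX : IsPullback pX f f₀ pY)

include hD hDa hc hX₀ hY₀ hXqc hXqs hYqc hYqs hY hX

/-- A representable property descends once some stage is representable and separated. -/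
theorem descend_repWith_of_stage {H P : MorphismProperty Scheme.{u}} [P.IsStableUnderBaseChange]
    [P.IsLocalAtTarget Scheme.fppfPrecoverage] [EtLoc H] [H.DescendsAlong fppfSurj] [H.RespectsIso]
    (hd : LimDesc62.DescProp H P) (hH : LocP H f₀) (hf : RepWith P f) {j : I} (φ : j ⟶ i₀)
    (hj : ∀ (Xj Yj : Sp S) (fj : Xj ⟶ Yj) (pYj : Yj ⟶ Y₀) (qYj : Yj ⟶ D.obj j)
      (_ : IsPullback pYj qYj b₀ (D.map φ)) (pXj : Xj ⟶ X₀) (_ : IsPullback pXj fj f₀ pYj),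
      IsAlgSpace Xj → IsAlgSpace Yj → LocP H fj → Representable fj ∧ RepWith @QuasiSeparated fj) :
    ∃ (i : I) (ψ : i ⟶ i₀), ∀ (Xi Yi : Sp S) (fi : Xi ⟶ Yi) (pYi : Yi ⟶ Y₀) (qYi : Yi ⟶ D.obj i)
      (_ : IsPullback pYi qYi b₀ (D.map ψ)) (pXi : Xi ⟶ X₀) (_ : IsPullback pXi fi f₀ pYi),
      RepWith P fi := by
  haveI := (isQuasiCompactSp_iff_compactSpace hX₀).1 hXqc
  have sY := IsPullback.of_hasPullback b₀ (D.map φ)
  have sX := IsPullback.of_hasPullback f₀ (pullback.fst b₀ (D.map φ))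
  have hYj := isAlgSpace_of_isPullback sY hY₀ (hD j) (hD i₀).diag
  have hXj := isAlgSpace_of_isPullback sX hX₀ hYj hY₀.diag
  have hHj : LocP H (pullback.snd f₀ (pullback.fst b₀ (D.map φ))) := locP_baseChange sX hX₀ hY₀ hYj hH
  obtain ⟨hrep, hqs⟩ := hj _ _ _ _ _ sY _ sX hXj hYj hHj
  have hqc : RepWith @QuasiCompact (pullback.snd f₀ (pullback.fst b₀ (D.map φ))) :=
    repWith_quasiCompact_of_isQuasiCompactMor hrep
      (isQuasiCompactMor_baseChange (isQuasiCompactMor_of_qc_qs hX₀ hY₀ hYqs) sX)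
  have hb : RepWith @QuasiCompact (pullback.fst b₀ (D.map φ)) :=
    (repWith_isStableUnderBaseChange _).of_isPullback sY.flip
      (repWith_mono (fun _ _ g (hg : IsAffineHom g) => (inferInstance : QuasiCompact g))
        (repWith_of_isAffineMor (hDa j i₀ φ)))
  have hYjqc : IsQuasiCompactSp (pullback b₀ (D.map φ)) :=
    isQuasiCompactMor_of_repWith hY₀ hb hY₀ hYqc (𝟙 Y₀) (𝟙 _) (pullback.fst b₀ (D.map φ))
      (IsPullback.of_horiz_isIso ⟨by simp⟩)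
  obtain ⟨p, r, hp, hr⟩ := exists_stage_lift (c.w φ) sY sX hY hX
  obtain ⟨k, ψ, hk⟩ := descend_repWith hDa hc hYj hYjqc hp hr hd hqc hqs
    (repWith_of_locP hYj hrep hHj) hf
  refine ⟨k, ψ ≫ φ, fun Xi Yi fi pYi qYi hYi pXi hXi => ?_⟩
  obtain ⟨p', r', hp', hr'⟩ := exists_stage_lift (D.map_comp ψ φ).symm sY sX hYi hXi
  exact hk _ _ _ _ _ hp' _ hr'

theorem descend_closedImm (hf : RepWith @IsClosedImmersion f) (hf₀ : LocP @LocallyOfFiniteType f₀) :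
    ∃ (i : I) (φ : i ⟶ i₀), ∀ (Xi Yi : Sp S) (fi : Xi ⟶ Yi) (pYi : Yi ⟶ Y₀) (qYi : Yi ⟶ D.obj i)
      (_ : IsPullback pYi qYi b₀ (D.map φ)) (pXi : Xi ⟶ X₀) (_ : IsPullback pXi fi f₀ pYi),
      RepWith @IsClosedImmersion fi := by
  have := isClosedImmersion_descends.{u}
  have := isLocalAtTarget_fppf (@IsClosedImmersion : MorphismProperty Scheme.{u})
  have := lft_descends.{u}
  have : Mono f := mono_of_repWith_le (fun _ _ g (hg : IsClosedImmersion g) => (inferInstance : Mono g)) hf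
  obtain ⟨j, φ, hj⟩ := descend_mono hDa hc hX₀ hY₀ hXqc hXqs hYqs hY hX hf₀
  refine descend_repWith_of_stage hD hDa hc hX₀ hY₀ hXqc hXqs hYqc hYqs hY hX
    LimDesc62.descProp_isClosedImmersion hf₀ hf φ
    fun Xj Yj fj pYj qYj hYj pXj hXj hXjA hYjA hHj => ?_
  have := hj Xj Yj fj pYj qYj hYj pXj hXj
  have hr := representable_of_lft_mono hXjA hYjA hHj (f := fj)
  exact ⟨hr, repWith_mono (fun _ _ g hg => have := monomorphisms_le_isSeparated g hg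
    (inferInstance : QuasiSeparated g)) (repWith_monomorphisms_of_mono hr)⟩

theorem descend_finite (hf : IsFiniteMor f) (hf₀ : LocP @LocallyOfFiniteType f₀) :
    ∃ (i : I) (φ : i ⟶ i₀), ∀ (Xi Yi : Sp S) (fi : Xi ⟶ Yi) (pYi : Yi ⟶ Y₀) (qYi : Yi ⟶ D.obj i)
      (_ : IsPullback pYi qYi b₀ (D.map φ)) (pXi : Xi ⟶ X₀) (_ : IsPullback pXi fi f₀ pYi),
      IsFiniteMor fi := by
  have := isFinite_descends.{u}
  have := isLocalAtTarget_fppf (@IsFinite : MorphismProperty Scheme.{u})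
  have := lft_descends.{u}
  have hYA : IsAlgSpace Y := isAlgSpace_of_isPullback hY hY₀ (isAlgSpace_limit hD hDa hc) (hD i₀).diag
  have hXA := isAlgSpace_of_isPullback hX hX₀ hYA hY₀.diag
  have hf' := (isFiniteMor_iff f).1 hf
  obtain ⟨j₁, φ₁, hj₁⟩ := descend_separated hDa hc hX₀ hY₀ hXqc hXqs hYqs hY hX
    (isSeparatedMor_of_repWith_le (fun _ _ g (hg : IsFinite g) => (inferInstance : IsSeparated g)) hXA hf')
  obtain ⟨j₂, φ₂, hj₂⟩ := descend_locP hD hDa hc hX₀ hY₀ hXqc hYqc hYqs hY hX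
    LimDesc62.descProp_locallyQuasiFinite hf₀
    (locP_of_repWith hXA.diag hYA
      (repWith_mono (fun _ _ g (hg : IsFinite g) => (inferInstance : LocallyQuasiFinite g)) hf'))
  obtain ⟨j, a₁, a₂, e⟩ := IsCofiltered.cospan φ₁ φ₂
  obtain ⟨i, ψ, hi⟩ := descend_repWith_of_stage hD hDa hc hX₀ hY₀ hXqc hXqs hYqc hYqs hY hX
    Lim60.descProp_isFinite hf₀ hf' (a₁ ≫ φ₁)
    fun Xj Yj fj pYj qYj hYj pXj hXj hXjA hYjA hHj => by
      have s₁ := IsPullback.of_hasPullback b₀ (D.map φ₁)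
      have t₁ := IsPullback.of_hasPullback f₀ (pullback.fst b₀ (D.map φ₁))
      obtain ⟨u₁, v₁, -, hv₁⟩ := exists_stage_lift (D.map_comp a₁ φ₁).symm s₁ t₁ hYj hXj
      have hs : IsSeparatedMor fj := isSeparatedMor_of_isPullback hv₁ (hj₁ _ _ _ _ _ s₁ _ t₁)
      have s₂ := IsPullback.of_hasPullback b₀ (D.map φ₂)
      have t₂ := IsPullback.of_hasPullback f₀ (pullback.fst b₀ (D.map φ₂))
      obtain ⟨u₂, v₂, -, hv₂⟩ :=
        exists_stage_lift ((D.map_comp a₂ φ₂).symm.trans (congrArg D.map e.symm)) s₂ t₂ hYj hXj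
      have hA₂ := isAlgSpace_of_isPullback s₂ hY₀ (hD j₂) (hD i₀).diag
      have hq : LocP @LocallyQuasiFinite fj := locP_baseChange hv₂
        (isAlgSpace_of_isPullback t₂ hX₀ hA₂ hY₀.diag) hA₂ hYjA (hj₂ _ _ _ _ _ s₂ _ t₂)
      have hr := representable_of_lqf_separated hXjA hYjA hs fun U V a b h ha hb w =>
        ⟨hq a b h ha hb w, hHj a b h ha hb w⟩
      refine ⟨hr, ?_⟩
      exact repWith_mono (fun _ _ g (hg : IsSeparated g) => (inferInstance : QuasiSeparated g))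
        (⟨hr, fun T V g p s sq => isSeparated_of_isSeparatedMor (isSeparatedMor_of_isPullback sq hs)⟩ :
          RepWith @IsSeparated fj)
  exact ⟨i, ψ, fun Xi Yi fi pYi qYi hYi pXi hXi =>
    (isFiniteMor_iff fi).2 (hi Xi Yi fi pYi qYi hYi pXi hXi)⟩

theorem descend_isIso [IsIso f] (hf₀ : LocP @LocallyOfFinitePresentation f₀) :
    ∃ (i : I) (φ : i ⟶ i₀), ∀ (Xi Yi : Sp S) (fi : Xi ⟶ Yi) (pYi : Yi ⟶ Y₀) (qYi : Yi ⟶ D.obj i)
      (_ : IsPullback pYi qYi b₀ (D.map φ)) (pXi : Xi ⟶ X₀) (_ : IsPullback pXi fi f₀ pYi),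
      IsIso fi := by
  have := isLocalAtTarget_fppf (MorphismProperty.isomorphisms Scheme.{u})
  have := lfp_descends.{u}
  obtain ⟨j, φ, hj⟩ := descend_mono hDa hc hX₀ hY₀ hXqc hXqs hYqs hY hX
    (fun U V a b h ha hb w => have := hf₀ a b h ha hb w
      (inferInstance : LocallyOfFiniteType h.left))
  obtain ⟨i, ψ, hi⟩ := descend_repWith_of_stage hD hDa hc hX₀ hY₀ hXqc hXqs hYqc hYqs hY hX
    LimDesc62.descProp_isIso hf₀ (repWith_isomorphisms_of_isIso f) φ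
    fun Xj Yj fj pYj qYj hYj pXj hXj hXjA hYjA hHj => by
      have := hj Xj Yj fj pYj qYj hYj pXj hXj
      have hr := representable_of_lft_mono hXjA hYjA (f := fj) fun U V a b h ha hb w =>
        have := hHj a b h ha hb w; (inferInstance : LocallyOfFiniteType h.left)
      exact ⟨hr, repWith_mono (fun _ _ g hg => have := monomorphisms_le_isSeparated g hg
        (inferInstance : QuasiSeparated g)) (repWith_monomorphisms_of_mono hr)⟩
  exact ⟨i, ψ, fun Xi Yi fi pYi qYi hYi pXi hXi =>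
    isIso_of_repWith_isomorphisms (hi Xi Yi fi pYi qYi hYi pXi hXi)⟩

end Groth.Agent.SpPts86
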