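import Groth.Agent.SpPts86.EvClosed
import Groth.Agent.SpPts86.DescRep
import Groth.Agent.SpPts86.Proper

/-!
If the limit is separated over a base, so are the late stages.
-/

universe u

set_option autoImplicit false
set_option backward.isDefEq.respectTransparency false
set_option linter.style.haveILetI false

open CategoryTheory CategoryTheory.Limits AlgebraicGeometry
open AlgSp Groth.Agent.SpFP87

namespace Groth.Agent.SpPts86

variable {S : Scheme.{u}}

theorem isPullback_map_fst {A B C T : Sp S} {f : A ⟶ T} {f' : B ⟶ T} (g : C ⟶ T) (a : B ⟶ A)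
    (e : a ≫ f = f') :
    IsPullback (pullback.map f' g f g a (𝟙 C) (𝟙 T) (by simp [e]) (by simp)) (pullback.fst f' g)
      (pullback.fst f g) a := by
  subst e
  refine IsPullback.of_right ?_ (pullback.lift_fst _ _ _) (IsPullback.of_hasPullback f g).flip
  rw [pullback.lift_snd, Category.comp_id]
  exact (IsPullback.of_hasPullback (a ≫ f) g).flip

theorem isPullback_map_snd {A B C T : Sp S} {f : A ⟶ T} {f' : B ⟶ T} (g : C ⟶ T) (a : B ⟶ A)
    (e : a ≫ f = f') :
    IsPullback (pullback.map g f' g f (𝟙 C) a (𝟙 T) (by simp) (by simp [e])) (pullback.snd g f')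
      (pullback.snd g f) a := by
  subst e
  refine IsPullback.of_right ?_ (pullback.lift_snd _ _ _) (IsPullback.of_hasPullback g f)
  rw [pullback.lift_fst, Category.comp_id]
  exact IsPullback.of_hasPullback g (a ≫ f)

variable {I : Type u} [SmallCategory I] [IsCofiltered I] {Y : Sp S} {D : I ⥤ Sp S}
  (t : D ⟶ (Functor.const I).obj Y)

/-- The system of base changes of `D` along a map to the base. -/
noncomputable def bcSys {Z : Sp S} (g : Z ⟶ Y) : I ⥤ Sp S where
  obj k := pullback (t.app k) g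
  map {j k} φ := pullback.map (t.app j) g (t.app k) g (D.map φ) (𝟙 Z) (𝟙 Y) (by simp [t.naturality φ]) (by simp)
  map_id k := by apply pullback.hom_ext <;> simp
  map_comp φ ψ := by apply pullback.hom_ext <;> simp

/-- The limit cone of the system of base changes. -/
noncomputable def bcCone {Z : Sp S} (g : Z ⟶ Y) {c : Cone D} (gl : c.pt ⟶ Y)
    (hg : ∀ i, c.π.app i ≫ t.app i = gl) : Cone (bcSys t g) where
  pt := pullback gl g
  π :=
    { app := fun k => pullback.map gl g (t.app k) g (c.π.app k) (𝟙 Z) (𝟙 Y) (by simp [hg]) (by simp)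
      naturality := fun j k φ => by
        show 𝟙 _ ≫ _ = _ ≫ pullback.map (t.app j) g (t.app k) g (D.map φ) (𝟙 Z) (𝟙 Y) (by simp [t.naturality φ]) (by simp)
        apply pullback.hom_ext <;> simp }

theorem nonempty_isLimit_bcCone {Z : Sp S} (g : Z ⟶ Y) {c : Cone D} (hc : IsLimit c) (gl : c.pt ⟶ Y)
    (hg : ∀ i, c.π.app i ≫ t.app i = gl) : Nonempty (IsLimit (bcCone t g gl hg)) := by
  obtain ⟨i₁⟩ := IsCofiltered.nonempty (C := I)
  have hs : ∀ {j k : I} (φ : j ⟶ k), (bcSys t g).map φ ≫ pullback.snd (t.app k) g = pullback.snd (t.app j) g :=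
    fun φ => (pullback.lift_snd _ _ _).trans (Category.comp_id _)
  have hf : ∀ {j k : I} (φ : j ⟶ k), (bcSys t g).map φ ≫ pullback.fst (t.app k) g =
      pullback.fst (t.app j) g ≫ D.map φ :=
    fun φ => pullback.lift_fst _ _ _
  let cD : Cone (bcSys t g) → Cone D := fun s =>
    { pt := s.pt
      π := { app := fun k => s.π.app k ≫ pullback.fst (t.app k) g
             naturality := fun j k φ => by
              show 𝟙 _ ≫ _ = (_ ≫ _) ≫ _
              rw [Category.id_comp, ← s.w φ, Category.assoc, Category.assoc]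
              exact congrArg _ (hf φ) } }
  have hb : ∀ (s : Cone (bcSys t g)) (k : I),
      s.π.app k ≫ pullback.snd (t.app k) g = s.π.app i₁ ≫ pullback.snd (t.app i₁) g := fun s k => by
    obtain ⟨m, a, b, -⟩ := IsCofilteredOrEmpty.cone_objs k i₁
    rw [← s.w a, ← s.w b, Category.assoc, Category.assoc]
    exact congrArg _ ((hs a).trans (hs b).symm)
  refine ⟨⟨fun s => pullback.lift (hc.lift (cD s)) (s.π.app i₁ ≫ pullback.snd (t.app i₁) g) ?_,
    fun s k => ?_, fun s m hm => ?_⟩⟩
  · rw [← hg i₁, ← Category.assoc, hc.fac]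
    show (s.π.app i₁ ≫ pullback.fst (t.app i₁) g) ≫ t.app i₁ = (s.π.app i₁ ≫ pullback.snd (t.app i₁) g) ≫ g
    exact (Category.assoc _ _ _).trans ((s.π.app i₁ ≫= pullback.condition).trans (Category.assoc _ _ _).symm)
  · apply pullback.hom_ext
    · simp [bcCone, cD]
    · simp [bcCone, hb s k]
  · apply pullback.hom_ext
    · rw [pullback.lift_fst]
      refine hc.hom_ext fun k => ?_
      rw [hc.fac, Category.assoc]
      show _ = s.π.app k ≫ _
      rw [← hm k]
      simp [bcCone]
    · rw [pullback.lift_snd, ← hm i₁]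
      simp [bcCone]

variable [QuasiSeparatedSpace ↥S]

theorem eventually_separated (hD : ∀ i, IsAlgSpace (D.obj i)) (hY : IsAlgSpace Y)
    (hDa : ∀ (i j : I) (φ : i ⟶ j), IsAffineMor (D.map φ)) {c : Cone D} (hc : IsLimit c)
    (g : c.pt ⟶ Y) (hg : ∀ i, c.π.app i ≫ t.app i = g)
    (hqc : ∀ i, IsQuasiCompactSp (D.obj i)) (hqs : ∀ i, IsQuasiSeparatedSp (D.obj i))
    (hYqs : IsQuasiSeparatedSp Y) (hX : IsSeparatedMor g) :
    ∃ i₀ : I, ∀ (i : I) (_ : i ⟶ i₀), IsSeparatedMor (t.app i) := by
  obtain ⟨i₁⟩ := IsCofiltered.nonempty (C := I)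
  have hXA : IsAlgSpace c.pt := isAlgSpace_limit hD hDa hc
  have hE : ∀ k, IsAlgSpace ((bcSys t g).obj k) := fun k => isAlgSpace_pullback _ g (hD k) hXA hY
  have hEa : ∀ (j k : I) (φ : j ⟶ k), IsAffineMor ((bcSys t g).map φ) := fun j k φ =>
    isAffineMor_of_repWith ((repWith_isStableUnderBaseChange _).of_isPullback
      (isPullback_map_fst g (D.map φ) (by simp)).flip (repWith_of_isAffineMor (hDa j k φ)))
  obtain ⟨hEc⟩ := nonempty_isLimit_bcCone t g hc g hg
  have hXqc : IsQuasiCompactSp c.pt :=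
    isQuasiCompactMor_of_repWith (hD i₁)
      (repWith_mono (fun _ _ a (ha : IsAffineHom a) => (inferInstance : QuasiCompact a))
        (repWith_of_isAffineMor (isAffineMor_π hDa hc i₁)))
      (hD i₁) (hqc i₁) (𝟙 _) (𝟙 c.pt) (c.π.app i₁) (IsPullback.of_horiz_isIso ⟨by simp⟩)
  haveI := (isQuasiCompactSp_iff_compactSpace (hD i₁)).1 (hqc i₁)
  have hEqc : IsQuasiCompactSp ((bcSys t g).obj i₁) :=
    isQuasiCompactMor_of_qc_qs (hD i₁) hY hYqs hXA hXqc g _ _ (IsPullback.of_hasPullback (t.app i₁) g)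
  have hd : RepWith @IsClosedImmersion (pullback.diagonal g : c.pt ⟶ (bcCone t g g hg).pt) := hX
  let Γ : ∀ k : I, c.pt ⟶ pullback (t.app k) g := fun k => pullback.lift (c.π.app k) (𝟙 c.pt) (by simp [hg])
  have hΓ : ∀ k, pullback.diagonal g ≫ (bcCone t g g hg).π.app k = Γ k := fun k => by
    apply pullback.hom_ext <;> simp [bcCone, Γ, pullback.diagonal] <;> exact Category.id_comp _
  have hl : LocP @LocallyOfFiniteType (pullback.diagonal g ≫ (bcCone t g g hg).π.app i₁) := by
    rw [hΓ]
    refine lft_of_lft_comp (g := pullback.snd (t.app i₁) g) hXA (hE i₁) hXA ?_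
    rw [pullback.lift_snd]
    haveI : MorphismProperty.ContainsIdentities (@LocallyOfFiniteType.{u} : MorphismProperty Scheme.{u}) :=
      ⟨fun _ => inferInstanceAs (LocallyOfFiniteType (𝟙 _))⟩
    exact locP_of_isIso (𝟙 c.pt) hXA hXA
  obtain ⟨k, hk⟩ := eventually_closedImm (D := bcSys t g) hE hEa hEc _ hd i₁ hEqc hl
  have hΓk : RepWith @IsClosedImmersion (Γ k) := hΓ k ▸ hk k (𝟙 k)
  -- descend the graph along the system
  let m : pullback (t.app k) g ⟶ pullback (t.app k) (t.app k) :=
    pullback.map _ g _ (t.app k) (𝟙 _) (c.π.app k) (𝟙 Y) (by simp) (by simp [hg])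
  have hm : IsPullback m (pullback.snd (t.app k) g) (pullback.snd (t.app k) (t.app k)) (c.π.app k) :=
    isPullback_map_snd (t.app k) (c.π.app k) (hg k)
  have hgr : ∀ {Z : Sp S} (g' : Z ⟶ Y) (π : Z ⟶ D.obj k) (e : π ≫ t.app k = g'),
      IsPullback π (pullback.lift π (𝟙 Z) (by simp [e])) (pullback.diagonal (t.app k))
        (pullback.map (t.app k) g' (t.app k) (t.app k) (𝟙 _) π (𝟙 Y) (by simp) (by simp [e])) := by
    intro Z g' π e
    refine IsPullback.of_bot ?_ ?_ (isPullback_map_snd (t.app k) π e)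
    · rw [pullback.lift_snd, pullback.diagonal_snd]
      exact IsPullback.of_vert_isIso ⟨by simp⟩
    · apply pullback.hom_ext <;> simp [pullback.diagonal] <;> exact (Category.id_comp _).symm
  have := isClosedImmersion_descends.{u}
  have := isLocalAtTarget_fppf (@IsClosedImmersion : MorphismProperty Scheme.{u})
  have hq := qc_pullback_self (f₀ := t.app k) (hD k) hY (hqc k) (hqs k) hYqs
  obtain ⟨j, φ, hj⟩ := descend_repWith hDa hc (isAlgSpace_pullback _ _ (hD k) (hD k) hY) hq.1 hm
    (hgr g (c.π.app k) (hg k)) LimDesc62.descProp_isClosedImmersion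
    (repWith_diagonal (hqs k)) (repWith_diagonal_props (hD k) (t.app k)).2
    (repWith_diagonal_props (hD k) (t.app k)).1 hΓk
  have ej : D.map φ ≫ t.app k = t.app j := by simp
  have hΓj := hj _ _ _ _ _ (isPullback_map_snd (t.app k) (D.map φ) ej) _ (hgr (t.app j) (D.map φ) ej)
  have hsj : IsSeparatedMor (t.app j) := by
    let M : pullback (t.app j) (t.app j) ⟶ pullback (t.app k) (t.app j) :=
      pullback.map _ _ _ _ (D.map φ) (𝟙 _) (𝟙 Y) (by simp) (by simp)
    have hM : RepWith @IsAffineHom M := (repWith_isStableUnderBaseChange _).of_isPullback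
      (isPullback_map_fst (t.app j) (D.map φ) ej).flip (repWith_of_isAffineMor (hDa j k φ))
    have hMs : IsSeparatedMor M := isSeparatedMor_of_repWith_le
      (fun _ _ a (ha : IsAffineHom a) => (inferInstance : IsSeparated a))
      (isAlgSpace_pullback _ _ (hD j) (hD j) hY) hM
    refine repWith_of_comp hMs ?_
    convert hΓj using 1
    apply pullback.hom_ext <;> simp [M, pullback.diagonal] <;> exact Category.id_comp _
  refine ⟨j, fun i ψ => ?_⟩
  rw [show t.app i = D.map ψ ≫ t.app j by simp]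
  exact isSeparatedMor_comp (isSeparatedMor_of_repWith_le
    (fun _ _ a (ha : IsAffineHom a) => (inferInstance : IsSeparated a)) (hD i)
    (repWith_of_isAffineMor (hDa i j ψ))) hsj

end Groth.Agent.SpPts86
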