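import Groth.Agent.SpPts86.DecentPts
import Groth.Agent.SpFP87.DecentDesc

/-!
Quasi-compact points and finite fibres of charts; decency via finite fibres.
-/

universe u

set_option autoImplicit false

open CategoryTheory CategoryTheory.Limits AlgebraicGeometry Topology
open AlgSp Groth.Agent.SpFP87

namespace Groth.Agent.SpPts86

variable {S : Scheme.{u}} {X Y : Sp S}

/-- The two finiteness conditions at a point for all affine charts. -/
def FinFib (X : Sp S) (x : Points X) : Prop :=
  ∀ (U : Over S) (φ : (yon S).obj U ⟶ X), IsAffine U.left → RepWith @Etale φ →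
    ∀ (R : Over S) (s t : R ⟶ U), IsPullback ((yon S).map t) ((yon S).map s) φ φ →
      (Points.ofPt φ ⁻¹' {x}).Finite ∧ (Points.ofPt ((yon S).map t ≫ φ) ⁻¹' {x}).Finite

theorem finFib_of_qc_point {q : FieldPt X} (hq : RepWith @QuasiCompact q.toHom) :
    FinFib X (Points.mk q) := by
  intro U φ hU hφ R s t sq
  obtain ⟨T, g, cT, sqT⟩ := hq.1 φ
  obtain ⟨c, rfl⟩ := (yon S).map_surjective cT
  have := hU
  have : QuasiCompact g.left := hq.2 φ _ g sqT
  have : Etale c.left := etale_snd_of_isPullback sqT.flip hφ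
  have := SpFP87.etale_locallyQuasiFinite c.left ‹_›
  have : IsAffine q.pt.left := inferInstanceAs (IsAffine (Spec _))
  have : IsLocallyArtinian q.pt.left := inferInstanceAs (IsLocallyArtinian (Spec (CommRingCat.of q.K)))
  have : IsLocallyArtinian T.left := .of_locallyQuasiFinite c.left
  have : CompactSpace ↥T.left := QuasiCompact.compactSpace_of_compactSpace g.left
  have : QuasiCompact c.left := (quasiCompact_iff_compactSpace c.left).2 inferInstance
  have : Finite ↥T.left := finite_of_compact_of_discrete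
  have hmem : ∀ u, Points.ofPt φ u = Points.mk q → ∃ z : ↥T.left, g.left z = u := fun u hu => by
    obtain ⟨z, -, hz⟩ := exists_pt_of_isPullback' sqT (IsLocalRing.closedPoint q.K) u
      ((Points.ofPt_toHom q _).trans hu.symm)
    exact ⟨z, hz⟩
  refine ⟨(Set.finite_range g.left).subset fun u hu => hmem u hu, ?_⟩
  -- the scheme `T ×_K T` covers the fibre of `R`
  let T₂ : Over S := pullback c c
  have sq₂ : IsPullback ((yon S).map (pullback.fst c c)) ((yon S).map (pullback.snd c c ≫ g))
      ((yon S).map g ≫ φ) φ := by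
    have h1 := ((IsPullback.of_hasPullback c c).map (yon S)).paste_vert sqT
    rw [← sqT.w, ← Functor.map_comp] at *
    exact h1
  obtain ⟨l, hl⟩ := (yon S).map_surjective (sq.lift ((yon S).map (pullback.fst c c) ≫ (yon S).map g)
    ((yon S).map (pullback.snd c c ≫ g)) (by rw [Category.assoc]; exact sq₂.w))
  have sqL : IsPullback ((yon S).map (pullback.fst c c)) ((yon S).map l) ((yon S).map g) ((yon S).map t) :=
    IsPullback.of_bot (by rw [hl, sq.lift_snd]; exact sq₂) (by rw [hl, sq.lift_fst]) sq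
  have : Finite ↥T₂.left := by
    have : QuasiCompact (pullback.fst c c).left :=
      MorphismProperty.of_isPullback (P := @QuasiCompact)
        ((IsPullback.of_hasPullback c c).map (Over.forget S)).flip ‹_›
    have : LocallyQuasiFinite (pullback.fst c c).left :=
      MorphismProperty.of_isPullback (P := @LocallyQuasiFinite)
        ((IsPullback.of_hasPullback c c).map (Over.forget S)).flip ‹_›
    have : IsLocallyArtinian T₂.left := .of_locallyQuasiFinite (pullback.fst c c).left
    have : CompactSpace ↥T₂.left := QuasiCompact.compactSpace_of_compactSpace (pullback.fst c c).left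
    exact finite_of_compact_of_discrete
  refine (Set.finite_range l.left).subset fun r hr => ?_
  obtain ⟨z, hz⟩ := hmem (t.left r) (by rw [← ofPt_comp]; exact hr)
  obtain ⟨w, -, hw⟩ := exists_pt_of_isPullback' sqL z r (by rw [ofPt_yon_map, ofPt_yon_map, hz])
  exact ⟨w, hw⟩

theorem exists_qc_mono_point_of_finFib (hX : IsAlgSpace X) {x : Points X} (hf : FinFib X x) :
    ∃ p : FieldPt X, Points.mk p = x ∧ Mono p.toHom ∧ RepWith @QuasiCompact p.toHom := by
  obtain ⟨U₀, a, ha, has⟩ := hX.atlas
  obtain ⟨u₀, hu₀⟩ := surjective_ofPt has x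
  obtain ⟨W₀, hW₀, huW, -⟩ := exists_isAffineOpen_mem_and_subset (U := (⊤ : U₀.left.Opens)) (x := u₀) trivial
  let W : Over S := Over.mk (W₀.ι ≫ U₀.hom)
  let φ : (yon S).obj W ⟶ X := (yon S).map (Over.homMk W₀.ι rfl : W ⟶ U₀) ≫ a
  have hφ : RepWith @Etale φ := MorphismProperty.comp_mem (W := RepWith (@Etale : MorphismProperty Scheme.{u}))
    _ _ ((repWith_yon_map_iff _ _).2 (inferInstanceAs (Etale W₀.ι))) ha
  obtain ⟨R, t, s, sq⟩ := exists_isPullback_yon hX.diag φ φ
  have hx : x ∈ Set.range (Points.ofPt φ) :=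
    ⟨(⟨u₀, huW⟩ : W₀.toScheme), by rw [ofPt_comp]; exact hu₀⟩
  obtain ⟨p, hp, hm, -⟩ := (finite_fibres_iff_mono_point hX x hφ).1
    ⟨hx, (hf W φ hW₀ hφ R s t sq).1, fun R' s' t' sq' => (hf W φ hW₀ hφ R' s' t' sq').2⟩
  refine ⟨p, hp, hm, ?_⟩
  have hrep : Representable p.toHom := Functor.relativelyRepresentable.of_diag hX.diag p.toHom
  obtain ⟨V, v, fst, sqV⟩ := hrep a
  obtain ⟨ψ, rfl⟩ := (yon S).map_surjective fst
  have : MorphismProperty.DescendsAlong (@QuasiCompact : MorphismProperty Scheme.{u}) fppfMor :=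
    quasiCompact_descends.{u}
  have := isLocalAtTarget_fppf.{u} (@QuasiCompact : MorphismProperty Scheme.{u})
  refine repWith_of_locLift _ hrep (locLift_of_atlas ha has) sqV ((repWith_yon_map_iff _ _).2 ?_)
  have : Mono ((yon S).map v) :=
    MorphismProperty.of_isPullback (P := MorphismProperty.monomorphisms (Sp S)) sqV hm
  have : Mono v := (yon S).mono_of_mono_map (f := v) ‹_›
  have := mono_left_of_mono v
  refine (quasiCompact_iff_forall_isAffineOpen).2 fun O hO => ?_
  let O' : Over S := Over.mk (O.ι ≫ U₀.hom)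
  let φ' : (yon S).obj O' ⟶ X := (yon S).map (Over.homMk O.ι rfl : O' ⟶ U₀) ≫ a
  have hφ' : RepWith @Etale φ' := MorphismProperty.comp_mem (W := RepWith (@Etale : MorphismProperty Scheme.{u}))
    _ _ ((repWith_yon_map_iff _ _).2 (inferInstanceAs (Etale O.ι))) ha
  obtain ⟨R', t', s', sq'⟩ := exists_isPullback_yon hX.diag φ' φ'
  have hfin := (hf O' φ' hO hφ' R' s' t' sq').1
  refine Set.Finite.isCompact ?_
  refine Set.Finite.of_injOn (f := v.left) (t := O.ι '' (Points.ofPt φ' ⁻¹' {x})) (fun z hz => ?_)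
    v.left.injective.injOn (hfin.image _)
  refine ⟨(⟨v.left z, hz⟩ : O.toScheme), ?_, rfl⟩
  change Points.ofPt φ' _ = x
  rw [ofPt_comp]
  change Points.ofPt a (v.left z) = x
  rw [← hp, ← Points.ofPt_toHom p (ψ.left z)]
  exact (ofPt_eq_of_isPullback sqV z).symm

theorem finFib_of_isDecent (hd : IsDecent X) (x : Points X) : FinFib X x := by
  obtain ⟨p, rfl, -, hq⟩ := hd x
  exact finFib_of_qc_point hq

theorem isDecent_iff_finFib (hX : IsAlgSpace X) : IsDecent X ↔ ∀ x, FinFib X x :=
  ⟨finFib_of_isDecent, fun h x => exists_qc_mono_point_of_finFib hX (h x)⟩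

theorem isDecent_of_isEtaleMor {f : X ⟶ Y} (hX : IsAlgSpace X) (hY : IsAlgSpace Y) (hf : IsEtaleMor f)
    (hd : IsDecent Y) : IsDecent X := by
  refine (isDecent_iff_finFib hX).2 fun x U φ hU hφ R s t sq => ?_
  obtain ⟨R', t', s', sq'⟩ := exists_isPullback_yon hY.diag (φ ≫ f) (φ ≫ f)
  obtain ⟨h1, h2⟩ := finFib_of_isDecent hd (Points.map f x) U (φ ≫ f) hU (hf φ hφ) R' s' t' sq'
  obtain ⟨l, hl⟩ := (yon S).map_surjective (sq'.lift ((yon S).map t) ((yon S).map s) (by rw [reassoc_of% sq.w]))
  have hlt : l ≫ t' = t := (yon S).map_injective (by rw [Functor.map_comp, hl, sq'.lift_fst])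
  have hls : l ≫ s' = s := (yon S).map_injective (by rw [Functor.map_comp, hl, sq'.lift_snd])
  have : Mono l := ⟨fun {Z} a b e => (yon S).map_injective (sq.hom_ext
    (by rw [← hlt]; simp only [← Functor.map_comp, ← Category.assoc, e])
    (by rw [← hls]; simp only [← Functor.map_comp, ← Category.assoc, e]))⟩
  have := mono_left_of_mono l
  refine ⟨h1.subset fun u hu => ?_, Set.Finite.of_injOn (f := l.left)
    (fun r hr => ?_) l.left.injective.injOn h2⟩
  · change Points.ofPt (φ ≫ f) u = _
    rw [← Points.map_ofPt]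
    exact congrArg _ hu
  · change Points.ofPt ((yon S).map t' ≫ φ ≫ f) (l.left r) = _
    rw [← ofPt_comp l ((yon S).map t' ≫ φ ≫ f) r, ← Category.assoc, ← Functor.map_comp, hlt,
      ← Category.assoc, ← Points.map_ofPt]
    exact congrArg _ hr

/-- Finite fibres over a cover by etale charts give finite fibres for every affine chart. -/
theorem finite_fibre_of_cover (hX : IsAlgSpace X) {x : Points X} {ι : Type u} {U : ι → Over S}
    {φ : ∀ i, (yon S).obj (U i) ⟶ X} (hφ : ∀ i, RepWith @Etale (φ i))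
    (hsurj : ∀ y : Points X, ∃ (i : ι) (v : ↥(U i).left), Points.ofPt (φ i) v = y)
    (hfin : ∀ i, (Points.ofPt (φ i) ⁻¹' {x}).Finite) {V : Over S} [IsAffine V.left]
    (ψ : (yon S).obj V ⟶ X) (hψ : RepWith @Etale ψ) : (Points.ofPt ψ ⁻¹' {x}).Finite := by
  choose P g h hsq using fun i => exists_isPullback_yon hX.diag (φ i) ψ
  have hg : ∀ i, Etale (g i).left := fun i => (repWith_yon_map_iff _ _).1
    ((repWith_isStableUnderBaseChange _).of_isPullback (hsq i).flip hψ)
  have hh : ∀ i, Etale (h i).left := fun i => (repWith_yon_map_iff _ _).1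
    ((repWith_isStableUnderBaseChange _).of_isPullback (hsq i) (hφ i))
  have hloc : ∀ v : ↥V.left, ∃ (i : ι) (N : (P i).left.Opens) (w : ↥(P i).left),
      IsAffineOpen N ∧ w ∈ N ∧ (h i).left w = v := fun v => by
    obtain ⟨i, u, hu⟩ := hsurj (Points.ofPt ψ v)
    obtain ⟨w, -, hw⟩ := exists_pt_of_isPullback' (hsq i) u v hu
    obtain ⟨N, hN, hwN, -⟩ := exists_isAffineOpen_mem_and_subset (U := (⊤ : (P i).left.Opens)) (x := w) trivial
    exact ⟨i, N, w, hN, hwN, hw⟩
  choose i N w hN hwN hw using hloc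
  have hopen : ∀ v, IsOpen ((h (i v)).left '' (N v : Set ↥(P (i v)).left)) := fun v => by
    have := hh (i v)
    exact (h (i v)).left.isOpenMap _ (N v).isOpen
  obtain ⟨I, hI⟩ := isCompact_univ.elim_finite_subcover
    (fun v => (h (i v)).left '' (N v : Set ↥(P (i v)).left)) hopen
    (fun v _ => Set.mem_iUnion.2 ⟨v, w v, hwN v, hw v⟩)
  let A : ∀ v, Set ↥(P (i v)).left := fun v =>
    {z | z ∈ N v ∧ Points.ofPt (φ (i v)) ((g (i v)).left z) = x}
  have hA : ∀ v, (A v).Finite := fun v => by
    have := hg (i v)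
    have := SpFP87.etale_locallyQuasiFinite (g (i v)).left ‹_›
    have hNa : IsAffine (N v).toScheme := hN v
    have hsub : A v ⊆ ⋃ τ ∈ Points.ofPt (φ (i v)) ⁻¹' {x},
        (N v).ι '' {z : ↥(N v).toScheme | ((N v).ι ≫ (g (i v)).left) z = τ} := fun z hz =>
      Set.mem_iUnion₂.2 ⟨_, hz.2, ⟨z, hz.1⟩, rfl, rfl⟩
    refine ((hfin (i v)).biUnion fun τ _ => Set.Finite.image _ ?_).subset hsub
    have : Etale ((N v).ι ≫ (g (i v)).left) := inferInstance
    have := SpFP87.etale_locallyQuasiFinite _ this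
    exact (isCompact_fibre_of_affine ((N v).ι ≫ (g (i v)).left) τ).finite
      (((N v).ι ≫ (g (i v)).left).isDiscrete_preimage_singleton τ)
  refine (I.finite_toSet.biUnion fun v _ => (hA v).image (h (i v)).left).subset fun y hy => ?_
  obtain ⟨v, hv, z, hz, rfl⟩ := Set.mem_iUnion₂.1 (hI (Set.mem_univ y))
  exact Set.mem_iUnion₂.2 ⟨v, hv, z, ⟨hz, (ofPt_eq_of_isPullback (hsq (i v)) z).trans hy⟩, rfl⟩

theorem isDecent_of_qsSp (hX : IsAlgSpace X) (h : IsQuasiSeparatedSp X) : IsDecent X := by
  let T : Over S := Over.mk (𝟙 S)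
  have hT : IsTerminal ((yon S).obj T) := IsTerminal.isTerminalObj (yon S) T Over.mkIdTerminal
  let π : X ⟶ (yon S).obj T := hT.from X
  refine isDecent_of_qs_over_yon hX π ?_
  let e : pullback π π ⟶ X ⨯ X := prod.lift (pullback.fst π π) (pullback.snd π π)
  have : IsIso e := ⟨pullback.lift prod.fst prod.snd (hT.hom_ext _ _),
    by
      apply pullback.hom_ext
      · rw [Category.assoc, pullback.lift_fst, prod.lift_fst, Category.id_comp]
      · rw [Category.assoc, pullback.lift_snd, prod.lift_snd, Category.id_comp],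
    by
      apply Limits.prod.hom_ext
      · rw [Category.assoc, prod.lift_fst, pullback.lift_fst, Category.id_comp]
      · rw [Category.assoc, prod.lift_snd, pullback.lift_snd, Category.id_comp]⟩
  have hd : Limits.diag X = pullback.diagonal π ≫ e := by
    apply Limits.prod.hom_ext
    · rw [Category.assoc, prod.lift_fst, prod.lift_fst, pullback.diagonal_fst]
    · rw [Category.assoc, prod.lift_snd, prod.lift_snd, pullback.diagonal_snd]
  change RepWith @QuasiCompact (Limits.diag X) at h
  rw [hd, MorphismProperty.cancel_right_of_respectsIso (RepWith @QuasiCompact)] at h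
  exact h

end Groth.Agent.SpPts86
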