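import Groth.Agent.SpPts86.FieldRestrict
import Groth.Agent.SpPts86.DecentPts
import Groth.Agent.SpPts86.Proper
import Groth.Agent.SpPts86.DecentFib
import Groth.Agent.SpPts86.SchImagePoints

/-!
Sections over fields of decent spaces are closed immersions; decent groups over fields are separated.
-/

universe u

set_option autoImplicit false
set_option backward.isDefEq.respectTransparency false
set_option linter.style.haveILetI false

open CategoryTheory CategoryTheory.Limits AlgebraicGeometry
open AlgSp Groth.Agent.SpFP87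

namespace Groth.Agent.SpPts86

variable {S : Scheme.{u}}

theorem repWith_qc_of_decent {X : Sp S} (hd : IsDecent X) {k : Type u} [Field k]
    {str : Spec (CommRingCat.of k) ⟶ S} (e : (yon S).obj (Over.mk str) ⟶ X) : RepWith @QuasiCompact e := by
  obtain ⟨c, -⟩ : ∃ c : ↥(Over.mk str : Over S).left, c = IsLocalRing.closedPoint k := ⟨_, rfl⟩
  obtain ⟨p, hp, hpm, hpq⟩ := hd (Points.ofPt e c)
  haveI := hpm
  have h := repWith_qc_fieldPt_of_mono (q := FieldPt.ofPt e c) hpq hp.symm
  rw [FieldPt.toHom_ofPt] at h
  let i : (Over.mk ((Over.mk str : Over S).left.fromSpecResidueField c ≫ str) : Over S) ⟶ Over.mk str :=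
    Over.homMk ((Over.mk str : Over S).left.fromSpecResidueField c) rfl
  haveI : IsIso i.left := by
    haveI : Subsingleton ↥(Over.mk str : Over S).left := inferInstanceAs (Subsingleton (PrimeSpectrum k))
    haveI : IsReduced (Over.mk str : Over S).left := inferInstanceAs (IsReduced (Spec (CommRingCat.of k)))
    have hcl : IsClosed (Set.range i.left) := by
      rw [show Set.range i.left = {c} from Scheme.range_fromSpecResidueField c,
        Set.eq_univ_of_forall (s := {c}) fun y => Subsingleton.elim y c]
      exact isClosed_univ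
    haveI : IsClosedImmersion i.left :=
      .of_isPreimmersion ((Over.mk str : Over S).left.fromSpecResidueField c) hcl
    haveI : Surjective i.left :=
      ⟨fun y => ⟨IsLocalRing.closedPoint _, Subsingleton.elim _ _⟩⟩
    exact isIso_of_isClosedImmersion_of_surjective _
  haveI : IsIso ((Over.forget S).map i) := ‹IsIso i.left›
  haveI : IsIso i := isIso_of_reflects_iso i (Over.forget S)
  have e' : e = (yon S).map (inv i) ≫ (yon S).map i ≫ e := by
    rw [← Category.assoc, ← Functor.map_comp, IsIso.inv_hom_id, CategoryTheory.Functor.map_id,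
      Category.id_comp]
  rw [e']
  exact (repWith_isMultiplicative (S := S) @QuasiCompact).comp_mem _ _
    ((repWith_yon_map_iff _ _).2 (inferInstanceAs (QuasiCompact (inv i).left))) h

theorem section_closedImmersion {X : Sp S} (hX : IsAlgSpace X) (hd : IsDecent X) {k : Type u} [Field k]
    {str : Spec (CommRingCat.of k) ⟶ S} (q : X ⟶ (yon S).obj (Over.mk str))
    {e : (yon S).obj (Over.mk str) ⟶ X} (he : e ≫ q = 𝟙 _) : RepWith @IsClosedImmersion e := by
  have hqc := repWith_qc_of_decent hd e
  haveI : Mono e := (IsSplitMono.mk' ⟨q, he⟩ : IsSplitMono e).mono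
  obtain ⟨U, a, ha, has⟩ := hX.atlas
  obtain ⟨E, c, d, sq⟩ := exists_isPullback_yon hX.diag e a
  haveI : Etale c.left := etale_snd_of_isPullback sq.flip ha
  haveI : QuasiCompact d.left := hqc.property a _ _ sq
  haveI : Mono ((yon S).map d) :=
    MorphismProperty.of_isPullback (P := MorphismProperty.monomorphisms (Sp S)) sq ‹Mono e›
  haveI : Mono d := (yon S).mono_of_mono_map (f := d) ‹_›
  haveI : Mono d.left := inferInstanceAs (Mono ((Over.forget S).map d))
  obtain ⟨m, hm⟩ := (yon S).map_surjective (a ≫ q)
  have hdm : d ≫ m = c := (yon S).map_injective (by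
    rw [Functor.map_comp, hm, ← Category.assoc, ← sq.w, Category.assoc, he, Category.comp_id])
  haveI : IsClosedImmersion d.left := by
    refine (IsZariskiLocalAtTarget.iff_of_iSup_eq_top (P := @IsClosedImmersion)
      (fun W : U.left.affineOpens => W.1) (iSup_affineOpens_eq_top U.left)).2 fun W => ?_
    haveI : IsAffine W.1.toScheme := W.2
    let f : (d.left ⁻¹ᵁ W.1).toScheme ⟶ Spec (CommRingCat.of k) := (d.left ⁻¹ᵁ W.1).ι ≫ c.left
    haveI : Etale f := inferInstance
    haveI : CompactSpace ↥(d.left ⁻¹ᵁ W.1).toScheme :=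
      QuasiCompact.compactSpace_of_compactSpace (d.left ∣_ W.1)
    haveI : QuasiCompact f := (quasiCompact_iff_compactSpace f).2 inferInstance
    haveI : LocallyQuasiFinite f := SpFP87.etale_locallyQuasiFinite f inferInstance
    haveI : IsLocallyArtinian (Spec (CommRingCat.of k)) := inferInstance
    haveI : IsFinite f := IsFinite.of_locallyQuasiFinite f
    have hfac : (d.left ∣_ W.1) ≫ W.1.ι ≫ m.left = f := by
      rw [← Category.assoc, morphismRestrict_ι, Category.assoc, ← Over.comp_left, hdm]
    haveI : IsFinite ((d.left ∣_ W.1) ≫ W.1.ι ≫ m.left) := hfac ▸ ‹IsFinite f›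
    haveI : IsSeparated (W.1.ι ≫ m.left) := inferInstance
    haveI : IsFinite (d.left ∣_ W.1) := IsFinite.of_comp (d.left ∣_ W.1) (W.1.ι ≫ m.left)
    haveI : Mono (d.left ∣_ W.1) :=
      MorphismProperty.of_isPullback (P := MorphismProperty.monomorphisms Scheme.{u})
        (isPullback_morphismRestrict d.left W.1).flip ‹Mono d.left›
    exact (IsClosedImmersion.iff_isFinite_and_mono _).2 ⟨inferInstance, inferInstance⟩
  exact repWith_isClosedImmersion_of_cover (fun T x => locLift_of_atlas ha has T x) sq

end Groth.Agent.SpPts86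

namespace Groth.Agent.SpPts86

variable {S : Scheme.{u}}

theorem isSeparatedSp_of_diagonal {F G : Sp S} (f : F ⟶ G) (hd : RepWith @IsClosedImmersion (pullback.diagonal f))
    (hG : IsSeparatedSp G) : IsSeparatedSp F := by
  have sq : IsPullback (pullback.fst f f ≫ f) (toProd f f) (Limits.diag G) (Limits.prod.map f f) := by
    refine IsPullback.mk' ?_ (fun Z x y _ e2 => (cancel_mono (toProd f f)).1 e2) fun Z a b w => ?_
    · apply Limits.prod.hom_ext
      · simp [toProd]
      · simp [toProd, pullback.condition]
    · have w1 := congrArg (· ≫ prod.fst) w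
      have w2 := congrArg (· ≫ prod.snd) w
      simp only [Category.assoc, prod.map_fst, prod.map_snd, prod.lift_fst, prod.lift_snd,
        Category.comp_id] at w1 w2
      refine ⟨pullback.lift (b ≫ prod.fst) (b ≫ prod.snd)
        (by rw [Category.assoc, Category.assoc, ← w1, ← w2]), ?_, ?_⟩
      · rw [pullback.lift_fst_assoc, Category.assoc, ← w1]
      · apply Limits.prod.hom_ext <;> simp [toProd]
  show RepWith @IsClosedImmersion (Limits.diag F)
  rw [← diagonal_comp_toProd f]
  exact (repWith_isMultiplicative (S := S) @IsClosedImmersion).comp_mem _ _ hd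
    ((repWith_isStableUnderBaseChange _).of_isPullback sq hG)

theorem isPullback_diagonal_t {B : Sp S} (G : GroupoidSp B) :
    IsPullback G.s (pullback.diagonal G.t) G.e
      (gcomp G (pullback.fst G.t G.t ≫ G.i) (pullback.snd G.t G.t)
        (by rw [Category.assoc, G.i_s, pullback.condition])) := by
  refine IsPullback.mk' ?_ (fun Z x y _ e2 => ?_) fun Z a b w => ?_
  · symm
    refine ((comp_gcomp G (pullback.diagonal G.t) _ _ _).trans (gcomp_congr G (α' := G.i) (β' := 𝟙 G.R)
      (by rw [← Category.assoc, pullback.diagonal_fst, Category.id_comp]) (pullback.diagonal_snd G.t) _)).trans ?_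
    have := G.i_comp (𝟙 G.R)
    simp only [Category.id_comp] at this
    exact this
  · have := congrArg (· ≫ pullback.fst G.t G.t) e2
    simpa using this
  · obtain ⟨α, hα⟩ : ∃ α, α = b ≫ pullback.fst G.t G.t := ⟨_, rfl⟩
    obtain ⟨β, hβ⟩ : ∃ β, β = b ≫ pullback.snd G.t G.t := ⟨_, rfl⟩
    have hαβ : α ≫ G.t = β ≫ G.t := by rw [hα, hβ, Category.assoc, Category.assoc, pullback.condition]
    obtain ⟨h', h'', e⟩ := comp_cancel G α β hαβ
    have hw : a ≫ G.e = gcomp G (α ≫ G.i) β h' := by
      refine w.trans ((comp_gcomp G b _ _ _).trans ?_)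
      exact gcomp_congr G (by rw [hα, Category.assoc]) hβ.symm _
    have ha : a = α ≫ G.s := by
      have := congrArg (· ≫ G.t) hw
      simp only [gcomp, G.comp_t] at this
      rw [Category.assoc, Category.assoc, G.e_t, G.i_t, Category.comp_id] at this
      exact this
    have hba : β = α := by
      refine e.symm.trans ((gcomp_congr G (α := α) rfl (hw.symm.trans (by rw [ha, Category.assoc])) h'').trans ?_)
      exact G.comp_e α
    refine ⟨α, ha.symm, pullback.hom_ext ?_ ?_⟩
    · rw [Category.assoc, pullback.diagonal_fst, Category.comp_id, hα]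
    · rw [Category.assoc, pullback.diagonal_snd, Category.comp_id, ← hβ, hba]

end Groth.Agent.SpPts86

namespace Groth.Agent.SpPts86

variable {S : Scheme.{u}}

theorem isSeparatedSp_spec {K : Over S} [IsAffine K.left] : IsSeparatedSp ((yon S).obj K) := by
  refine (repWith_diag_yon_iff @IsClosedImmersion K).2 ?_
  haveI : IsSeparated K.hom := inferInstance
  exact IsSeparated.diagonal_isClosedImmersion

theorem isSeparatedSp_grpd_field {B : Sp S} (G : GroupoidSp B) (hR : IsAlgSpace G.R) {k : Type u} [Field k]
    (σ : Spec (CommRingCat.of k) ⟶ S) (eU : G.U ≅ (yon S).obj (Over.mk σ)) (hd : IsDecent G.R) :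
    IsSeparatedSp G.R := by
  haveI : IsAffine (Over.mk σ : Over S).left := inferInstanceAs (IsAffine (Spec (CommRingCat.of k)))
  have he' : (eU.inv ≫ G.e) ≫ (G.t ≫ eU.hom) = 𝟙 _ := by
    rw [Category.assoc, reassoc_of% G.e_t, Iso.inv_hom_id]
  have h1 := section_closedImmersion hR hd (G.t ≫ eU.hom) he'
  have sqe : IsPullback eU.hom G.e (eU.inv ≫ G.e) (𝟙 G.R) :=
    IsPullback.of_horiz_isIso ⟨by rw [Iso.hom_inv_id_assoc, Category.comp_id]⟩
  have h2 : RepWith @IsClosedImmersion G.e := (repWith_isStableUnderBaseChange _).of_isPullback sqe h1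
  have h3 : IsSeparatedMor G.t :=
    (repWith_isStableUnderBaseChange @IsClosedImmersion).of_isPullback (isPullback_diagonal_t G) h2
  haveI : IsIso (pullback.diagonal eU.hom) := inferInstance
  have h4 : IsSeparatedMor eU.hom :=
    repWith_mono (fun _ _ g hg => by haveI : IsIso g := hg; infer_instance)
      (repWith_isomorphisms_of_isIso (pullback.diagonal eU.hom))
  exact isSeparatedSp_of_diagonal (G.t ≫ eU.hom) (isSeparatedMor_comp h3 h4) isSeparatedSp_spec

end Groth.Agent.SpPts86
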