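import Groth.Agent.SpPts86.PieceChart
import Groth.Agent.SpFP87.EtLocInst
import Groth.Agent.SpFP87.FpqcMono
import Groth.Agent.SpPts86.Boot

/-!
The sheaf of pieces is representable, etale and separated over the sheaf.
-/

universe u

set_option autoImplicit false

open CategoryTheory CategoryTheory.Limits AlgebraicGeometry Opposite
open AlgSp Groth.Agent.SpFP87

namespace Groth.Agent.SpPts86

variable {S : Scheme.{u}} {U : Over S} {F : Sp S} {π : (yon S).obj U ⟶ F} {hπ : Representable π}

theorem repWith_etale_of_isIso {X Y : Sp S} (f : X ⟶ Y) [IsIso f] : RepWith @Etale f :=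
  repWith_mono (fun _ _ g (hg : IsIso g) => (inferInstance : Etale g))
    (repWith_isomorphisms_of_isIso f)

theorem repWith_surjective_of_isIso {X Y : Sp S} (f : X ⟶ Y) [IsIso f] : RepWith @Surjective f :=
  repWith_mono (fun _ _ g (hg : IsIso g) => (inferInstance : Surjective g))
    (repWith_isomorphisms_of_isIso f)

set_option backward.isDefEq.respectTransparency.types false in
theorem repWith_etale_separated_pieceπ (hfl : RepWith @Flat π)
    (hfp : RepWith @LocallyOfFinitePresentation π) (hsep : RepWith @IsSeparated π)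
    (hqf : RepWith @LocallyQuasiFinite π) :
    RepWith @Etale (pieceπ hπ) ∧ RepWith @IsSeparated (pieceπ hπ) := by
  have hlft : RepWith @LocallyOfFiniteType π := repWith_mono (fun _ _ f h => by haveI := h; exact inferInstance) hfp
  have key : ∀ (T : Over S) (g : (yon S).obj T ⟶ F), ∃ (Z : Over S) (q : Z ⟶ T)
      (fst : (yon S).obj Z ⟶ pieceSheaf π hπ),
      IsPullback fst ((yon S).map q) (pieceπ hπ) g ∧ Etale q.left ∧ IsSeparated q.left := by
    intro T g
    obtain ⟨W, c, l, hce, hl, hlift⟩ := exists_pieceChart (hπ := hπ) hfl hfp hsep hqf g hlft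
    obtain ⟨hA, hle, hls⟩ := isAlgSpace_of_pieceChart hfl hfp hsep g l c hl hlift
    have hs : IsSeparatedMor (pullback.snd (pieceπ hπ) g) :=
      isSeparatedMor_of_isPullback (IsPullback.of_hasPullback _ _)
        (repWith_closedImm_diagonal_pieceπ hfl hfp hsep)
    have hid : RepWith @Etale (𝟙 ((yon S).obj T)) := repWith_etale_of_isIso _
    have w : l ≫ pullback.snd (pieceπ hπ) g = (yon S).map c ≫ 𝟙 _ := by rw [hl, Category.comp_id]
    have het : LocP @Etale (pullback.snd (pieceπ hπ) g) :=
      locP_of_chart hA.diag (IsAlgSpace.yon_obj T).diag hle hls hid w hce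
    have hq : LocP (@LocallyQuasiFinite ⊓ @LocallyOfFiniteType) (pullback.snd (pieceπ hπ) g) :=
      LocP.of_le (fun _ _ f hf => by
        haveI : Etale f := hf
        exact ⟨SpFP87.etale_locallyQuasiFinite f hf, inferInstance⟩) het
    obtain ⟨Z, ⟨e⟩⟩ := exists_iso_of_lqf_separated hA hs hq
    obtain ⟨q, hqe⟩ := (yon S).map_surjective (e.hom ≫ pullback.snd (pieceπ hπ) g)
    refine ⟨Z, q, e.hom ≫ pullback.fst _ _, IsPullback.of_iso (IsPullback.of_hasPullback (pieceπ hπ) g)
      e.symm (Iso.refl _) (Iso.refl _) (Iso.refl _) (by simp) (by simp [hqe]) (by simp) (by simp), ?_, ?_⟩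
    · exact het e.hom (𝟙 _) q (repWith_etale_of_isIso _) hid (by rw [hqe, Category.comp_id])
    · rw [← isSeparatedMor_yon_map_iff, hqe]
      exact isSeparatedMor_iso_comp e hs
  refine ⟨MorphismProperty.relative.of_exists fun T g => ?_, MorphismProperty.relative.of_exists fun T g => ?_⟩
  · obtain ⟨Z, q, fst, sq, h, -⟩ := key T g
    exact ⟨Z, fst, q, sq, h⟩
  · obtain ⟨Z, q, fst, sq, -, h⟩ := key T g
    exact ⟨Z, fst, q, sq, h⟩

end Groth.Agent.SpPts86
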