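import Groth.Agent.SpPts86.SchImage
import Groth.Agent.SpPts86.Charts
import Groth.Agent.SpPts86.QCMor
import Groth.Agent.SpFP87.EffCartier
import Groth.Agent.SpFP87.RedInduced
import Groth.Agent.S4667
import Groth.Agent.Desc59.IdealFpqc

/-!
The ideal of the image of a morphism of algebraic spaces on a scheme over the target: for a
quasi-compact morphism it commutes with flat base change and computes the scheme theoretic image.
-/

universe u

set_option autoImplicit false
set_option backward.isDefEq.respectTransparency false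
set_option linter.style.haveILetI false

open CategoryTheory CategoryTheory.Limits AlgebraicGeometry Opposite
open AlgSp
open Groth.Agent.SpFP87

namespace Groth.Agent.SpPts86

/-- Pullback along `l` of an ideal is zero exactly when the ideal lies in the kernel. -/
theorem comap_eq_bot_iff {A B : Scheme.{u}} (l : A ⟶ B) (J : B.IdealSheafData) :
    J.comap l = ⊥ ↔ J ≤ l.ker := by
  rw [← le_bot_iff, ← Scheme.IdealSheafData.le_map_iff_comap_le, Scheme.IdealSheafData.map_bot]

/-- Inclusions of ideal sheaves are local for flat coverings. -/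
theorem le_of_family {P : Scheme.{u}} {ι : Type*} {Q : ι → Scheme.{u}} (g : ∀ i, Q i ⟶ P)
    (hflat : ∀ i, Flat (g i)) (hsurj : ∀ x : P, ∃ i y, g i y = x) {J J' : P.IdealSheafData}
    (h : ∀ i, J.comap (g i) ≤ J'.comap (g i)) : J ≤ J' := by
  refine sup_eq_right.1 (Desc59.IdealFpqc.ext_of_family g hflat hsurj fun i => ?_)
  rw [Scheme.IdealSheafData.comap_sup]
  exact sup_eq_right.2 (h i)

theorem le_of_flat_surjective {P Q : Scheme.{u}} (g : Q ⟶ P) [Flat g] [Surjective g]
    {J J' : P.IdealSheafData} (h : J.comap g ≤ J'.comap g) : J ≤ J' :=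
  le_of_family (fun _ : PUnit.{1} => g) (fun _ => inferInstance)
    (fun x => ⟨⟨⟩, g.surjective x⟩) fun _ => h

theorem eq_of_flat_surjective {P Q : Scheme.{u}} (g : Q ⟶ P) [Flat g] [Surjective g]
    {J J' : P.IdealSheafData} (h : J.comap g = J'.comap g) : J = J' :=
  le_antisymm (le_of_flat_surjective g h.le) (le_of_flat_surjective g h.ge)

theorem ker_eq_bot_of_flat_surjective {P Q : Scheme.{u}} (g : Q ⟶ P) [Flat g] [Surjective g] :
    g.ker = ⊥ :=
  eq_of_flat_surjective g (((comap_eq_bot_iff g _).2 le_rfl).trans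
    (Scheme.IdealSheafData.comap_bot g).symm)

theorem ker_comp_of_ker_eq_bot {A B C : Scheme.{u}} (e : A ⟶ B) (g : B ⟶ C) (he : e.ker = ⊥) :
    (e ≫ g).ker = g.ker := by
  rw [← Scheme.IdealSheafData.map_ker, he, Scheme.IdealSheafData.map_bot]

variable {S : Scheme.{u}} {X Y : Sp S}

/-- The ideal of the image of `f` on a scheme over the target. -/
noncomputable def imIdeal (f : X ⟶ Y) {T : Over S} (t : (yon S).obj T ⟶ Y) :
    T.left.IdealSheafData :=
  sSup {I | ∀ (B : Over S) (b : (yon S).obj B ⟶ X) (h : B ⟶ T),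
    b ≫ f = (yon S).map h ≫ t → I ≤ h.left.ker}

variable {f : X ⟶ Y} {T : Over S} {t : (yon S).obj T ⟶ Y}

theorem imIdeal_le_ker {B : Over S} (b : (yon S).obj B ⟶ X) (h : B ⟶ T)
    (e : b ≫ f = (yon S).map h ≫ t) : imIdeal f t ≤ h.left.ker :=
  sSup_le fun _ hI => hI B b h e

theorem le_imIdeal {I : T.left.IdealSheafData}
    (H : ∀ (B : Over S) (b : (yon S).obj B ⟶ X) (h : B ⟶ T),
      b ≫ f = (yon S).map h ≫ t → I ≤ h.left.ker) : I ≤ imIdeal f t :=
  le_sSup H

theorem comap_imIdeal_le {T' : Over S} (c : T' ⟶ T) :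
    (imIdeal f t).comap c.left ≤ imIdeal f ((yon S).map c ≫ t) := by
  refine le_imIdeal fun B b h e => ?_
  rw [← Scheme.IdealSheafData.le_map_iff_comap_le, Scheme.IdealSheafData.map_ker]
  exact imIdeal_le_ker b (h ≫ c) (by rw [Functor.map_comp, Category.assoc, e])

/-- A scheme over `X` which covers the base change of `f` to `T`. -/
def IsImCover (f : X ⟶ Y) (t : (yon S).obj T ⟶ Y) {A : Over S} (h : A ⟶ T) : Prop :=
  (∃ q : (yon S).obj A ⟶ X, q ≫ f = (yon S).map h ≫ t) ∧
    ∀ (B : Over S) (b : (yon S).obj B ⟶ X) (hB : B ⟶ T), b ≫ f = (yon S).map hB ≫ t →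
      ∃ (B' : Over S) (e : B' ⟶ B) (m : B' ⟶ A), Flat e.left ∧ Surjective e.left ∧ m ≫ h = e ≫ hB

theorem IsImCover.imIdeal_eq {A : Over S} {h : A ⟶ T} (H : IsImCover f t h) :
    imIdeal f t = h.left.ker := by
  obtain ⟨q, hq⟩ := H.1
  refine le_antisymm (imIdeal_le_ker q h hq) (le_imIdeal fun B b hB e => ?_)
  obtain ⟨B', e', m, _, _, hm⟩ := H.2 B b hB e
  rw [← ker_comp_of_ker_eq_bot e'.left hB.left (ker_eq_bot_of_flat_surjective _), ← Over.comp_left,
    ← hm, Over.comp_left]
  exact Scheme.Hom.le_ker_comp _ _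

/-- The base change of a scheme over `S`. -/
theorem exists_isPullback_over {A T T' : Over S} (h : A ⟶ T) (c : T' ⟶ T) :
    ∃ (A' : Over S) (p : A' ⟶ A) (h' : A' ⟶ T'), IsPullback p.left h'.left h.left c.left ∧
      p ≫ h = h' ≫ c :=
  ⟨Over.mk (pullback.snd h.left c.left ≫ T'.hom),
    Over.homMk (pullback.fst h.left c.left) (by
      show pullback.fst h.left c.left ≫ A.hom = pullback.snd h.left c.left ≫ T'.hom
      rw [← Over.w h, ← Over.w c, pullback.condition_assoc]),
    Over.homMk (pullback.snd h.left c.left) rfl, IsPullback.of_hasPullback _ _,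
    Over.OverMorphism.ext pullback.condition⟩

theorem IsImCover.baseChange {A : Over S} {h : A ⟶ T} (H : IsImCover f t h) {T' : Over S}
    (c : T' ⟶ T) {A' : Over S} {p : A' ⟶ A} {h' : A' ⟶ T'}
    (sq : IsPullback p.left h'.left h.left c.left) (w : p ≫ h = h' ≫ c) :
    IsImCover f ((yon S).map c ≫ t) h' := by
  obtain ⟨q, hq⟩ := H.1
  refine ⟨⟨(yon S).map p ≫ q, by
    rw [Category.assoc, hq, ← Functor.map_comp_assoc, w, Functor.map_comp, Category.assoc]⟩,
    fun B b hB e => ?_⟩
  obtain ⟨B', e', m, h1, h2, hm⟩ := H.2 B b (hB ≫ c) (by rw [e, Functor.map_comp, Category.assoc])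
  have e2 : m.left ≫ h.left = (e' ≫ hB).left ≫ c.left := by
    rw [← Over.comp_left, ← Over.comp_left, hm, Category.assoc]
  have hs := sq.lift_snd m.left (e' ≫ hB).left e2
  refine ⟨B', e', Over.homMk (sq.lift m.left (e' ≫ hB).left e2) ?_, h1, h2, Over.OverMorphism.ext hs⟩
  rw [← Over.w h', ← Category.assoc, hs, Over.w]

theorem exists_imCover (hf : IsQuasiCompactMor f) [CompactSpace T.left] [QuasiSeparatedSpace T.left]
    (t : (yon S).obj T ⟶ Y) :
    ∃ (A : Over S) (h : A ⟶ T), IsImCover f t h ∧ QuasiCompact h.left := by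
  obtain ⟨A, p, hp, hps, hA⟩ := hf (IsAlgSpace.yon_obj T) (isQuasiCompactSp_yon T) t _ _
    (IsPullback.of_hasPullback f t)
  obtain ⟨h, hh⟩ := (yon S).map_surjective (p ≫ pullback.snd f t)
  refine ⟨A, h, ⟨⟨p ≫ pullback.fst f t, by rw [Category.assoc, pullback.condition, hh, Category.assoc]⟩,
    fun B b hB e => ?_⟩, inferInstance⟩
  let β := pullback.lift b ((yon S).map hB) e
  obtain ⟨B', e', m', sq⟩ := hp.rep β
  obtain ⟨m, rfl⟩ := (yon S).map_surjective m'
  have : Etale e'.left := hp.property β _ _ sq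
  have : Surjective e'.left := hps.property β _ _ sq
  refine ⟨B', e', m, inferInstance, inferInstance, (yon S).map_injective ?_⟩
  rw [Functor.map_comp, hh, ← Category.assoc, sq.w, Category.assoc, pullback.lift_snd,
    ← Functor.map_comp]

theorem imIdeal_comap_of_affine (hf : IsQuasiCompactMor f) [IsAffine T.left] {T' : Over S}
    (c : T' ⟶ T) [Flat c.left] :
    imIdeal f ((yon S).map c ≫ t) = (imIdeal f t).comap c.left := by
  obtain ⟨A, h, H, _⟩ := exists_imCover hf t
  obtain ⟨A', p, h', sq, w⟩ := exists_isPullback_over h c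
  rw [(H.baseChange c sq w).imIdeal_eq, H.imIdeal_eq, ← S4667.result h.left c.left,
    ← sq.isoPullback_hom_snd, Scheme.Hom.ker_comp_of_isIso]

/-- An open subscheme, over `S`. -/
abbrev opOver (T : Over S) (W : T.left.Opens) : Over S := Over.mk (W.ι ≫ T.hom)

/-- Its inclusion. -/
abbrev opIncl (T : Over S) (W : T.left.Opens) : opOver T W ⟶ T := Over.homMk W.ι rfl

theorem exists_mem_affineOpens (T : Scheme.{u}) (x : T) :
    ∃ (W : T.affineOpens) (y : ↥W.1.toScheme), W.1.ι y = x := by
  obtain ⟨W, hW, hx, -⟩ := exists_isAffineOpen_mem_and_subset (x := x) (U := (⊤ : T.Opens)) trivial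
  exact ⟨⟨W, hW⟩, ⟨x, hx⟩, rfl⟩

theorem imIdeal_comap_opens (hf : IsQuasiCompactMor f) (T : Over S) (t : (yon S).obj T ⟶ Y)
    (W : T.left.affineOpens) :
    (imIdeal f t).comap W.1.ι = imIdeal f ((yon S).map (opIncl T W.1) ≫ t) := by
  refine le_antisymm (comap_imIdeal_le (opIncl T W.1)) ?_
  let g : ∀ V : T.left.affineOpens, V.1.toScheme ⟶ T.left := fun V => V.1.ι
  let 𝒰 : T.left.OpenCover := T.left.openCoverOfIsOpenCover _ (iSup_affineOpens_eq_top T.left)
  haveI : QuasiCompactCover
      (⟨T.left.affineOpens, fun V => V.1.toScheme, g⟩ : PreZeroHypercover.{u} T.left) :=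
    inferInstanceAs (QuasiCompactCover 𝒰.toPreZeroHypercover)
  obtain ⟨K, hK, -⟩ := Desc59.IdealFpqc.existsUnique_comap_eq (g := g)
    (I := fun V => imIdeal f ((yon S).map (opIncl T V.1) ≫ t)) (fun i j Z a b e => by
      refine (congrArg _ (pullback.lift_fst a b e).symm).trans
        (Eq.trans ?_ (congrArg _ (pullback.lift_snd a b e)))
      rw [Scheme.IdealSheafData.comap_comp, Scheme.IdealSheafData.comap_comp]
      congr 1
      haveI : IsAffine (opOver T i.1).left := i.2
      haveI : IsAffine (opOver T j.1).left := j.2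
      let R : Over S := Over.mk (pullback.fst (g i) (g j) ≫ (opOver T i.1).hom)
      let r₁ : R ⟶ opOver T i.1 := Over.homMk (pullback.fst (g i) (g j)) rfl
      let r₂ : R ⟶ opOver T j.1 := Over.homMk (pullback.snd (g i) (g j)) (by
        show pullback.snd _ _ ≫ g j ≫ T.hom = pullback.fst _ _ ≫ g i ≫ T.hom
        rw [pullback.condition_assoc])
      haveI : Flat r₁.left := inferInstanceAs (Flat (pullback.fst (g i) (g j)))
      haveI : Flat r₂.left := inferInstanceAs (Flat (pullback.snd (g i) (g j)))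
      have hr : r₁ ≫ opIncl T i.1 = r₂ ≫ opIncl T j.1 := Over.OverMorphism.ext pullback.condition
      refine ((imIdeal_comap_of_affine hf r₁).symm.trans (congrArg (imIdeal f) ?_)).trans
        (imIdeal_comap_of_affine hf r₂)
      rw [← Functor.map_comp_assoc, ← Functor.map_comp_assoc, hr])
    (fun i => inferInstance) (fun x => exists_mem_affineOpens T.left x)
  have hle : K ≤ imIdeal f t := le_imIdeal fun B b h e => by
    rw [← comap_eq_bot_iff]
    refine Desc59.IdealFpqc.ext_of_family (fun V : T.left.affineOpens => (h.left ⁻¹ᵁ V.1).ι)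
      (fun V => inferInstance) (fun x => ?_) fun V => ?_
    · obtain ⟨V, y, hy⟩ := exists_mem_affineOpens T.left (h.left x)
      exact ⟨V, ⟨x, show h.left x ∈ V.1 from hy ▸ y.2⟩, rfl⟩
    · let hV : opOver B (h.left ⁻¹ᵁ V.1) ⟶ opOver T V.1 := Over.homMk (h.left ∣_ V.1) (by
        show (h.left ∣_ V.1) ≫ V.1.ι ≫ T.hom = (h.left ⁻¹ᵁ V.1).ι ≫ B.hom
        rw [morphismRestrict_ι_assoc, Over.w h])
      rw [Scheme.IdealSheafData.comap_bot, ← Scheme.IdealSheafData.comap_comp, ← morphismRestrict_ι,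
        Scheme.IdealSheafData.comap_comp, hK, comap_eq_bot_iff]
      refine imIdeal_le_ker ((yon S).map (opIncl B _) ≫ b) hV ?_
      rw [Category.assoc, e, ← Functor.map_comp_assoc, ← Functor.map_comp_assoc,
        show opIncl B _ ≫ h = hV ≫ opIncl T V.1 from
          Over.OverMorphism.ext (morphismRestrict_ι _ _).symm]
  exact (hK W).ge.trans (Scheme.IdealSheafData.comap_mono _ hle)

/-- For a quasi-compact morphism the ideal of the image commutes with flat base change. -/
theorem imIdeal_comap (hf : IsQuasiCompactMor f) {T' : Over S} (c : T' ⟶ T) [Flat c.left] :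
    imIdeal f ((yon S).map c ≫ t) = (imIdeal f t).comap c.left := by
  refine Desc59.IdealFpqc.ext_of_family
    (fun p : {p : T.left.affineOpens × T'.left.affineOpens // p.2.1 ≤ c.left ⁻¹ᵁ p.1.1} => p.1.2.1.ι)
    (fun p => inferInstance) (fun x => ?_) fun p => ?_
  · obtain ⟨V, y, hy⟩ := exists_mem_affineOpens T.left (c.left x)
    obtain ⟨W, hW, hx, hle⟩ := exists_isAffineOpen_mem_and_subset (x := x) (U := c.left ⁻¹ᵁ V.1)
      (show c.left x ∈ V.1 from hy ▸ y.2)
    exact ⟨⟨(V, ⟨W, hW⟩), hle⟩, ⟨x, hx⟩, rfl⟩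
  · obtain ⟨⟨V, W⟩, hle⟩ := p
    show (imIdeal f _).comap W.1.ι = ((imIdeal f t).comap c.left).comap W.1.ι
    let d : opOver T' W.1 ⟶ opOver T V.1 := Over.homMk (c.left.resLE V.1 W.1 hle) (by
      show c.left.resLE V.1 W.1 hle ≫ V.1.ι ≫ T.hom = W.1.ι ≫ T'.hom
      rw [← Category.assoc, Scheme.Hom.resLE_comp_ι, Category.assoc, Over.w c])
    have hd : d ≫ opIncl T V.1 = opIncl T' W.1 ≫ c :=
      Over.OverMorphism.ext (Scheme.Hom.resLE_comp_ι _ _)
    haveI : IsAffine (opOver T V.1).left := V.2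
    haveI : Flat (c.left.resLE V.1 W.1 hle) := by
      rw [Scheme.Hom.resLE]
      infer_instance
    haveI : Flat d.left := inferInstanceAs (Flat (c.left.resLE V.1 W.1 hle))
    rw [imIdeal_comap_opens hf T', ← Functor.map_comp_assoc, ← hd, Functor.map_comp, Category.assoc,
      imIdeal_comap_of_affine hf d, ← imIdeal_comap_opens hf T, ← Scheme.IdealSheafData.comap_comp,
      ← Scheme.IdealSheafData.comap_comp, show d.left = c.left.resLE V.1 W.1 hle from rfl,
      Scheme.Hom.resLE_comp_ι]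

theorem imIdeal_chart_invariant (hf : IsQuasiCompactMor f) {U V R : Over S}
    {a : (yon S).obj U ⟶ Y} {b : (yon S).obj V ⟶ Y} (p : R ⟶ U) (q : R ⟶ V) [Flat p.left]
    [Flat q.left] (w : (yon S).map p ≫ a = (yon S).map q ≫ b) :
    (imIdeal f a).comap p.left = (imIdeal f b).comap q.left := by
  rw [← imIdeal_comap hf p, ← imIdeal_comap hf q, w]

/-- On a chart, the ideal of a closed subspace through which `f` factors lies in the image ideal. -/
theorem idealOf_le_imIdeal {Z : Sp S} {i : Z ⟶ Y} (hi : RepWith @IsClosedImmersion i)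
    (hfac : ∃ k : X ⟶ Z, k ≫ i = f) (t : (yon S).obj T ⟶ Y) : idealOf hi t ≤ imIdeal f t := by
  obtain ⟨k, hk⟩ := hfac
  refine le_imIdeal fun B b h e => ?_
  obtain ⟨m, hm⟩ := (yon S).map_surjective
    ((hi.rep.isPullback t).lift (b ≫ k) ((yon S).map h) (by rw [Category.assoc, hk, e]))
  have : m ≫ hi.rep.snd t = h := (yon S).map_injective (by
    rw [Functor.map_comp, hm, IsPullback.lift_snd])
  rw [← this, Over.comp_left]
  exact Scheme.Hom.le_ker_comp _ _

/-- A map into `Y` lifts through a closed subspace if its ideal vanishes etale locally. -/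
theorem exists_lift_of_comap_eq_bot {Z : Sp S} {i : Z ⟶ Y} (hi : RepWith @IsClosedImmersion i)
    {U : Over S} {a : (yon S).obj U ⟶ Y} (ha : RepWith @Etale a) (has : RepWith @Surjective a)
    (x : (yon S).obj T ⟶ Y)
    (h : ∀ (T' : Over S) (e : T' ⟶ T) (r : T' ⟶ U), Etale e.left →
      (yon S).map r ≫ a = (yon S).map e ≫ x → (idealOf hi a).comap r.left = ⊥) :
    ∃ z : (yon S).obj T ⟶ Z, z ≫ i = x := by
  obtain ⟨T', e, r', sq⟩ := ha.rep x
  obtain ⟨r, rfl⟩ := (yon S).map_surjective r'
  have : Etale e.left := ha.property x _ _ sq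
  have : Surjective e.left := has.property x _ _ sq
  have hb : idealOf hi x = ⊥ := eq_of_flat_surjective e.left (by
    rw [← idealOf_comp, ← sq.w, idealOf_comp, h T' e r inferInstance sq.w,
      Scheme.IdealSheafData.comap_bot])
  haveI : IsClosedImmersion (hi.rep.snd x).left := hi.property_snd x
  haveI : IsIso (hi.rep.snd x).left := IsClosedImmersion.isIso_iff_ker_eq_bot.2 hb
  haveI : IsIso ((Over.forget S).map (hi.rep.snd x)) := inferInstanceAs (IsIso (hi.rep.snd x).left)
  haveI : IsIso (hi.rep.snd x) := isIso_of_reflects_iso _ (Over.forget S)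
  exact ⟨(yon S).map (inv (hi.rep.snd x)) ≫ hi.rep.fst x, by
    rw [Category.assoc, (hi.rep.isPullback x).w, ← Functor.map_comp_assoc, IsIso.inv_hom_id,
      CategoryTheory.Functor.map_id, Category.id_comp]⟩

/-- The image ideals descend to a closed subspace. -/
theorem exists_closed_imIdeal (hY : IsAlgSpace Y) (hf : IsQuasiCompactMor f) {U : Over S}
    {a : (yon S).obj U ⟶ Y} (ha : RepWith @Etale a) (has : RepWith @Surjective a) :
    ∃ (Z : Sp S) (i : Z ⟶ Y) (hi : RepWith @IsClosedImmersion i), IsAlgSpace Z ∧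
      (∃ k : X ⟶ Z, k ≫ i = f) ∧ idealOf hi a = imIdeal f a := by
  let K := imIdeal f a
  let C : Over S := Over.mk (K.subschemeι ≫ U.hom)
  let ι : C ⟶ U := Over.homMk K.subschemeι rfl
  haveI hι : IsClosedImmersion ι.left := inferInstanceAs (IsClosedImmersion K.subschemeι)
  haveI : Mono ι := (Over.forget S).mono_of_mono_map (f := ι) (inferInstanceAs (Mono ι.left))
  have hker : ι.left.ker = K := K.ker_subschemeι
  have hfac : ∀ {W : Over S} (l : W ⟶ U), (∃ k : W ⟶ C, k ≫ ι = l) ↔ K.comap l.left = ⊥ := by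
    intro W l
    rw [comap_eq_bot_iff]
    constructor
    · rintro ⟨k, rfl⟩
      rw [← hker, Over.comp_left]
      exact Scheme.Hom.le_ker_comp _ _
    · intro hle
      refine ⟨Over.homMk (IsClosedImmersion.lift ι.left l.left (hker.trans_le hle)) ?_,
        Over.OverMorphism.ext (IsClosedImmersion.lift_fac _ _ _)⟩
      rw [← Over.w ι, ← Category.assoc, IsClosedImmersion.lift_fac, Over.w l]
  obtain ⟨R, t, s, sq⟩ := SpFP87.exists_isPullback_yon hY.diag a a
  haveI : Etale t.left := etale_snd_of_isPullback sq.flip ha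
  haveI : Etale s.left := etale_snd_of_isPullback sq ha
  have hinv : ∀ (W : Over S) (l l' : W ⟶ U), (yon S).map l ≫ a = (yon S).map l' ≫ a →
      (∃ k : W ⟶ C, k ≫ ι = l) → ∃ k : W ⟶ C, k ≫ ι = l' := by
    intro W l l' e
    obtain ⟨ρ, hρ⟩ := (yon S).map_surjective (sq.lift _ _ e)
    have h1 : ρ ≫ t = l := (yon S).map_injective (by rw [Functor.map_comp, hρ, IsPullback.lift_fst])
    have h2 : ρ ≫ s = l' := (yon S).map_injective (by rw [Functor.map_comp, hρ, IsPullback.lift_snd])
    rw [hfac, hfac, ← h1, ← h2, Over.comp_left, Over.comp_left, Scheme.IdealSheafData.comap_comp,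
      Scheme.IdealSheafData.comap_comp, imIdeal_chart_invariant hf t s sq.w]
    exact id
  obtain ⟨p, sqp⟩ := exists_isPullback_factor a ι hY hinv
  have hcl : RepWith @IsClosedImmersion (factorι Y a ι) :=
    repWith_isClosedImmersion_of_cover (locLift_of_atlas ha has) sqp
  have hid : idealOf hcl a = K := (idealOf_eq hcl a sqp).trans hker
  refine ⟨factorSheaf Y a ι, factorι Y a ι, hcl, isAlgSpace_of_representable_mono hcl.1 hY, ?_, hid⟩
  refine exists_factor_of_forall_yon f fun T x => exists_lift_of_comap_eq_bot hcl ha has _ ?_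
  intro T' e r _ w
  rw [hid, comap_eq_bot_iff]
  exact imIdeal_le_ker ((yon S).map e ≫ x) r (by rw [Category.assoc, w])

/-- Closed subspaces are ordered as their ideals on an atlas. -/
theorem exists_factor_of_idealOf_le {Z Z' : Sp S} {i : Z ⟶ Y} {i' : Z' ⟶ Y}
    (hi : RepWith @IsClosedImmersion i) (hi' : RepWith @IsClosedImmersion i') {U : Over S}
    {a : (yon S).obj U ⟶ Y} (ha : RepWith @Etale a) (has : RepWith @Surjective a)
    (hle : idealOf hi' a ≤ idealOf hi a) : ∃ k : Z ⟶ Z', k ≫ i' = i := by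
  have := mono_of_repWith_le isClosedImmersion_le_monomorphisms hi'
  refine exists_factor_of_forall_yon i fun T z => exists_lift_of_comap_eq_bot hi' ha has _ ?_
  intro T' e r _ w
  rw [eq_bot_iff]
  refine (Scheme.IdealSheafData.comap_mono _ hle).trans ?_
  rw [le_bot_iff, comap_eq_bot_iff]
  obtain ⟨m, hm⟩ := (yon S).map_surjective
    ((hi.rep.isPullback a).lift ((yon S).map e ≫ z) ((yon S).map r) (by rw [Category.assoc, w]))
  have : m ≫ hi.rep.snd a = r := (yon S).map_injective (by
    rw [Functor.map_comp, hm, IsPullback.lift_snd])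
  rw [← this, Over.comp_left]
  exact Scheme.Hom.le_ker_comp _ _

/-- The scheme theoretic image of a quasi-compact morphism is cut out on charts by the image ideal. -/
theorem idealOf_schImage (hY : IsAlgSpace Y) (hf : IsQuasiCompactMor f) {Z : Sp S} {i : Z ⟶ Y}
    (hZ : IsSchImage f i) (hi : RepWith @IsClosedImmersion i)
    (t : (yon S).obj T ⟶ Y) (ht : RepWith @Etale t) : idealOf hi t = imIdeal f t := by
  refine le_antisymm (idealOf_le_imIdeal hi hZ.2.1 t) ?_
  obtain ⟨U, a, ha, has⟩ := hY.atlas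
  obtain ⟨Z₀, i₀, hi₀, hA₀, hfac₀, hid⟩ := exists_closed_imIdeal hY hf ha has
  obtain ⟨k, hk⟩ := hZ.2.2 i₀ hA₀ hi₀ hfac₀
  obtain ⟨R, p, q, hp, hq, sq, -, hqs, -⟩ := exists_common_chart hY ha ht
  haveI := hp
  haveI := hq
  haveI : Surjective q.left := hqs has
  refine le_of_flat_surjective q.left ?_
  rw [← imIdeal_chart_invariant hf p q sq.w, ← hid, ← idealOf_comp, ← idealOf_comp, sq.w]
  refine (idealOf_le_imIdeal (f := i) hi₀ ⟨k, hk⟩ _).trans ?_
  refine imIdeal_le_ker (hi.rep.fst _) (hi.rep.snd _) ?_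
  exact (hi.rep.isPullback _).w

/-- A closed subspace cut out by the image ideal on an atlas is the scheme theoretic image. -/
theorem isSchImage_of_idealOf {Z : Sp S} {i : Z ⟶ Y}
    (hi : RepWith @IsClosedImmersion i) {U : Over S} {a : (yon S).obj U ⟶ Y}
    (ha : RepWith @Etale a) (has : RepWith @Surjective a) (h : idealOf hi a = imIdeal f a) :
    IsSchImage f i := by
  have := mono_of_repWith_le isClosedImmersion_le_monomorphisms hi
  refine ⟨hi, exists_factor_of_forall_yon f fun T x => exists_lift_of_comap_eq_bot hi ha has _ ?_,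
    fun Z' i' _ hi' hfac => exists_factor_of_idealOf_le hi hi' ha has
      ((idealOf_le_imIdeal hi' hfac a).trans h.ge)⟩
  intro T' e r _ w
  rw [h, comap_eq_bot_iff]
  exact imIdeal_le_ker ((yon S).map e ≫ x) r (by rw [Category.assoc, w])

end Groth.Agent.SpPts86
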