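import Groth.Agent.SpPts86.LfpRelLP
import Groth.Agent.SpPts86.LimAffine
import Groth.Agent.SpPts86.QCQS
import Groth.Agent.SpPts86.Compact

/-!
Morphisms locally of finite presentation and limits of quasi-compact quasi-separated algebraic spaces.
-/

universe u

set_option autoImplicit false
set_option backward.isDefEq.respectTransparency false
set_option linter.style.haveILetI false

open CategoryTheory CategoryTheory.Limits AlgebraicGeometry Opposite
open AlgSp Groth.Agent.SpFP87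

namespace Groth.Agent.SpPts86

variable {S : Scheme.{u}} {X Y : Sp S}

/-- Morphisms from a system of affine schemes. -/
theorem relLP_hom_surj {f : X ⟶ Y} (h : RelLP f.hom) {J : Type u} [SmallCategory J] [IsCofiltered J]
    (W : J ⥤ Over S) (cL : Cone W) (hL : IsLimit ((Over.forget S).mapCone cL))
    (hW : ∀ k, IsAffine (W.obj k).left) (hLA : IsAffine cL.pt.left) (x : (yon S).obj cL.pt ⟶ X) (j : J)
    (y : (yon S).obj (W.obj j) ⟶ Y) (e : x ≫ f = (yon S).map (cL.π.app j) ≫ y) :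
    ∃ (k : J) (φ : k ⟶ j) (x' : (yon S).obj (W.obj k) ⟶ X),
      (yon S).map (cL.π.app k) ≫ x' = x ∧ x' ≫ f = (yon S).map (W.map φ) ≫ y := by
  obtain ⟨k, φ, x', h1, h2⟩ := (h W cL hL hW hLA).1 j (uE x) (uE y)
    ((uE_comp_hom x f).symm.trans ((congrArg uE e).trans (uE_map_comp _ y)))
  refine ⟨k, φ, uE.symm x', uE.injective ?_, uE.injective ?_⟩
  · exact (uE_map_symm _ x').trans h2
  · exact (uE_comp_hom _ f).trans ((congrArg _ (Equiv.apply_symm_apply uE x')).trans (h1.trans (uE_map_comp _ y).symm))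

theorem relLP_hom_inj {f : X ⟶ Y} (h : RelLP f.hom) {J : Type u} [SmallCategory J] [IsCofiltered J]
    (W : J ⥤ Over S) (cL : Cone W) (hL : IsLimit ((Over.forget S).mapCone cL))
    (hW : ∀ k, IsAffine (W.obj k).left) (hLA : IsAffine cL.pt.left) (j : J)
    (x x' : (yon S).obj (W.obj j) ⟶ X) (e : x ≫ f = x' ≫ f)
    (e' : (yon S).map (cL.π.app j) ≫ x = (yon S).map (cL.π.app j) ≫ x') :
    ∃ (k : J) (φ : k ⟶ j), (yon S).map (W.map φ) ≫ x = (yon S).map (W.map φ) ≫ x' := by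
  obtain ⟨k, φ, hk⟩ := (h W cL hL hW hLA).2 j (uE x) (uE x')
    ((uE_comp_hom x f).symm.trans ((congrArg uE e).trans (uE_comp_hom x' f)))
    ((uE_map_comp _ x).symm.trans ((congrArg uE e').trans (uE_map_comp _ x')))
  exact ⟨k, φ, uE.injective ((uE_map_comp _ x).trans (hk.trans (uE_map_comp _ x').symm))⟩

variable {I : Type u} [SmallCategory I] [IsCofiltered I] {D : I ⥤ Sp S} {c : Cone D} {f : X ⟶ Y}

section

variable (hf : RelLP f.hom) (hD : ∀ i, IsAlgSpace (D.obj i))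
  (hDa : ∀ (i j : I) (φ : i ⟶ j), IsAffineMor (D.map φ))
  (hqc : ∀ i, IsQuasiCompactSp (D.obj i)) (hc : IsLimit c)

include hf hD hDa hqc hc

theorem colim_hom_inj {i : I} (x x' : D.obj i ⟶ X) (e : x ≫ f = x' ≫ f)
    (e' : c.π.app i ≫ x = c.π.app i ≫ x') :
    ∃ (j : I) (φ : j ⟶ i), D.map φ ≫ x = D.map φ ≫ x' := by
  haveI := (isQuasiCompactSp_iff_compactSpace (hD i)).1 (hqc i)
  obtain ⟨Z, g, hZ, hge, hgs⟩ := exists_affine_chart_of_compactSpace (hD i)
  obtain ⟨W, fst, w, cL, -, hLS, fL, iL, sq, hW, hWfst, -, -, hfL, -, hLA⟩ :=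
    exists_affine_limit_chart hDa hc i hZ g
  let t : Over i := Over.mk (𝟙 i)
  obtain ⟨k, ψ, hk⟩ := relLP_hom_inj hf W cL hLS hW hLA t (fst t ≫ x) (fst t ≫ x')
    (by rw [Category.assoc, Category.assoc, e]) (by
      rw [← Category.assoc, ← Category.assoc, ← hfL t, Category.assoc, Category.assoc]
      exact congrArg (fL ≫ ·) e')
  refine ⟨k.left, k.hom, ?_⟩
  have hψ : ψ.left = k.hom := (Category.comp_id _).symm.trans (Over.w ψ)
  rw [← Category.assoc, ← Category.assoc, hWfst ψ, hψ, Category.assoc, Category.assoc] at hk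
  haveI := (locLift_of_atlas ((repWith_isStableUnderBaseChange _).of_isPullback (sq k).flip hge)
    ((repWith_isStableUnderBaseChange _).of_isPullback (sq k).flip hgs)).epi
  exact (cancel_epi (fst k)).1 hk

theorem colim_hom_surj [QuasiSeparatedSpace ↥S] (hqs : ∀ i, IsQuasiSeparatedSp (D.obj i))
    (x : c.pt ⟶ X) {i : I} (y : D.obj i ⟶ Y) (e : x ≫ f = c.π.app i ≫ y) :
    ∃ (j : I) (φ : j ⟶ i) (x' : D.obj j ⟶ X), c.π.app j ≫ x' = x ∧ x' ≫ f = D.map φ ≫ y := by
  haveI := (isQuasiCompactSp_iff_compactSpace (hD i)).1 (hqc i)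
  obtain ⟨Z, g, hZ, hge, hgs⟩ := exists_affine_chart_of_compactSpace (hD i)
  obtain ⟨W, fst, w, cL, -, hLS, fL, iL, sq, hW, hWfst, hWw, hiL, hfL, sqL, hLA⟩ :=
    exists_affine_limit_chart hDa hc i hZ g
  let t : Over i := Over.mk (𝟙 i)
  have hfe : ∀ k, RepWith @Etale (fst k) := fun k =>
    (repWith_isStableUnderBaseChange _).of_isPullback (sq k).flip hge
  have hfs : ∀ k, RepWith @Surjective (fst k) := fun k =>
    (repWith_isStableUnderBaseChange _).of_isPullback (sq k).flip hgs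
  have hto : ∀ {k : Over i} (ψ : k ⟶ t), ψ.left = k.hom := fun ψ =>
    (Category.comp_id _).symm.trans (Over.w ψ)
  obtain ⟨k, ψ, u, hu₁, hu₂⟩ := relLP_hom_surj hf W cL hLS hW hLA (fL ≫ x) t (fst t ≫ y) (by
    rw [Category.assoc, e, ← Category.assoc (f := (yon S).map _), ← hfL t, Category.assoc]
    rfl)
  rw [← Category.assoc, hWfst ψ, hto, Category.assoc] at hu₂
  -- the kernel pair of the chart at the stage `k`
  have sqk : IsPullback fL ((yon S).map (cL.π.app k)) (c.π.app k.left) (fst k) := by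
    refine IsPullback.of_bot ?_ (hfL k) (sq k)
    rw [← Functor.map_comp, hiL k, c.w]
    exact sqL
  haveI : IsAffine (W.obj k).left := hW k
  obtain ⟨R, r₂, r₁', sqR⟩ := (hfe k).rep (fst k)
  obtain ⟨r₁, rfl⟩ := (yon S).map_surjective r₁'
  haveI := compactSpace_points_yon (W.obj k)
  haveI : CompactSpace (Points ((yon S).obj R)) := compactSpace_points_of_isQuasiCompactSp
    (isQuasiCompactMor_of_qc_qs (IsAlgSpace.yon_obj _) (hD k.left) (hqs k.left) (IsAlgSpace.yon_obj _)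
      (isQuasiCompactSp_yon _) (fst k) _ _ sqR.flip)
  obtain ⟨Z₂, ρ', hZ₂, hρe, hρs⟩ := exists_affine_chart_of_compactSpace (IsAlgSpace.yon_obj (S := S) R)
  obtain ⟨ρ, rfl⟩ := (yon S).map_surjective ρ'
  obtain ⟨W₂, fst₂, w₂, cL₂, -, hLS₂, fL₂, iL₂, sq₂, hW₂, hWfst₂, hWw₂, hiL₂, hfL₂, sqL₂, hLA₂⟩ :=
    exists_affine_limit_chart hDa hc k.left hZ₂ ((yon S).map (ρ ≫ r₁) ≫ fst k)
  let t₂ : Over k.left := Over.mk (𝟙 k.left)
  have hcond : (yon S).map (ρ ≫ r₁) ≫ fst k = (yon S).map (ρ ≫ r₂) ≫ fst k := by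
    rw [Functor.map_comp_assoc, Functor.map_comp_assoc, sqR.w]
  have hlim : ∀ r : Z₂ ⟶ W.obj k, (yon S).map (ρ ≫ r₁) ≫ fst k = (yon S).map r ≫ fst k →
      (yon S).map (iL₂ ≫ r) ≫ u = fL₂ ≫ x := fun r hr => by
    have hl : fL₂ ≫ c.π.app k.left = (yon S).map (iL₂ ≫ r) ≫ fst k := by
      rw [sqL₂.w, hr, ← Functor.map_comp_assoc]
    rw [← sqk.lift_snd fL₂ ((yon S).map (iL₂ ≫ r)) hl, Category.assoc, hu₁, ← Category.assoc,
      sqk.lift_fst]
  obtain ⟨m, ξ, hm⟩ := relLP_hom_inj hf W₂ cL₂ hLS₂ hW₂ hLA₂ t₂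
    ((yon S).map (w₂ t₂ ≫ ρ ≫ r₁) ≫ u) ((yon S).map (w₂ t₂ ≫ ρ ≫ r₂) ≫ u)
    (by
      rw [Category.assoc, Category.assoc, hu₂, Functor.map_comp (yon S) (w₂ t₂),
        Functor.map_comp (yon S) (w₂ t₂), Category.assoc, Category.assoc,
        ← Category.assoc ((yon S).map (ρ ≫ r₁)), hcond, Category.assoc])
    (by
      rw [← Functor.map_comp_assoc, ← Functor.map_comp_assoc, ← Category.assoc (f := cL₂.π.app t₂),
        ← Category.assoc (f := cL₂.π.app t₂) (g := w₂ t₂), hiL₂ t₂, hlim _ rfl, hlim _ hcond])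
  rw [← Functor.map_comp_assoc, ← Functor.map_comp_assoc, ← Category.assoc, ← Category.assoc (f := W₂.map ξ),
    hWw₂ ξ] at hm
  -- descend at the stage `m`
  let k' : Over i := Over.mk (m.hom ≫ k.hom)
  let θ : k' ⟶ k := Over.homMk m.hom rfl
  have hθ : (yon S).map (W.map θ) ≫ fst k = fst k' ≫ D.map m.hom := hWfst θ
  have hker : ∀ (T : Over S) (l l' : T ⟶ W.obj k'), (yon S).map l ≫ fst k' = (yon S).map l' ≫ fst k' →
      (yon S).map l ≫ ((yon S).map (W.map θ) ≫ u) = (yon S).map l' ≫ ((yon S).map (W.map θ) ≫ u) := by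
    intro T l l' hl
    obtain ⟨τ, hτ⟩ := (yon S).map_surjective (sqR.lift ((yon S).map (l ≫ W.map θ)) ((yon S).map (l' ≫ W.map θ))
      (by rw [Functor.map_comp_assoc, Functor.map_comp_assoc, hθ, ← Category.assoc, hl, Category.assoc]))
    have hτ₁ : τ ≫ r₁ = l ≫ W.map θ := (yon S).map_injective (by rw [Functor.map_comp, hτ, sqR.lift_fst])
    have hτ₂ : τ ≫ r₂ = l' ≫ W.map θ := (yon S).map_injective (by rw [Functor.map_comp, hτ, sqR.lift_snd])
    obtain ⟨T', ε, q', hε, hq'⟩ := locLift_of_atlas hρe hρs T ((yon S).map τ)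
    obtain ⟨q, rfl⟩ := (yon S).map_surjective q'
    have hq : q ≫ ρ = ε ≫ τ := (yon S).map_injective (by rw [Functor.map_comp, Functor.map_comp, hq'])
    obtain ⟨a, ha⟩ := (yon S).map_surjective ((sq₂ m).lift ((yon S).map (ε ≫ l) ≫ fst k') ((yon S).map q) (by
      rw [Category.assoc, ← hθ, ← Functor.map_comp_assoc, ← Functor.map_comp_assoc, ← Category.assoc q, hq,
        Category.assoc ε τ, hτ₁, Category.assoc]))
    have ha₂ : a ≫ w₂ m = q := (yon S).map_injective (by rw [Functor.map_comp, ha, (sq₂ m).lift_snd])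
    have := congrArg ((yon S).map a ≫ ·) hm
    simp only [← Functor.map_comp_assoc] at this
    rw [← Category.assoc, ← Category.assoc (f := a), ha₂, ← Category.assoc, ← Category.assoc (f := q),
      hq, Category.assoc, Category.assoc, hτ₁, hτ₂] at this
    refine cover_hom_ext ε hε ?_
    simp only [← Functor.map_comp_assoc]
    exact this
  obtain ⟨d, hd⟩ := exists_desc (locLift_of_atlas (hfe k') (hfs k')) _ hker
  refine ⟨m.left, m.hom ≫ k.hom, d, ?_, ?_⟩
  · haveI := (locLift_of_atlas ((repWith_isStableUnderBaseChange _).of_isPullback sqL.flip hge)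
      ((repWith_isStableUnderBaseChange _).of_isPullback sqL.flip hgs)).epi
    have hfk : fL ≫ c.π.app m.left = (yon S).map (cL.π.app k') ≫ fst k' := hfL k'
    rw [← cancel_epi fL, ← Category.assoc, hfk, Category.assoc, hd,
      ← Functor.map_comp_assoc, cL.w θ, hu₁]
  · haveI := (locLift_of_atlas (hfe k') (hfs k')).epi
    refine (cancel_epi (fst k')).1 ?_
    rw [← Category.assoc, hd, Category.assoc, hu₂, ← Category.assoc, hθ, Category.assoc, D.map_comp, Category.assoc]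

end

end Groth.Agent.SpPts86
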