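import Groth.Agent.SpPts86.EtaleModel
import Groth.Agent.SpPts86.LfpColim
import Groth.Agent.SpPts86.DescRep
import Groth.Agent.SpPts86.ImmDescent
import Groth.Agent.SpPts86.ImIdeal
import Groth.Agent.SpPts86.BootSpace
import Groth.Agent.SpFP87.RepDescQA
import Groth.Agent.SpFP87.Covers
import Groth.Agent.SpFP87.LocPRep
import Groth.Agent.SpFP87.LocalST
import Groth.Agent.SpFP87.EtLocInst

/-!
A space in a system with affine transition maps whose limit is affine is eventually an affine scheme.
-/

universe u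

set_option autoImplicit false
set_option backward.isDefEq.respectTransparency false
set_option linter.style.haveILetI false

open CategoryTheory CategoryTheory.Limits AlgebraicGeometry TensorProduct
open AlgSp Groth.Agent.SpFP87

namespace Groth.Agent.SpPts86

theorem locallyOfFinitePresentation_terminal {A : Type u} [CommRing A] [Algebra (ULift.{u} ℤ) A]
    {A₁ : Subalgebra (ULift.{u} ℤ) A} (h : A₁.FG) :
    LocallyOfFinitePresentation (terminal.from (Spec (CommRingCat.of A₁))) := by
  let f : Spec (CommRingCat.of A₁) ⟶ Spec (CommRingCat.of (ULift.{u} ℤ)) :=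
    Spec.map (CommRingCat.ofHom (algebraMap (ULift.{u} ℤ) A₁))
  have : IsNoetherianRing (ULift.{u} ℤ) :=
    isNoetherianRing_of_ringEquiv ℤ ULift.ringEquiv.symm
  have hft : Algebra.FiniteType (ULift.{u} ℤ) A₁ := (Subalgebra.fg_iff_finiteType A₁).1 h
  have hfp : Algebra.FinitePresentation (ULift.{u} ℤ) A₁ := Algebra.FinitePresentation.of_finiteType.mp hft
  have : LocallyOfFinitePresentation f := by
    refine (HasRingHomProperty.Spec_iff (P := @LocallyOfFinitePresentation)).mpr ?_
    exact RingHom.finitePresentation_algebraMap.mpr hfp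
  rw [show terminal.from (Spec (CommRingCat.of A₁)) = f ≫ (specULiftZIsTerminal.uniqueUpToIso terminalIsTerminal).hom
    from terminal.hom_ext _ _]
  infer_instance

theorem isQuasiAffine_of_affine {S : Scheme.{u}} {U V : Over S} [IsAffine U.left] [QuasiSeparatedSpace ↥V.left]
    (f : U ⟶ V) : Mor2.IsQuasiAffine f.left := by
  have : QuasiSeparated (terminal.from V.left) := (quasiSeparatedSpace_iff_quasiSeparated _).1 inferInstance
  have hqc : QuasiCompact f.left := by
    have : QuasiCompact (f.left ≫ terminal.from V.left) := by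
      rw [terminal.comp_from]; exact (compactSpace_iff_quasiCompact _).1 inferInstance
    exact QuasiCompact.of_comp f.left (terminal.from V.left)
  refine ⟨hqc, fun W hW => ?_⟩
  have : CompactSpace ↥(f.left ⁻¹ᵁ W).toScheme :=
    isCompact_iff_compactSpace.1 (f.left.isCompact_preimage hW.isCompact)
  exact Scheme.IsQuasiAffine.of_isImmersion (f.left ⁻¹ᵁ W).ι

variable {S : Scheme.{u}} [QuasiSeparatedSpace ↥S] {I : Type u} [SmallCategory I] [IsCofiltered I]
  {D : I ⥤ Sp S}

set_option maxHeartbeats 1600000 in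
theorem exists_stage_affine (hD : ∀ i, IsAlgSpace (D.obj i))
    (hDa : ∀ (i j : I) (φ : i ⟶ j), IsAffineMor (D.map φ))
    (hqc : ∀ i, IsQuasiCompactSp (D.obj i)) (hqs : ∀ i, IsQuasiSeparatedSp (D.obj i))
    {c : Cone D} (hc : IsLimit c) {T : Over S} [IsAffine T.left] (e : (yon S).obj T ≅ c.pt) :
    ∃ (i : I) (T' : Over S), IsAffine T'.left ∧ Nonempty ((yon S).obj T' ≅ D.obj i) := by
  classical
  obtain ⟨i₀⟩ := IsCofiltered.nonempty (C := I)
  haveI := (isQuasiCompactSp_iff_compactSpace (hD i₀)).1 (hqc i₀)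
  obtain ⟨U₀, a₀, hU₀, hae, has⟩ := exists_affine_chart_of_compactSpace (hD i₀)
  obtain ⟨W, fst, w, cL, -, hLS, fL, iL, sq, hW, hWfst, hWw, hiL, hfL, sqL, hLA⟩ :=
    exists_affine_limit_chart hDa hc i₀ hU₀ a₀
  have hfst : ∀ k, RepWith @Etale (fst k) ∧ RepWith @Surjective (fst k) := fun k =>
    ⟨(repWith_isStableUnderBaseChange _).of_isPullback (sq k).flip hae,
      (repWith_isStableUnderBaseChange _).of_isPullback (sq k).flip has⟩
  obtain ⟨m, hm⟩ := (yon S).map_surjective (fL ≫ e.inv)
  have hme : RepWith @Etale fL ∧ RepWith @Surjective fL :=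
    ⟨(repWith_isStableUnderBaseChange _).of_isPullback sqL.flip hae,
      (repWith_isStableUnderBaseChange _).of_isPullback sqL.flip has⟩
  have hmE : Etale m.left := (repWith_yon_map_iff @Etale m).1 (by
    rw [hm]; exact (MorphismProperty.cancel_right_of_respectsIso (RepWith @Etale) _ _).2 hme.1)
  have hmS : Surjective m.left := (repWith_yon_map_iff @Surjective m).1 (by
    rw [hm]; exact (MorphismProperty.cancel_right_of_respectsIso (RepWith @Surjective) _ _).2 hme.2)
  haveI := hLA
  /- the model -/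
  let A := Γ(T.left, ⊤)
  let B := Γ(cL.pt.left, ⊤)
  letI : Algebra A B := m.left.appTop.hom.toAlgebra
  letI : Algebra (ULift.{u} ℤ) A :=
    ((Int.castRingHom A).comp ULift.ringEquiv.toRingHom).toAlgebra
  have hAB : Spec.map (CommRingCat.ofHom (algebraMap A B)) =
      cL.pt.left.isoSpec.inv ≫ m.left ≫ T.left.isoSpec.hom := by
    rw [Iso.eq_inv_comp]
    exact Scheme.isoSpec_hom_naturality m.left
  have hBe : Algebra.Etale A B := by
    rw [← RingHom.etale_algebraMap]
    have h' : Etale (Spec.map (CommRingCat.ofHom (algebraMap A B))) := by rw [hAB]; infer_instance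
    exact (HasRingHomProperty.Spec_iff (P := @Etale)).mp h'
  haveI : Surjective (Spec.map (CommRingCat.ofHom (algebraMap A B))) := by
    rw [hAB]; infer_instance
  obtain ⟨A₁, V, ψ, h, hA₁, hVa, hψe, hψs, sqV⟩ :=
    exists_etale_model (ULift.{u} ℤ) (A := A) (B := B)
  haveI := hψe; haveI := hψs; haveI := hVa
  let Z := Spec (CommRingCat.of A₁)
  have hZ : LocallyOfFinitePresentation (terminal.from Z) := locallyOfFinitePresentation_terminal hA₁
  /- over `S` -/
  let PS := pullback (terminal.from Z) (terminal.from S)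
  let pS : PS ⟶ S := pullback.snd _ _
  let pZ : PS ⟶ Z := pullback.fst _ _
  let ZS : Over S := Over.mk pS
  let VS : Over S := Over.mk (pullback.snd ψ pZ ≫ pS)
  let ψS : VS ⟶ ZS := Over.homMk (pullback.snd ψ pZ) rfl
  have : Etale ψS.left := inferInstanceAs (Etale (pullback.snd ψ pZ))
  have : Surjective ψS.left := inferInstanceAs (Surjective (pullback.snd ψ pZ))
  haveI : IsAffineHom ψ := isAffineHom_of_isAffine ψ
  have : IsAffineHom ψS.left :=
    MorphismProperty.pullback_snd (P := @IsAffineHom) ψ pZ inferInstance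
  have : QuasiSeparatedSpace ↥ZS.left := by
    have : QuasiSeparated (terminal.from S) := (quasiSeparatedSpace_iff_quasiSeparated _).1 inferInstance
    exact (quasiSeparatedSpace_iff_quasiSeparated _).2 (by
      rw [show terminal.from ZS.left = pZ ≫ terminal.from Z from terminal.hom_ext _ _]
      infer_instance)
  have hVqs : QuasiSeparatedSpace ↥VS.left := by
    have : QuasiSeparated (terminal.from ZS.left) := (quasiSeparatedSpace_iff_quasiSeparated _).1 inferInstance
    exact (quasiSeparatedSpace_iff_quasiSeparated _).2 (by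
      rw [show terminal.from VS.left = ψS.left ≫ terminal.from ZS.left from terminal.hom_ext _ _]
      infer_instance)
  let gS : T ⟶ ZS := Over.homMk
    (pullback.lift (T.left.isoSpec.hom ≫ Spec.map (CommRingCat.ofHom (A₁.val : A₁ →+* A))) T.hom
      (terminal.hom_ext _ _)) (pullback.lift_snd _ _ _)
  let hS : cL.pt ⟶ VS := Over.homMk
    (pullback.lift (cL.pt.left.isoSpec.hom ≫ h) (m.left ≫ gS.left) (by
      rw [Category.assoc, sqV.w, hAB, Category.assoc, Category.assoc, Iso.hom_inv_id_assoc]
      simp only [gS, pZ, Over.homMk_left, Category.assoc, pullback.lift_fst]))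
    (by
      show pullback.lift _ _ _ ≫ pullback.snd ψ pZ ≫ pS = cL.pt.hom
      rw [pullback.lift_snd_assoc, ← Over.w m, Category.assoc]
      exact congrArg (m.left ≫ ·) (pullback.lift_snd _ _ _))
  have sqS : IsPullback hS.left m.left ψS.left gS.left := by
    refine IsPullback.of_right (h₁₂ := pullback.fst ψ pZ) (h₂₂ := pZ) ?_ (pullback.lift_snd _ _ _)
      (IsPullback.of_hasPullback ψ pZ)
    simp only [hS, gS, pZ, Over.homMk_left, pullback.lift_fst]
    exact sqV.of_iso cL.pt.left.isoSpec.symm (Iso.refl _) T.left.isoSpec.symm (Iso.refl _)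
      (by simp) (by rw [hAB]; simp) (by simp) (by simp)
  have sqSo : IsPullback hS m ψS gS := IsPullback.of_map_of_faithful (Over.forget S) sqS
  have sqC : IsPullback ((yon S).map hS) fL ((yon S).map ψS) (e.inv ≫ (yon S).map gS) := by
    refine (sqSo.map (yon S)).of_iso (Iso.refl _) (Iso.refl _) e (Iso.refl _) (by simp) ?_ (by simp) (by simp)
    rw [hm]; simp
  /- descend the map to the model -/
  let pS₀ : ZS ⟶ Over.mk (𝟙 S) := Over.homMk pS (Category.comp_id _)
  have : LocallyOfFinitePresentation pS₀.left := inferInstanceAs (LocallyOfFinitePresentation pS)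
  have hr₀ : RelLP ((yon S).map pS₀).hom := relLP_of_repWith _ ((repWith_yon_map_iff _ _).2 inferInstance)
  let hyT : IsTerminal ((yon S).obj (Over.mk (𝟙 S))) := Over.mkIdTerminal.isTerminalObj (yon S) _
  have hterm : ∀ (F : Sp S) (x y : F ⟶ (yon S).obj (Over.mk (𝟙 S))), x = y := fun F => hyT.hom_ext
  let toS : D.obj i₀ ⟶ (yon S).obj (Over.mk (𝟙 S)) := hyT.from _
  obtain ⟨j, φj, q, hq, -⟩ := colim_hom_surj hr₀ hD hDa hqc hc hqs (e.inv ≫ (yon S).map gS) toS (hterm _ _ _)
  let kj : Over i₀ := Over.mk φj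
  have hrψ : RelLP ((yon S).map ψS).hom :=
    relLP_of_repWith _ ((repWith_yon_map_iff _ _).2 (inferInstance : LocallyOfFinitePresentation ψS.left))
  obtain ⟨l, χ, v, hv, hvψ⟩ := relLP_hom_surj hrψ W cL hLS hW hLA ((yon S).map hS) kj (fst kj ≫ q) (by
    rw [← Category.assoc, ← hfL, Category.assoc]
    exact sqC.w.trans (congrArg (fL ≫ ·) hq).symm)
  have hvψ' : v ≫ (yon S).map ψS = fst l ≫ D.map χ.left ≫ q := by
    rw [hvψ, ← Category.assoc, hWfst, Category.assoc]
  /- the comparison -/
  let ql : D.obj l.left ⟶ (yon S).obj ZS := D.map χ.left ≫ q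
  have hql : c.π.app l.left ≫ ql = e.inv ≫ (yon S).map gS := by
    rw [← Category.assoc, c.w]
    exact hq
  let P := pullback ql ((yon S).map ψS)
  have hP : IsAlgSpace P := isAlgSpace_pullback _ _ (hD _) (IsAlgSpace.yon_obj _) (IsAlgSpace.yon_obj _)
  let θ : (yon S).obj (W.obj l) ⟶ P := pullback.lift (fst l) v (by rw [hvψ'])
  obtain ⟨mq, hmq⟩ := (yon S).map_surjective (fst l ≫ ql)
  obtain ⟨Q, a, b, sqQ, wQ⟩ := exists_isPullback_over mq ψS
  have hQo : IsPullback a b mq ψS := IsPullback.of_map_of_faithful (Over.forget S) sqQ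
  let π₀ : (yon S).obj Q ⟶ P := pullback.lift ((yon S).map a ≫ fst l) ((yon S).map b)
    (by rw [Category.assoc, ← hmq, ← Functor.map_comp, ← Functor.map_comp, wQ])
  have sqπ : IsPullback ((yon S).map a) π₀ (fst l) (pullback.fst ql ((yon S).map ψS)) := by
    refine IsPullback.of_bot (v₂₁ := pullback.snd _ _) (v₂₂ := ql) ?_ (pullback.lift_fst _ _ _).symm
      (IsPullback.of_hasPullback _ _)
    rw [pullback.lift_snd, ← hmq]
    exact hQo.map (yon S)
  have hπe : RepWith @Etale π₀ := (repWith_isStableUnderBaseChange _).of_isPullback sqπ (hfst l).1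
  have hπs : RepWith @Surjective π₀ := (repWith_isStableUnderBaseChange _).of_isPullback sqπ (hfst l).2
  haveI : IsAffineHom a.left := MorphismProperty.of_isPullback (P := @IsAffineHom) sqQ.flip inferInstance
  haveI := hW l
  haveI : IsAffine Q.left := isAffine_of_isAffineHom a.left
  have hPqc : IsQuasiCompactSp P := ⟨Q, π₀, hπe, hπs, inferInstance⟩
  have hdV : RepWith @QuasiCompact (Limits.diag ((yon S).obj VS)) := by
    refine (repWith_diag_yon_iff _ _).2 ?_
    have : QuasiSeparated (VS.hom ≫ terminal.from S) := by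
      rw [terminal.comp_from]; exact (quasiSeparatedSpace_iff_quasiSeparated _).1 hVqs
    exact (QuasiSeparated.of_comp VS.hom (terminal.from S)).quasiCompact_diagonal
  have hPqs : IsQuasiSeparatedSp P := repWith_diag_of_isPullback (IsPullback.of_hasPullback _ _) (hqs _) hdV
  /- squares -/
  have tower : ∀ {k k' : Over i₀} (φ : k ⟶ k'),
      IsPullback ((yon S).map (W.map φ)) (fst k) (fst k') (D.map φ.left) := fun {k k'} φ => by
    refine (IsPullback.of_right (h₁₂ := (yon S).map (w k')) (h₂₂ := D.map k'.hom) ?_ (hWfst φ) (sq k').flip)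
    rw [← Functor.map_comp, hWw, ← Functor.map_comp, Over.w φ]
    exact (sq k).flip
  have towerL : IsPullback ((yon S).map (cL.π.app l)) fL (fst l) (c.π.app l.left) := by
    refine IsPullback.of_right (h₁₂ := (yon S).map (w l)) (h₂₂ := D.map l.hom) ?_ (hfL l).symm (sq l).flip
    rw [← Functor.map_comp, hiL, c.w]
    exact sqL.flip
  let pY : (yon S).obj cL.pt ⟶ P := pullback.lift (fL ≫ c.π.app l.left) ((yon S).map hS) (by
    rw [Category.assoc, hql, sqC.w])
  have hY : IsPullback pY fL (pullback.fst ql ((yon S).map ψS)) (c.π.app l.left) := by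
    refine IsPullback.of_right (h₁₂ := pullback.snd _ _) (h₂₂ := ql) ?_ (pullback.lift_fst _ _ _)
      (IsPullback.of_hasPullback ql ((yon S).map ψS)).flip
    rw [pullback.lift_snd, hql]
    exact sqC
  have hpY : (yon S).map (cL.π.app l) ≫ θ = 𝟙 _ ≫ pY := by
    apply pullback.hom_ext
    · rw [Category.id_comp, Category.assoc, pullback.lift_fst, pullback.lift_fst, hfL]
    · rw [Category.id_comp, Category.assoc, pullback.lift_snd, pullback.lift_snd, hv]
  have hX : IsPullback ((yon S).map (cL.π.app l)) (𝟙 _) θ pY := by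
    refine IsPullback.of_bot (v₂₁ := fL) (v₂₂ := pullback.fst _ _) ?_ hpY hY
    rw [Category.id_comp, pullback.lift_fst]
    exact towerL
  have hθ : LocP @LocallyOfFinitePresentation θ := by
    have hfa : LocallyOfFinitePresentation a.left :=
      MorphismProperty.of_isPullback (P := @LocallyOfFinitePresentation) sqQ.flip inferInstance
    have h1 : RepWith @Etale (θ ≫ pullback.fst ql ((yon S).map ψS)) := by
      rw [pullback.lift_fst]; exact (hfst l).1
    have h2 : RepWith @Etale (pullback.fst ql ((yon S).map ψS)) :=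
      (repWith_isStableUnderBaseChange _).of_isPullback (IsPullback.of_hasPullback ql ((yon S).map ψS)).flip
        ((repWith_yon_map_iff _ _).2 inferInstance)
    have h2' : IsEtaleMor (pullback.fst ql ((yon S).map ψS)) := fun _ φ hφ =>
      (repWith_isMultiplicative (S := S) @Etale).comp_mem _ _ hφ h2
    have h3 : LocP @Etale θ := SpFP87.locP_of_comp_etaleMor h2'
      (locP_of_repWith (IsAlgSpace.yon_obj _).diag (hD _) h1)
    intro _ _ p p' g hp hp' hw
    have : Etale g.left := h3 p p' g hp hp' hw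
    infer_instance
  obtain ⟨i, φi, hi⟩ := descend_isIso hD hDa hc (IsAlgSpace.yon_obj (W.obj l)) hP
    (isQuasiCompactSp_yon _) ((repWith_diag_yon_iff _ _).2 (by
      have : QuasiSeparated ((W.obj l).hom ≫ terminal.from S) := by
        rw [terminal.comp_from]; exact (quasiSeparatedSpace_iff_quasiSeparated _).1 inferInstance
      exact (QuasiSeparated.of_comp (W.obj l).hom (terminal.from S)).quasiCompact_diagonal))
    hPqc hPqs hY hX hθ
  /- the stage -/
  let k : Over i₀ := Over.mk (φi ≫ l.hom)
  let μ : k ⟶ l := Over.homMk φi rfl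
  let Pk := pullback (D.map φi ≫ ql) ((yon S).map ψS)
  let θk : (yon S).obj (W.obj k) ⟶ Pk := pullback.lift (fst k) ((yon S).map (W.map μ) ≫ v) (by
    rw [Category.assoc, hvψ']
    exact (Category.assoc _ _ _).symm.trans ((congrArg (· ≫ ql) (tower μ).w).trans (Category.assoc _ _ _)).symm)
  let pk : Pk ⟶ P := pullback.lift (pullback.fst _ _ ≫ D.map φi) (pullback.snd _ _)
    (by rw [Category.assoc, pullback.condition])
  have hYk : IsPullback pk (pullback.fst (D.map φi ≫ ql) ((yon S).map ψS))
      (pullback.fst ql ((yon S).map ψS)) (D.map φi) := by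
    refine IsPullback.of_right (h₁₂ := pullback.snd _ _) (h₂₂ := ql) ?_ (pullback.lift_fst _ _ _)
      (IsPullback.of_hasPullback ql ((yon S).map ψS)).flip
    rw [pullback.lift_snd]
    exact (IsPullback.of_hasPullback _ _).flip
  have hθk : (yon S).map (W.map μ) ≫ θ = θk ≫ pk := by
    apply pullback.hom_ext
    · simp only [θ, θk, pk, Category.assoc, pullback.lift_fst, pullback.lift_fst_assoc]
      exact (tower μ).w
    · simp only [θ, θk, pk, Category.assoc, pullback.lift_snd]
  have hXk : IsPullback ((yon S).map (W.map μ)) θk θ pk := by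
    refine IsPullback.of_bot (v₂₁ := pullback.fst _ _) (v₂₂ := pullback.fst _ _) ?_ hθk hYk
    rw [pullback.lift_fst, pullback.lift_fst]
    exact tower μ
  haveI : IsIso θk := hi _ _ θk pk _ hYk _ hXk
  obtain ⟨vk, hvk⟩ := (yon S).map_surjective ((yon S).map (W.map μ) ≫ v)
  have sqF : IsPullback (fst k) ((yon S).map vk) (D.map φi ≫ ql) ((yon S).map ψS) := by
    refine (IsPullback.of_hasPullback (D.map φi ≫ ql) ((yon S).map ψS)).of_iso (asIso θk).symm (Iso.refl _)
      (Iso.refl _) (Iso.refl _) ?_ ?_ (by simp) (by simp)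
    · rw [Iso.refl_hom, Category.comp_id, Iso.symm_hom, asIso_inv, IsIso.eq_inv_comp]
      exact pullback.lift_fst _ _ _
    · rw [Iso.refl_hom, Category.comp_id, Iso.symm_hom, asIso_inv, IsIso.eq_inv_comp, hvk]
      exact pullback.lift_snd _ _ _
  /- representability -/
  haveI := hW k
  have hfc : IsFpqcCover (fun _ : PUnit.{u + 1} => (yon S).obj VS) (fun _ => (yon S).map ψS) :=
    isFpqcCover_of_isFppfCover _ _ (IsAlgSpace.yon_obj _) (fun _ => IsAlgSpace.yon_obj _)
      ⟨fun _ => ⟨(locP_yon_map_iff ψS).2 inferInstance, (locP_yon_map_iff ψS).2 inferInstance⟩,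
        fun x => ⟨PUnit.unit, isSurjectiveMor_of_repWith ((repWith_yon_map_iff _ _).2 inferInstance) x⟩⟩
  have hrep : Representable (D.map φi ≫ ql) :=
    representable_of_fpqc (P := qaMor) qaMor_le_indQA (hD _) (IsAlgSpace.yon_obj _) hfc
      (p := fun _ => (yon S).map vk) (q := fun _ => fst k) (fun _ => sqF)
      (fun _ => (repWith_yon_map_iff qaMor vk).2 (isQuasiAffine_of_affine vk))
  obtain ⟨T', t', f', sqT⟩ := hrep (𝟙 ((yon S).obj ZS))
  haveI : IsIso f' := sqT.isIso_fst_of_isIso
  obtain ⟨uU, huU⟩ := (yon S).map_surjective (fst k ≫ inv f')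
  have sqU : IsPullback uU vk t' ψS := by
    refine IsPullback.of_map_of_faithful (yon S) ?_
    refine sqF.of_iso (Iso.refl _) (asIso f').symm (Iso.refl _) (Iso.refl _) ?_ (by simp) ?_ (by simp)
    · rw [huU]; simp
    · rw [Iso.refl_hom, Category.comp_id, Iso.symm_hom, asIso_inv, IsIso.eq_inv_comp, sqT.w,
        Category.comp_id]
  have sqA : IsPullback uU.left (vk.left ≫ pullback.fst ψ pZ) (t'.left ≫ pZ) ψ :=
    (sqU.map (Over.forget S)).paste_vert (IsPullback.of_hasPullback ψ pZ).flip
  refine ⟨i, T', ?_, ⟨asIso f'⟩⟩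
  have : IsAffineHom (vk.left ≫ pullback.fst ψ pZ) := isAffineHom_of_isAffine _
  have := isAffineHom_descends.{u}
  have : IsAffineHom (t'.left ≫ pZ) := MorphismProperty.of_isPullback_of_descendsAlong
    (Q := fppfMor) sqA.flip ⟨⟨hψs, inferInstance⟩, inferInstance⟩ ‹_›
  exact isAffine_of_isAffineHom (t'.left ≫ pZ)

end Groth.Agent.SpPts86
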