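import Groth.Agent.SpPts86.LimAffine
import Groth.Agent.SpPts86.Target
import Groth.Agent.SpPts86.DiagDesc
import Groth.Agent.SpPts86.FppfLocal
import Groth.Agent.SpPts86.LocPMore
import Groth.Agent.SpPts86.CovSigma
import Groth.Agent.SpFP87.EtLocInst
import Groth.Agent.Lim60.ClosedImmStage

/-!
A closed subspace of a limit, locally of finite type over a stage, is closed in a later stage.
-/

universe u

set_option autoImplicit false
set_option backward.isDefEq.respectTransparency false
set_option linter.style.haveILetI false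

open CategoryTheory CategoryTheory.Limits AlgebraicGeometry
open AlgSp Groth.Agent.SpFP87

namespace Groth.Agent.SpPts86

variable {S : Scheme.{u}} {I : Type u} [SmallCategory I] [IsCofiltered I] {D : I ⥤ Sp S}

/-- The composite of a map with a structure map being locally of finite type, so is the map. -/
theorem lft_of_lft_comp {X Y Z : Sp S} {f : X ⟶ Y} {g : Y ⟶ Z} (hX : IsAlgSpace X) (hY : IsAlgSpace Y)
    (hZ : IsAlgSpace Z) (h : LocP @LocallyOfFiniteType (f ≫ g)) : LocP @LocallyOfFiniteType f :=
  locP_of_comp (P := @LocallyOfFiniteType) (Q := ⊤) (R := @LocallyOfFiniteType)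
    (fun a b h1 _ => have := h1; locallyOfFiniteType_of_comp a b) hX hY hZ h (fun _ _ _ _ _ _ _ _ => trivial)

theorem eventually_closedImm (hD : ∀ i, IsAlgSpace (D.obj i))
    (hDa : ∀ (i j : I) (φ : i ⟶ j), IsAffineMor (D.map φ)) {c : Cone D} (hc : IsLimit c) {Y : Sp S}
    (y : Y ⟶ c.pt) (hy : RepWith @IsClosedImmersion y) (i₁ : I) (hqc : IsQuasiCompactSp (D.obj i₁))
    (hl : LocP @LocallyOfFiniteType (y ≫ c.π.app i₁)) :
    ∃ i₀ : I, ∀ (i : I) (_ : i ⟶ i₀), RepWith @IsClosedImmersion (y ≫ c.π.app i) := by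
  haveI := (isQuasiCompactSp_iff_compactSpace (hD i₁)).1 hqc
  obtain ⟨V, p, hV, hpe, hps⟩ := exists_affine_chart_of_compactSpace (hD i₁)
  obtain ⟨W, fst, w, cL, -, hLS, fL, iL, sq, hW, hWf, hWw, hiL, hfL, sqL, -⟩ :=
    exists_affine_limit_chart hDa hc i₁ hV p
  obtain ⟨Y', h, a, sqY⟩ := hy.rep fL
  haveI : IsClosedImmersion h.left := hy.property fL a h sqY
  have hfLe : RepWith @Etale fL := (repWith_isStableUnderBaseChange _).of_isPullback sqL.flip hpe
  have hae : RepWith @Etale a := (repWith_isStableUnderBaseChange _).of_isPullback sqY.flip hfLe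
  let D' : Over i₁ ⥤ Scheme.{u} := W ⋙ Over.forget S
  let cS : Cone D' := (Over.forget S).mapCone cL
  haveI : ∀ k : Over i₁, IsAffine (D'.obj k) := fun k => hW k
  haveI : ∀ (k l : Over i₁) (φ : k ⟶ l), IsAffineHom (D'.map φ) := fun k l φ => inferInstance
  let t : Over i₁ := Over.mk (𝟙 i₁)
  haveI : IsIso ((yon S).map (w t)) := by
    have : IsIso (D.map t.hom) := by show IsIso (D.map (𝟙 i₁)); infer_instance
    exact (sq t).isIso_snd_of_isIso
  haveI : IsIso (w t) := isIso_of_fully_faithful (yon S) (w t)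
  haveI hiso : IsIso (w t).left := inferInstanceAs (IsIso ((Over.forget S).map (w t)))
  have hlh : LocallyOfFiniteType (h ≫ iL).left :=
    hl a p (h ≫ iL) hae hpe (by
      rw [← Category.assoc, sqY.w, Category.assoc, sqL.w, Functor.map_comp_assoc])
  have : LocallyOfFiniteType (h.left ≫ cS.π.app t) := by
    have e : (h ≫ iL).left = (h.left ≫ cS.π.app t) ≫ (w t).left := by
      rw [← hiL t]; exact (Category.assoc _ _ _).symm
    exact (MorphismProperty.cancel_right_of_respectsIso (@LocallyOfFiniteType : MorphismProperty Scheme.{u}) _ (w t).left).1 (e ▸ hlh)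
  obtain ⟨k, -, hk⟩ := Lim60.exists_isClosedImmersion_of_isAffine D' cS hLS t h.left
  refine ⟨k.left, fun i ψ => ?_⟩
  let k' : Over i₁ := Over.mk (ψ ≫ k.hom)
  let φ : k' ⟶ k := Over.homMk ψ rfl
  have hk' : IsClosedImmersion (h.left ≫ cS.π.app k') := by
    have e : (h.left ≫ cS.π.app k') ≫ D'.map φ = h.left ≫ cS.π.app k := by
      rw [Category.assoc, cS.w]
    have : IsClosedImmersion ((h.left ≫ cS.π.app k') ≫ D'.map φ) := e ▸ hk
    exact IsClosedImmersion.of_comp _ (D'.map φ)
  have sqk : IsPullback a ((yon S).map (h ≫ cL.π.app k')) (y ≫ c.π.app i) (fst k') := by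
    have s1 : IsPullback fL ((yon S).map (cL.π.app k')) (c.π.app i) (fst k') := by
      refine IsPullback.of_bot ?_ (hfL k') (sq k')
      rw [← Functor.map_comp, hiL k']
      convert sqL using 1
      exact c.w k'.hom
    rw [Functor.map_comp]
    exact sqY.paste_vert s1
  haveI : IsZariskiLocalAtTarget (@IsClosedImmersion : MorphismProperty Scheme.{u}) := inferInstance
  have := isClosedImmersion_descends.{u}
  have := isLocalAtTarget_fppf (@IsClosedImmersion : MorphismProperty Scheme.{u})
  refine repWith_of_locLift (P := @IsClosedImmersion) ?_ (locLift_of_atlas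
      ((repWith_isStableUnderBaseChange _).of_isPullback (sq k').flip hpe)
      ((repWith_isStableUnderBaseChange _).of_isPullback (sq k').flip hps)) sqk
    ((repWith_yon_map_iff _ _).2 hk')
  exact MorphismProperty.comp_mem _ _ _ hy.rep (repWith_of_isAffineMor (isAffineMor_π hDa hc i)).rep

end Groth.Agent.SpPts86
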