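import Groth.Agent.Lim60.ClosedImmStage
import Groth.Agent.LimTop61.Descent
import Mathlib.AlgebraicGeometry.Morphisms.Immersion

/-!
An immersion of a quasi-compact scheme into a limit, locally of finite type over a stage, is an
immersion into a later stage.
-/

universe u

set_option autoImplicit false
set_option backward.isDefEq.respectTransparency false
set_option backward.defeqAttrib.useBackward true

open CategoryTheory CategoryTheory.Limits AlgebraicGeometry

attribute [local instance] CategoryTheory.isConnected_of_hasTerminal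

namespace Groth.Agent.SpPts86

theorem exists_isImmersion_stage {I : Type u} [SmallCategory I] [IsCofiltered I] (D : I ⥤ Scheme.{u})
    (c : Cone D) (hc : IsLimit c) [∀ (i j : I) (f : i ⟶ j), IsAffineHom (D.map f)]
    (i : I) {Y : Scheme.{u}} [CompactSpace Y] (h : Y ⟶ c.pt) [IsImmersion h]
    [LocallyOfFiniteType (h ≫ c.π.app i)] :
    ∃ (j : I) (_ : j ⟶ i), IsImmersion (h ≫ c.π.app j) := by
  classical
  obtain ⟨s, hs⟩ := (isCompact_range h.continuous).elim_finite_subcover
    (fun V : {V : c.pt.affineOpens // V.1 ≤ h.coborderRange} => (V.1.1 : Set c.pt)) (fun V => V.1.1.2)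
    (by
      rintro _ ⟨x, rfl⟩
      have hx0 : h x ∈ h.coborderRange := subset_coborder (Set.mem_range_self x)
      obtain ⟨_, ⟨V, hV, rfl⟩, hxV, hle⟩ := c.pt.isBasis_affineOpens.exists_subset_of_mem_open
        hx0 h.coborderRange.2
      exact Set.mem_iUnion.mpr ⟨⟨⟨V, hV⟩, fun y hy => hle hy⟩, hxV⟩)
  let U : c.pt.Opens := ⨆ V ∈ s, V.1.1
  have hUc : IsCompact (U : Set c.pt) := by
    simp only [U, TopologicalSpace.Opens.coe_iSup]
    exact s.finite_toSet.isCompact_biUnion fun V _ => V.1.2.isCompact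
  have hUle : U ≤ h.coborderRange := iSup₂_le fun V _ => V.2
  have hrange : Set.range h ⊆ (U : Set c.pt) := fun y hy => by
    have := hs hy
    simpa [U, TopologicalSpace.Opens.coe_iSup] using this
  obtain ⟨k, φ, V, hV, hVU⟩ := LimTop61.exists_preimage_eq_over D c hc i U hUc
  let r : Over k := Over.mk (𝟙 k)
  let O : c.pt.Opens := c.π.app k ⁻¹ᵁ V
  let h₁ : Y ⟶ (O : Scheme.{u}) := IsOpenImmersion.lift O.ι h
    (by rw [Scheme.Opens.range_ι]; show Set.range h ⊆ ((c.π.app k ⁻¹ᵁ V : c.pt.Opens) : Set c.pt)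
        rw [hVU]; exact hrange)
  have hh₁ : h₁ ≫ O.ι = h := IsOpenImmersion.lift_fac _ _ _
  have : IsImmersion (h₁ ≫ O.ι) := by rw [hh₁]; infer_instance
  have : IsImmersion h₁ := IsImmersion.of_comp h₁ O.ι
  have hcl : IsClosed (Set.range h₁) := by
    have e : Set.range h₁ = O.ι ⁻¹' (Set.range h) := by
      ext z
      constructor
      · rintro ⟨y, rfl⟩
        exact ⟨y, by rw [← Scheme.Hom.comp_apply, hh₁]⟩
      · rintro ⟨y, hy⟩
        refine ⟨y, O.ι.injective ?_⟩
        rw [← Scheme.Hom.comp_apply, hh₁, hy]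
    rw [e]
    refine (isClosed_preimage_val (s := (O : Set c.pt))).2 ?_
    have hco : (O : Set c.pt) ⊆ coborder (Set.range h) := by
      show ((c.π.app k ⁻¹ᵁ V : c.pt.Opens) : Set c.pt) ⊆ _
      rw [hVU]; exact hUle
    calc (O : Set c.pt) ∩ closure ((O : Set c.pt) ∩ Set.range h)
        ⊆ coborder (Set.range h) ∩ closure (Set.range h) :=
          Set.inter_subset_inter hco (closure_mono Set.inter_subset_right)
      _ = Set.range h := coborder_inter_closure
  have : IsClosedImmersion h₁ := IsClosedImmersion.of_isPreimmersion h₁ hcl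
  let h' : Y ⟶ (opensCone D c k V).pt := h₁
  have hh' : h' ≫ (c.π.app k ⁻¹ᵁ V).ι = h := hh₁
  have : IsClosedImmersion h' := ‹IsClosedImmersion h₁›
  have : CompactSpace ((opensDiagram D k V).obj r) := isCompact_iff_compactSpace.mp
    (LimTop61.isCompact_preimage_map D r.hom hV)
  have hπ : ∀ j : Over k, (h' ≫ (opensCone D c k V).π.app j) ≫ (D.map j.hom ⁻¹ᵁ V).ι = h ≫ c.π.app j.left := by
    intro j
    conv_rhs => rw [← hh']
    simp
  have : LocallyOfFiniteType (h' ≫ (opensCone D c k V).π.app r) := by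
    have : LocallyOfFiniteType ((h ≫ c.π.app k) ≫ D.map φ) := by rw [Category.assoc, c.w]; infer_instance
    have : LocallyOfFiniteType (h ≫ c.π.app k) := locallyOfFiniteType_of_comp _ (D.map φ)
    have : LocallyOfFiniteType ((h' ≫ (opensCone D c k V).π.app r) ≫ (D.map r.hom ⁻¹ᵁ V).ι) := by
      rw [hπ]; exact this
    exact locallyOfFiniteType_of_comp _ (D.map r.hom ⁻¹ᵁ V).ι
  obtain ⟨j, -, hj⟩ := Lim60.exists_isClosedImmersion_stage (opensDiagram D k V) (opensCone D c k V)
    (isLimitOpensCone D c hc k V) r h'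
  refine ⟨j.left, j.hom ≫ φ, ?_⟩
  rw [← hπ j]
  infer_instance

end Groth.Agent.SpPts86
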