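import Groth.Agent.SpPts86.ImmDescent
import Groth.Agent.SpPts86.QuotSpace
import Groth.Agent.SpPts86.QuotSp
import Groth.Agent.SpPts86.Quot
import Groth.Agent.SpFP87.Cover

/-!
Descent of invariant immersions along a presentation.
-/

universe u

set_option autoImplicit false
set_option backward.isDefEq.respectTransparency false
set_option linter.style.haveILetI false

open CategoryTheory CategoryTheory.Limits AlgebraicGeometry
open AlgSp Groth.Agent.SpFP87

namespace Groth.Agent.SpPts86

variable {S : Scheme.{u}} {X : Sp S} {R U R' U' : Over S} {s t : R ⟶ U} {s' t' : R' ⟶ U'}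
  {g : U' ⟶ U} {r : R' ⟶ R}

theorem isEtaleEqvRel_invariant [Mono g] (hs : IsPullback r s' s g) (ht : IsPullback r t' t g)
    (h : IsEtaleEqvRel s t) : IsEtaleEqvRel s' t' := by
  obtain ⟨he, hse, hte⟩ := h
  refine ⟨⟨fun T x y h1 h2 => ?_, fun T => ?_⟩, MorphismProperty.of_isPullback (P := @Etale) (hs.map (Over.forget S)) hse,
    MorphismProperty.of_isPullback (P := @Etale) (ht.map (Over.forget S)) hte⟩
  · refine hs.hom_ext ?_ h2
    exact he.injective T _ _ (by rw [Category.assoc, Category.assoc, ht.w, reassoc_of% h1])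
      (by rw [Category.assoc, Category.assoc, hs.w, reassoc_of% h2])
  · have key : ∀ a b : T ⟶ U', (∃ ρ : T ⟶ R', ρ ≫ t' = a ∧ ρ ≫ s' = b) ↔
        ∃ ρ : T ⟶ R, ρ ≫ t = a ≫ g ∧ ρ ≫ s = b ≫ g := fun a b => by
      constructor
      · rintro ⟨ρ, rfl, rfl⟩
        exact ⟨ρ ≫ r, by rw [Category.assoc, Category.assoc, ht.w],
          by rw [Category.assoc, Category.assoc, hs.w]⟩
      · rintro ⟨ρ, h1, h2⟩
        refine ⟨ht.lift ρ a h1, ht.lift_snd _ _ _, ?_⟩
        rw [← cancel_mono g, Category.assoc, ← hs.w, ← Category.assoc, ht.lift_fst, h2]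
    simp only [key]
    exact ⟨fun a => (he.equivalence T).refl (a ≫ g), fun h' => (he.equivalence T).symm h',
      fun h' h'' => (he.equivalence T).trans h' h''⟩

/-- An invariant monomorphism into the chart of a presentation descends to a subsheaf. -/
theorem exists_invariant_descent [Mono g] (hs : IsPullback r s' s g) (ht : IsPullback r t' t g)
    {p : (yon S).obj U ⟶ X} (hp : IsPresentation s t p) :
    ∃ (Z : Sp S) (i : Z ⟶ X) (q : (yon S).obj U' ⟶ Z),
      IsAlgSpace Z ∧ IsPullback q ((yon S).map g) i p := by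
  have heq := isEtaleEqvRel_invariant hs ht hp.eqvRel
  obtain ⟨hZ, -, -⟩ := quotMap_atlas heq
  have hk := quotMap_kernelPair heq.1
  have hl := locLift_quotMap s' t'
  obtain ⟨i, hi⟩ := exists_desc hl ((yon S).map g ≫ p) fun W l l' h => by
    obtain ⟨ρ, hρ⟩ := (yon S).map_surjective (hk.lift _ _ h)
    have e1 : ρ ≫ t' = l := (yon S).map_injective (by rw [Functor.map_comp, hρ, hk.lift_fst])
    have e2 : ρ ≫ s' = l' := (yon S).map_injective (by rw [Functor.map_comp, hρ, hk.lift_snd])
    rw [← Functor.map_comp_assoc, ← Functor.map_comp_assoc, ← e1, ← e2, Category.assoc, Category.assoc,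
      ← ht.w, ← hs.w, ← Category.assoc, ← Category.assoc, Functor.map_comp (yon S) (ρ ≫ r),
      Functor.map_comp (yon S) (ρ ≫ r), Category.assoc, Category.assoc, hp.isPullback.w]
  refine ⟨_, i, quotMap s' t', hZ, IsPullback.mk' hi (fun Z φ φ' _ e2 => (cancel_mono _).1 e2) fun Z a b w => ?_⟩
  -- local lifting of `b` through `g`
  have key : ∀ (T : Over S) (x : (yon S).obj T ⟶ Z), ∃ (W : Over S) (c : W ⟶ T) (v : W ⟶ U'),
      fppfSurj c.left ∧ (yon S).map v ≫ (yon S).map g = (yon S).map c ≫ x ≫ b ∧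
      (yon S).map v ≫ quotMap s' t' = (yon S).map c ≫ x ≫ a := fun T x => by
    obtain ⟨W, c, l, hc, hl'⟩ := hl T (x ≫ a)
    obtain ⟨l, rfl⟩ := (yon S).map_surjective l
    have e : (yon S).map (l ≫ g) ≫ p = ((yon S).map c ≫ x ≫ b) ≫ p := by
      rw [Functor.map_comp, Category.assoc, ← hi, ← Category.assoc, hl', Category.assoc, Category.assoc, w,
        Category.assoc, Category.assoc]
    obtain ⟨ρ, hρ⟩ := (yon S).map_surjective (hp.isPullback.lift _ _ e)
    have e1 : ρ ≫ t = l ≫ g := (yon S).map_injective (by rw [Functor.map_comp, hρ, hp.isPullback.lift_fst])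
    let ρ' := ht.lift ρ l e1
    have e2 : (yon S).map (ρ' ≫ s') ≫ (yon S).map g = (yon S).map c ≫ x ≫ b := by
      rw [← Functor.map_comp, Category.assoc, ← hs.w, ← Category.assoc, ht.lift_fst, Functor.map_comp, hρ,
        hp.isPullback.lift_snd]
    refine ⟨W, c, ρ' ≫ s', hc, e2, ?_⟩
    rw [Functor.map_comp, Category.assoc, ← quotMap_condition, ← Functor.map_comp_assoc, ht.lift_snd, hl']
  obtain ⟨z, hz⟩ := exists_factor_of_local (j := (yon S).map g) b fun T x => by
    obtain ⟨W, c, v, hc, h1, -⟩ := key T x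
    exact ⟨W, c, (yon S).map v, hc, h1⟩
  refine ⟨z, sp_hom_ext fun T x => ?_, hz⟩
  obtain ⟨W, c, v, hc, h1, h2⟩ := key T x
  refine cover_hom_ext c hc ?_
  have : (yon S).map c ≫ x ≫ z = (yon S).map v := by
    rw [← cancel_mono ((yon S).map g), Category.assoc, Category.assoc, hz, h1]
  rw [← h2, ← this, Category.assoc, Category.assoc]

end Groth.Agent.SpPts86
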