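import Groth.Agent.SpPts86.DescMor
import Groth.Agent.SpPts86.EvClosed
import Groth.Agent.SpPts86.EvImmSch
import Groth.Agent.SpPts86.InvImm
import Groth.Agent.SpFP87.MonoTfae
import Groth.Agent.SpPts86.Graph
import Groth.Agent.SpPts86.DescRep
import Groth.Agent.SpPts86.Proper

/-!
Monomorphisms and immersions into a limit, of finite type over a stage, are such at a later stage.
-/

universe u

set_option autoImplicit false
set_option backward.isDefEq.respectTransparency false
set_option linter.style.haveILetI false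

open CategoryTheory CategoryTheory.Limits AlgebraicGeometry
open AlgSp Groth.Agent.SpFP87

namespace Groth.Agent.SpPts86

variable {S : Scheme.{u}} {I : Type u} [SmallCategory I] [IsCofiltered I] {D : I ⥤ Sp S}
  (c : Cone D) {Y : Sp S} (y : Y ⟶ c.pt)

/-- The self fibre products of the composites to the stages. -/
noncomputable def kerSys : I ⥤ Sp S where
  obj i := pullback (y ≫ c.π.app i) (y ≫ c.π.app i)
  map {j k} φ := pullback.map (y ≫ c.π.app j) (y ≫ c.π.app j) (y ≫ c.π.app k) (y ≫ c.π.app k)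
    (𝟙 Y) (𝟙 Y) (D.map φ) (by simp) (by simp)
  map_id k := by apply pullback.hom_ext <;> simp
  map_comp φ ψ := by apply pullback.hom_ext <;> simp

/-- The diagonals, as a cone on the self fibre products. -/
noncomputable def kerCone : Cone (kerSys c y) where
  pt := Y
  π :=
    { app := fun i => pullback.diagonal (y ≫ c.π.app i)
      naturality := fun j k φ => by
        show 𝟙 Y ≫ _ = _ ≫ pullback.map (y ≫ c.π.app j) (y ≫ c.π.app j) (y ≫ c.π.app k) (y ≫ c.π.app k)
          (𝟙 Y) (𝟙 Y) (D.map φ) (by simp) (by simp)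
        apply pullback.hom_ext <;> simp [pullback.diagonal] }

theorem nonempty_isLimit_kerCone {c : Cone D} (hc : IsLimit c) (y : Y ⟶ c.pt) [Mono y] :
    Nonempty (IsLimit (kerCone c y)) := by
  obtain ⟨i₁⟩ := IsCofiltered.nonempty (C := I)
  have hf : ∀ {j k : I} (φ : j ⟶ k), (kerSys c y).map φ ≫ pullback.fst (y ≫ c.π.app k) (y ≫ c.π.app k) =
      pullback.fst (y ≫ c.π.app j) (y ≫ c.π.app j) := fun φ => (pullback.lift_fst _ _ _).trans (Category.comp_id _)
  have hs : ∀ {j k : I} (φ : j ⟶ k), (kerSys c y).map φ ≫ pullback.snd (y ≫ c.π.app k) (y ≫ c.π.app k) =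
      pullback.snd (y ≫ c.π.app j) (y ≫ c.π.app j) := fun φ => (pullback.lift_snd _ _ _).trans (Category.comp_id _)
  have ha : ∀ (s : Cone (kerSys c y)) (k : I), s.π.app k ≫ pullback.fst (y ≫ c.π.app k) (y ≫ c.π.app k) =
      s.π.app i₁ ≫ pullback.fst (y ≫ c.π.app i₁) (y ≫ c.π.app i₁) := fun s k => by
    obtain ⟨m, a, b, -⟩ := IsCofilteredOrEmpty.cone_objs k i₁
    rw [← s.w a, ← s.w b, Category.assoc, Category.assoc]
    exact congrArg _ ((hf a).trans (hf b).symm)
  have hb : ∀ (s : Cone (kerSys c y)) (k : I), s.π.app k ≫ pullback.snd (y ≫ c.π.app k) (y ≫ c.π.app k) =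
      s.π.app i₁ ≫ pullback.snd (y ≫ c.π.app i₁) (y ≫ c.π.app i₁) := fun s k => by
    obtain ⟨m, a, b, -⟩ := IsCofilteredOrEmpty.cone_objs k i₁
    rw [← s.w a, ← s.w b, Category.assoc, Category.assoc]
    exact congrArg _ ((hs a).trans (hs b).symm)
  have hab : ∀ s : Cone (kerSys c y), s.π.app i₁ ≫ pullback.fst (y ≫ c.π.app i₁) (y ≫ c.π.app i₁) =
      s.π.app i₁ ≫ pullback.snd (y ≫ c.π.app i₁) (y ≫ c.π.app i₁) := fun s => by
    refine (cancel_mono y).1 (hc.hom_ext fun k => ?_)
    show ((s.π.app i₁ ≫ pullback.fst (y ≫ c.π.app i₁) (y ≫ c.π.app i₁)) ≫ y) ≫ c.π.app k =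
      ((s.π.app i₁ ≫ pullback.snd (y ≫ c.π.app i₁) (y ≫ c.π.app i₁)) ≫ y) ≫ c.π.app k
    rw [Category.assoc, Category.assoc, Category.assoc, Category.assoc, ← reassoc_of% (ha s k),
      ← reassoc_of% (hb s k)]
    exact congrArg _ pullback.condition
  refine ⟨⟨fun s => s.π.app i₁ ≫ pullback.fst (y ≫ c.π.app i₁) (y ≫ c.π.app i₁), fun s k => ?_,
    fun s m hm => ?_⟩⟩
  · show (_ ≫ _) ≫ pullback.diagonal (y ≫ c.π.app k) = s.π.app k
    apply pullback.hom_ext
    · rw [Category.assoc, pullback.diagonal_fst, Category.comp_id, ha s k]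
    · rw [Category.assoc, pullback.diagonal_snd, Category.comp_id, hb s k, hab s]
  · rw [← hm i₁]
    show m = (m ≫ pullback.diagonal (y ≫ c.π.app i₁)) ≫ _
    rw [Category.assoc, pullback.diagonal_fst, Category.comp_id]

variable {c} {y}

theorem repWith_closedImm_kerSys_map (hD : ∀ i, IsAlgSpace (D.obj i))
    (hDa : ∀ (i j : I) (φ : i ⟶ j), IsAffineMor (D.map φ)) {j k : I} (φ : j ⟶ k) :
    RepWith @IsClosedImmersion ((kerSys c y).map φ) := by
  have h := repWith_mapDesc (y ≫ c.π.app j) (y ≫ c.π.app j) (D.map φ) (P := @IsClosedImmersion)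
    (isSeparatedMor_of_repWith_le (fun _ _ a (ha : IsAffineHom a) => (inferInstance : IsSeparated a))
      (hD j) (repWith_of_isAffineMor (hDa j k φ)))
  have e : (kerSys c y).map φ = pullback.mapDesc (y ≫ c.π.app j) (y ≫ c.π.app j) (D.map φ) ≫
      (pullback.congrHom (show (y ≫ c.π.app j) ≫ D.map φ = y ≫ c.π.app k by simp)
        (show (y ≫ c.π.app j) ≫ D.map φ = y ≫ c.π.app k by simp)).hom := by
    apply pullback.hom_ext <;> simp [kerSys, pullback.mapDesc]
  rw [e]
  exact (MorphismProperty.cancel_right_of_respectsIso (RepWith @IsClosedImmersion) _ _).2 h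

theorem eventually_mono_limit [QuasiSeparatedSpace ↥S] (hD : ∀ i, IsAlgSpace (D.obj i))
    (hDa : ∀ (i j : I) (φ : i ⟶ j), IsAffineMor (D.map φ)) (hc : IsLimit c) (hY : IsAlgSpace Y)
    (hYqc : IsQuasiCompactSp Y) [Mono y] (i₁ : I) (hqs : IsQuasiSeparatedSp (D.obj i₁))
    (hl : LocP @LocallyOfFiniteType (y ≫ c.π.app i₁)) :
    ∃ i₀ : I, ∀ (i : I) (_ : i ⟶ i₀), Mono (y ≫ c.π.app i) := by
  have := isLocalAtTarget_fppf (MorphismProperty.isomorphisms Scheme.{u})
  have := lfp_descends.{u}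
  obtain ⟨hE⟩ := nonempty_isLimit_kerCone hc y
  have hEA := isAlgSpace_pullback (y ≫ c.π.app i₁) (y ≫ c.π.app i₁) hY hY (hD i₁)
  haveI := (isQuasiCompactSp_iff_compactSpace hY).1 hYqc
  have hEqc : IsQuasiCompactSp (pullback (y ≫ c.π.app i₁) (y ≫ c.π.app i₁)) :=
    isQuasiCompactMor_of_qc_qs hY (hD i₁) hqs hY hYqc (y ≫ c.π.app i₁) _ _ (IsPullback.of_hasPullback _ _)
  have hfp : RepWith @LocallyOfFinitePresentation (pullback.diagonal (y ≫ c.π.app i₁)) :=
    repWith_of_locP hEA (repWith_diagonal_props hY _).1.rep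
      (S9960.result (X := ⟨Y, hY⟩) (Y := ⟨_, hD i₁⟩) (ObjectProperty.homMk (y ≫ c.π.app i₁)) hl).1
  have hmm : ∀ {j k : I} (φ : j ⟶ k), Mono ((kerSys c y).map φ) := fun φ =>
    mono_of_repWith_le (fun _ _ a (ha : IsClosedImmersion a) => (inferInstance : Mono a))
      (repWith_closedImm_kerSys_map hD hDa φ)
  have hmd : ∀ i, Mono (pullback.diagonal (y ≫ c.π.app i) : Y ⟶ _) := fun i => inferInstance
  have : Mono ((kerCone c y).π.app i₁) := hmd i₁
  have hsep : IsSeparatedMor (y ≫ c.π.app i₁) := isSeparatedMor_comp (isSeparatedMor_of_mono y)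
    (isSeparatedMor_of_repWith_le (fun _ _ a (ha : IsAffineHom a) => (inferInstance : IsSeparated a))
      (isAlgSpace_limit hD hDa hc) (repWith_of_isAffineMor (isAffineMor_π hDa hc i₁)))
  have hqc : RepWith @QuasiCompact (pullback.diagonal (y ≫ c.π.app i₁)) :=
    repWith_mono (fun _ _ a (ha : IsClosedImmersion a) => (inferInstance : QuasiCompact a)) hsep
  obtain ⟨j, φ, hj⟩ := descend_repWith
    (fun a b ψ => isAffineMor_of_repWith (repWith_mono
      (fun _ _ g (hg : IsClosedImmersion g) => (inferInstance : IsAffineHom g))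
      (repWith_closedImm_kerSys_map hD hDa ψ))) hE
    (Y₀ := (kerSys c y).obj i₁) hEA hEqc (b₀ := 𝟙 _) (qY := 𝟙 _) (pY := (kerCone c y).π.app i₁)
    (IsPullback.of_vert_isIso ⟨by simp⟩) (pX := 𝟙 Y) (f := 𝟙 Y)
    (f₀ := pullback.diagonal (y ≫ c.π.app i₁)) (IsPullback.of_horiz_isIso_mono ⟨rfl⟩)
    LimDesc62.descProp_isIso hqc (repWith_diagonal_props hY _).2 hfp
    (repWith_isomorphisms_of_isIso (𝟙 Y))
  have : Mono ((kerSys c y).map φ) := hmm φ
  have : IsIso (pullback.diagonal (y ≫ c.π.app j)) := isIso_of_repWith_isomorphisms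
    (hj Y ((kerSys c y).obj j) (pullback.diagonal (y ≫ c.π.app j)) ((kerSys c y).map φ) (𝟙 _)
      (IsPullback.of_vert_isIso ⟨by simp⟩) (𝟙 Y)
      (IsPullback.of_horiz_isIso_mono ⟨by
        rw [Category.id_comp]; exact ((kerCone c y).w φ).symm⟩))
  have hmj : Mono (y ≫ c.π.app j) := (pullback.isIso_diagonal_iff _).1 this
  refine ⟨j, fun i ψ => ?_⟩
  have : Mono ((y ≫ c.π.app i) ≫ D.map ψ) := by rw [Category.assoc, c.w]; exact hmj
  exact mono_of_mono (y ≫ c.π.app i) (D.map ψ)

/-- A subset with compact image lies in a quasi-compact open. -/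
theorem exists_qc_open_superset {X : Sp S} (hX : IsAlgSpace X) {K : Set (Points X)} (hK : IsCompact K) :
    ∃ W : Set (Points X), IsOpen W ∧ IsCompact W ∧ K ⊆ W := by
  have h := fun x : K => exists_isOpen_isCompact_nhd hX isOpen_univ (Set.mem_univ x.1)
  choose V hVo hVc hxV hV using h
  obtain ⟨s, hs⟩ := hK.elim_finite_subcover V hVo
    (fun x hx => Set.mem_iUnion.2 ⟨⟨x, hx⟩, hxV ⟨x, hx⟩⟩)
  exact ⟨⋃ x ∈ s, V x, isOpen_biUnion fun x _ => hVo x, s.finite_toSet.isCompact_biUnion fun x _ => hVc x,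
    hs⟩

theorem eventually_immersion_limit [QuasiSeparatedSpace ↥S] (hD : ∀ i, IsAlgSpace (D.obj i))
    (hDa : ∀ (i j : I) (φ : i ⟶ j), IsAffineMor (D.map φ)) (hc : IsLimit c) (hY : IsAlgSpace Y)
    (hYqc : IsQuasiCompactSp Y) (hy : RepWith @IsImmersion y) (hqs : ∀ i, IsQuasiSeparatedSp (D.obj i))
    (i₁ : I) (hl : LocP @LocallyOfFiniteType (y ≫ c.π.app i₁)) :
    ∃ i₀ : I, ∀ (i : I) (_ : i ⟶ i₀), RepWith @IsImmersion (y ≫ c.π.app i) := by
  have : Mono y := mono_of_repWith_le (fun _ _ a (ha : IsImmersion a) => (inferInstance : Mono a)) hy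
  haveI := (isQuasiCompactSp_iff_compactSpace hY).1 hYqc
  obtain ⟨W₀, hW₀, hW₀c, hW₀r⟩ := exists_qc_open_superset (hD i₁)
    (isCompact_range (Points.continuous_map (y ≫ c.π.app i₁)))
  let jU := restrictι (D.obj i₁) W₀
  have hjU : RepWith @IsOpenImmersion jU := repWith_restrictι hW₀
  have hU := isAlgSpace_restrictSheaf (hD i₁) hW₀
  have : CompactSpace (Points (restrictSheaf (D.obj i₁) W₀)) := by
    rw [← isCompact_univ_iff, (isEmbedding_map_of_openImmersion hjU).isEmbedding.isCompact_iff,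
      Set.image_univ, range_map_restrictι hW₀]
    exact hW₀c
  obtain ⟨V, p, hV, hpe, hps⟩ := exists_affine_chart_of_compactSpace hU
  have hpje : RepWith @Etale (p ≫ jU) := MorphismProperty.comp_mem _ _ _ hpe
    (repWith_mono (fun _ _ a (ha : IsOpenImmersion a) => (inferInstance : Etale a)) hjU)
  obtain ⟨W, fst, w, cL, -, hLS, fL, iL, sq, hW, hWf, hWw, hiL, hfL, sqL, -⟩ :=
    exists_affine_limit_chart hDa hc i₁ hV (p ≫ jU)
  obtain ⟨Y', h, a, sqY⟩ := hy.rep fL
  haveI : IsImmersion h.left := hy.property fL a h sqY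
  let D' : Over i₁ ⥤ Scheme.{u} := W ⋙ Over.forget S
  let cS : Cone D' := (Over.forget S).mapCone cL
  haveI : ∀ k : Over i₁, IsAffine (D'.obj k) := fun k => hW k
  haveI : ∀ (k l : Over i₁) (φ : k ⟶ l), IsAffineHom (D'.map φ) := fun k l φ => inferInstance
  let t : Over i₁ := Over.mk (𝟙 i₁)
  haveI : CompactSpace ↥V.left := by haveI := hV; infer_instance
  haveI := compactSpace_points_yon V
  haveI : CompactSpace ↥Y'.left := by
    have sqV : IsPullback a ((yon S).map (h ≫ iL)) (y ≫ c.π.app i₁) (p ≫ jU) := by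
      rw [Functor.map_comp]
      exact sqY.paste_vert sqL
    have hc' := isQuasiCompactMor_of_qc_qs (f := y ≫ c.π.app i₁) hY (hD i₁) (hqs i₁) (IsAlgSpace.yon_obj V)
      (isQuasiCompactSp_yon V) (p ≫ jU) _ _ sqV
    haveI := (isQuasiCompactSp_iff_compactSpace (IsAlgSpace.yon_obj Y')).1 hc'
    exact (Points.schemeHomeo Y').symm.compactSpace
  haveI : IsIso ((yon S).map (w t)) := by
    have : IsIso (D.map t.hom) := by show IsIso (D.map (𝟙 i₁)); infer_instance
    exact (sq t).isIso_snd_of_isIso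
  haveI : IsIso (w t) := isIso_of_fully_faithful (yon S) (w t)
  haveI hiso : IsIso (w t).left := inferInstanceAs (IsIso ((Over.forget S).map (w t)))
  have hae : RepWith @Etale a := (repWith_isStableUnderBaseChange _).of_isPullback sqY.flip
    ((repWith_isStableUnderBaseChange _).of_isPullback sqL.flip hpje)
  have hlh : LocallyOfFiniteType (h ≫ iL).left :=
    hl a (p ≫ jU) (h ≫ iL) hae hpje (by
      rw [← Category.assoc, sqY.w, Category.assoc, sqL.w, Functor.map_comp_assoc])
  have : LocallyOfFiniteType (h.left ≫ cS.π.app t) := by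
    have e : (h ≫ iL).left = (h.left ≫ cS.π.app t) ≫ (w t).left := by
      rw [← hiL t]; exact (Category.assoc _ _ _).symm
    exact (MorphismProperty.cancel_right_of_respectsIso (@LocallyOfFiniteType : MorphismProperty Scheme.{u}) _
      (w t).left).1 (e ▸ hlh)
  obtain ⟨k, -, hk⟩ := exists_isImmersion_stage D' cS hLS t h.left
  refine ⟨k.left, fun i ψ => ?_⟩
  let k' : Over i₁ := Over.mk (ψ ≫ k.hom)
  let φ : k' ⟶ k := Over.homMk ψ rfl
  have hk' : IsImmersion (h ≫ cL.π.app k').left := by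
    have e : (h.left ≫ cS.π.app k') ≫ D'.map φ = h.left ≫ cS.π.app k := by
      rw [Category.assoc, cS.w]
    have : IsImmersion ((h.left ≫ cS.π.app k') ≫ D'.map φ) := e ▸ hk
    exact IsImmersion.of_comp (h.left ≫ cS.π.app k') (D'.map φ)
  -- the open subspace of the stage containing the image
  let ji : pullback jU (D.map k'.hom) ⟶ D.obj i := pullback.snd jU (D.map k'.hom)
  have hji : RepWith @IsOpenImmersion ji :=
    (repWith_isStableUnderBaseChange _).of_isPullback (IsPullback.of_hasPullback jU (D.map k'.hom)) hjU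
  have : Mono jU := mono_of_repWith_le isOpenImmersion_le_monomorphisms hjU
  obtain ⟨l₁, hl₁⟩ := exists_factor_of_range_subset hjU (y ≫ c.π.app i₁)
    (by rw [range_map_restrictι hW₀]; exact hW₀r)
  let yi : Y ⟶ pullback jU (D.map k'.hom) := pullback.lift l₁ (y ≫ c.π.app i)
    (by rw [hl₁, Category.assoc]; exact congrArg _ (c.w k'.hom).symm)
  have hyi : yi ≫ ji = y ≫ c.π.app i := pullback.lift_snd _ _ _
  let q : (yon S).obj (W.obj k') ⟶ pullback jU (D.map k'.hom) :=
    pullback.lift ((yon S).map (w k') ≫ p) (fst k') (by rw [Category.assoc]; exact (sq k').w.symm)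
  have sqq : IsPullback q ((yon S).map (w k')) (pullback.fst jU (D.map k'.hom)) p :=
    IsPullback.of_right (h₁₂ := ji) (v₁₃ := D.map k'.hom) (h₂₂ := jU)
      (by rw [pullback.lift_snd]; exact sq k') (pullback.lift_fst _ _ _)
      (IsPullback.of_hasPullback jU (D.map k'.hom)).flip
  have : Mono ji := inferInstanceAs (Mono (pullback.snd _ _))
  have sqk : IsPullback a ((yon S).map (h ≫ cL.π.app k')) yi q := by
    have s1 : IsPullback fL ((yon S).map (cL.π.app k')) (c.π.app i) (fst k') := by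
      refine IsPullback.of_bot ?_ (hfL k') (sq k')
      rw [← Functor.map_comp, hiL k']
      convert sqL using 1
      exact c.w k'.hom
    have s2 : IsPullback a ((yon S).map (h ≫ cL.π.app k')) (yi ≫ ji) (q ≫ ji) := by
      rw [hyi, show q ≫ ji = fst k' from pullback.lift_snd _ _ _, Functor.map_comp]
      exact sqY.paste_vert s1
    exact IsPullback.mk' ((cancel_mono ji).1 (by rw [Category.assoc, Category.assoc]; exact s2.w))
      (fun Q u v h1 h2 => s2.hom_ext h1 h2)
      (fun Q u v huv => ⟨s2.lift u v (by rw [reassoc_of% huv]), s2.lift_fst _ _ _, s2.lift_snd _ _ _⟩)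
  rw [← hyi]
  exact MorphismProperty.comp_mem _ _ _
    (repWith_isImmersion_of_chart ((repWith_isStableUnderBaseChange _).of_isPullback sqq.flip hpe)
      ((repWith_isStableUnderBaseChange _).of_isPullback sqq.flip hps) sqk)
    (repWith_mono (fun _ _ a (ha : IsOpenImmersion a) => (inferInstance : IsImmersion a)) hji)

end Groth.Agent.SpPts86
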