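import Groth.Agent.SpPts86.SchImagePoints
import Groth.Agent.S2121

universe u

set_option autoImplicit false
set_option backward.isDefEq.respectTransparency false
set_option linter.style.haveILetI false

open CategoryTheory CategoryTheory.Limits AlgebraicGeometry
open AlgSp

namespace Groth.Agent.SpPts86

/-- Points of scheme theoretic images are reached by valuation rings. -/
theorem exists_valuationRing_to_schImage {S : Scheme.{u}} {X Y Z : Sp S} (hY : IsAlgSpace Y) {f : X ⟶ Y}
    {i : Z ⟶ Y} (hq : IsQuasiCompactMor f) (hZ : IsSchImage f i) (hi : RepWith @IsClosedImmersion i)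
    (z : Points Z) :
    ∃ (A : Type u) (_ : CommRing A) (_ : IsDomain A) (_ : ValuationRing A) (str : Spec (CommRingCat.of A) ⟶ S)
      (a : (yon S).obj (Over.mk str) ⟶ Z)
      (x : (yon S).obj (Over.mk (Spec.map (CommRingCat.ofHom (algebraMap A (FractionRing A))) ≫ str)) ⟶ X),
      Points.ofPt a (IsLocalRing.closedPoint A) = z ∧
      x ≫ f = (yon S).map (Over.homMk (Spec.map (CommRingCat.ofHom (algebraMap A (FractionRing A)))) rfl) ≫
        a ≫ i := by

  obtain ⟨T, t, v, A', h, q, hT, ht, hv, e, hqc, hcl, hid⟩ :=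
    exists_chart_mem_closure hY hq hZ hi (y := Points.map i z) ⟨z, rfl⟩
  haveI := hqc
  obtain ⟨A, iA, iD, iV, x, y, hxy, hy⟩ := S2121.result h.left v hcl
  haveI : IsClosedImmersion (hi.rep.snd t).left := hi.property_snd t
  have hle : (hi.rep.snd t).left.ker ≤ y.ker := by
    refine hid.trans_le ((Scheme.Hom.le_ker_comp x h.left).trans_eq ?_)
    rw [hxy]
    exact ker_comp_of_ker_eq_bot _ _
      (ker_specMap_eq_bot _ (IsFractionRing.injective A (FractionRing A)))
  let m : Over.mk (y ≫ T.hom) ⟶ hi.rep.pullback t :=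
    Over.homMk (IsClosedImmersion.lift _ y hle) (by
      show _ ≫ (hi.rep.pullback t).hom = y ≫ T.hom
      rw [← Over.w (hi.rep.snd t), ← Category.assoc, IsClosedImmersion.lift_fac])
  let x' : Over.mk (Spec.map (CommRingCat.ofHom (algebraMap A (FractionRing A))) ≫ y ≫ T.hom) ⟶ A' :=
    Over.homMk x (by
      show x ≫ A'.hom = Spec.map (CommRingCat.ofHom (algebraMap A (FractionRing A))) ≫ y ≫ T.hom
      rw [← Over.w h, ← Category.assoc, hxy, Category.assoc])
  let yT : Over.mk (y ≫ T.hom) ⟶ T := Over.homMk y rfl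
  have ha : ((AlgSp.yon S).map m ≫ hi.rep.fst t) ≫ i = (AlgSp.yon S).map yT ≫ t := by
    rw [Category.assoc, (hi.rep.isPullback t).w, ← Functor.map_comp_assoc]
    congr 2
    exact Over.OverMorphism.ext (IsClosedImmersion.lift_fac _ _ _)
  haveI : Mono i := mono_of_repWith_le isClosedImmersion_le_monomorphisms hZ.1
  refine ⟨A, iA, iD, iV, y ≫ T.hom, (AlgSp.yon S).map m ≫ hi.rep.fst t,
    (AlgSp.yon S).map x' ≫ q, ?_, ?_⟩
  · apply injective_map_of_mono i
    rw [AlgSp.Points.map_ofPt, ha, ofPt_comp, ← hv]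
    exact congrArg _ hy
  · rw [Category.assoc, e, ha, ← Functor.map_comp_assoc, ← Functor.map_comp_assoc]
    congr 2
    exact Over.OverMorphism.ext hxy

end Groth.Agent.SpPts86
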