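import Groth.Agent.SpPts86.ValDesc
import Groth.Agent.SpPts86.SchImageVal
import Groth.Agent.SpPts86.ProperCrit
import Groth.Agent.SpPts86.Graph
import Groth.Agent.SpFP87.IntegralSub
import Groth.Agent.S2121

/-!
The valuative criteria and universal closedness.
-/

universe u

set_option autoImplicit false
set_option backward.isDefEq.respectTransparency false
set_option linter.style.haveILetI false

open CategoryTheory CategoryTheory.Limits AlgebraicGeometry
open AlgSp
open Groth.Agent.SpFP87

namespace Groth.Agent.SpPts86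

variable {S : Scheme.{u}} {X Y : Sp S}

theorem isClosedMap_of_existVC (hY : IsAlgSpace Y) {f : X ⟶ Y}
    (hq : IsQuasiCompactMor f) (he : ExistVC f) : IsClosedMap (Points.map f) := by
  intro C hC
  rw [← closure_subset_iff_isClosed]
  intro z hz
  obtain ⟨T, t, v, hT, ht, rfl⟩ := exists_affine_chart_pt hY z
  haveI := hT
  have hv : v ∈ closure (Points.ofPt t ⁻¹' (Points.map f '' C)) :=
    (isOpenMap_ofPt ht).preimage_closure_subset_closure_preimage hz
  obtain ⟨A₀, p, hp, hps, hA₀⟩ := hq (IsAlgSpace.yon_obj T) (isQuasiCompactSp_yon T) t _ _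
    (IsPullback.of_hasPullback f t)
  obtain ⟨h, hh⟩ := (yon S).map_surjective (p ≫ pullback.snd f t)
  have hqX : (p ≫ pullback.fst f t) ≫ f = (yon S).map h ≫ t := by
    rw [Category.assoc, pullback.condition, hh, Category.assoc]
  let I := Scheme.IdealSheafData.vanishingIdeal (⟨Points.ofPt (p ≫ pullback.fst f t) ⁻¹' C,
    hC.preimage (Points.continuous_ofPt _)⟩ : TopologicalSpace.Closeds ↥A₀.left)
  have hIr : Set.range I.subschemeι = Points.ofPt (p ≫ pullback.fst f t) ⁻¹' C := by
    rw [Scheme.IdealSheafData.range_subschemeι, Scheme.IdealSheafData.coe_support_vanishingIdeal]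
    rfl
  haveI : CompactSpace ↥I.subscheme := I.subschemeι.isClosedEmbedding.compactSpace
  let C₀ : Over S := Over.mk (I.subschemeι ≫ A₀.hom)
  let ι : C₀ ⟶ A₀ := Over.homMk I.subschemeι rfl
  haveI : CompactSpace ↥C₀.left := inferInstanceAs (CompactSpace ↥I.subscheme)
  have hsub : Points.ofPt t ⁻¹' (Points.map f '' C) ⊆ Set.range (ι ≫ h).left := by
    rintro v' ⟨x, hxC, hx⟩
    obtain ⟨w, hw1, hw2⟩ := exists_of_isPullback (IsPullback.of_hasPullback f t) x
      (Points.ofScheme T v') (by rw [← Points.ofPt_eq_map_ofScheme, hx])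
    obtain ⟨a, rfl⟩ := surjective_ofPt hps w
    rw [Points.map_ofPt] at hw1 hw2
    rw [← hh, ofPt_yon_map] at hw2
    obtain ⟨b, hb⟩ : a ∈ Set.range I.subschemeι := by
      rw [hIr]
      show Points.ofPt _ a ∈ C
      rw [hw1]
      exact hxC
    refine ⟨b, ?_⟩
    show h.left (I.subschemeι b) = v'
    rw [hb]
    exact (Points.schemeHomeo T).injective hw2
  obtain ⟨V, iV, iD, iR, x, y, hxy, hy⟩ := S2121.result (ι ≫ h).left v (closure_mono hsub hv)
  let K₀ : Over S := Over.mk (Spec.map (CommRingCat.ofHom (algebraMap V (FractionRing V))) ≫ y ≫ T.hom)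
  let x₀ : K₀ ⟶ C₀ := Over.homMk x (by
    show x ≫ C₀.hom = Spec.map (CommRingCat.ofHom (algebraMap V (FractionRing V))) ≫ y ≫ T.hom
    rw [← Over.w (ι ≫ h), ← Category.assoc, hxy, Category.assoc])
  let y₀ : Over.mk (y ≫ T.hom) ⟶ T := Over.homMk y rfl
  let q : ValSq f :=
    { A := V, K := FractionRing V, str := y ≫ T.hom,
      top := (yon S).map (x₀ ≫ ι) ≫ p ≫ pullback.fst f t, bot := (yon S).map y₀ ≫ t,
      comm := by
        rw [Category.assoc, hqX, ← Functor.map_comp_assoc, ← Functor.map_comp_assoc]
        congr 2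
        refine Over.OverMorphism.ext ?_
        show (x ≫ I.subschemeι) ≫ h.left = _
        rw [Category.assoc]
        exact hxy }
  obtain ⟨e, l, hl1, hl2⟩ := he q
  refine ⟨Points.ofPt l (IsLocalRing.closedPoint e.A'), ?_, ?_⟩
  · have hgen : Points.ofPt l
        (Spec.map (CommRingCat.ofHom (algebraMap e.A' e.K')) (IsLocalRing.closedPoint e.K')) ∈ C := by
      have h1 := congrArg (fun k => Points.ofPt k (IsLocalRing.closedPoint e.K')) hl1
      simp only [ofPt_comp] at h1
      refine (congrArg (· ∈ C) h1).mpr ?_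
      show Points.ofPt ((yon S).map (x₀ ≫ ι) ≫ p ≫ pullback.fst f t) _ ∈ C
      rw [ofPt_comp]
      exact hIr.le ⟨_, rfl⟩
    exact ((IsLocalRing.specializes_closedPoint _).map (Points.continuous_ofPt l)).mem_closed hC hgen
  · rw [Points.map_ofPt, hl2, ofPt_comp]
    show Points.ofPt ((yon S).map y₀ ≫ t) _ = _
    rw [ofPt_comp]
    show Points.ofPt t (y (Spec.map (CommRingCat.ofHom e.φ) (IsLocalRing.closedPoint e.A'))) = _
    haveI := e.isLocalHom
    rw [← hy]
    congr 2
    exact IsLocalRing.comap_closedPoint e.φ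

/-- A quasi-compact morphism with the existence part of the valuative criterion is universally closed. -/
theorem isUnivClosedMor_of_existVC {f : X ⟶ Y}
    (hq : IsQuasiCompactMor f) (he : ExistVC f) : IsUnivClosedMor f := fun _ _ hZ _ _ _ sq =>
  isClosedMap_of_existVC hZ (isQuasiCompactMor_baseChange hq sq) (existVC_baseChange sq he)

/-- Uniqueness gives separatedness for quasi-separated morphisms. -/
theorem isSeparatedMor_of_uniqVC (hX : IsAlgSpace X) (hY : IsAlgSpace Y) {f : X ⟶ Y}
    (hqs : IsQuasiSeparatedMor f) (hu : UniqVC f) : IsSeparatedMor f := by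
  have hP : IsAlgSpace (pullback f f) :=
    SpFP87.isAlgSpace_of_isPullback (IsPullback.of_hasPullback f f) hX hX hY.diag
  refine isSeparatedMor_of_diag_univClosed hX hY (isUnivClosedMor_of_existVC
    (isQuasiCompactMor_of_repWith hP hqs) (existVC_of_existVCStrict fun q => ?_))
  have h1 := congrArg (· ≫ pullback.fst f f) q.comm
  have h2 := congrArg (· ≫ pullback.snd f f) q.comm
  simp only [Category.assoc, pullback.diagonal_fst, pullback.diagonal_snd, Category.comp_id] at h1 h2
  let q' : ValSq f :=
    { A := q.A, K := q.K, str := q.str, top := q.top, bot := q.bot ≫ pullback.fst f f ≫ f,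
      comm := by rw [h1]; simp only [Category.assoc] }
  have e : q.bot ≫ pullback.fst f f = q.bot ≫ pullback.snd f f := by
    refine hu q' _ _ h1.symm (Category.assoc _ _ _) h2.symm ?_
    rw [Category.assoc, ← pullback.condition]
  refine ⟨q.bot ≫ pullback.fst f f, h1.symm, ?_⟩
  apply pullback.hom_ext
  · simp only [Category.assoc, pullback.diagonal_fst, Category.comp_id]
  · simp only [Category.assoc, pullback.diagonal_snd, Category.comp_id]
    exact e

/-- Cancellation of quasi-compactness along a quasi-separated morphism. -/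
theorem isQuasiCompactMor_cancel {Z : Sp S} (hX : IsAlgSpace X) (hY : IsAlgSpace Y) (hZ : IsAlgSpace Z)
    {f : X ⟶ Y} {g : Y ⟶ Z} (h : IsQuasiCompactMor (f ≫ g)) (hg : IsQuasiSeparatedMor g) :
    IsQuasiCompactMor f := by
  let γ := pullback.lift (f := f ≫ g) (g := g) (𝟙 X) f (Category.id_comp _)
  have hγ : γ ≫ pullback.fst (f ≫ g) g = 𝟙 X := pullback.lift_fst _ _ _
  have hs : RepWith @QuasiCompact γ := repWith_section hγ
    ((repWith_isStableUnderBaseChange _).of_isPullback
      (isPullback_diagonal_baseChange (IsPullback.of_hasPullback (f ≫ g) g).flip) hg)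
  have hP : IsAlgSpace (pullback (f ≫ g) g) :=
    SpFP87.isAlgSpace_of_isPullback (IsPullback.of_hasPullback (f ≫ g) g) hX hY hZ.diag
  rw [← pullback.lift_snd (f := f ≫ g) (g := g) (𝟙 X) f (Category.id_comp _)]
  exact isQuasiCompactMor_comp hP hY (isQuasiCompactMor_of_repWith hP hs)
    (isQuasiCompactMor_baseChange h (IsPullback.of_hasPullback (f ≫ g) g))

/-- A universally closed quasi-separated morphism has the existence part of the valuative criterion. -/
theorem existVC_of_univClosed (hX : IsAlgSpace X) (hY : IsAlgSpace Y) {f : X ⟶ Y}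
    (hqs : IsQuasiSeparatedMor f) (hc : IsUnivClosedMor f) : ExistVC f := fun q => by
  let P := pullback f q.bot
  have hP : IsAlgSpace P := SpFP87.isAlgSpace_of_isPullback (IsPullback.of_hasPullback f q.bot) hX
    (IsAlgSpace.yon_obj q.ptA) hY.diag
  have hclosed : IsClosedMap (Points.map (pullback.snd f q.bot)) :=
    hc (IsAlgSpace.yon_obj q.ptA) q.bot _ _ (IsPullback.of_hasPullback f q.bot)
  let x : (yon S).obj q.ptK ⟶ P := pullback.lift q.top ((yon S).map q.j) q.comm
  have hx : x ≫ pullback.snd f q.bot = (yon S).map q.j := pullback.lift_snd _ _ _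
  haveI : QuasiCompact q.j.left :=
    inferInstanceAs (QuasiCompact (Spec.map (CommRingCat.ofHom (algebraMap q.A q.K))))
  have hqsP : IsQuasiSeparatedMor (pullback.snd f q.bot) :=
    (repWith_isStableUnderBaseChange @QuasiCompact).of_isPullback
      (isPullback_diagonal_baseChange (IsPullback.of_hasPullback f q.bot)) hqs
  have hxq : IsQuasiCompactMor x := by
    refine isQuasiCompactMor_cancel (IsAlgSpace.yon_obj _) hP (IsAlgSpace.yon_obj _) ?_ hqsP
    rw [hx]
    exact isQuasiCompactMor_of_repWith (IsAlgSpace.yon_obj _)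
      ((repWith_yon_map_iff _ _).2 inferInstance)
  obtain ⟨hZ, hi⟩ := exists_isSchImage hP x
  have hcl : IsClosed (Set.range (Points.map (schImageι x ≫ pullback.snd f q.bot))) := by
    have e : Set.range (Points.map (schImageι x ≫ pullback.snd f q.bot)) =
        Points.map (pullback.snd f q.bot) '' Set.range (Points.map (schImageι x)) := by
      rw [← Set.range_comp]
      congr 1
      funext w
      exact Points.map_comp _ _ _
    rw [e]
    exact hclosed _ (SpFP87.isClosedEmbedding_map_of_closedImmersion hP hi.1).isClosed_range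
  obtain ⟨x', hx'⟩ := hi.2.1
  have hgen : Points.ofScheme q.ptA (q.j.left (IsLocalRing.closedPoint q.K)) ∈
      Set.range (Points.map (schImageι x ≫ pullback.snd f q.bot)) := by
    refine ⟨Points.ofPt x' (IsLocalRing.closedPoint q.K), ?_⟩
    rw [Points.map_ofPt, ← Category.assoc, hx', hx, ofPt_yon_map]
  obtain ⟨z, hz⟩ : Points.ofScheme q.ptA (IsLocalRing.closedPoint q.A) ∈
      Set.range (Points.map (schImageι x ≫ pullback.snd f q.bot)) :=
    ((IsLocalRing.specializes_closedPoint (q.j.left (IsLocalRing.closedPoint q.K))).map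
      (Points.schemeHomeo q.ptA).continuous).mem_closed hcl hgen
  obtain ⟨A', iA, iD, iV, str, a, x₁, ha, hx₁⟩ := exists_valuationRing_to_schImage hP hxq hi hi.1 z
  obtain ⟨β, hβ⟩ := (yon S).map_surjective (a ≫ schImageι x ≫ pullback.snd f q.bot)
  obtain ⟨κ, rfl⟩ := (yon S).map_surjective x₁
  obtain ⟨φ, hφ⟩ := Spec.map_surjective β.left
  obtain ⟨ψ, hψ⟩ := Spec.map_surjective κ.left
  have hstr : Spec.map φ ≫ q.str = str := by rw [hφ]; exact Over.w β
  have hcomm : κ ≫ q.j =
      (Over.homMk (Spec.map (CommRingCat.ofHom (algebraMap A' (FractionRing A')))) rfl :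
        Over.mk (Spec.map (CommRingCat.ofHom (algebraMap A' (FractionRing A'))) ≫ str) ⟶ Over.mk str) ≫ β := by
    apply (yon S).map_injective
    rw [Functor.map_comp, Functor.map_comp, hβ, ← hx, ← Category.assoc, hx₁, Category.assoc,
      Category.assoc]
  let e : q.DomExt :=
    { A' := A', K' := FractionRing A', φ := φ.hom, ψ := ψ.hom,
      comm := by
        have h := congrArg CommaMorphism.left hcomm
        simp only [Over.comp_left, Over.homMk_left, ← hφ, ← hψ] at h
        rw [← Spec.map_comp, ← Spec.map_comp] at h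
        exact (congrArg CommRingCat.Hom.hom (Spec.map_injective h)).symm
      isLocalHom := by
        rw [IsLocalRing.isLocalHom_iff_comap_closedPoint]
        have h := congrArg (fun k => Points.ofPt k (IsLocalRing.closedPoint A')) hβ
        simp only [ofPt_yon_map] at h
        rw [← Points.map_ofPt, ha, hz] at h
        have h' : β.left (IsLocalRing.closedPoint A') = IsLocalRing.closedPoint q.A :=
          (Points.schemeHomeo q.ptA).injective h
        rw [← hφ] at h'
        exact h' }
  have hb : Spec.map φ ≫ q.str = str := hstr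
  let i : e.ptA' ⟶ Over.mk str := Over.homMk (𝟙 _) (by
    show 𝟙 _ ≫ str = Spec.map φ ≫ q.str
    rw [Category.id_comp, hb])
  let i' : e.ptK' ⟶ Over.mk (Spec.map (CommRingCat.ofHom (algebraMap A' (FractionRing A'))) ≫ str) :=
    Over.homMk (𝟙 _) (by
      show 𝟙 _ ≫ Spec.map _ ≫ str = Spec.map _ ≫ Spec.map φ ≫ q.str
      rw [Category.id_comp, hb])
  refine ⟨e, (yon S).map i ≫ a ≫ schImageι x ≫ pullback.fst f q.bot, ?_, ?_⟩
  · show _ = (yon S).map (domExtK e) ≫ q.top
    rw [show domExtK e = i' ≫ κ from Over.OverMorphism.ext (by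
      show Spec.map ψ = 𝟙 _ ≫ κ.left
      rw [Category.id_comp, hψ]), Functor.map_comp_assoc, ← pullback.lift_fst (f := f) (g := q.bot)
        q.top ((yon S).map q.j) q.comm, ← Category.assoc ((yon S).map κ)]
    show _ = (yon S).map i' ≫ ((yon S).map κ ≫ x) ≫ pullback.fst f q.bot
    rw [hx₁]
    simp only [← Category.assoc, ← Functor.map_comp]
    congr 4
  · rw [Category.assoc, Category.assoc, Category.assoc, pullback.condition, ← Category.assoc a,
      ← Category.assoc (a ≫ schImageι x), Category.assoc a, ← hβ, ← Category.assoc, ← Functor.map_comp]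
    congr 2
    exact Over.OverMorphism.ext (by
      show 𝟙 _ ≫ β.left = Spec.map φ
      rw [Category.id_comp, hφ])

end Groth.Agent.SpPts86
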