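import Groth.Agent.SpPts86.EvIso
import Groth.Agent.SpPts86.EvMono
import Groth.Agent.SpFP87.Reduced
import Groth.Agent.S4782
import Groth.Agent.SpPts86.Proper
import Groth.Agent.SpPts86.ValClosed

/-!
Reducedness of limits, closed immersions of limits and descent of quasi-compact opens.
-/

universe u

set_option autoImplicit false
set_option backward.isDefEq.respectTransparency false
set_option linter.style.haveILetI false

open CategoryTheory CategoryTheory.Limits AlgebraicGeometry
open AlgSp Groth.Agent.SpFP87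

namespace Groth.Agent.SpPts86

variable {S : Scheme.{u}} {I : Type u} [SmallCategory I] [IsCofiltered I] {D : I ⥤ Sp S}

theorem isReducedSp_limit (hD : ∀ i, IsAlgSpace (D.obj i))
    (hDa : ∀ (i j : I) (φ : i ⟶ j), IsAffineMor (D.map φ)) {c : Cone D} (hc : IsLimit c)
    (hred : ∀ i, IsReducedSp (D.obj i)) : IsReducedSp c.pt := by
  obtain ⟨i⟩ := IsCofiltered.nonempty (C := I)
  obtain ⟨V, p, hpe, hps⟩ := (hD i).atlas
  obtain ⟨L, l, a, sqa⟩ := (repWith_of_isAffineMor (isAffineMor_π hDa hc i)).rep p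
  refine ⟨L, a, (repWith_isStableUnderBaseChange _).of_isPullback sqa.flip hpe,
    (repWith_isStableUnderBaseChange _).of_isPullback sqa.flip hps, ?_⟩
  let 𝒰 := V.left.affineCover
  suffices h : ∀ j, IsReduced (pullback l.left (𝒰.f j)) by
    haveI : ∀ j, IsReduced ((𝒰.pullback₁ l.left).X j) := h
    exact IsReduced.of_openCover L.left (𝒰.pullback₁ l.left)
  intro j
  let V' : Over S := Over.mk (𝒰.f j ≫ V.hom)
  let v : V' ⟶ V := Over.homMk (𝒰.f j) rfl
  have hV' : IsAffine V'.left := inferInstanceAs (IsAffine (𝒰.X j))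
  have hp'e : RepWith @Etale ((yon S).map v ≫ p) := MorphismProperty.comp_mem _ _ _
    ((repWith_yon_map_iff _ _).2 (inferInstanceAs (Etale (𝒰.f j)))) hpe
  obtain ⟨W, fst, w, cL, -, hLS, fL, iL, sq, hW, hWf, hWw, hiL, hfL, sqL, -⟩ :=
    exists_affine_limit_chart hDa hc i hV' ((yon S).map v ≫ p)
  let D' : Over i ⥤ Scheme.{u} := W ⋙ Over.forget S
  haveI : ∀ k : Over i, IsAffine (D'.obj k) := fun k => hW k
  haveI : ∀ (k l : Over i) (φ : k ⟶ l), IsAffineHom (D'.map φ) := fun k l φ => inferInstance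
  have hr : IsReduced cL.pt.left := by
    by_contra h'
    obtain ⟨k, hk⟩ := LimTop61.eventually_not_isReduced D' ((Over.forget S).mapCone cL) hLS h'
    exact hk k (𝟙 k) (isReduced_chart (hD k.left) (hred k.left) (a := fst k)
      ((repWith_isStableUnderBaseChange _).of_isPullback (sq k).flip hp'e))
  obtain ⟨m, hm⟩ := (yon S).map_surjective (sqa.lift fL ((yon S).map (iL ≫ v))
    (by rw [sqL.w, Functor.map_comp, Category.assoc]))
  have hm1 : (yon S).map m ≫ a = fL := by rw [hm, sqa.lift_fst]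
  have hm2 : m ≫ l = iL ≫ v := (yon S).map_injective (by rw [Functor.map_comp, hm, sqa.lift_snd])
  have h1 : IsPullback ((yon S).map m) ((yon S).map iL) ((yon S).map l) ((yon S).map v) :=
    IsPullback.of_right (by rw [hm1]; exact sqL) (by rw [← Functor.map_comp, hm2, Functor.map_comp]) sqa
  have h2 : IsPullback m.left iL.left l.left v.left :=
    (IsPullback.of_map (yon S) ((yon S).map_injective (by simpa using h1.w)) h1).map (Over.forget S)
  haveI := hr
  exact isReduced_of_isOpenImmersion h2.isoPullback.inv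

theorem repWith_closedImm_limMap {DX DY : I ⥤ Sp S} (hDY : ∀ i, IsAlgSpace (DY.obj i))
    (hYa : ∀ (i j : I) (φ : i ⟶ j), IsAffineMor (DY.map φ))
    (τ : DX ⟶ DY) (hτ : ∀ i, RepWith @IsClosedImmersion (τ.app i))
    {cX : Cone DX} (hcX : IsLimit cX) {cY : Cone DY} (hcY : IsLimit cY)
    (g : cX.pt ⟶ cY.pt) (hg : ∀ i, g ≫ cY.π.app i = cX.π.app i ≫ τ.app i) :
    RepWith @IsClosedImmersion g := by
  obtain ⟨i₁⟩ := IsCofiltered.nonempty (C := I)
  haveI : IsZariskiLocalAtTarget (@IsClosedImmersion : MorphismProperty Scheme.{u}) := inferInstance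
  refine repWith_of_affine_squares @IsClosedImmersion fun T hT h => ?_
  let P : I ⥤ Sp S :=
    { obj := fun i => pullback (τ.app i) (h ≫ cY.π.app i)
      map := fun {j k} φ => pullback.map (τ.app j) (h ≫ cY.π.app j) (τ.app k) (h ≫ cY.π.app k)
        (DX.map φ) (𝟙 _) (DY.map φ) (τ.naturality φ).symm (by simp)
      map_id := fun k => by apply pullback.hom_ext <;> simp
      map_comp := fun φ ψ => by apply pullback.hom_ext <;> simp }
  let cP : Cone P :=
    { pt := pullback g h
      π :=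
        { app := fun i => pullback.map g h (τ.app i) (h ≫ cY.π.app i) (cX.π.app i) (𝟙 _) (cY.π.app i)
            (hg i) (by simp)
          naturality := fun j k φ => by
            show 𝟙 _ ≫ _ = _ ≫ pullback.map (τ.app j) (h ≫ cY.π.app j) (τ.app k) (h ≫ cY.π.app k)
              (DX.map φ) (𝟙 _) (DY.map φ) (τ.naturality φ).symm (by simp)
            apply pullback.hom_ext <;> simp } }
  have hs : ∀ {j k : I} (φ : j ⟶ k), P.map φ ≫ pullback.snd (τ.app k) (h ≫ cY.π.app k) =
      pullback.snd (τ.app j) (h ≫ cY.π.app j) := fun φ => (pullback.lift_snd _ _ _).trans (Category.comp_id _)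
  let cX' : Cone P → Cone DX := fun s =>
    { pt := s.pt
      π := { app := fun k => s.π.app k ≫ pullback.fst (τ.app k) (h ≫ cY.π.app k)
             naturality := fun j k φ => by
              show 𝟙 _ ≫ _ = (_ ≫ _) ≫ _
              rw [Category.id_comp, ← s.w φ, Category.assoc, Category.assoc]
              exact congrArg _ (pullback.lift_fst _ _ _) } }
  have hb : ∀ (s : Cone P) (k : I), s.π.app k ≫ pullback.snd (τ.app k) (h ≫ cY.π.app k) =
      s.π.app i₁ ≫ pullback.snd (τ.app i₁) (h ≫ cY.π.app i₁) := fun s k => by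
    obtain ⟨m, a, b, -⟩ := IsCofilteredOrEmpty.cone_objs k i₁
    rw [← s.w a, ← s.w b, Category.assoc, Category.assoc]
    exact congrArg _ ((hs a).trans (hs b).symm)
  have hcP : IsLimit cP := by
    refine ⟨fun s => pullback.lift (hcX.lift (cX' s)) (s.π.app i₁ ≫ pullback.snd (τ.app i₁) (h ≫ cY.π.app i₁))
      (hcY.hom_ext fun k => ?_), fun s k => ?_, fun s m hm => ?_⟩
    · rw [Category.assoc, hg, ← Category.assoc, hcX.fac, ← hb s k, Category.assoc]
      show (s.π.app k ≫ pullback.fst _ _) ≫ _ = (s.π.app k ≫ _) ≫ h ≫ cY.π.app k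
      exact (Category.assoc _ _ _).trans ((s.π.app k ≫= pullback.condition).trans (Category.assoc _ _ _).symm)
    · apply pullback.hom_ext
      · simp [cP, cX']
      · simp [cP, hb s k]
    · apply pullback.hom_ext
      · rw [pullback.lift_fst]
        refine hcX.hom_ext fun k => ?_
        rw [hcX.fac, Category.assoc]
        show _ = s.π.app k ≫ _
        rw [← hm k]
        simp [cP]
      · rw [pullback.lift_snd, ← hm i₁]
        simp [cP]
  have hsnd : ∀ k, RepWith @IsClosedImmersion (pullback.snd (τ.app k) (h ≫ cY.π.app k)) := fun k =>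
    (repWith_isStableUnderBaseChange _).of_isPullback (IsPullback.of_hasPullback _ _) (hτ k)
  have hPc : ∀ (j k : I) (φ : j ⟶ k), RepWith @IsClosedImmersion (P.map φ) := fun j k φ => by
    have : Mono (pullback.snd (τ.app k) (h ≫ cY.π.app k)) :=
      mono_of_repWith_le (fun _ _ a (ha : IsClosedImmersion a) => (inferInstance : Mono a)) (hsnd k)
    refine repWith_of_comp (b := pullback.snd (τ.app k) (h ≫ cY.π.app k))
      (isSeparatedMor_of_mono _) ?_
    rw [hs φ]
    exact hsnd j
  have hπ : RepWith @IsClosedImmersion (pullback.snd g h) := by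
    have e : cP.π.app i₁ ≫ pullback.snd (τ.app i₁) (h ≫ cY.π.app i₁) = pullback.snd g h := by simp [cP]
    rw [← e]
    exact MorphismProperty.comp_mem _ _ _ (repWith_closedImm_π hPc hcP i₁) (hsnd i₁)
  obtain ⟨V, v, q, sqv⟩ := hπ.rep (𝟙 ((yon S).obj T))
  refine ⟨V, v, q ≫ pullback.fst g h, ?_, hπ.property _ _ _ sqv⟩
  simpa using sqv.paste_horiz (IsPullback.of_hasPullback g h)

/-- The same, for quasi-compact opens: a quasi-compact open of the limit comes from a stage. -/
theorem exists_stage_open [QuasiSeparatedSpace ↥S] (hD : ∀ i, IsAlgSpace (D.obj i))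
    (hDa : ∀ (i j : I) (φ : i ⟶ j), IsAffineMor (D.map φ))
    (hqc : ∀ i, IsQuasiCompactSp (D.obj i)) (hqs : ∀ i, IsQuasiSeparatedSp (D.obj i))
    {c : Cone D} (hc : IsLimit c) {U : Sp S} (j : U ⟶ c.pt) (hj : RepWith @IsOpenImmersion j)
    (hU : IsQuasiCompactSp U) :
    ∃ (i : I) (Ui : Sp S) (ji : Ui ⟶ D.obj i) (q : U ⟶ Ui),
      RepWith @IsOpenImmersion ji ∧ IsQuasiCompactSp Ui ∧ IsPullback j q (c.π.app i) ji := by
  obtain ⟨i⟩ := IsCofiltered.nonempty (C := I)
  have hXA := isAlgSpace_limit hD hDa hc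
  haveI := (isQuasiCompactSp_iff_compactSpace (hD i)).1 (hqc i)
  obtain ⟨V, p, hV, hpe, hps⟩ := exists_affine_chart_of_compactSpace (hD i)
  obtain ⟨W, fst, w, cL, -, hLS, fL, iL, sq, hW, hWf, hWw, hiL, hfL, sqL, hLaff⟩ :=
    exists_affine_limit_chart hDa hc i hV p
  -- an affine chart of the relation
  obtain ⟨R, r₁, r₂, sqR⟩ := exists_isPullback_yon (hD i).diag p p
  haveI := hV
  haveI : CompactSpace ↥R.left := by
    have : QuasiCompact (schLift r₁ r₂) := schLift_of_repWith_diag @QuasiCompact (hqs i) sqR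
    exact compact_pullback_left r₁ r₂
  haveI := compactSpace_points_yon R
  obtain ⟨R', ρ, hR', hρe, hρs⟩ := exists_affine_chart_of_compactSpace (IsAlgSpace.yon_obj R)
  obtain ⟨ρ', hρ'⟩ := (yon S).map_surjective ρ
  obtain ⟨Q, fstQ, wQ, cQ, -, hQS, fQ, iQ, sqQ, hQ, hQf, hQw, hiQ, hfQ, sqQL, hQaff⟩ :=
    exists_affine_limit_chart hDa hc i hR' (ρ ≫ (yon S).map r₁ ≫ p)
  have hm : ∀ (r : R ⟶ V), (yon S).map r₁ ≫ p = (yon S).map r ≫ p → ∀ k : Over i, ∃ m : Q.obj k ⟶ W.obj k,
      (yon S).map m ≫ fst k = fstQ k ∧ m ≫ w k = wQ k ≫ ρ' ≫ r := fun r hr k => by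
    obtain ⟨m, hm⟩ := (yon S).map_surjective ((sq k).lift (fstQ k) ((yon S).map (wQ k ≫ ρ' ≫ r))
      (by rw [(sqQ k).w, ← hρ', Functor.map_comp, Functor.map_comp, Category.assoc, Category.assoc, hr]))
    exact ⟨m, by rw [hm, (sq k).lift_fst],
      (yon S).map_injective (by rw [Functor.map_comp, hm, (sq k).lift_snd])⟩
  choose m₁ hm₁f hm₁w using hm r₁ rfl
  choose m₂ hm₂f hm₂w using hm r₂ sqR.w
  let DW : Over i ⥤ Scheme.{u} := W ⋙ Over.forget S
  let DQ : Over i ⥤ Scheme.{u} := Q ⋙ Over.forget S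
  let cW : Cone DW := (Over.forget S).mapCone cL
  let cQ' : Cone DQ := (Over.forget S).mapCone cQ
  haveI : ∀ k : Over i, IsAffine (DW.obj k) := fun k => hW k
  haveI : ∀ k : Over i, IsAffine (DQ.obj k) := fun k => hQ k
  haveI : ∀ (k l : Over i) (φ : k ⟶ l), IsAffineHom (DW.map φ) := fun k l φ => inferInstance
  haveI : ∀ (k l : Over i) (φ : k ⟶ l), IsAffineHom (DQ.map φ) := fun k l φ => inferInstance
  have hWext : ∀ {l : Over i} {A : Over S} (a b : A ⟶ W.obj l),
      (yon S).map a ≫ fst l = (yon S).map b ≫ fst l → a ≫ w l = b ≫ w l → a = b :=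
    fun {l} A a b h1 h2 => (yon S).map_injective ((sq l).hom_ext h1
      (by rw [← Functor.map_comp, ← Functor.map_comp, h2]))
  -- the open of the limit chart
  haveI := (isQuasiCompactSp_iff_compactSpace (isAlgSpace_of_representable j hj.rep hXA)).1 hU
  obtain ⟨U', u, a, sqU⟩ := hj.rep fL
  haveI : IsOpenImmersion u.left := hj.property fL a u sqU
  haveI : IsAffine cL.pt.left := hLaff
  haveI : CompactSpace ↥U'.left := by
    have hqsX : IsQuasiCompactMor j := by
      haveI : CompactSpace ↥cL.pt.left := inferInstance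
      refine isQuasiCompactMor_cancel (g := c.π.app i) (isAlgSpace_of_representable j hj.rep hXA) hXA (hD i)
        (isQuasiCompactMor_of_qc_qs (isAlgSpace_of_representable j hj.rep hXA) (hD i) (hqs i)) ?_
      exact repWith_mono (fun _ _ a (ha : IsClosedImmersion a) => (inferInstance : QuasiCompact a))
        (isSeparatedMor_of_repWith_le (fun _ _ a (ha : IsAffineHom a) => (inferInstance : IsSeparated a))
          hXA (repWith_of_isAffineMor (isAffineMor_π hDa hc i)))
    haveI := compactSpace_points_yon cL.pt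
    have hc' := hqsX (IsAlgSpace.yon_obj cL.pt) (isQuasiCompactSp_yon cL.pt) fL _ _ sqU
    haveI := (isQuasiCompactSp_iff_compactSpace (IsAlgSpace.yon_obj U')).1 hc'
    exact (Points.schemeHomeo U').symm.compactSpace
  let O : cL.pt.left.Opens := ⟨Set.range u.left, u.left.isOpenEmbedding.isOpen_range⟩
  have hOc : IsCompact (O : Set ↥cL.pt.left) := isCompact_range u.left.continuous
  have hOp : ∀ z, z ∈ O ↔ Points.ofPt fL z ∈ Set.range (Points.map j) := fun z => by
    rw [← Set.mem_preimage, preimage_ofPt_range_map sqU]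
    exact Iff.rfl
  obtain ⟨k, V₀, hV₀c, hV₀⟩ := exists_preimage_eq DW cW hLS O hOc
  let V₁ : (DQ.obj k).Opens := (m₁ k).left ⁻¹ᵁ V₀
  let V₂ : (DQ.obj k).Opens := (m₂ k).left ⁻¹ᵁ V₀
  haveI : IsAffineHom (m₁ k).left := inferInstance
  haveI : IsAffineHom (m₂ k).left := inferInstance
  have hlim : cQ'.π.app k ⁻¹ᵁ V₁ = cQ'.π.app k ⁻¹ᵁ V₂ := by
    have key : ∀ (m : ∀ l, Q.obj l ⟶ W.obj l), (∀ l, (yon S).map (m l) ≫ fst l = fstQ l) →
        ∀ z, (cQ'.π.app k z ∈ (m k).left ⁻¹ᵁ V₀) ↔
          Points.ofPt fQ z ∈ Set.range (Points.map j) := by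
      intro m hmf z
      obtain ⟨b, hb⟩ := (yon S).map_surjective (sqL.lift fQ
        ((yon S).map (cQ.π.app k ≫ m k ≫ w k)) (by
          rw [Functor.map_comp, Functor.map_comp, Category.assoc, Category.assoc, ← (sq k).w,
            reassoc_of% (hmf k), ← reassoc_of% (hfQ k), c.w]))
      have hb1 : (yon S).map b ≫ fL = fQ := by rw [hb, sqL.lift_fst]
      have hb2 : b ≫ cL.π.app k = cQ.π.app k ≫ m k := by
        refine hWext _ _ ?_ ?_
        · rw [Functor.map_comp, Category.assoc, ← hfL k, ← Category.assoc, hb1, hfQ k, Functor.map_comp,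
            Category.assoc, hmf]
        · rw [Category.assoc, hiL k, Category.assoc]
          exact (yon S).map_injective (by rw [Functor.map_comp, hb, sqL.lift_snd])
      show (cQ.π.app k ≫ m k).left z ∈ V₀ ↔ _
      rw [← hb2, ← hb1, ofPt_comp, ← hOp, ← hV₀]
      exact Iff.rfl
    ext z
    exact (key m₁ hm₁f z).trans (key m₂ hm₂f z).symm
  obtain ⟨l, φ, hl⟩ := exists_map_preimage_eq_map_preimage DQ cQ' hQS
    (QuasiCompact.isCompact_preimage (f := (m₁ k).left) _ V₀.isOpen hV₀c) (QuasiCompact.isCompact_preimage (f := (m₂ k).left) _ V₀.isOpen hV₀c) hlim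
  let V' : (DW.obj l).Opens := DW.map φ ⁻¹ᵁ V₀
  have hfle : RepWith @Etale (fst l) := (repWith_isStableUnderBaseChange _).of_isPullback (sq l).flip hpe
  have hsat : ∀ z z' : ↥(W.obj l).left, Points.ofPt (fst l) z = Points.ofPt (fst l) z' → z ∈ V' → z' ∈ V' := by
    intro z z' he hz
    -- a point of the relation at stage `l`
    have sQR : IsPullback (fstQ l) ((yon S).map (wQ l)) (D.map l.hom) (ρ ≫ (yon S).map r₁ ≫ p) := sqQ l
    obtain ⟨M, t₁, t₂, sqM⟩ := exists_isPullback_yon (hD l.left).diag (fst l) (fst l)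
    obtain ⟨x, hx₁, hx₂⟩ := exists_pt_of_isPullback sqM (Points.ofScheme (W.obj l) z) z'
      (by rw [← Points.ofPt_eq_map_ofScheme]; exact he)
    obtain ⟨e, he'⟩ := (yon S).map_surjective (sqR.lift ((yon S).map (t₁ ≫ w l)) ((yon S).map (t₂ ≫ w l))
      (by rw [Functor.map_comp, Functor.map_comp, Category.assoc, Category.assoc, ← (sq l).w,
        reassoc_of% sqM.w]))
    have he₁ : e ≫ r₁ = t₁ ≫ w l :=
      (yon S).map_injective (by rw [Functor.map_comp, he', sqR.lift_fst])
    have he₂ : e ≫ r₂ = t₂ ≫ w l :=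
      (yon S).map_injective (by rw [Functor.map_comp, he', sqR.lift_snd])
    obtain ⟨N, n, ν, sqN⟩ := hρs.rep ((yon S).map e)
    obtain ⟨y, hy⟩ := (hρs.property _ ν n sqN).surj x
    obtain ⟨ν', hν'⟩ := (yon S).map_surjective ν
    obtain ⟨q, hq⟩ := (yon S).map_surjective (sQR.lift ((yon S).map (n ≫ t₁) ≫ fst l) ((yon S).map ν')
      (by
        rw [hν', ← Category.assoc ν ρ, sqN.w, Category.assoc, (sq l).w, Category.assoc]
        simp only [← Functor.map_comp_assoc, Category.assoc, he₁]))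
    have hq1 : (yon S).map q ≫ fstQ l = (yon S).map (n ≫ t₁) ≫ fst l := by rw [hq, sQR.lift_fst]
    have hq2 : q ≫ wQ l = ν' := (yon S).map_injective (by rw [Functor.map_comp, hq, sQR.lift_snd])
    have hne : ν' ≫ ρ' = n ≫ e := (yon S).map_injective (by
      rw [Functor.map_comp, Functor.map_comp, hν', hρ']; exact sqN.w)
    have hqm₁ : q ≫ m₁ l = n ≫ t₁ := hWext _ _ (by rw [Functor.map_comp, Category.assoc, hm₁f, hq1])
      (by rw [Category.assoc, hm₁w, reassoc_of% hq2, reassoc_of% hne, he₁, Category.assoc])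
    have hqm₂ : q ≫ m₂ l = n ≫ t₂ := hWext _ _
      (by rw [Functor.map_comp, Category.assoc, hm₂f, hq1, Functor.map_comp, Functor.map_comp,
          Category.assoc, Category.assoc, sqM.w])
      (by rw [Category.assoc, hm₂w, reassoc_of% hq2, reassoc_of% hne, he₂, Category.assoc])
    have hnat : ∀ (m : ∀ l, Q.obj l ⟶ W.obj l), (∀ l, (yon S).map (m l) ≫ fst l = fstQ l) →
        ∀ (r : R ⟶ V), (∀ l, m l ≫ w l = wQ l ≫ ρ' ≫ r) → Q.map φ ≫ m k = m l ≫ W.map φ := by
      intro m hmf r hmw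
      refine hWext _ _ ?_ ?_
      · rw [Functor.map_comp, Functor.map_comp, Category.assoc, Category.assoc, hmf, hQf, hWf,
          reassoc_of% (hmf l)]
      · rw [Category.assoc, Category.assoc, hmw, hWw, hmw, reassoc_of% (hQw φ)]
    have hV12 : ∀ y : ↥(Q.obj l).left, (m₁ l).left y ∈ V' ↔ (m₂ l).left y ∈ V' := by
      intro y
      show (m₁ l ≫ W.map φ).left y ∈ V₀ ↔ (m₂ l ≫ W.map φ).left y ∈ V₀
      rw [← hnat m₁ hm₁f r₁ hm₁w, ← hnat m₂ hm₂f r₂ hm₂w]
      exact Iff.of_eq (congrArg (fun O : (DQ.obj l).Opens => y ∈ O) hl)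
    have h1 : (m₁ l).left (q.left y) = z := by
      show (q ≫ m₁ l).left y = z
      rw [hqm₁]
      show t₁.left (((Over.forget S).map n) y) = z
      rw [hy]
      exact (Points.schemeEquiv (W.obj l)).injective ((ofPt_yon_map t₁ x).symm.trans hx₁)
    have h2 : (m₂ l).left (q.left y) = z' := by
      show (q ≫ m₂ l).left y = z'
      rw [hqm₂]
      show t₂.left (((Over.forget S).map n) y) = z'
      rw [hy]; exact hx₂
    have := (hV12 (q.left y)).1 (by rw [h1]; exact hz)
    rwa [h2] at this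
  let A : Set (Points (D.obj l.left)) := Points.ofPt (fst l) '' (show Set ↥(W.obj l).left from V'.carrier)
  have hA : IsOpen A := isOpenMap_ofPt hfle _ V'.isOpen
  have hAc : IsCompact A := (QuasiCompact.isCompact_preimage (f := DW.map φ) _ V₀.isOpen hV₀c).image (Points.continuous_ofPt _)
  let ji := restrictι (D.obj l.left) A
  have hji : RepWith @IsOpenImmersion ji := repWith_restrictι hA
  have hrange : Set.range (Points.map j) = Points.map (c.π.app l.left) ⁻¹' A := by
    have hfLs : RepWith @Surjective fL := (repWith_isStableUnderBaseChange _).of_isPullback sqL.flip hps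
    ext x
    obtain ⟨z, rfl⟩ := surjective_ofPt hfLs x
    rw [← hOp z, ← hV₀, Set.mem_preimage, Points.map_ofPt, hfL l, ofPt_comp]
    have hW' : cW.π.app k z ∈ V₀ ↔ (cL.π.app l).left z ∈ V' := by
      rw [← cW.w φ]; exact Iff.rfl
    refine hW'.trans ⟨fun h => ⟨_, h, rfl⟩, ?_⟩
    rintro ⟨z', hz', he⟩
    exact hsat _ _ he hz'
  have : Mono ji := mono_of_repWith_le isOpenImmersion_le_monomorphisms hji
  have : Mono j := mono_of_repWith_le isOpenImmersion_le_monomorphisms hj
  obtain ⟨q, hq⟩ := exists_factor_of_range_subset hji (j ≫ c.π.app l.left) (by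
    rw [range_map_restrictι hA]
    rintro _ ⟨x, rfl⟩
    rw [Points.map_comp]
    exact hrange.le ⟨x, rfl⟩)
  refine ⟨l.left, restrictSheaf (D.obj l.left) A, ji, q, hji, ?_, ?_⟩
  · rw [isQuasiCompactSp_iff_compactSpace (isAlgSpace_restrictSheaf (hD _) hA), ← isCompact_univ_iff,
      (isEmbedding_map_of_openImmersion hji).isEmbedding.isCompact_iff, Set.image_univ,
      range_map_restrictι hA]
    exact hAc
  · refine IsPullback.mk' hq.symm (fun Z a b h1 _ => (cancel_mono j).1 h1) fun Z a b hab => ?_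
    obtain ⟨d, hd⟩ := exists_factor_of_range_subset hj a (by
      rintro _ ⟨z, rfl⟩
      rw [hrange, Set.mem_preimage, ← Points.map_comp, hab, Points.map_comp]
      exact (range_map_restrictι hA).le ⟨_, rfl⟩)
    exact ⟨d, hd, (cancel_mono ji).1 (by rw [Category.assoc, hq, reassoc_of% hd, hab])⟩

end Groth.Agent.SpPts86
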