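import Groth.Agent.SpPts86.LimitAffineMor
import Groth.Agent.SpPts86.LimMisc
import Groth.Agent.SpPts86.ZarGlue

/-!
A system with affine transition maps whose limit is a scheme consists eventually of schemes.
-/

universe u

set_option autoImplicit false
set_option backward.isDefEq.respectTransparency false
set_option linter.style.haveILetI false

open CategoryTheory CategoryTheory.Limits AlgebraicGeometry
open AlgSp Groth.Agent.SpFP87

namespace Groth.Agent.SpPts86

variable {S : Scheme.{u}} [QuasiSeparatedSpace ↥S] {I : Type u} [SmallCategory I] [IsCofiltered I]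
  {D : I ⥤ Sp S} (hD : ∀ i, IsAlgSpace (D.obj i)) (hDa : ∀ (i j : I) (φ : i ⟶ j), IsAffineMor (D.map φ))
  (hqc : ∀ i, IsQuasiCompactSp (D.obj i)) (hqs : ∀ i, IsQuasiSeparatedSp (D.obj i))
  {c : Cone D} (hc : IsLimit c)

include hD hDa hqc hqs hc

/-- An affine open of the limit contains the trace of an affine open of a stage containing it. -/
theorem exists_stage_affine_open {T : Over S} [IsAffine T.left] (j : (yon S).obj T ⟶ c.pt)
    (hj : RepWith @IsOpenImmersion j) :
    ∃ (i : I) (T' : Over S) (j' : (yon S).obj T' ⟶ D.obj i), IsAffine T'.left ∧ RepWith @IsOpenImmersion j' ∧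
      Set.range (Points.map j) ⊆ Points.map (c.π.app i) ⁻¹' Set.range (Points.map j') := by
  obtain ⟨i, Ui, ji, q, hji, hUqc, sq⟩ := exists_stage_open hD hDa hqc hqs hc j hj (isQuasiCompactSp_yon T)
  have hUA : IsAlgSpace Ui := isAlgSpace_of_representable ji hji.rep (hD i)
  have : Mono ji := mono_of_repWith_le isOpenImmersion_le_monomorphisms hji
  have hUqs : IsQuasiSeparatedSp Ui := by
    have sqd : IsPullback (𝟙 Ui) (Limits.diag Ui) (Limits.diag Ui ≫ prod.map ji ji) (prod.map ji ji) :=
      IsPullback.of_horiz_isIso_mono ⟨by simp⟩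
    refine (repWith_isStableUnderBaseChange _).of_isPullback sqd ?_
    rw [show Limits.diag Ui ≫ prod.map ji ji = ji ≫ Limits.diag (D.obj i) by apply Limits.prod.hom_ext <;> simp]
    refine (repWith_isMultiplicative (S := S) @QuasiCompact).comp_mem _ _ ?_ (hqs i)
    haveI := (isQuasiCompactSp_iff_compactSpace hUA).1 hUqc
    exact repWith_quasiCompact_of_isQuasiCompactMor hji.rep (isQuasiCompactMor_of_qc_qs hUA (hD i) (hqs i))
  let F : Over i ⥤ Sp S := Over.forget i ⋙ D
  let t : ∀ k, F.obj k ⟶ D.obj i := fun k => D.map k.hom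
  have ht : ∀ {k l : Over i} (φ : k ⟶ l), F.map φ ≫ t l = t k := fun {k l} φ => by
    show D.map φ.left ≫ D.map l.hom = _
    rw [← Functor.map_comp, Over.w φ]
  let c' : Cone F := c.whisker (Over.forget i)
  let hc' : IsLimit c' := (Functor.Initial.isLimitWhiskerEquiv (Over.forget i) c).symm hc
  have hg : ∀ k, c'.π.app k ≫ t k = c.π.app i := fun k => c.w k.hom
  have hpa : ∀ k, IsAffineMor (pullback.snd (t k) ji) := fun k =>
    isAffineMor_of_isPullback (IsPullback.of_hasPullback _ _) (hDa _ _ _)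
  obtain ⟨k, T', hT', ⟨e⟩⟩ := exists_stage_affine (D := pbSystem t ht ji)
    (fun k => isAlgSpace_pullback _ _ (hD _) hUA (hD i))
    (fun k l φ => isAffineMor_of_isPullback (isPullback_pbSystem t ht ji φ).flip (hDa _ _ _))
    (fun k => isQuasiCompactSp_of_isAffineMor hUA (hpa k) hUqc)
    (fun k => isQuasiSeparatedSp_of_isAffineMor hUA hUqs (hpa k))
    (pbIsLimit (c := c') t ht ji (c.π.app i) hg hc') sq.isoPullback
  refine ⟨k.left, T', e.hom ≫ pullback.fst (t k) ji, hT',
    (MorphismProperty.cancel_left_of_respectsIso (RepWith @IsOpenImmersion) e.hom _).2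
      ((repWith_isStableUnderBaseChange _).of_isPullback (IsPullback.of_hasPullback (t k) ji).flip hji), ?_⟩
  rintro _ ⟨z, rfl⟩
  obtain ⟨w, hw, -⟩ := exists_of_isPullback (IsPullback.of_hasPullback (t k) ji)
    (Points.map (c.π.app k.left) (Points.map j z)) (Points.map q z) (by
      rw [← Points.map_comp, ← Points.map_comp, ← Points.map_comp, c.w k.hom, sq.w])
  exact ⟨Points.map e.inv w, by rw [← Points.map_comp, e.inv_hom_id_assoc, hw]⟩

theorem exists_isRepresentable_of_limit (hX : c.pt.obj.IsRepresentable) :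
    ∃ i, (D.obj i).obj.IsRepresentable := by
  classical
  obtain ⟨T, ⟨e⟩⟩ := hX.has_representation
  let φ : (yon S).obj T ≅ c.pt := isoOfRepresentableBy e
  obtain ⟨i₀⟩ := IsCofiltered.nonempty (C := I)
  have hXqc : IsQuasiCompactSp c.pt :=
    isQuasiCompactSp_of_isAffineMor (hD i₀) (isAffineMor_π hDa hc i₀) (hqc i₀)
  have hTA := isAlgSpace_limit hD hDa hc
  haveI := (isQuasiCompactSp_iff_compactSpace hTA).1 hXqc
  haveI : CompactSpace ↥T.left := by
    haveI : CompactSpace (Points ((yon S).obj T)) :=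
      compactSpace_of_surjectiveMor (f := φ.inv) fun x =>
        ⟨Points.map φ.hom x, by rw [← Points.map_comp, φ.hom_inv_id, Points.map_id]⟩
    exact (Points.schemeHomeo T).symm.compactSpace
  let 𝒰 := T.left.affineCover.finiteSubcover
  let O : 𝒰.I₀ → Over S := fun a => Over.mk (𝒰.f a ≫ T.hom)
  let o : ∀ a, O a ⟶ T := fun a => Over.homMk (𝒰.f a) rfl
  haveI : ∀ a, IsAffine (O a).left := fun a => inferInstanceAs (IsAffine (T.left.affineCover.X _))
  choose i T' j' hT' hj' hcov using fun a => exists_stage_affine_open hD hDa hqc hqs hc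
    ((yon S).map (o a) ≫ φ.hom)
    ((MorphismProperty.cancel_right_of_respectsIso (RepWith @IsOpenImmersion) _ _).2
      ((repWith_yon_map_iff _ _).2 (inferInstanceAs (IsOpenImmersion (𝒰.f a)))))
  obtain ⟨m, hm⟩ := IsCofiltered.inf_objs_exists (Finset.univ.image i)
  let ψ : ∀ a, m ⟶ i a := fun a => (hm (Finset.mem_image_of_mem i (Finset.mem_univ a))).some
  choose V v fst sqV hV using fun a => hDa m (i a) (ψ a) (hT' a) (j' a)
  have hfst : ∀ a, RepWith @IsOpenImmersion (fst a) := fun a =>
    (repWith_isStableUnderBaseChange _).of_isPullback (sqV a).flip (hj' a)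
  let U : Set (Points (D.obj m)) := ⋃ a, Set.range (Points.ofPt (fst a))
  have hUo : IsOpen U := isOpen_iUnion fun a => (isOpenMap_ofPt
    (repWith_mono (fun _ _ g (_ : IsOpenImmersion g) => (inferInstance : Etale g)) (hfst a))).isOpen_range
  have hlim : ∀ x : Points c.pt, Points.map (c.π.app m) x ∈ U := fun x => by
    obtain ⟨t, ht⟩ := (Points.schemeHomeo T).surjective (Points.map φ.inv x)
    obtain ⟨a, z, hz⟩ := 𝒰.exists_eq t
    have hx : x ∈ Set.range (Points.map ((yon S).map (o a) ≫ φ.hom)) := by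
      refine ⟨Points.schemeHomeo (O a) z, ?_⟩
      rw [Points.map_comp, Points.map_yon_map_apply, show (o a).left z = t from hz, ht, ← Points.map_comp,
        φ.inv_hom_id, Points.map_id]
    obtain ⟨y, hy⟩ := hcov a hx
    obtain ⟨w, hw, -⟩ := exists_of_isPullback (sqV a) (Points.map (c.π.app m) x) y (by
      rw [← Points.map_comp, c.w (ψ a), hy])
    obtain ⟨v', rfl⟩ := (Points.schemeHomeo (V a)).surjective w
    exact Set.mem_iUnion.2 ⟨a, v', (Points.ofPt_eq_map_ofScheme _ _).trans hw⟩
  /- eventually they cover -/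
  haveI := (isQuasiCompactSp_iff_compactSpace (hD m)).1 (hqc m)
  obtain ⟨P, p, hP, hpe, hps⟩ := exists_affine_chart_of_compactSpace (hD m)
  obtain ⟨W, f, w, cL, -, hLS, fL, iL, sqW, hWa, hWf, hWw, hiL, hfL, sqL, hLA⟩ :=
    exists_affine_limit_chart hDa hc m hP p
  let k₀ : Over m := Over.mk (𝟙 m)
  let DW : Over m ⥤ Scheme.{u} := W ⋙ Over.forget S
  haveI : ∀ k, IsAffine (DW.obj k) := hWa
  haveI : ∀ {k l : Over m} (φ : k ⟶ l), IsAffineHom (DW.map φ) := fun φ => isAffineHom_of_isAffine _
  let O₀ : (DW.obj k₀).Opens :=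
    ⟨(w k₀).left ⁻¹' (Points.ofPt p ⁻¹' U), (hUo.preimage (Points.continuous_ofPt p)).preimage (w k₀).left.continuous⟩
  obtain ⟨k, μ, hk⟩ := exists_map_preimage_le_map_preimage DW ((Over.forget S).mapCone cL) hLS
    (i := k₀) (U := ⊤) (V := O₀) isCompact_univ (fun z _ => by
      show Points.ofPt p ((w k₀).left ((cL.π.app k₀).left z)) ∈ U
      rw [show (w k₀).left ((cL.π.app k₀).left z) = iL.left z by rw [← hiL k₀]; rfl, ← ofPt_comp, ← sqL.w,
        ← Points.map_ofPt]
      exact hlim _)
  choose V₂ v₂ fst₂ sqV₂ hV₂ using fun a => hDa k.left m k.hom (hV a) (fst a)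
  obtain ⟨Z, ⟨eZ⟩⟩ := exists_iso_of_open_cover V₂ fst₂
    (fun a => (repWith_isStableUnderBaseChange _).of_isPullback (sqV₂ a).flip (hfst a)) (fun x => by
      obtain ⟨z, rfl⟩ := surjective_ofPt
        ((repWith_isStableUnderBaseChange _).of_isPullback (sqW k).flip hps) x
      have hz : Points.ofPt p ((w k).left z) ∈ U := by
        have h1 : Points.ofPt p ((w k₀).left ((W.map μ).left z)) ∈ U := hk (x := z) trivial
        rwa [← Scheme.Hom.comp_apply, ← Over.comp_left, hWw] at h1
      obtain ⟨a, v, hv⟩ := Set.mem_iUnion.1 hz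
      obtain ⟨u, hu, -⟩ := exists_of_isPullback (sqV₂ a) (Points.ofPt (f k) z) (Points.ofScheme (V a) v) (by
        rw [← Points.ofPt_eq_map_ofScheme, hv, Points.map_ofPt, (sqW k).w, ofPt_comp])
      obtain ⟨u', rfl⟩ := (Points.schemeHomeo (V₂ a)).surjective u
      exact ⟨a, u', (Points.ofPt_eq_map_ofScheme _ _).trans hu⟩)
  exact ⟨k.left, isRepresentable_of_iso eZ⟩

end Groth.Agent.SpPts86
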