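import Groth.Agent.SpPts86.DescDiag
import Groth.Agent.SpPts86.UnivInj
import Groth.Agent.SpPts86.DiagDesc
import Groth.Agent.SpPts86.FppfLocal
import Groth.Agent.SpPts86.Props
import Groth.Agent.S9960
import Groth.Agent.SpFP87.Deform
import Groth.Agent.SpFP87.FpqcMono
import Groth.Agent.LimDesc62.ClosedImm
import Groth.Agent.LimDesc62.Points

/-!
Descending separatedness, universal injectivity and monomorphy to a stage of a limit.
-/

universe u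

set_option autoImplicit false
set_option backward.isDefEq.respectTransparency false
set_option linter.style.haveILetI false

open CategoryTheory CategoryTheory.Limits AlgebraicGeometry
open AlgSp Groth.Agent.SpFP87

namespace Groth.Agent.SpPts86

variable {S : Scheme.{u}} {I : Type u} [SmallCategory I] [IsCofiltered I] {D : I ⥤ Sp S}
  {c : Cone D} {i₀ : I} {X₀ Y₀ X Y : Sp S} {f₀ : X₀ ⟶ Y₀} {b₀ : Y₀ ⟶ D.obj i₀}
  {f : X ⟶ Y} {pY : Y ⟶ Y₀} {qY : Y ⟶ c.pt} {pX : X ⟶ X₀}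
  [QuasiSeparatedSpace ↥S] (hD : ∀ i, IsAlgSpace (D.obj i))
  (hDa : ∀ (i j : I) (φ : i ⟶ j), IsAffineMor (D.map φ)) (hc : IsLimit c)
  (hX₀ : IsAlgSpace X₀) (hY₀ : IsAlgSpace Y₀)
  (hXqc : IsQuasiCompactSp X₀) (hXqs : IsQuasiSeparatedSp X₀) (hYqs : IsQuasiSeparatedSp Y₀)
  (hY : IsPullback pY qY b₀ (c.π.app i₀)) (hX : IsPullback pX f f₀ pY)

include hDa hc hX₀ hY₀ hXqc hXqs hYqs hY hX

/-- A property of the diagonal descends to a stage. -/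
theorem descend_diagonal {H P : MorphismProperty Scheme.{u}} [P.IsStableUnderBaseChange]
    [P.IsLocalAtTarget Scheme.fppfPrecoverage] [H.RespectsIso]
    (hd : LimDesc62.DescProp H P) (hH : RepWith H (pullback.diagonal f₀))
    (hf : RepWith P (pullback.diagonal f)) :
    ∃ (i : I) (φ : i ⟶ i₀), ∀ (Xi Yi : Sp S) (fi : Xi ⟶ Yi) (pYi : Yi ⟶ Y₀) (qYi : Yi ⟶ D.obj i)
      (_ : IsPullback pYi qYi b₀ (D.map φ)) (pXi : Xi ⟶ X₀) (_ : IsPullback pXi fi f₀ pYi),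
      RepWith P (pullback.diagonal fi) := by
  obtain ⟨m, hm, hdm⟩ := exists_stage_diagonal hY hX
  have hq := qc_pullback_self (f₀ := f₀) hX₀ hY₀ hXqc hXqs hYqs
  obtain ⟨i, φ, hi⟩ := descend_repWith hDa hc (isAlgSpace_pullback f₀ f₀ hX₀ hX₀ hY₀) hq.1 hm hdm hd
    (repWith_diagonal hXqs) (repWith_diagonal_props hX₀ f₀).2 hH hf
  refine ⟨i, φ, fun Xi Yi fi pYi qYi hYi pXi hXi => ?_⟩
  obtain ⟨mi, hmi, hdmi⟩ := exists_stage_diagonal hYi hXi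
  exact hi _ _ _ _ _ hmi _ hdmi

theorem descend_separated (hf : IsSeparatedMor f) :
    ∃ (i : I) (φ : i ⟶ i₀), ∀ (Xi Yi : Sp S) (fi : Xi ⟶ Yi) (pYi : Yi ⟶ Y₀) (qYi : Yi ⟶ D.obj i)
      (_ : IsPullback pYi qYi b₀ (D.map φ)) (pXi : Xi ⟶ X₀) (_ : IsPullback pXi fi f₀ pYi),
      IsSeparatedMor fi :=
  have := isClosedImmersion_descends.{u}
  have := isLocalAtTarget_fppf (@IsClosedImmersion : MorphismProperty Scheme.{u})
  descend_diagonal hDa hc hX₀ hY₀ hXqc hXqs hYqs hY hX LimDesc62.descProp_isClosedImmersion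
    (repWith_diagonal_props hX₀ f₀).1 hf

theorem repWith_lfp_diagonal (hf₀ : LocP @LocallyOfFiniteType f₀) :
    RepWith @LocallyOfFinitePresentation (pullback.diagonal f₀) :=
  have := lfp_descends.{u}
  repWith_of_locP (isAlgSpace_pullback f₀ f₀ hX₀ hX₀ hY₀) (repWith_diagonal_props hX₀ f₀).1.rep
    (S9960.result (X := ⟨X₀, hX₀⟩) (Y := ⟨Y₀, hY₀⟩) (ObjectProperty.homMk f₀) hf₀).1

theorem descend_mono [Mono f] (hf₀ : LocP @LocallyOfFiniteType f₀) :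
    ∃ (i : I) (φ : i ⟶ i₀), ∀ (Xi Yi : Sp S) (fi : Xi ⟶ Yi) (pYi : Yi ⟶ Y₀) (qYi : Yi ⟶ D.obj i)
      (_ : IsPullback pYi qYi b₀ (D.map φ)) (pXi : Xi ⟶ X₀) (_ : IsPullback pXi fi f₀ pYi),
      Mono fi := by
  have := isLocalAtTarget_fppf (MorphismProperty.isomorphisms Scheme.{u})
  obtain ⟨i, φ, hi⟩ := descend_diagonal hDa hc hX₀ hY₀ hXqc hXqs hYqs hY hX LimDesc62.descProp_isIso
    (repWith_lfp_diagonal hDa hc hX₀ hY₀ hXqc hXqs hYqs hY hX hf₀)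
    (repWith_isomorphisms_of_isIso (pullback.diagonal f))
  refine ⟨i, φ, fun Xi Yi fi pYi qYi hYi pXi hXi => ?_⟩
  have : IsIso (pullback.diagonal fi) := isIso_of_repWith_isomorphisms (hi Xi Yi fi pYi qYi hYi pXi hXi)
  exact (pullback.isIso_diagonal_iff fi).1 this

include hD in
theorem descend_univInj (hYqc : IsQuasiCompactSp Y₀) (hf : IsUnivInjectiveMor f)
    (hf₀ : LocP @LocallyOfFiniteType f₀) :
    ∃ (i : I) (φ : i ⟶ i₀), ∀ (Xi Yi : Sp S) (fi : Xi ⟶ Yi) (pYi : Yi ⟶ Y₀) (qYi : Yi ⟶ D.obj i)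
      (_ : IsPullback pYi qYi b₀ (D.map φ)) (pXi : Xi ⟶ X₀) (_ : IsPullback pXi fi f₀ pYi),
      IsUnivInjectiveMor fi := by
  have hYA : IsAlgSpace Y := isAlgSpace_of_isPullback hY hY₀ (isAlgSpace_limit hD hDa hc) (hD i₀).diag
  have hXA := isAlgSpace_of_isPullback hX hX₀ hYA hY₀.diag
  obtain ⟨m, hm, hdm⟩ := exists_stage_diagonal hY hX
  have hq := qc_pullback_self (f₀ := f₀) hX₀ hY₀ hXqc hXqs hYqs
  obtain ⟨i, φ, hi⟩ := descend_surjective hD hDa hc hX₀ (isAlgSpace_pullback f₀ f₀ hX₀ hX₀ hY₀)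
    hXqc hq.1 hq.2 hm hdm LimDesc62.descProp_surjective
    (S9960.result (X := ⟨X₀, hX₀⟩) (Y := ⟨Y₀, hY₀⟩) (ObjectProperty.homMk f₀) hf₀).1
    ((isUnivInjectiveMor_iff_surjective_diagonal hXA).1 hf)
  refine ⟨i, φ, fun Xi Yi fi pYi qYi hYi pXi hXi => ?_⟩
  obtain ⟨mi, hmi, hdmi⟩ := exists_stage_diagonal hYi hXi
  have hYiA := isAlgSpace_of_isPullback hYi hY₀ (hD i) (hD i₀).diag
  have hXiA := isAlgSpace_of_isPullback hXi hX₀ hYiA hY₀.diag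
  exact (isUnivInjectiveMor_iff_surjective_diagonal hXiA).2 (hi _ _ _ _ _ hmi _ hdmi)

end Groth.Agent.SpPts86
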