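import Groth.Agent.SpPts86.EvClosed
import Groth.Agent.SpPts86.DescMor
import Groth.Agent.LimTop61.DimLim

/-!
A limit along closed immersions which is finitely presented stabilises.
-/

universe u

set_option autoImplicit false
set_option backward.isDefEq.respectTransparency false
set_option linter.style.haveILetI false

open CategoryTheory CategoryTheory.Limits AlgebraicGeometry
open AlgSp Groth.Agent.SpFP87

namespace Groth.Agent.SpPts86

variable {S : Scheme.{u}} {I : Type u} [SmallCategory I] [IsCofiltered I] {D : I ⥤ Sp S}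

theorem isAffineMor_of_closedImm {X Y : Sp S} {f : X ⟶ Y} (h : RepWith @IsClosedImmersion f) : IsAffineMor f :=
  isAffineMor_of_repWith (repWith_mono (fun _ _ a (ha : IsClosedImmersion a) => (inferInstance : IsAffineHom a)) h)

/-- The projections from a limit along closed immersions are closed immersions. -/
theorem repWith_closedImm_π (hDc : ∀ (i j : I) (φ : i ⟶ j), RepWith @IsClosedImmersion (D.map φ))
    {c : Cone D} (hc : IsLimit c) (i : I) : RepWith @IsClosedImmersion (c.π.app i) := by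
  haveI : IsZariskiLocalAtTarget (@IsClosedImmersion : MorphismProperty Scheme.{u}) := inferInstance
  refine repWith_of_affine_squares @IsClosedImmersion fun T hT g => ?_
  obtain ⟨W, fst, w, cL, -, hLS, fL, iL, sq, hW, hWf, hWw, hiL, -, sqL, -⟩ :=
    exists_affine_limit_chart (fun a b φ => isAffineMor_of_closedImm (hDc a b φ)) hc i hT g
  refine ⟨cL.pt, iL, fL, sqL, ?_⟩
  have hw : ∀ k : Over i, IsClosedImmersion (w k).left := fun k =>
    (hDc k.left i k.hom).property g (fst k) (w k) (sq k)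
  have h := LimTop61.isClosedImmersion_π_of_closed_transitions (W ⋙ Over.forget S)
    ((Over.forget S).mapCone cL) hLS
    (fun {k l} a => by
      have : IsClosedImmersion ((W ⋙ Over.forget S).map a ≫ (w l).left) := by
        show IsClosedImmersion (W.map a ≫ w l).left
        rw [hWw]; exact hw k
      exact IsClosedImmersion.of_comp _ (w l).left) (Over.mk (𝟙 i))
  have := hw (Over.mk (𝟙 i))
  haveI : IsClosedImmersion (cL.π.app (Over.mk (𝟙 i))).left := h
  rw [← hiL (Over.mk (𝟙 i))]
  exact IsClosedImmersion.comp (cL.π.app (Over.mk (𝟙 i))).left (w (Over.mk (𝟙 i))).left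

theorem eventually_isIso (hD : ∀ i, IsAlgSpace (D.obj i))
    (hDc : ∀ (i j : I) (φ : i ⟶ j), RepWith @IsClosedImmersion (D.map φ))
    {c : Cone D} (hc : IsLimit c) (i₁ : I) (hqc : IsQuasiCompactSp (D.obj i₁))
    (hfp : LocP @LocallyOfFinitePresentation (c.π.app i₁)) :
    ∃ i₀ : I, ∀ (i : I) (_ : i ⟶ i₀), IsIso (c.π.app i) := by
  have := lfp_descends.{u}
  have := isLocalAtTarget_fppf (MorphismProperty.isomorphisms Scheme.{u})
  have hπ := repWith_closedImm_π hDc hc
  have hm : ∀ {X Y : Sp S} {f : X ⟶ Y}, RepWith @IsClosedImmersion f → Mono f := fun h =>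
    mono_of_repWith_le (fun _ _ a (ha : IsClosedImmersion a) => (inferInstance : Mono a)) h
  have hqc' : RepWith @QuasiCompact (c.π.app i₁) :=
    repWith_mono (fun _ _ a (ha : IsClosedImmersion a) => (inferInstance : QuasiCompact a)) (hπ i₁)
  have hqs : RepWith @QuasiSeparated (c.π.app i₁) :=
    repWith_mono (fun _ _ a (ha : IsClosedImmersion a) => (inferInstance : QuasiSeparated a)) (hπ i₁)
  have : Mono (c.π.app i₁) := hm (hπ i₁)
  obtain ⟨j, φ, hj⟩ := descend_repWith (fun a b ψ => isAffineMor_of_closedImm (hDc a b ψ)) hc (hD i₁) hqc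
    (b₀ := 𝟙 _) (qY := 𝟙 _) (pY := c.π.app i₁) (IsPullback.of_vert_isIso ⟨by simp⟩)
    (pX := 𝟙 c.pt) (f := 𝟙 c.pt) (IsPullback.of_horiz_isIso_mono ⟨rfl⟩)
    LimDesc62.descProp_isIso hqc' hqs (repWith_of_locP (hD i₁) (hπ i₁).rep hfp)
    (repWith_isomorphisms_of_isIso (𝟙 c.pt))
  refine ⟨j, fun i ψ => ?_⟩
  have : Mono (D.map φ) := hm (hDc j i₁ φ)
  have hjiso : IsIso (c.π.app j) := isIso_of_repWith_isomorphisms (hj c.pt (D.obj j) (c.π.app j)
    (D.map φ) (𝟙 _) (IsPullback.of_vert_isIso ⟨by simp⟩) (𝟙 c.pt)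
    (IsPullback.of_horiz_isIso_mono ⟨by simp⟩))
  have : Mono (D.map ψ) := hm (hDc i j ψ)
  have : IsIso (c.π.app i ≫ D.map ψ) := by rw [c.w]; exact hjiso
  have : IsSplitEpi (D.map ψ) := ⟨⟨inv (c.π.app i ≫ D.map ψ) ≫ c.π.app i, by simp⟩⟩
  have : IsIso (D.map ψ) := isIso_of_mono_of_isSplitEpi _
  exact IsIso.of_isIso_comp_right (c.π.app i) (D.map ψ)

end Groth.Agent.SpPts86
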