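import Groth.Agent.SpPts86.DescStage

/-!
Descending properties of morphisms of algebraic spaces to a stage of a limit.
-/

universe u

set_option autoImplicit false
set_option backward.isDefEq.respectTransparency false
set_option linter.style.haveILetI false

open CategoryTheory CategoryTheory.Limits AlgebraicGeometry
open AlgSp Groth.Agent.SpFP87

namespace Groth.Agent.SpPts86

variable {S : Scheme.{u}} {I : Type u} [SmallCategory I] [IsCofiltered I] {D : I ⥤ Sp S}
  {c : Cone D} {i₀ : I} {X₀ Y₀ X Y : Sp S} {f₀ : X₀ ⟶ Y₀} {b₀ : Y₀ ⟶ D.obj i₀}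
  {f : X ⟶ Y} {pY : Y ⟶ Y₀} {qY : Y ⟶ c.pt} {pX : X ⟶ X₀}

/-- The scheme theoretic input of all descent statements: over an affine chart of the target, a
scheme property of the charts descends to a stage. -/
theorem exists_stage_of_descProp (hDa : ∀ (i j : I) (φ : i ⟶ j), IsAffineMor (D.map φ)) (hc : IsLimit c)
    {V₀ U₀ : Over S} (hV : IsAffine V₀.left) {p : (yon S).obj V₀ ⟶ Y₀} (hpe : RepWith @Etale p)
    (hps : RepWith @Surjective p) (h : U₀ ⟶ V₀) [QuasiCompact h.left] [QuasiSeparated h.left]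
    (hY : IsPullback pY qY b₀ (c.π.app i₀))
    {H P : MorphismProperty Scheme.{u}} [P.RespectsIso] [H.RespectsIso]
    (hd : LimDesc62.DescProp H P) (hH : H h.left)
    (hlim : ∀ (W : Over S) (wW : W ⟶ V₀) (p' : (yon S).obj W ⟶ Y), RepWith @Etale p' → RepWith @Surjective p' →
      IsPullback p' ((yon S).map wW) pY p → P (pullback.snd h wW).left) :
    ∃ (i : I) (φ : i ⟶ i₀), ∀ (Yi : Sp S) (pYi : Yi ⟶ Y₀) (qYi : Yi ⟶ D.obj i),
      IsPullback pYi qYi b₀ (D.map φ) → ∃ (W : Over S) (wW : W ⟶ V₀) (p' : (yon S).obj W ⟶ Yi),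
        RepWith @Etale p' ∧ RepWith @Surjective p' ∧
        IsPullback p' ((yon S).map wW) pYi p ∧ P (pullback.snd h wW).left := by
  obtain ⟨W, fst, w, cL, -, hLS, fL, iL, sq, hW, -, hWw, hiL, -, sqL, -⟩ :=
    exists_affine_limit_chart hDa hc i₀ hV (p ≫ b₀)
  let D' : Over i₀ ⥤ Scheme.{u} := W ⋙ Over.forget S
  let cS : Cone D' := (Over.forget S).mapCone cL
  haveI : ∀ k : Over i₀, IsAffine (D'.obj k) := fun k => hW k
  haveI : ∀ (k l : Over i₀) (φ : k ⟶ l), IsAffineHom (D'.map φ) := fun k l φ => inferInstance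
  let t : Over i₀ := Over.mk (𝟙 i₀)
  haveI : IsIso ((yon S).map (w t)) := by
    have : IsIso (D.map t.hom) := by show IsIso (D.map (𝟙 i₀)); infer_instance
    exact (sq t).isIso_snd_of_isIso
  haveI : IsIso (w t) := isIso_of_fully_faithful (yon S) (w t)
  haveI hiso : IsIso (w t).left := inferInstanceAs (IsIso ((Over.forget S).map (w t)))
  haveI : IsAffine V₀.left := hV
  let e : D'.obj t ⟶ V₀.left := (w t).left
  haveI : IsIso e := hiso
  let a : U₀.left ⟶ D'.obj t := h.left ≫ inv e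
  have hPiff : ∀ {Wk : Over S} (wk : Wk ⟶ V₀) (π : Wk.left ⟶ D'.obj t), π ≫ e = wk.left →
      (P (pullback.snd h wk).left ↔ P (pullback.snd a π)) := fun {Wk} wk π hπ =>
    LimDesc62.prop_iff_of_isPullback (show IsPullback (pullback.fst h wk).left (pullback.snd h wk).left a π from
      (isPullback_left_pullback h wk).of_iso (Iso.refl _) (Iso.refl _)
      (Iso.refl _) (asIso e).symm (by simp) (by simp) (by simp [a]) (by simp [← hπ]))
  obtain ⟨p', hp'e, hp's, sqp'⟩ := exists_stage_target hY sqL hpe hps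
  have h0 : P (pullback.snd a (cS.π.app t)) := by
    refine (hPiff iL (cS.π.app t) ?_).1 (hlim _ iL p' hp'e hp's sqp')
    rw [← hiL t]
    rfl
  obtain ⟨j, φ, hj⟩ := hd.desc D' cS hLS t a ((H.cancel_right_of_respectsIso _ _).2 hH) h0
  refine ⟨j.left, j.hom, fun Yi pYi qYi hYi => ?_⟩
  obtain ⟨pk, hpke, hpks, sqk⟩ := exists_stage_target hYi (sq j) hpe hps
  refine ⟨W.obj j, w j, pk, hpke, hpks, sqk, (hPiff (w j) (D'.map φ) ?_).2 hj⟩
  rw [← hWw φ]
  rfl

variable [QuasiSeparatedSpace ↥S]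

section

variable (hD : ∀ i, IsAlgSpace (D.obj i)) (hDa : ∀ (i j : I) (φ : i ⟶ j), IsAffineMor (D.map φ))
  (hc : IsLimit c) (hX₀ : IsAlgSpace X₀) (hY₀ : IsAlgSpace Y₀)
  (hXqc : IsQuasiCompactSp X₀) (hYqc : IsQuasiCompactSp Y₀) (hYqs : IsQuasiSeparatedSp Y₀)
  (hY : IsPullback pY qY b₀ (c.π.app i₀)) (hX : IsPullback pX f f₀ pY)

include hD hDa hc hX₀ hY₀ hXqc hYqc hYqs hY hX

/-- A property etale local on source and target descends to a stage. -/
theorem descend_locP {H P : MorphismProperty Scheme.{u}} [EtLoc P] [H.RespectsIso]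
    (hd : LimDesc62.DescProp H P) (hH : LocP H f₀) (hf : LocP P f) :
    ∃ (i : I) (φ : i ⟶ i₀), ∀ (Xi Yi : Sp S) (fi : Xi ⟶ Yi) (pYi : Yi ⟶ Y₀) (qYi : Yi ⟶ D.obj i)
      (_ : IsPullback pYi qYi b₀ (D.map φ)) (pXi : Xi ⟶ X₀) (_ : IsPullback pXi fi f₀ pYi), LocP P fi := by
  haveI := EtLoc.respectsIso P
  obtain ⟨V₀, U₀, p, a, h, hV, hU, hpe, hps, hae, has, w, -⟩ := exists_chart_data hX₀ hY₀ hXqc hYqc hYqs f₀
  haveI := hV; haveI := hU
  obtain ⟨i, φ, hi⟩ := exists_stage_of_descProp hDa hc hV hpe hps h hY hd (hH a p h hae hpe w)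
    fun W wW p' hp'e hp's sqp' => by
      obtain ⟨a', ha'e, -, w', -⟩ := exists_stage_source hX sqp' hae has w
      exact hf a' p' _ ha'e hp'e w'
  refine ⟨i, φ, fun Xi Yi fi pYi qYi hYi pXi hXi => ?_⟩
  obtain ⟨W, wW, p', hp'e, hp's, sqp', hP⟩ := hi Yi pYi qYi hYi
  obtain ⟨a', ha'e, ha's, w', -⟩ := exists_stage_source hXi sqp' hae has w
  have hYiA := isAlgSpace_of_isPullback hYi hY₀ (hD i) (hD i₀).diag
  have hXiA := isAlgSpace_of_isPullback hXi hX₀ hYiA hY₀.diag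
  exact locP_of_chart hXiA.diag hYiA.diag ha'e ha's hp'e w' hP

/-- Surjectivity descends to a stage. -/
theorem descend_surjective {H : MorphismProperty Scheme.{u}} [H.RespectsIso]
    (hd : LimDesc62.DescProp H @Surjective) (hH : LocP H f₀) (hf : IsSurjectiveMor f) :
    ∃ (i : I) (φ : i ⟶ i₀), ∀ (Xi Yi : Sp S) (fi : Xi ⟶ Yi) (pYi : Yi ⟶ Y₀) (qYi : Yi ⟶ D.obj i)
      (_ : IsPullback pYi qYi b₀ (D.map φ)) (pXi : Xi ⟶ X₀) (_ : IsPullback pXi fi f₀ pYi),
      IsSurjectiveMor fi := by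
  obtain ⟨V₀, U₀, p, a, h, hV, hU, hpe, hps, hae, has, w, hm⟩ := exists_chart_data hX₀ hY₀ hXqc hYqc hYqs f₀
  haveI := hV; haveI := hU
  obtain ⟨i, φ, hi⟩ := exists_stage_of_descProp hDa hc hV hpe hps h hY hd (hH a p h hae hpe w)
    fun W wW p' _ _ sqp' => surjective_stage hX sqp' hm hf
  refine ⟨i, φ, fun Xi Yi fi pYi qYi hYi pXi hXi => ?_⟩
  obtain ⟨W, wW, p', -, hp's, sqp', hP⟩ := hi Yi pYi qYi hYi
  obtain ⟨a', -, -, w', -⟩ := exists_stage_source hXi sqp' hae has w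
  exact isSurjectiveMor_of_chart_surjective hp's w' hP

end

section

variable (hDa : ∀ (i j : I) (φ : i ⟶ j), IsAffineMor (D.map φ)) (hc : IsLimit c) (hY₀ : IsAlgSpace Y₀)
  (hYqc : IsQuasiCompactSp Y₀) (hY : IsPullback pY qY b₀ (c.π.app i₀)) (hX : IsPullback pX f f₀ pY)

omit [QuasiSeparatedSpace ↥S]
include hDa hc hY₀ hYqc hY hX

/-- A property of a representable morphism descends to a stage. -/
theorem descend_repWith {H P : MorphismProperty Scheme.{u}} [P.IsStableUnderBaseChange]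
    [P.IsLocalAtTarget Scheme.fppfPrecoverage] [H.RespectsIso]
    (hd : LimDesc62.DescProp H P) (hqc : RepWith @QuasiCompact f₀) (hqs : RepWith @QuasiSeparated f₀)
    (hH : RepWith H f₀) (hf : RepWith P f) :
    ∃ (i : I) (φ : i ⟶ i₀), ∀ (Xi Yi : Sp S) (fi : Xi ⟶ Yi) (pYi : Yi ⟶ Y₀) (qYi : Yi ⟶ D.obj i)
      (_ : IsPullback pYi qYi b₀ (D.map φ)) (pXi : Xi ⟶ X₀) (_ : IsPullback pXi fi f₀ pYi), RepWith P fi := by
  haveI : P.RespectsIso := MorphismProperty.IsStableUnderBaseChange.respectsIso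
  haveI := (isQuasiCompactSp_iff_compactSpace hY₀).1 hYqc
  obtain ⟨V₀, p, hV, hpe, hps⟩ := exists_affine_chart_of_compactSpace hY₀
  obtain ⟨U₀, h, a, hcart⟩ := hH.rep p
  haveI : QuasiCompact h.left := hqc.property p a h hcart
  haveI : QuasiSeparated h.left := hqs.property p a h hcart
  have hae : RepWith @Etale a := (repWith_isStableUnderBaseChange _).of_isPullback hcart.flip hpe
  have has : RepWith @Surjective a := (repWith_isStableUnderBaseChange _).of_isPullback hcart.flip hps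
  have w : a ≫ f₀ = (yon S).map h ≫ p := hcart.w
  obtain ⟨i, φ, hi⟩ := exists_stage_of_descProp hDa hc hV hpe hps h hY hd (hH.property p a h hcart)
    fun W wW p' _ _ sqp' => by
      obtain ⟨a', -, -, w', sqa⟩ := exists_stage_source hX sqp' hae has w
      exact hf.property p' a' _ (isPullback_stage hX sqp' hcart w' sqa)
  refine ⟨i, φ, fun Xi Yi fi pYi qYi hYi pXi hXi => ?_⟩
  obtain ⟨W, wW, p', hp'e, hp's, sqp', hP⟩ := hi Yi pYi qYi hYi
  obtain ⟨a', -, -, w', sqa⟩ := exists_stage_source hXi sqp' hae has w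
  refine repWith_of_locLift P ?_ (locLift_of_atlas hp'e hp's) (isPullback_stage hXi sqp' hcart w' sqa)
    ((repWith_yon_map_iff P _).2 hP)
  exact MorphismProperty.of_isPullback hXi hH.rep

end

end Groth.Agent.SpPts86
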