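import Groth.Agent.SpPts86.LimitAffine
import Mathlib.CategoryTheory.Limits.Final
import Mathlib.CategoryTheory.Filtered.Final

/-!
Affine morphisms descend to a stage.
-/

universe u v w

set_option autoImplicit false
set_option backward.isDefEq.respectTransparency false
set_option linter.style.haveILetI false

open CategoryTheory CategoryTheory.Limits AlgebraicGeometry
open AlgSp Groth.Agent.SpFP87

namespace Groth.Agent.SpPts86

section PbSystem

variable {C : Type v} [Category.{w} C] [HasPullbacks C] {J : Type u} [SmallCategory J] [IsCofiltered J]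
  {F : J ⥤ C} {Y V : C} (t : ∀ j, F.obj j ⟶ Y) (ht : ∀ {j k : J} (φ : j ⟶ k), F.map φ ≫ t k = t j)
  (a : V ⟶ Y)

/-- The base change of a system over `Y` along `a`. -/
noncomputable def pbSystem : J ⥤ C where
  obj j := pullback (t j) a
  map {j k} φ := pullback.map (t j) a (t k) a (F.map φ) (𝟙 V) (𝟙 Y)
    (by rw [Category.comp_id, ht]) (by rw [Category.comp_id, Category.id_comp])
  map_id j := by apply pullback.hom_ext <;> simp
  map_comp φ ψ := by apply pullback.hom_ext <;> simp

theorem pbSystem_fst {j k : J} (φ : j ⟶ k) :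
    (pbSystem t ht a).map φ ≫ pullback.fst (t k) a = pullback.fst (t j) a ≫ F.map φ :=
  pullback.lift_fst _ _ _

theorem pbSystem_snd {j k : J} (φ : j ⟶ k) :
    (pbSystem t ht a).map φ ≫ pullback.snd (t k) a = pullback.snd (t j) a :=
  (pullback.lift_snd _ _ _).trans (Category.comp_id _)

theorem isPullback_pbSystem {j k : J} (φ : j ⟶ k) :
    IsPullback ((pbSystem t ht a).map φ) (pullback.fst (t j) a) (pullback.fst (t k) a) (F.map φ) := by
  refine IsPullback.of_right (h₁₂ := pullback.snd (t k) a) (h₂₂ := t k) ?_ (pbSystem_fst t ht a φ)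
    (IsPullback.of_hasPullback (t k) a).flip
  rw [pbSystem_snd, ht]
  exact (IsPullback.of_hasPullback (t j) a).flip

variable {c : Cone F} (g : c.pt ⟶ Y) (hg : ∀ j, c.π.app j ≫ t j = g)

/-- The cone of the base changed system. -/
noncomputable def pbCone : Cone (pbSystem t ht a) where
  pt := pullback g a
  π :=
    { app := fun j => pullback.map g a (t j) a (c.π.app j) (𝟙 V) (𝟙 Y)
        (by rw [Category.comp_id, hg]) (by rw [Category.comp_id, Category.id_comp])
      naturality := fun j k φ => by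
        refine (Category.id_comp _).trans (pullback.hom_ext ?_ ?_)
        · rw [Category.assoc, pbSystem_fst, pullback.lift_fst, pullback.lift_fst_assoc, Category.assoc, c.w]
        · rw [Category.assoc, pbSystem_snd, pullback.lift_snd, pullback.lift_snd] }

/-- The base changed cone is a limit. -/
noncomputable def pbIsLimit (hc : IsLimit c) : IsLimit (pbCone t ht a g hg) := by
  classical
  let j₀ : J := IsCofiltered.nonempty.some
  let base : Cone (pbSystem t ht a) → Cone F := fun s =>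
    { pt := s.pt
      π :=
        { app := fun k => s.π.app k ≫ pullback.fst (t k) a
          naturality := fun j k φ => by
            refine (Category.id_comp _).trans ?_
            rw [Category.assoc, ← pbSystem_fst t ht a φ, ← Category.assoc, s.w] } }
  have hsnd : ∀ (s : Cone (pbSystem t ht a)) (k : J),
      s.π.app k ≫ pullback.snd (t k) a = s.π.app j₀ ≫ pullback.snd (t j₀) a := fun s k => by
    obtain ⟨m, p, q, -⟩ := IsCofilteredOrEmpty.cone_objs k j₀
    rw [← s.w p, ← s.w q, Category.assoc, Category.assoc, pbSystem_snd, pbSystem_snd]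
  refine
    { lift := fun s => pullback.lift (hc.lift (base s)) (s.π.app j₀ ≫ pullback.snd (t j₀) a) ?_
      fac := fun s k => ?_
      uniq := fun s m hm => ?_ }
  · rw [← hg j₀, ← Category.assoc, hc.fac, Category.assoc]
    exact (congrArg (s.π.app j₀ ≫ ·) pullback.condition).trans (Category.assoc _ _ _).symm
  · apply pullback.hom_ext
    · simp only [pbCone, Category.assoc, pullback.lift_fst, pullback.lift_fst_assoc]
      exact hc.fac (base s) k
    · simp only [pbCone, Category.assoc, pullback.lift_snd, Category.comp_id]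
      exact (hsnd s k).symm
  · apply pullback.hom_ext
    · rw [pullback.lift_fst]
      refine hc.hom_ext fun k => ?_
      rw [hc.fac, Category.assoc]
      show _ = s.π.app k ≫ _
      rw [← hm k]
      simp only [pbCone, Category.assoc, pullback.lift_fst]
    · rw [pullback.lift_snd, ← hm j₀]
      simp only [pbCone, Category.assoc, pullback.lift_snd, Category.comp_id]

end PbSystem

variable {S : Scheme.{u}}

theorem isAffineMor_of_isPullback {P X Y Z : Sp S} {p : P ⟶ X} {q : P ⟶ Z} {f : X ⟶ Y} {g : Z ⟶ Y}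
    (sq : IsPullback p q f g) (h : IsAffineMor f) : IsAffineMor q :=
  isAffineMor_of_repWith ((repWith_isStableUnderBaseChange _).of_isPullback sq (repWith_of_isAffineMor h))

theorem isAffineMor_comp' {X Y Z : Sp S} {f : X ⟶ Y} {g : Y ⟶ Z} (hf : IsAffineMor f) (hg : IsAffineMor g) :
    IsAffineMor (f ≫ g) :=
  isAffineMor_of_repWith ((repWith_isMultiplicative (S := S) @IsAffineHom).comp_mem _ _
    (repWith_of_isAffineMor hf) (repWith_of_isAffineMor hg))

/-- The source of an affine morphism to a quasi-compact space is quasi-compact. -/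
theorem isQuasiCompactSp_of_isAffineMor {X Y : Sp S} {f : X ⟶ Y} (hY : IsAlgSpace Y) (hf : IsAffineMor f)
    (h : IsQuasiCompactSp Y) : IsQuasiCompactSp X := by
  haveI := (isQuasiCompactSp_iff_compactSpace hY).1 h
  obtain ⟨U, p, hU, he, hs⟩ := exists_affine_chart_of_compactSpace hY
  obtain ⟨W, i, q, sq, hW⟩ := hf hU p
  haveI := hW
  exact ⟨W, q, (repWith_isStableUnderBaseChange _).of_isPullback sq.flip he,
    (repWith_isStableUnderBaseChange _).of_isPullback sq.flip hs, inferInstance⟩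

/-- A morphism is affine if it becomes so over an affine chart. -/
theorem isAffineMor_of_chart {X Y : Sp S} {f : X ⟶ Y} {W V : Over S} [IsAffine W.left] [IsAffine V.left]
    {p : (yon S).obj W ⟶ X} {s : W ⟶ V} {a : (yon S).obj V ⟶ Y} (he : RepWith @Etale a)
    (hs : RepWith @Surjective a) (sq : IsPullback p ((yon S).map s) f a) : IsAffineMor f := by
  haveI : IsAffineHom s.left := isAffineHom_of_isAffine _
  refine isAffineMor_of_repWith (repWith_isAffineHom_of_cover (locLift_of_repWith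
    etale_surjective_le_fppfSurj (repWith_inf he hs)) sq)

/-- The source of an affine morphism to a quasi-separated space is quasi-separated. -/
theorem isQuasiSeparatedSp_of_isAffineMor {X Z : Sp S} {q : Z ⟶ X} (hX : IsAlgSpace X) (h : IsQuasiSeparatedSp X)
    (hq : IsAffineMor q) : IsQuasiSeparatedSp Z := by
  let ρ := prod.lift (pullback.fst q q) (pullback.snd q q)
  have sqρ : IsPullback ρ (pullback.fst q q ≫ q) (prod.map q q) (Limits.diag X) := by
    refine IsPullback.mk' ?_ (fun T a b h1 _ => pullback.hom_ext ?_ ?_) fun T a b w => ?_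
    · apply Limits.prod.hom_ext
      · simp [ρ]
      · simp [ρ, pullback.condition]
    · simpa [ρ] using congrArg (· ≫ prod.fst) h1
    · simpa [ρ] using congrArg (· ≫ prod.snd) h1
    · have w1 : (a ≫ prod.fst) ≫ q = b := by simpa using congrArg (· ≫ prod.fst) w
      have w2 : (a ≫ prod.snd) ≫ q = b := by simpa using congrArg (· ≫ prod.snd) w
      refine ⟨pullback.lift (a ≫ prod.fst) (a ≫ prod.snd) (w1.trans w2.symm),
        Limits.prod.hom_ext (by simp [ρ]) (by simp [ρ]), ?_⟩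
      rw [pullback.lift_fst_assoc]
      exact w1
  have h1 : RepWith @QuasiCompact ρ :=
    (repWith_isStableUnderBaseChange _).of_isPullback sqρ.flip h
  have hs : IsSeparatedMor q :=
    isSeparatedMor_of_repWith_le (fun _ _ a (ha : IsAffineHom a) => (inferInstance : IsSeparated a))
      (SpFP87.isAlgSpace_of_representable q (repWith_of_isAffineMor hq).rep hX) (repWith_of_isAffineMor hq)
  have h2 : RepWith @QuasiCompact (pullback.diagonal q) :=
    repWith_mono (fun _ _ a (ha : IsClosedImmersion a) => (inferInstance : QuasiCompact a)) hs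
  have e : Limits.diag Z = pullback.diagonal q ≫ ρ := by
    apply Limits.prod.hom_ext <;> simp [ρ]
  show RepWith @QuasiCompact (Limits.diag Z)
  rw [e]
  exact (repWith_isMultiplicative (S := S) @QuasiCompact).comp_mem _ _ h2 h1

variable [QuasiSeparatedSpace ↥S]

/-- Some stage of a system over `Y` is affine over a chart. -/
theorem exists_stage_pullback_affine {J : Type u} [SmallCategory J] [IsCofiltered J] {F : J ⥤ Sp S}
    (hF : ∀ j, IsAlgSpace (F.obj j)) (hFa : ∀ (j k : J) (φ : j ⟶ k), IsAffineMor (F.map φ))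
    (hqc : ∀ j, IsQuasiCompactSp (F.obj j)) (hqs : ∀ j, IsQuasiSeparatedSp (F.obj j))
    {Y : Sp S} (hY : IsAlgSpace Y) (hYqs : IsQuasiSeparatedSp Y) {V : Over S} [IsAffine V.left]
    (a : (yon S).obj V ⟶ Y) (t : ∀ j, F.obj j ⟶ Y) (ht : ∀ {j k : J} (φ : j ⟶ k), F.map φ ≫ t k = t j)
    {c : Cone F} (hc : IsLimit c) (g : c.pt ⟶ Y) (hg : ∀ j, c.π.app j ≫ t j = g)
    {W : Over S} [IsAffine W.left] (p : (yon S).obj W ⟶ c.pt) (s : W ⟶ V)
    (sq : IsPullback p ((yon S).map s) g a) :
    ∃ (j : J) (Wj : Over S) (sj : Wj ⟶ V) (pj : (yon S).obj Wj ⟶ F.obj j),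
      IsAffine Wj.left ∧ IsPullback pj ((yon S).map sj) (t j) a := by
  have hdV : RepWith @QuasiCompact (Limits.diag ((yon S).obj V)) := by
    refine (repWith_diag_yon_iff _ _).2 ?_
    have : QuasiSeparated (V.hom ≫ terminal.from S) := by
      rw [terminal.comp_from]; exact (quasiSeparatedSpace_iff_quasiSeparated _).1 inferInstance
    exact (QuasiSeparated.of_comp V.hom (terminal.from S)).quasiCompact_diagonal
  have hqc' : ∀ j, IsQuasiCompactSp ((pbSystem t ht a).obj j) := fun j => by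
    haveI := (isQuasiCompactSp_iff_compactSpace (hF j)).1 (hqc j)
    exact isQuasiCompactMor_of_qc_qs (hF j) hY hYqs (IsAlgSpace.yon_obj V) (isQuasiCompactSp_yon V) a _ _
      (IsPullback.of_hasPullback (t j) a)
  obtain ⟨j, Wj, hWj, ⟨e⟩⟩ := exists_stage_affine (D := pbSystem t ht a)
    (fun j => isAlgSpace_pullback _ _ (hF j) (IsAlgSpace.yon_obj _) hY)
    (fun j k φ => isAffineMor_of_isPullback (isPullback_pbSystem t ht a φ).flip (hFa j k φ))
    hqc' (fun j => repWith_diag_of_isPullback (IsPullback.of_hasPullback _ _) (hqs j) hdV)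
    (pbIsLimit t ht a g hg hc) (T := W) sq.isoPullback
  obtain ⟨sj, hsj⟩ := (yon S).map_surjective (e.hom ≫ pullback.snd (t j) a)
  refine ⟨j, Wj, sj, e.hom ≫ pullback.fst (t j) a, hWj, ?_⟩
  refine (IsPullback.of_hasPullback (t j) a).of_iso e.symm (Iso.refl _) (Iso.refl _) (Iso.refl _) ?_ ?_
    (by simp) (by simp)
  · simp
  · rw [hsj]; simp

theorem eventually_isAffineMor {I : Type u} [SmallCategory I] [IsCofiltered I] {D : I ⥤ Sp S} {Y : Sp S}
    (hY : IsAlgSpace Y) (hD : ∀ i, IsAlgSpace (D.obj i)) (t : ∀ i, D.obj i ⟶ Y)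
    (ht : ∀ {i j : I} (φ : i ⟶ j), D.map φ ≫ t j = t i)
    (hDa : ∀ (i j : I) (φ : i ⟶ j), IsAffineMor (D.map φ))
    {c : Cone D} (hc : IsLimit c) (g : c.pt ⟶ Y) (hg : ∀ i, c.π.app i ≫ t i = g)
    (hqc : ∀ i, IsQuasiCompactSp (D.obj i)) (hqs : ∀ i, IsQuasiSeparatedSp (D.obj i))
    (hYqc : IsQuasiCompactSp Y) (hYqs : IsQuasiSeparatedSp Y) (hgA : IsAffineMor g) :
    ∃ i₀ : I, ∀ (i : I) (_ : i ⟶ i₀), IsAffineMor (t i) := by
  haveI := (isQuasiCompactSp_iff_compactSpace hY).1 hYqc
  obtain ⟨V, a, hV, hae, has⟩ := exists_affine_chart_of_compactSpace hY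
  haveI := hV
  obtain ⟨W, s, p, sq, hW⟩ := hgA hV a
  haveI := hW
  obtain ⟨i₀, Wj, sj, pj, hWj, sqj⟩ :=
    exists_stage_pullback_affine hD hDa hqc hqs hY hYqs a t ht hc g hg p s sq
  haveI := hWj
  refine ⟨i₀, fun i φ => ?_⟩
  rw [← ht φ]
  exact isAffineMor_comp' (hDa _ _ φ) (isAffineMor_of_chart hae has sqj)

theorem descend_isAffineMor {I : Type u} [SmallCategory I] [IsCofiltered I] {D : I ⥤ Sp S}
    (hD : ∀ i, IsAlgSpace (D.obj i)) (hDa : ∀ (i j : I) (φ : i ⟶ j), IsAffineMor (D.map φ))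
    {c : Cone D} (hc : IsLimit c) {i₀ : I} {X₀ Y₀ X Y : Sp S} (hX₀ : IsAlgSpace X₀) (hY₀ : IsAlgSpace Y₀)
    {f₀ : X₀ ⟶ Y₀} {b₀ : Y₀ ⟶ D.obj i₀}
    (hXqc : IsQuasiCompactSp X₀) (hXqs : IsQuasiSeparatedSp X₀)
    (hYqc : IsQuasiCompactSp Y₀) (hYqs : IsQuasiSeparatedSp Y₀)
    {f : X ⟶ Y} {pY : Y ⟶ Y₀} {qY : Y ⟶ c.pt} (hY : IsPullback pY qY b₀ (c.π.app i₀))
    {pX : X ⟶ X₀} (hX : IsPullback pX f f₀ pY) (hf : IsAffineMor f) :
    ∃ (i : I) (φ : i ⟶ i₀), ∀ (Xi Yi : Sp S) (fi : Xi ⟶ Yi) (pYi : Yi ⟶ Y₀) (qYi : Yi ⟶ D.obj i)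
      (_ : IsPullback pYi qYi b₀ (D.map φ)) (pXi : Xi ⟶ X₀) (_ : IsPullback pXi fi f₀ pYi),
      IsAffineMor fi := by
  let D' : Over i₀ ⥤ Sp S := Over.forget i₀ ⋙ D
  let t' : ∀ k, D'.obj k ⟶ D.obj i₀ := fun k => D.map k.hom
  have ht' : ∀ {k l : Over i₀} (φ : k ⟶ l), D'.map φ ≫ t' l = t' k := fun {k l} φ => by
    show D.map φ.left ≫ D.map l.hom = _
    rw [← Functor.map_comp, Over.w φ]
  let c' : Cone D' := c.whisker (Over.forget i₀)
  let hc' : IsLimit c' := (Functor.Initial.isLimitWhiskerEquiv (Over.forget i₀) c).symm hc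
  let F := pbSystem t' ht' (f₀ ≫ b₀)
  have hg' : ∀ k, c'.π.app k ≫ t' k = c.π.app i₀ := fun k => c.w k.hom
  let cF := pbCone (c := c') t' ht' (f₀ ≫ b₀) (c.π.app i₀) hg'
  let hcF : IsLimit cF := pbIsLimit (c := c') t' ht' (f₀ ≫ b₀) (c.π.app i₀) hg' hc'
  let t : ∀ k, F.obj k ⟶ Y₀ := fun k => pullback.snd (t' k) (f₀ ≫ b₀) ≫ f₀
  have ht : ∀ {k l : Over i₀} (φ : k ⟶ l), F.map φ ≫ t l = t k := fun {k l} φ => by
    simp only [t]
    rw [← Category.assoc, pbSystem_snd]
  let g : cF.pt ⟶ Y₀ := pullback.snd (c.π.app i₀) (f₀ ≫ b₀) ≫ f₀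
  have hg : ∀ k, cF.π.app k ≫ t k = g := fun k => by
    simp only [cF, pbCone, t, g]
    rw [pullback.lift_snd_assoc]
    simp
  have hFA : ∀ k, IsAlgSpace (F.obj k) := fun k => isAlgSpace_pullback _ _ (hD _) hX₀ (hD _)
  haveI := (isQuasiCompactSp_iff_compactSpace hY₀).1 hYqc
  obtain ⟨V, a, hV, hae, has⟩ := exists_affine_chart_of_compactSpace hY₀
  haveI := hV
  have hpY : IsAffineMor pY := isAffineMor_of_isPullback hY.flip (isAffineMor_π hDa hc i₀)
  obtain ⟨V', v', p', sqV', hV'⟩ := hpY hV a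
  obtain ⟨W, s, p, sqW, hW⟩ := hf hV' p'
  haveI := hW
  let eX : X ≅ cF.pt := (hX.paste_vert hY).flip.isoPullback
  have heX : eX.hom ≫ g = f ≫ pY := by
    simp only [g, eX]
    rw [← Category.assoc, IsPullback.isoPullback_hom_snd, hX.w]
  have sq : IsPullback (p ≫ eX.hom) ((yon S).map (s ≫ v')) g a := by
    have h1 : IsPullback p ((yon S).map (s ≫ v')) (f ≫ pY) a := by
      rw [Functor.map_comp]
      exact sqW.paste_vert sqV'
    refine h1.of_iso (Iso.refl _) eX (Iso.refl _) (Iso.refl _) (by simp) (by simp) ?_ (by simp)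
    rw [Iso.refl_hom, Category.comp_id, heX]
  obtain ⟨l, Wl, sl, pl, hWl, sql⟩ := exists_stage_pullback_affine hFA
    (fun k m φ => isAffineMor_of_isPullback (isPullback_pbSystem t' ht' (f₀ ≫ b₀) φ).flip (hDa _ _ _))
    (fun k => isQuasiCompactSp_of_isAffineMor hX₀
      (isAffineMor_of_isPullback (IsPullback.of_hasPullback (t' k) (f₀ ≫ b₀)) (hDa _ _ _)) hXqc)
    (fun k => isQuasiSeparatedSp_of_isAffineMor hX₀ hXqs
      (isAffineMor_of_isPullback (IsPullback.of_hasPullback (t' k) (f₀ ≫ b₀)) (hDa _ _ _)))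
    hY₀ hYqs a t ht hcF g hg (p ≫ eX.hom) (s ≫ v') sq
  haveI := hWl
  refine ⟨l.left, l.hom, fun Xi Yi fi pYi qYi hYi pXi hXi => ?_⟩
  have hpYi : IsAffineMor pYi := isAffineMor_of_isPullback hYi.flip (hDa _ _ _)
  obtain ⟨Vi, vi, p'i, sqVi, hVi⟩ := hpYi hV a
  haveI := hVi
  let eXi : Xi ≅ F.obj l := (hXi.paste_vert hYi).flip.isoPullback
  have heXi : eXi.hom ≫ t l = fi ≫ pYi := by
    simp only [t, eXi]
    rw [← Category.assoc, IsPullback.isoPullback_hom_snd, hXi.w]
  have hi : IsPullback (pl ≫ eXi.inv) ((yon S).map sl) (fi ≫ pYi) a := by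
    refine sql.of_iso (Iso.refl _) eXi.symm (Iso.refl _) (Iso.refl _) (by simp) (by simp) ?_ (by simp)
    rw [Iso.refl_hom, Category.comp_id, Iso.symm_hom, Iso.eq_inv_comp, heXi]
  obtain ⟨r, hr⟩ := (yon S).map_surjective (sqVi.lift ((pl ≫ eXi.inv) ≫ fi) ((yon S).map sl)
    (by rw [Category.assoc]; exact hi.w))
  refine isAffineMor_of_chart (s := r)
    ((repWith_isStableUnderBaseChange _).of_isPullback sqVi.flip hae)
    ((repWith_isStableUnderBaseChange _).of_isPullback sqVi.flip has)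
    (IsPullback.of_bot ?_ (by rw [hr, sqVi.lift_fst]) sqVi)
  rw [hr, sqVi.lift_snd]
  exact hi

end Groth.Agent.SpPts86
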