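import Groth.Agent.SpPts86.SchImageApps
import Groth.Agent.SpPts86.Quot
import Groth.Agent.SpFP87.LocalST

/-!
A morphism constant on the fibres over a schematically dense open descends along an fppf surjection.
-/

universe u

set_option autoImplicit false
set_option backward.isDefEq.respectTransparency false
set_option linter.style.haveILetI false

open CategoryTheory CategoryTheory.Limits AlgebraicGeometry Opposite
open AlgSp
open Groth.Agent.SpFP87

namespace Groth.Agent.SpPts86

variable {S : Scheme.{u}}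

/-- Maps out of a sheaf agree when they agree after a map with local lifts. -/
theorem hom_ext_of_locLift {F G H : Sp S} {p : F ⟶ G} (hp : LocLift p) {a b : G ⟶ H}
    (h : p ≫ a = p ≫ b) : a = b := by
  have key : ∀ (T : Over S) (x : (yon S).obj T ⟶ G), x ≫ a = x ≫ b := by
    intro T x
    obtain ⟨W, c, l, hc, hl⟩ := hp T x
    refine cover_hom_ext c hc ?_
    rw [← Category.assoc, ← hl, Category.assoc, h, ← Category.assoc, hl, Category.assoc]
  apply Sheaf.hom_ext
  ext T x
  obtain ⟨T⟩ := T
  have := congrArg (J S).uliftYonedaEquiv (key T ((J S).uliftYonedaEquiv.symm x))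
  simpa [GrothendieckTopology.uliftYonedaEquiv_comp] using this

variable {B X Y Z V : Sp S}

/-- Two maps to a separated space over `B` which agree where the image ideal vanishes are equal. -/
theorem eq_of_imIdeal_eq_bot {R : Over S} {pY : Y ⟶ B}
    (hY : IsSeparatedMor pY) {x y : (yon S).obj R ⟶ Y} (hxy : x ≫ pY = y ≫ pY)
    {v : V ⟶ Z} {t : (yon S).obj R ⟶ Z} (hbot : imIdeal v t = ⊥)
    (h : ∀ (A : Over S) (b : (yon S).obj A ⟶ V) (k : A ⟶ R), b ≫ v = (yon S).map k ≫ t →
      (yon S).map k ≫ x = (yon S).map k ≫ y) : x = y := by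
  let w := pullback.lift x y hxy
  haveI : IsClosedImmersion (hY.rep.snd w).left := hY.property_snd w
  have hle : idealOf hY w ≤ imIdeal v t := le_imIdeal fun A b k e => by
    have h' := h A b k e
    obtain ⟨m, hm⟩ := (yon S).map_surjective
      ((hY.rep.isPullback w).lift ((yon S).map k ≫ x) ((yon S).map k) (by
        refine pullback.hom_ext ?_ ?_
        · simp only [pullback.diagonal, Category.assoc, pullback.lift_fst, Category.comp_id, w]
        · simp only [pullback.diagonal, Category.assoc, pullback.lift_snd, Category.comp_id, w]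
          exact h'))
    have : m ≫ hY.rep.snd w = k := (yon S).map_injective (by
      rw [Functor.map_comp, hm, IsPullback.lift_snd])
    rw [← this, Over.comp_left]
    exact Scheme.Hom.le_ker_comp _ _
  rw [hbot, le_bot_iff] at hle
  haveI : IsIso (hY.rep.snd w).left := IsClosedImmersion.isIso_iff_ker_eq_bot.2 hle
  haveI : IsIso ((Over.forget S).map (hY.rep.snd w)) := inferInstanceAs (IsIso (hY.rep.snd w).left)
  haveI : IsIso (hY.rep.snd w) := isIso_of_reflects_iso _ (Over.forget S)
  have e := (hY.rep.isPullback w).w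
  have h1 := congrArg (· ≫ pullback.fst pY pY) e
  have h2 := congrArg (· ≫ pullback.snd pY pY) e
  simp only [pullback.diagonal, Category.assoc, pullback.lift_fst, pullback.lift_snd,
    Category.comp_id, w] at h1 h2
  exact (cancel_epi ((yon S).map (hY.rep.snd w))).1 (h1.symm.trans h2)

/-- Descent along an fppf surjection of a map constant on fibres over a schematically dense open. -/
theorem exists_factor_of_schDense (hZ : IsAlgSpace Z) (hX : IsAlgSpace X)
    {pY : Y ⟶ B} (hY : IsSeparatedMor pY) {f : X ⟶ Y} {g : X ⟶ Z} {pZ : Z ⟶ B}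
    (hfg : f ≫ pY = g ≫ pZ) (hgs : IsSurjectiveMor g) (hgf : LocP @Flat g)
    (hgp : LocP @LocallyOfFinitePresentation g) {v : V ⟶ Z} (hv : IsSchDense v)
    (hvq : IsQuasiCompactMor v)
    (hfac : ∃ φ : V ⟶ Y, pullback.fst g v ≫ f = pullback.snd g v ≫ φ) :
    ∃ h : Z ⟶ Y, g ≫ h = f := by
  obtain ⟨V₀, b, hb, hbs⟩ := hZ.atlas
  have hP : IsAlgSpace (pullback g b) :=
    SpFP87.isAlgSpace_of_isPullback (IsPullback.of_hasPullback g b) hX (IsAlgSpace.yon_obj V₀) hZ.diag
  obtain ⟨U, π, hπ, hπs⟩ := hP.atlas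
  obtain ⟨h₁, hh₁⟩ := (yon S).map_surjective (π ≫ pullback.snd g b)
  obtain ⟨q, hq⟩ : ∃ q, q = π ≫ pullback.fst g b := ⟨_, rfl⟩
  have hqe : RepWith @Etale q := hq ▸ (repWith_isMultiplicative (S := S) @Etale).comp_mem _ _ hπ
    ((repWith_isStableUnderBaseChange @Etale).of_isPullback (IsPullback.of_hasPullback g b).flip hb)
  have hqs : RepWith @Surjective q := hq ▸ (repWith_isMultiplicative (S := S) @Surjective).comp_mem _ _ hπs
    ((repWith_isStableUnderBaseChange @Surjective).of_isPullback (IsPullback.of_hasPullback g b).flip hbs)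
  have hw : q ≫ g = (yon S).map h₁ ≫ b := by
    rw [hq, Category.assoc, pullback.condition, hh₁, Category.assoc]
  haveI : Flat h₁.left := hgf q b h₁ hqe hb hw
  haveI : LocallyOfFinitePresentation h₁.left := hgp q b h₁ hqe hb hw
  haveI : Surjective h₁.left := ⟨fun v₀ => by
    obtain ⟨z, hz⟩ := isSurjectiveMor_baseChange (IsPullback.of_hasPullback g b) hgs
      (Points.schemeHomeo V₀ v₀)
    obtain ⟨y, rfl⟩ := isSurjectiveMor_of_repWith hπs z
    rw [← Points.map_comp, ← hh₁] at hz
    obtain ⟨u, hu⟩ := (range_map_yon ((yon S).map h₁)).le ⟨y, hz⟩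
    rw [ofPt_yon_map] at hu
    exact ⟨u, (Points.schemeHomeo V₀).injective hu⟩⟩
  obtain ⟨e, he₀⟩ : ∃ e, e = q ≫ f := ⟨_, rfl⟩
  have hLL : LocLift (q ≫ g) := fun T t => by
    obtain ⟨W, c, l', hc, hl⟩ := locLift_of_atlas hb hbs T t
    obtain ⟨l, rfl⟩ := (yon S).map_surjective l'
    obtain ⟨W', p, c', sq, w⟩ := exists_isPullback_over h₁ l
    have hc' : fppfSurj c'.left :=
      MorphismProperty.of_isPullback (P := fppfSurj) sq
        ((fppfSurj_iff _).2 ⟨inferInstance, inferInstance, inferInstance⟩)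
    refine ⟨W', c' ≫ c, (yon S).map p, ?_, ?_⟩
    · obtain ⟨a1, a2, a3⟩ := (fppfSurj_iff _).1 hc
      obtain ⟨b1, b2, b3⟩ := (fppfSurj_iff _).1 hc'
      rw [fppfSurj_iff, Over.comp_left]
      exact ⟨inferInstance, inferInstance, inferInstance⟩
    · rw [hw, ← Functor.map_comp_assoc, w, Functor.map_comp_assoc, hl, ← Functor.map_comp_assoc]
  -- the fibre product of the cover with itself, mapping flatly to the chart
  obtain ⟨R₁, t₁, v₁, sq₁⟩ := SpFP87.exists_isPullback_yon hZ.diag (q ≫ g) b
  haveI : Etale t₁.left := etale_snd_of_isPullback sq₁.flip hb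
  haveI : Flat v₁.left := hgf ((yon S).map t₁ ≫ q) b v₁
    ((repWith_isMultiplicative (S := S) @Etale).comp_mem _ _
      ((repWith_yon_map_iff _ _).2 inferInstance) hqe) hb (by rw [Category.assoc, sq₁.w])
  obtain ⟨R, m, s, sq₂, w₂⟩ := exists_isPullback_over v₁ h₁
  have sqR : IsPullback m s v₁ h₁ := IsPullback.of_map (Over.forget S) w₂ sq₂
  haveI : Flat m.left :=
    MorphismProperty.of_isPullback (P := @Flat) sq₂.flip ‹Flat h₁.left›
  have hRsq : IsPullback ((yon S).map (m ≫ t₁)) ((yon S).map s) (q ≫ g) (q ≫ g) := by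
    have h := (sqR.map (yon S)).paste_horiz sq₁
    rwa [← Functor.map_comp, ← hw] at h
  have hbot : imIdeal v ((yon S).map (m ≫ v₁) ≫ b) = ⊥ := by
    haveI : Flat (m ≫ v₁).left := inferInstanceAs (Flat (m.left ≫ v₁.left))
    obtain ⟨W, fst, sqW, hW⟩ := exists_isPullback_opens hv.1 b
    rw [imIdeal_comap hvq (m ≫ v₁), (imIdeal_eq_bot_iff hv.1 hvq b W sqW).2
      (isSchematicallyDense_chart hZ hv hb W hW), Scheme.IdealSheafData.comap_bot]
  obtain ⟨φ, hφ⟩ := hfac
  have hcomb : (yon S).map (m ≫ t₁) ≫ e = (yon S).map s ≫ e := by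
    refine eq_of_imIdeal_eq_bot hY ?_ hbot fun A c k hk => ?_
    · rw [he₀, Category.assoc, Category.assoc, Category.assoc, Category.assoc, hfg,
        ← Category.assoc q g, ← Category.assoc, hRsq.w, Category.assoc]
    · have key : ∀ r : A ⟶ U, (yon S).map r ≫ q ≫ g = c ≫ v → (yon S).map r ≫ e = c ≫ φ := by
        intro r hr
        have h := congrArg (pullback.lift ((yon S).map r ≫ q) c (by rw [Category.assoc, hr]) ≫ ·) hφ
        simp only [← Category.assoc, pullback.lift_fst, pullback.lift_snd] at h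
        rw [he₀, ← Category.assoc]
        exact h
      have hk1 : (yon S).map (k ≫ m ≫ t₁) ≫ q ≫ g = c ≫ v := by
        rw [hk, Functor.map_comp, Functor.map_comp, Functor.map_comp, Category.assoc, Category.assoc,
          Category.assoc, sq₁.w]
      have hk2 : (yon S).map (k ≫ s) ≫ q ≫ g = c ≫ v := by
        rw [← hk1, Functor.map_comp_assoc, Functor.map_comp_assoc, hRsq.w]
      rw [← Functor.map_comp_assoc, ← Functor.map_comp_assoc, key _ hk1, key _ hk2]
  obtain ⟨d, hd⟩ := exists_desc hLL e (fun W l l' hl => by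
    obtain ⟨ρ, hρ⟩ := (yon S).map_surjective (hRsq.lift _ _ hl)
    rw [show (yon S).map l = (yon S).map ρ ≫ (yon S).map (m ≫ t₁) by rw [hρ, IsPullback.lift_fst],
      show (yon S).map l' = (yon S).map ρ ≫ (yon S).map s by rw [hρ, IsPullback.lift_snd],
      Category.assoc, Category.assoc, hcomb])
  exact ⟨d, hom_ext_of_locLift (locLift_of_atlas hqe hqs) (by rw [← he₀, ← hd, Category.assoc])⟩

end Groth.Agent.SpPts86
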