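import Groth.Agent.SpPts86.RelDim

/-!
There are finitely many quasi-finite points in a fibre of a morphism of finite type.
-/

universe u

set_option autoImplicit false

open CategoryTheory CategoryTheory.Limits AlgebraicGeometry Topology

namespace Groth.Agent.SpPts86

theorem finite_quasiFiniteAt_fibre {U V : Scheme.{u}} (h : U ⟶ V) [LocallyOfFiniteType h]
    [QuasiCompact h] (v : V) :
    {u : U | h u = v ∧ FlatMor.fibreDimAt h u ≤ ((0 : ℕ) : WithBot ℕ∞)}.Finite := by
  have : LocallyOfFiniteType (h.fiberToSpecResidueField v) := MorphismProperty.pullback_snd _ _ inferInstance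
  have : QuasiCompact (h.fiberToSpecResidueField v) := MorphismProperty.pullback_snd _ _ inferInstance
  have : IsLocallyNoetherian (h.fiber v) := LocallyOfFiniteType.isLocallyNoetherian (h.fiberToSpecResidueField v)
  have : CompactSpace ↥(h.fiber v) := QuasiCompact.compactSpace_of_compactSpace (h.fiberToSpecResidueField v)
  have : IsNoetherian (h.fiber v) := ⟨⟩
  let T : Set ↥(h.fiber v) := {t | IsOpen ({t} : Set ↥(h.fiber v))}
  have hT : IsCompact T := TopologicalSpace.NoetherianSpace.isCompact _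
  obtain ⟨s, hs⟩ := hT.elim_finite_subcover (fun t : T => ({t.1} : Set ↥(h.fiber v))) (fun t => t.2)
    (fun t ht => Set.mem_iUnion.2 ⟨⟨t, ht⟩, rfl⟩)
  have hfin : T.Finite := (s.finite_toSet.biUnion fun _ _ => Set.finite_singleton _).subset hs
  refine (hfin.image (h.fiberι v)).subset ?_
  rintro u ⟨rfl, hu⟩
  obtain ⟨z, -, -, hz, hmax, -⟩ := E4O.exists_fibreDimAt_eq h u
  rw [hz, Nat.cast_le] at hu
  have hq := VarGal.quasiFiniteAt_of_fdeg_eq_zero h u fun z' h1 h2 =>
    Nat.le_zero.1 ((hmax z' h1 h2).trans hu)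
  exact ⟨h.asFiber u, Scheme.Hom.quasiFiniteAt_iff_isOpen_singleton_asFiber.1 hq,
    Scheme.Hom.fiberι_asFiber h u⟩

end Groth.Agent.SpPts86
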