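import Groth.Agent.SpFP87.RedInduced
import Groth.Agent.SpFP87.IntegralSub

/-!
Morphisms from reduced spaces factor through closed subspaces containing their image.
-/

universe u

set_option autoImplicit false
set_option backward.isDefEq.respectTransparency false

open CategoryTheory CategoryTheory.Limits AlgebraicGeometry
open AlgSp Groth.Agent.SpFP87

namespace Groth.Agent.SpPts86

variable {S : Scheme.{u}} {W Y Z : Sp S}

/-- A morphism from a reduced space with image inside a closed subspace factors through it. -/
theorem exists_factor_of_reduced (hW : IsAlgSpace W) (hr : IsReducedSp W) {i : Z ⟶ Y}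
    (hi : RepWith @IsClosedImmersion i) (g : W ⟶ Y)
    (h : Set.range (Points.map g) ⊆ Set.range (Points.map i)) : ∃ k : W ⟶ Z, k ≫ i = g := by
  obtain ⟨U, a, ha, has, hU⟩ := hr
  have : IsReduced U.left := hU
  have := mono_of_repWith_le (P := @IsClosedImmersion) (fun _ _ f (hf : IsClosedImmersion f) =>
    (inferInstanceAs (Mono f))) hi
  obtain ⟨V, snd, fst, sq⟩ := hi.1 (a ≫ g)
  have : IsClosedImmersion snd.left := hi.2 _ fst snd sq
  have : Surjective snd.left := ⟨fun u => by
    obtain ⟨z, hz⟩ := h ⟨Points.ofPt a u, rfl⟩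
    obtain ⟨v, -, hv⟩ := exists_pt_of_isPullback sq z u (by rw [hz, Points.map_ofPt])
    exact ⟨v, hv⟩⟩
  have : IsIso snd.left := isIso_of_isClosedImmersion_of_surjective _
  have : IsIso ((Over.forget S).map snd) := ‹IsIso snd.left›
  have : IsIso snd := isIso_of_reflects_iso snd (Over.forget S)
  let k₀ : (yon S).obj U ⟶ Z := (yon S).map (inv snd) ≫ fst
  have hk₀ : k₀ ≫ i = a ≫ g := by
    rw [Category.assoc, sq.w, ← Category.assoc, ← Functor.map_comp, IsIso.inv_hom_id,
      CategoryTheory.Functor.map_id, Category.id_comp]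
  have sqP := IsPullback.of_hasPullback g i
  have : Mono (pullback.fst g i) := inferInstance
  have hl : LocLift (pullback.fst g i) := fun T x => by
    obtain ⟨W', c, l, hc, hl⟩ := locLift_of_atlas ha has T x
    exact ⟨W', c, l ≫ pullback.lift a k₀ hk₀.symm, hc, by rw [Category.assoc, pullback.lift_fst, hl]⟩
  have := isIso_of_mono_of_locLift _ hl
  exact ⟨inv (pullback.fst g i) ≫ pullback.snd g i, by
    rw [Category.assoc, ← pullback.condition, IsIso.inv_hom_id_assoc]⟩

end Groth.Agent.SpPts86
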