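import Groth.Agent.SpPts86.SchImagePoints
import Groth.Agent.SpPts86.ProperCrit
import Groth.Agent.SpPts86.LqfSep

/-!
Scheme theoretic images of proper spaces.
-/

universe u

set_option autoImplicit false
set_option backward.isDefEq.respectTransparency false

open CategoryTheory CategoryTheory.Limits AlgebraicGeometry
open AlgSp
open Groth.Agent.SpFP87

namespace Groth.Agent.SpPts86

variable {S : Scheme.{u}} {X Y Z B : Sp S}

theorem isQuasiCompactMor_of_surjective_comp {f : X ⟶ Y} {q : Y ⟶ B} (hX : IsAlgSpace X)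
    (hY : IsAlgSpace Y) (hB : IsAlgSpace B)
    (hp : IsQuasiCompactMor (f ≫ q)) (hf : IsSurjectiveMor f) : IsQuasiCompactMor q := by
  refine isQuasiCompactMor_of_affine hY hB fun T hT g Q fst snd sq => ?_
  have := hT
  have := compactSpace_points_yon T
  have sq1 := IsPullback.of_hasPullback f fst
  have := compactSpace_of_isQuasiCompactMor hp (IsAlgSpace.yon_obj T) (sq1.paste_vert sq)
  exact compactSpace_of_surjectiveMor (surjective_map_fst_of_isPullback sq1.flip hf)

theorem schImage_of_proper (hX : IsAlgSpace X) (hY : IsAlgSpace Y) (hZ : IsAlgSpace Z) (hB : IsAlgSpace B)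
    {h : X ⟶ Y} {f : X ⟶ B} {g : Y ⟶ B} (comm : h ≫ g = f) (hf : IsProperMor f)
    (hg : IsSeparatedMor g) (hg' : LocP @LocallyOfFiniteType g) {i : Z ⟶ Y} (hi : IsSchImage h i)
    {h' : X ⟶ Z} (fac : h' ≫ i = h) : IsProperMor (i ≫ g) ∧ IsSurjectiveMor h' := by
  have : Mono i := mono_of_repWith_le isClosedImmersion_le_monomorphisms hi.1
  have hh := proper_over_separated hX hY hB comm hg hf
  have hcl := (univClosed_over_separated hX hY hB comm hg hf.2.2).2
  have hs : IsSurjectiveMor h' := fun z => by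
    have hz := range_subset_closure_of_isSchImage hY hh.2.1.2 hi ⟨z, rfl⟩
    rw [hcl.closure_eq] at hz
    obtain ⟨x, hx⟩ := hz
    refine ⟨x, injective_map_of_mono i ?_⟩
    rw [← Points.map_comp, fac, hx]
  have e : h' ≫ i ≫ g = f := by rw [← Category.assoc, fac, comm]
  have hlft : LocP @LocallyOfFiniteType i :=
    locP_of_repWith hZ.diag hY (repWith_mono (fun _ _ k (_ : IsClosedImmersion k) =>
      (inferInstance : LocallyOfFiniteType k)) hi.1)
  refine ⟨⟨isSeparatedMor_comp (isSeparatedMor_of_mono i) hg,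
    ⟨locP_comp hZ hY hB hlft hg', ?_⟩, ?_⟩, hs⟩
  · exact isQuasiCompactMor_of_surjective_comp hX hZ hB (e ▸ hf.2.1.2) hs
  · exact isUnivClosedMor_of_surjective_comp (e ▸ hf.2.2) hs

end Groth.Agent.SpPts86
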