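import Groth.Agent.SpPts86.LimitAffineMor
import Groth.Agent.SpPts86.DescMor
import Groth.Agent.SpPts86.ProperImage
import Groth.Agent.SpPts86.PieceChart
import Groth.Agent.SpFP87.YonProper
import Groth.Agent.SpFP87.FinScheme
import Groth.Agent.S10536
import Groth.Agent.S2074

/-!
Properness descends to a stage of a limit.
-/

universe u

set_option autoImplicit false
set_option backward.isDefEq.respectTransparency false
set_option linter.style.haveILetI false

open CategoryTheory CategoryTheory.Limits AlgebraicGeometry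
open AlgSp Groth.Agent.SpFP87

namespace Groth.Agent.SpPts86

variable {S : Scheme.{u}} {I : Type u} [SmallCategory I] [IsCofiltered I] {D : I ⥤ Sp S}
  {c : Cone D} {i₀ : I} {X₀ Y₀ X Y : Sp S} {f₀ : X₀ ⟶ Y₀} {b₀ : Y₀ ⟶ D.obj i₀}
  {f : X ⟶ Y} {pY : Y ⟶ Y₀} {qY : Y ⟶ c.pt} {pX : X ⟶ X₀}

theorem isProperMor_of_chart {Z W : Sp S} {g : Z ⟶ W} (hZ : IsAlgSpace Z) (hW : IsAlgSpace W) {T : Over S}
    {P : Sp S} {a : (yon S).obj T ⟶ W} (he : RepWith @Etale a) (hs : RepWith @Surjective a) {r : P ⟶ Z}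
    {s : P ⟶ (yon S).obj T} (sq : IsPullback r s g a) (h : IsProperMor s) : IsProperMor g := by
  have hP : IsAlgSpace P := isAlgSpace_of_isPullback sq hZ (IsAlgSpace.yon_obj T) hW.diag
  have hcov : IsFppfCover (fun _ : PUnit.{u + 1} => (yon S).obj T) (fun _ => a) :=
    ⟨fun _ => ⟨LocP.of_le (P := @Etale) (fun _ _ k hk => by haveI : Etale k := hk; exact inferInstanceAs (Flat k))
        (locP_etale_of_isEtaleMor (isEtaleMor_of_repWith_etale he)),
      LocP.of_le (P := @Etale) (fun _ _ k hk => by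
        haveI : Etale k := hk; exact inferInstanceAs (LocallyOfFinitePresentation k))
        (locP_etale_of_isEtaleMor (isEtaleMor_of_repWith_etale he))⟩,
      fun x => ⟨⟨⟩, isSurjectiveMor_of_repWith hs x⟩⟩
  exact (S10536.result S (fun _ : PUnit.{u + 1} => (yon S).obj T) (fun _ => a) hW
    (fun _ => IsAlgSpace.yon_obj _) (isFpqcCover_of_isFppfCover _ _ hW (fun _ => IsAlgSpace.yon_obj _) hcov)
    g hZ (fun _ => P) (fun _ => s) (fun _ => r) (fun _ => hP) (fun _ => sq)).2 fun _ => h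

variable [QuasiSeparatedSpace ↥S] (hD : ∀ i, IsAlgSpace (D.obj i))
  (hDa : ∀ (i j : I) (φ : i ⟶ j), IsAffineMor (D.map φ)) (hc : IsLimit c)
  (hX₀ : IsAlgSpace X₀) (hY₀ : IsAlgSpace Y₀)
  (hXqc : IsQuasiCompactSp X₀) (hXqs : IsQuasiSeparatedSp X₀) (hYqs : IsQuasiSeparatedSp Y₀)
  (hY : IsPullback pY qY b₀ (c.π.app i₀)) (hX : IsPullback pX f f₀ pY)

include hD hDa hc hX₀ hY₀ hXqc hXqs hYqs hY hX

set_option maxHeartbeats 1000000 in
theorem descend_isProperMor (hYqc : IsQuasiCompactSp Y₀) (hf : IsProperMor f)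
    (hf₀ : LocP @LocallyOfFiniteType f₀) :
    ∃ (i : I) (φ : i ⟶ i₀), ∀ (Xi Yi : Sp S) (fi : Xi ⟶ Yi) (pYi : Yi ⟶ Y₀) (qYi : Yi ⟶ D.obj i)
      (_ : IsPullback pYi qYi b₀ (D.map φ)) (pXi : Xi ⟶ X₀) (_ : IsPullback pXi fi f₀ pYi),
      IsProperMor fi := by
  have hYA : IsAlgSpace Y := isAlgSpace_of_isPullback hY hY₀ (isAlgSpace_limit hD hDa hc) (hD i₀).diag
  have hXA := isAlgSpace_of_isPullback hX hX₀ hYA hY₀.diag
  obtain ⟨i₁, φ₁, hsep⟩ := descend_separated hDa hc hX₀ hY₀ hXqc hXqs hYqs hY hX hf.1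
  haveI := (isQuasiCompactSp_iff_compactSpace hY₀).1 hYqc
  haveI := (isQuasiCompactSp_iff_compactSpace hX₀).1 hXqc
  obtain ⟨V, a, hV, hae, has⟩ := exists_affine_chart_of_compactSpace hY₀
  haveI := hV
  /- the source over the chart, covered by a scheme -/
  have sqA := IsPullback.of_hasPullback f₀ a
  have hX₁ : IsAlgSpace (pullback f₀ a) := isAlgSpace_pullback _ _ hX₀ (IsAlgSpace.yon_obj _) hY₀
  have hdV : RepWith @QuasiCompact (Limits.diag ((yon S).obj V)) := by
    refine (repWith_diag_yon_iff _ _).2 ?_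
    have : QuasiSeparated (V.hom ≫ terminal.from S) := by
      rw [terminal.comp_from]; exact (quasiSeparatedSpace_iff_quasiSeparated _).1 inferInstance
    exact (QuasiSeparated.of_comp V.hom (terminal.from S)).quasiCompact_diagonal
  have hX₁qs : IsQuasiSeparatedSp (pullback f₀ a) := repWith_diag_of_isPullback sqA hXqs hdV
  have hX₁qc : IsQuasiCompactSp (pullback f₀ a) :=
    isQuasiCompactMor_of_qc_qs hX₀ hY₀ hYqs (IsAlgSpace.yon_obj V) (isQuasiCompactSp_yon V) a _ _ sqA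
  obtain ⟨T, ν, hν, hνs⟩   := ModSys.exists_scheme_finite_surjective ⟨_, hX₁⟩ hX₁qc hX₁qs
  have hνA : IsAffineMor ν := fun Z hZ z =>
    let ⟨W, w, fst, sq, hW, _⟩ := hν hZ z
    ⟨W, w, fst, sq, hW⟩
  have hνp : IsProperMor ν := isProperMor_of_isFiniteMor (IsAlgSpace.yon_obj T) hX₁ hν
  obtain ⟨t, ht⟩ := (yon S).map_surjective (ν ≫ pullback.snd f₀ a)
  have hf₁ : LocP @LocallyOfFiniteType (pullback.snd f₀ a) :=
    locP_baseChange sqA hX₀ hY₀ (IsAlgSpace.yon_obj V) hf₀
  haveI : LocallyOfFiniteType t.left := by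
    refine (locP_yon_map_iff t).1 ?_
    rw [ht]
    exact locP_comp (IsAlgSpace.yon_obj T) hX₁ (IsAlgSpace.yon_obj V) hνp.2.1.1 hf₁
  have hTqc : CompactSpace ↥T.left := by
    haveI := (isQuasiCompactSp_iff_compactSpace (IsAlgSpace.yon_obj T)).1
      (isQuasiCompactSp_of_isAffineMor hX₁ hνA hX₁qc)
    exact (Points.schemeHomeo T).symm.compactSpace
  have hTqs : QuasiSeparatedSpace ↥T.left := by
    have h1 := (repWith_diag_yon_iff _ _).1 (isQuasiSeparatedSp_of_isAffineMor hX₁ hX₁qs hνA)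
    have : QuasiSeparated T.hom := ⟨h1⟩
    have : QuasiSeparated (terminal.from S) := (quasiSeparatedSpace_iff_quasiSeparated _).1 inferInstance
    exact (quasiSeparatedSpace_iff_quasiSeparated _).2 (by
      rw [show terminal.from T.left = T.hom ≫ terminal.from S from terminal.hom_ext _ _]
      infer_instance)
  /- the system over the chart -/
  obtain ⟨Wd, fst, w, cL, -, hLS, fL, iL, sqW, hWa, hfst, hWw, hiL, hfL, sqL, hLA⟩ :=
    exists_affine_limit_chart hDa hc i₀ hV (a ≫ b₀)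
  haveI := hLA
  let y := hY.lift ((yon S).map iL ≫ a) fL (by rw [Category.assoc]; exact sqL.w.symm)
  have hy : y ≫ pY = (yon S).map iL ≫ a := hY.lift_fst _ _ _
  have sq1 := IsPullback.of_hasPullback (pullback.snd f₀ a) ((yon S).map iL)
  have hP1 : IsAlgSpace (pullback (pullback.snd f₀ a) ((yon S).map iL)) :=
    isAlgSpace_pullback _ _ hX₁ (IsAlgSpace.yon_obj _) (IsAlgSpace.yon_obj _)
  let r₁ := hX.lift (pullback.fst (pullback.snd f₀ a) ((yon S).map iL) ≫ pullback.fst f₀ a)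
    (pullback.snd (pullback.snd f₀ a) ((yon S).map iL) ≫ y)
    (by rw [Category.assoc, Category.assoc, hy]; exact (sq1.paste_horiz sqA).w)
  have sq1' : IsPullback r₁ (pullback.snd (pullback.snd f₀ a) ((yon S).map iL)) f y := by
    refine IsPullback.of_right (h₁₂ := pX) (h₂₂ := pY) ?_ (hX.lift_snd _ _ _) hX
    rw [hX.lift_fst, hy]
    exact sq1.paste_horiz sqA
  have hp1 : IsProperMor (pullback.snd (pullback.snd f₀ a) ((yon S).map iL)) :=
    isProperMor_baseChange hXA hYA (IsAlgSpace.yon_obj _) hf sq1'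
  obtain ⟨Q, qa, qb, sqQ, wQ⟩ := exists_isPullback_over t iL
  have sqQo : IsPullback qa qb t iL := IsPullback.of_map_of_faithful (Over.forget S) sqQ
  have sqQy : IsPullback ((yon S).map qa) ((yon S).map qb) (ν ≫ pullback.snd f₀ a) ((yon S).map iL) := by
    rw [← ht]; exact sqQo.map (yon S)
  let l₁ := sq1.lift ((yon S).map qa ≫ ν) ((yon S).map qb) (by rw [Category.assoc]; exact sqQy.w)
  have sqν : IsPullback ((yon S).map qa) l₁ ν (pullback.fst (pullback.snd f₀ a) ((yon S).map iL)) := by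
    refine IsPullback.of_bot ?_ (sq1.lift_fst _ _ _).symm sq1
    rw [sq1.lift_snd]; exact sqQy
  have hQp : IsProper qb.left := by
    refine (isProperMor_yon_map_iff qb).1 ?_
    rw [← sq1.lift_snd ((yon S).map qa ≫ ν) ((yon S).map qb) (by rw [Category.assoc]; exact sqQy.w)]
    exact isProperMor_comp (IsAlgSpace.yon_obj Q) hP1 (IsAlgSpace.yon_obj _)
      (isProperMor_baseChange (IsAlgSpace.yon_obj T) hX₁ hP1 hνp sqν) hp1
  /- the scheme statement -/
  let k₀ : Over i₀ := Over.mk (𝟙 i₀)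
  have : IsIso (w k₀) := by
    have : IsIso ((yon S).map (w k₀)) := by
      haveI : IsIso k₀.hom := inferInstanceAs (IsIso (𝟙 i₀))
      exact (sqW k₀).isIso_snd_of_isIso
    exact isIso_of_reflects_iso (w k₀) (yon S)
  haveI : ∀ k, IsAffine ((Wd ⋙ Over.forget S).obj k) := hWa
  haveI : ∀ (k l : Over i₀) (φ : k ⟶ l), IsAffineHom ((Wd ⋙ Over.forget S).map φ) := fun k l φ =>
    isAffineHom_of_isAffine _
  haveI : IsProper qb.left := hQp
  let tS : T.left ⟶ (Wd ⋙ Over.forget S).obj k₀ := t.left ≫ inv (w k₀).left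
  haveI : LocallyOfFiniteType tS := inferInstanceAs (LocallyOfFiniteType (_ ≫ _))
  obtain ⟨k, φ, Xk, Yk, fk, gk, pYk, pXk, sqYk, sqXk, hfk⟩ :=
    S2074.result (Wd ⋙ Over.forget S) ((Over.forget S).mapCone cL) hLS k₀ tS (𝟙 _) qb.left (𝟙 _)
      ((cL.π.app k₀).left) qa.left (IsPullback.of_vert_isIso ⟨by simp⟩)
      (by
        refine sqQ.of_iso (Iso.refl _) (Iso.refl _) (Iso.refl _) (asIso (w k₀).left).symm
          (by simp) (by simp) (by simp [tS]) ?_
        simp only [Iso.symm_hom, Iso.refl_hom, Category.id_comp, asIso_inv]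
        rw [IsIso.comp_inv_eq, ← Over.comp_left, hiL])
  haveI : IsIso gk := sqYk.isIso_snd_of_isIso
  haveI := hfk
  have sqk : IsPullback pXk (fk ≫ gk) t.left (w k).left := by
    refine sqXk.of_iso (Iso.refl _) (Iso.refl _) (asIso gk) (asIso (w k₀).left) (by simp) (by simp)
      (by simp [tS]) ?_
    simp only [asIso_hom]
    rw [show pYk = gk ≫ (Wd.map φ).left from (Category.comp_id _).symm.trans sqYk.w, Category.assoc,
      ← Over.comp_left, hWw]
  /- a common stage -/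
  obtain ⟨m, μ, μ₁, -⟩ := IsCofilteredOrEmpty.cone_objs k (Over.mk φ₁)
  obtain ⟨Qm, am, bm, sqm, wm⟩ := exists_isPullback_over t (w m)
  have hbm : IsProper bm.left := by
    have hwμ : (Wd.map μ).left ≫ (w k).left = (w m).left := by rw [← Over.comp_left, hWw]
    let l := sqk.lift am.left (bm.left ≫ (Wd.map μ).left) (by rw [Category.assoc, hwμ]; exact sqm.w)
    have : IsPullback l bm.left (fk ≫ gk) (Wd.map μ).left := by
      refine IsPullback.of_right (h₁₂ := pXk) (h₂₂ := (w k).left) ?_ (sqk.lift_snd _ _ _) sqk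
      rw [sqk.lift_fst, hwμ]; exact sqm
    exact MorphismProperty.of_isPullback (P := @IsProper) this inferInstance
  have sqmy : IsPullback ((yon S).map am) ((yon S).map bm) (ν ≫ pullback.snd f₀ a) ((yon S).map (w m)) := by
    rw [← ht]; exact (IsPullback.of_map_of_faithful (Over.forget S) sqm).map (yon S)
  refine ⟨m.left, m.hom, fun Xi Yi fi pYi qYi hYi pXi hXi => ?_⟩
  have hYiA := isAlgSpace_of_isPullback hYi hY₀ (hD _) (hD i₀).diag
  have hXiA := isAlgSpace_of_isPullback hXi hX₀ hYiA hY₀.diag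
  have hfis : IsSeparatedMor fi := by
    have sqY₁ := IsPullback.of_hasPullback b₀ (D.map φ₁)
    have hμ₁ : D.map μ₁.left ≫ D.map φ₁ = D.map m.hom := by
      rw [← Functor.map_comp, show μ₁.left ≫ φ₁ = m.hom from Over.w μ₁]
    let y₁ := sqY₁.lift pYi (qYi ≫ D.map μ₁.left) (by rw [Category.assoc, hμ₁]; exact hYi.w)
    have sqX₁ := IsPullback.of_hasPullback f₀ (pullback.fst b₀ (D.map φ₁))
    let x₁ := sqX₁.lift pXi (fi ≫ y₁) (by rw [Category.assoc, sqY₁.lift_fst]; exact hXi.w)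
    refine SpPts86.isSeparatedMor_of_isPullback (f := pullback.snd f₀ (pullback.fst b₀ (D.map φ₁)))
      (g := y₁) (fst := x₁) ?_ (hsep _ _ _ _ _ sqY₁ _ sqX₁)
    refine IsPullback.of_right (h₁₂ := pullback.fst f₀ (pullback.fst b₀ (D.map φ₁)))
      (h₂₂ := pullback.fst b₀ (D.map φ₁)) ?_ (sqX₁.lift_snd _ _ _) sqX₁
    rw [sqX₁.lift_fst, sqY₁.lift_fst]
    exact hXi
  let l := hYi.lift ((yon S).map (w m) ≫ a) (fst m) (by rw [Category.assoc]; exact (sqW m).w.symm)
  have sql : IsPullback l ((yon S).map (w m)) pYi a := by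
    refine IsPullback.of_right (h₁₂ := qYi) (h₂₂ := b₀) ?_ (hYi.lift_fst _ _ _) hYi.flip
    rw [hYi.lift_snd]
    exact sqW m
  have sq2 := IsPullback.of_hasPullback (pullback.snd f₀ a) ((yon S).map (w m))
  have hP2 : IsAlgSpace (pullback (pullback.snd f₀ a) ((yon S).map (w m))) :=
    isAlgSpace_pullback _ _ hX₁ (IsAlgSpace.yon_obj _) (IsAlgSpace.yon_obj _)
  let r := hXi.lift (pullback.fst (pullback.snd f₀ a) ((yon S).map (w m)) ≫ pullback.fst f₀ a)
    (pullback.snd (pullback.snd f₀ a) ((yon S).map (w m)) ≫ l)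
    (by rw [Category.assoc, Category.assoc, sql.w]; exact (sq2.paste_horiz sqA).w)
  have sqr : IsPullback r (pullback.snd (pullback.snd f₀ a) ((yon S).map (w m))) fi l := by
    refine IsPullback.of_right (h₁₂ := pXi) (h₂₂ := pYi) ?_ (hXi.lift_snd _ _ _) hXi
    rw [hXi.lift_fst, sql.w]
    exact sq2.paste_horiz sqA
  refine isProperMor_of_chart hXiA hYiA ((repWith_isStableUnderBaseChange _).of_isPullback sql.flip hae)
    ((repWith_isStableUnderBaseChange _).of_isPullback sql.flip has) sqr ?_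
  let νm := sq2.lift ((yon S).map am ≫ ν) ((yon S).map bm) (by rw [Category.assoc]; exact sqmy.w)
  have hνm : IsSurjectiveMor νm := by
    refine isSurjectiveMor_baseChange (f := ν) (g := pullback.fst (pullback.snd f₀ a) ((yon S).map (w m)))
      (fst := (yon S).map am) ?_ hνs
    refine IsPullback.of_bot ?_ (sq2.lift_fst _ _ _).symm sq2
    rw [sq2.lift_snd]; exact sqmy
  have hcomp : IsProperMor (νm ≫ pullback.snd (pullback.snd f₀ a) ((yon S).map (w m))) := by
    rw [sq2.lift_snd]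
    exact (isProperMor_yon_map_iff bm).2 hbm
  exact ⟨SpPts86.isSeparatedMor_of_isPullback sqr hfis,
    ⟨locP_baseChange sq2 hX₁ (IsAlgSpace.yon_obj V) (IsAlgSpace.yon_obj _) hf₁,
      isQuasiCompactMor_of_surjective_comp (IsAlgSpace.yon_obj Qm) hP2 (IsAlgSpace.yon_obj _) hcomp.2.1.2 hνm⟩,
    isUnivClosedMor_of_surjective_comp hcomp.2.2 hνm⟩

end Groth.Agent.SpPts86
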