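import Groth.Agent.S9208
import Groth.Agent.SpPts86.Props
import Groth.Agent.SpFP87.LocP
import Groth.Agent.SpFP87.EtLocInst

/-!
The surjectivity criterion for being locally of finite presentation.
-/

universe u

set_option autoImplicit false
set_option backward.isDefEq.respectTransparency false
set_option linter.style.haveILetI false

open CategoryTheory CategoryTheory.Limits AlgebraicGeometry
open AlgSp Groth.Agent.SpFP87

namespace Groth.Agent.SpPts86

variable {S : Scheme.{u}} {X Y : Sp S}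

theorem locP_lfp_of_lifts (hX : IsAlgSpace X) (hY : IsAlgSpace Y) (f : X ⟶ Y)
    (h : ∀ ⦃I : Type u⦄ [SmallCategory I] [IsCofiltered I] (D : I ⥤ Over S) (c : Cone D),
      IsLimit ((Over.forget S).mapCone c) → (∀ i, IsAffine (D.obj i).left) → IsAffine c.pt.left →
      ∀ (x : (yon S).obj c.pt ⟶ X) (i : I) (y : (yon S).obj (D.obj i) ⟶ Y),
        x ≫ f = (yon S).map (c.π.app i) ≫ y →
        ∃ (i' : I) (φ : i' ⟶ i) (x' : (yon S).obj (D.obj i') ⟶ X),
          (yon S).map (c.π.app i') ≫ x' = x ∧ x' ≫ f = (yon S).map (D.map φ) ≫ y) :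
    LocP @LocallyOfFinitePresentation f := by
  intro U V a b m ha hb w
  refine Groth.Agent.S9208.result m.left fun J _ _ _ D t c hc hD j₀ g hg => ?_
  haveI : IsCofiltered Jᵒᵖ := inferInstance
  let DS : Jᵒᵖ ⥤ Over S :=
    { obj := fun j => Over.mk (t.app j ≫ V.hom)
      map := fun {j k} φ => Over.homMk (D.map φ) (by
        show D.map φ ≫ t.app k ≫ V.hom = t.app j ≫ V.hom
        exact (Category.assoc _ _ _).symm.trans
          (congrArg (· ≫ V.hom) ((t.naturality φ).trans (Category.comp_id _))))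
      map_id := fun j => Over.OverMorphism.ext (D.map_id j)
      map_comp := fun φ ψ => Over.OverMorphism.ext (D.map_comp φ ψ) }
  have hcon : ∀ j, c.π.app j ≫ t.app j = c.π.app j₀ ≫ t.app j₀ := fun j => by
    obtain ⟨k, p, q, -⟩ := IsCofilteredOrEmpty.cone_objs j j₀
    rw [← c.w p, ← c.w q, Category.assoc, Category.assoc, t.naturality, t.naturality]
    rfl
  let cS : Cone DS :=
    { pt := Over.mk (c.π.app j₀ ≫ t.app j₀ ≫ V.hom)
      π := { app := fun j => Over.homMk (c.π.app j) (by
              show c.π.app j ≫ t.app j ≫ V.hom = c.π.app j₀ ≫ t.app j₀ ≫ V.hom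
              rw [← Category.assoc, hcon, Category.assoc])
             naturality := fun j k φ => Over.OverMorphism.ext (c.π.naturality φ) } }
  have hcS : IsLimit ((Over.forget S).mapCone cS) :=
    hc.ofIsoLimit (Cone.ext (Iso.refl _) fun j => (Category.id_comp _).symm)
  haveI : ∀ j, IsAffine (D.obj j) := hD
  haveI : ∀ {j k : Jᵒᵖ} (φ : j ⟶ k), IsAffineHom (D.map φ) := fun φ => isAffineHom_of_isAffine _
  haveI : IsAffineHom (c.π.app j₀) := isAffineHom_π_app D c hc j₀
  haveI hptA : IsAffine cS.pt.left := show IsAffine c.pt from isAffine_of_isAffineHom (c.π.app j₀)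
  let tS : ∀ j, DS.obj j ⟶ V := fun j => Over.homMk (t.app j) rfl
  let gS : cS.pt ⟶ U := Over.homMk g (by
    show g ≫ U.hom = c.π.app j₀ ≫ t.app j₀ ≫ V.hom
    rw [← Over.w m, ← Category.assoc, hg, Category.assoc])
  have hgm : ∀ j, gS ≫ m = cS.π.app j ≫ tS j := fun j =>
    Over.OverMorphism.ext (hg.trans (hcon j).symm)
  obtain ⟨i, φ₀, x', hx₁, hx₂⟩ := h DS cS hcS hD hptA ((yon S).map gS ≫ a) j₀ ((yon S).map (tS j₀) ≫ b) (by
    rw [Category.assoc, w, ← Functor.map_comp_assoc, hgm j₀, Functor.map_comp_assoc])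
  have htS : ∀ {j k : Jᵒᵖ} (φ : j ⟶ k), DS.map φ ≫ tS k = tS j := fun φ =>
    Over.OverMorphism.ext ((t.naturality φ).trans (Category.comp_id _))
  rw [← Functor.map_comp_assoc, htS φ₀] at hx₂
  -- the two étale auxiliary schemes
  obtain ⟨W, p, q, sqW⟩ := exists_isPullback_yon hX.diag a x'
  obtain ⟨R, r₁, r₂, sqR⟩ := exists_isPullback_yon hY.diag b b
  obtain ⟨Δ, hΔ⟩ := (yon S).map_surjective (sqR.lift (𝟙 _) (𝟙 _) rfl)
  have hΔ₁ : Δ ≫ r₁ = 𝟙 V := (yon S).map_injective (by
    rw [Functor.map_comp, hΔ, sqR.lift_fst, CategoryTheory.Functor.map_id])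
  have hΔ₂ : Δ ≫ r₂ = 𝟙 V := (yon S).map_injective (by
    rw [Functor.map_comp, hΔ, sqR.lift_snd, CategoryTheory.Functor.map_id])
  haveI : Etale r₁.left := etale_snd_of_isPullback sqR.flip hb
  haveI : Etale Δ.left := by
    have : Etale (Δ.left ≫ r₁.left) := by
      rw [← Over.comp_left, hΔ₁]; exact inferInstanceAs (Etale (𝟙 V.left))
    exact Etale.of_comp Δ.left r₁.left
  haveI : Etale q.left := etale_snd_of_isPullback sqW ha
  obtain ⟨e, he⟩ := (yon S).map_surjective (sqR.lift ((yon S).map (p ≫ m)) ((yon S).map (q ≫ tS i)) (by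
    rw [Functor.map_comp, Category.assoc, ← w, reassoc_of% sqW.w, hx₂, Functor.map_comp_assoc]))
  have he₁ : e ≫ r₁ = p ≫ m := (yon S).map_injective (by rw [Functor.map_comp, he, sqR.lift_fst])
  have he₂ : e ≫ r₂ = q ≫ tS i := (yon S).map_injective (by rw [Functor.map_comp, he, sqR.lift_snd])
  let fE : pullback e Δ ⟶ DS.obj i := pullback.fst e Δ ≫ q
  haveI : Etale (pullback.fst e Δ).left :=
    MorphismProperty.of_isPullback (P := @Etale) ((IsPullback.of_hasPullback e Δ).flip.map (Over.forget S))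
      ‹Etale Δ.left›
  haveI : Etale fE.left := inferInstanceAs (Etale ((pullback.fst e Δ).left ≫ q.left))
  -- the point over the limit
  obtain ⟨s₁, hs₁⟩ := (yon S).map_surjective (sqW.lift ((yon S).map gS) ((yon S).map (cS.π.app i))
    (by rw [hx₁]))
  have hs₁p : s₁ ≫ p = gS := (yon S).map_injective (by rw [Functor.map_comp, hs₁, sqW.lift_fst])
  have hs₁q : s₁ ≫ q = cS.π.app i := (yon S).map_injective (by rw [Functor.map_comp, hs₁, sqW.lift_snd])
  let sE : cS.pt ⟶ pullback e Δ := pullback.lift s₁ (gS ≫ m) (by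
    apply (yon S).map_injective
    apply sqR.hom_ext
    · rw [← Functor.map_comp, ← Functor.map_comp, Category.assoc, Category.assoc, he₁, hΔ₁, Category.comp_id,
        reassoc_of% hs₁p]
    · rw [← Functor.map_comp, ← Functor.map_comp, Category.assoc, Category.assoc, he₂, hΔ₂, Category.comp_id,
        reassoc_of% hs₁q, hgm i])
  have hsE : sE ≫ fE = cS.π.app i := by
    show sE ≫ pullback.fst e Δ ≫ q = _
    rw [pullback.lift_fst_assoc, hs₁q]
  -- descend it
  let D' : Over i ⥤ Scheme.{u} := Over.forget i ⋙ D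
  let c' : Cone D' := c.whisker (Over.forget i)
  have hc' : IsLimit c' := (Functor.Initial.isLimitWhiskerEquiv (Over.forget i) c).symm hc
  let t' : D' ⟶ (Functor.const (Over i)).obj (DS.obj i).left :=
    { app := fun k => D.map k.hom
      naturality := fun k l ψ => by
        show D.map ψ.left ≫ D.map l.hom = D.map k.hom ≫ 𝟙 _
        exact (D.map_comp _ _).symm.trans ((congrArg D.map (Over.w ψ)).trans (Category.comp_id _).symm) }
  haveI : ∀ k : Over i, CompactSpace ↥(D'.obj k) := fun k => by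
    haveI := hD k.left; exact inferInstanceAs (CompactSpace ↥(D.obj k.left))
  haveI : ∀ k : Over i, QuasiSeparatedSpace ↥(D'.obj k) := fun k => by
    haveI := hD k.left; exact inferInstanceAs (QuasiSeparatedSpace ↥(D.obj k.left))
  haveI : ∀ k : Over i, IsAffine (D'.obj k) := fun k => hD k.left
  haveI : ∀ {k l : Over i} (ψ : k ⟶ l), IsAffineHom (D'.map ψ) := fun ψ => isAffineHom_of_isAffine _
  haveI : LocallyOfFinitePresentation fE.left := inferInstance
  obtain ⟨k, s, hs, hsf⟩ := Scheme.exists_π_app_comp_eq_of_locallyOfFinitePresentation D' t' fE.left c' hc'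
    sE.left (by
      ext k : 2
      show c.π.app k.left ≫ D.map k.hom = sE.left ≫ fE.left
      rw [c.w, ← Over.comp_left, hsE]
      rfl)
  refine ⟨k.left, s ≫ (pullback.fst e Δ).left ≫ p.left, ?_, ?_⟩
  · have h₁ : pullback.fst e Δ ≫ p ≫ m = pullback.fst e Δ ≫ q ≫ tS i := by
      rw [← he₁, ← he₂, pullback.condition_assoc, pullback.condition_assoc, hΔ₁, hΔ₂]
    have h₂ := congrArg CommaMorphism.left h₁
    show (s ≫ (pullback.fst e Δ).left ≫ p.left) ≫ m.left = t.app k.left
    rw [Category.assoc, Category.assoc]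
    have h₃ : (pullback.fst e Δ).left ≫ p.left ≫ m.left = fE.left ≫ t.app i := h₂.trans (Category.assoc _ _ _).symm
    rw [h₃, ← Category.assoc, hsf]
    exact (t.naturality k.hom).trans (Category.comp_id _)
  · show c.π.app k.left ≫ s ≫ (pullback.fst e Δ).left ≫ p.left = g
    rw [← Category.assoc, show c.π.app k.left ≫ s = sE.left from hs]
    show (sE ≫ pullback.fst e Δ ≫ p).left = g
    rw [pullback.lift_fst_assoc, hs₁p]
    rfl

end Groth.Agent.SpPts86
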