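import Groth.Agent.SpPts86.LimPresLoc
import Mathlib.CategoryTheory.Sites.LocallyBijective
import Mathlib.CategoryTheory.Sites.Over

/-!
Sheafification preserves relatively limit preserving maps.
-/

universe u

set_option autoImplicit false
set_option linter.style.haveILetI false
set_option backward.isDefEq.respectTransparency false

open CategoryTheory CategoryTheory.Limits AlgebraicGeometry Opposite
open AlgSp Groth.Agent.ShLim95

namespace Groth.Agent.SpPts86

variable {S : Scheme.{u}}

/-- A covering sieve over a base restricts to a covering sieve of the slice. -/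
theorem mem_J_map {S' : Scheme.{u}} (g : S' ⟶ S) {W : Over S'} {R : Sieve ((Over.map g).obj W)}
    (hR : R ∈ J S ((Over.map g).obj W)) : Sieve.functorPullback (Over.map g) R ∈ J S' W := by
  rw [GrothendieckTopology.mem_over_iff] at hR ⊢
  refine GrothendieckTopology.superset_covering _ ?_ hR
  intro Z f hf
  rw [Sieve.overEquiv_iff] at hf ⊢
  show R ((Over.map g).map (Over.homMk f : Over.mk (f ≫ W.hom) ⟶ W))
  have e : (Over.map g).map (Over.homMk f : Over.mk (f ≫ W.hom) ⟶ W) =
      (Over.homMk (𝟙 Z) ((Category.id_comp _).trans (Category.assoc _ _ _).symm) :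
        (Over.map g).obj (Over.mk (f ≫ W.hom)) ⟶ Over.mk (f ≫ ((Over.map g).obj W).hom)) ≫
        (Over.homMk f : Over.mk (f ≫ ((Over.map g).obj W).hom) ⟶ (Over.map g).obj W) :=
    Over.OverMorphism.ext (Category.id_comp _).symm
  rw [e]
  exact R.downward_closed hf _

/-- The fibre presheaf over a pulled back section. -/
noncomputable def fiberFunMapIso {F G : PSp S} (a : F ⟶ G) {T T' : Over S} (v : T' ⟶ T) (y : G.obj (op T)) :
    (Over.map v.left).op ⋙ fiberFun a T y ≅ fiberFun a T' (G.map v.op y) :=
  let θ : ∀ W : Over T'.left, (Over.map T'.hom).obj W ⟶ (Over.map T.hom).obj ((Over.map v.left).obj W) := fun W =>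
    Over.homMk (𝟙 _) (by simp [Over.w v])
  let θ' : ∀ W : Over T'.left, (Over.map T.hom).obj ((Over.map v.left).obj W) ⟶ (Over.map T'.hom).obj W := fun W =>
    Over.homMk (𝟙 _) (by simp [Over.w v])
  have h₁ : ∀ W, θ W ≫ overHom T ((Over.map v.left).obj W) = overHom T' W ≫ v := fun W => by ext; simp [θ]
  have h₂ : ∀ W, θ' W ≫ overHom T' W ≫ v = overHom T ((Over.map v.left).obj W) := fun W => by ext; simp [θ']
  have e₁ : ∀ W, θ W ≫ θ' W = 𝟙 _ := fun W => by ext; simp [θ, θ']
  have e₂ : ∀ W, θ' W ≫ θ W = 𝟙 _ := fun W => by ext; simp [θ, θ']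
  NatIso.ofComponents (fun W => Equiv.toIso
    { toFun := fun x => ⟨F.map (θ W.unop).op x.1,
        (NatTrans.naturality_apply a (θ W.unop).op x.1).trans ((congrArg (G.map (θ W.unop).op) x.2).trans
          ((map_map _ _ y).trans ((congrArg (fun q => G.map q.op y) (h₁ W.unop)).trans (map_map _ _ y).symm)))⟩
      invFun := fun x => ⟨F.map (θ' W.unop).op x.1,
        (NatTrans.naturality_apply a (θ' W.unop).op x.1).trans ((congrArg (G.map (θ' W.unop).op) x.2).trans
          ((congrArg (G.map (θ' W.unop).op) (map_map _ _ y)).trans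
            ((map_map _ _ y).trans (congrArg (fun q => G.map q.op y) (h₂ W.unop)))))⟩
      left_inv := fun x => Subtype.ext (by
        show F.map (θ' W.unop).op (F.map (θ W.unop).op x.1) = x.1
        rw [map_map, e₂]; exact FunctorToTypes.map_id_apply F _)
      right_inv := fun x => Subtype.ext (by
        show F.map (θ W.unop).op (F.map (θ' W.unop).op x.1) = x.1
        rw [map_map, e₁]; exact FunctorToTypes.map_id_apply F _) })
    (fun {W W'} g => by
      ext x : 3
      apply Subtype.ext
      show F.map (θ W'.unop).op (F.map ((Over.map T.hom).map ((Over.map v.left).map g.unop)).op x.1) =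
        F.map ((Over.map T'.hom).map g.unop).op (F.map (θ W.unop).op x.1)
      exact map_congr (by ext; simp [θ]) _)

/-- The fibre of a map of sheaves is a sheaf. -/
theorem isSheaf_fiberFun {F G : PSp S} (hF : Presieve.IsSheaf (J S) F) (hG : Presieve.IsSheaf (J S) G)
    (a : F ⟶ G) (T : Over S) (y : G.obj (op T)) : Presieve.IsSheaf (J T.left) (fiberFun a T y) := by
  intro W R hR x hx
  let FT : Sheaf (J T.left) (Type (u + 1)) := (Scheme.fppfTopology.overMapPullback _ T.hom).obj
    ⟨F, (isSheaf_iff_isSheaf_of_type _ _).2 hF⟩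
  let GT : Sheaf (J T.left) (Type (u + 1)) := (Scheme.fppfTopology.overMapPullback _ T.hom).obj
    ⟨G, (isSheaf_iff_isSheaf_of_type _ _).2 hG⟩
  have hFT := (isSheaf_iff_isSheaf_of_type _ _).1 FT.property R hR
  have hGT := (isSheaf_iff_isSheaf_of_type _ _).1 GT.property R hR
  let x' : Presieve.FamilyOfElements FT.obj R.arrows := fun V f hf => (x f hf).1
  have hx' : x'.Compatible := fun V₁ V₂ Z g₁ g₂ f₁ f₂ h₁ h₂ e =>
    congrArg Subtype.val (hx g₁ g₂ h₁ h₂ e)
  obtain ⟨t, ht, htu⟩ := hFT x' hx'
  have ht' : a.app (op ((Over.map T.hom).obj W)) t = G.map (overHom T W).op y :=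
    hGT.isSeparatedFor.ext fun V f hf => by
      show G.map ((Over.map T.hom).map f).op (a.app _ t) =
        G.map ((Over.map T.hom).map f).op (G.map (overHom T W).op y)
      rw [← NatTrans.naturality_apply, show F.map ((Over.map T.hom).map f).op t = (x f hf).1 from ht f hf,
        (x f hf).2, map_map, map_comp_overHom]
  refine ⟨⟨t, ht'⟩, fun V f hf => Subtype.ext (ht f hf), fun s hs => Subtype.ext (htu s.1 fun V f hf => ?_)⟩
  exact congrArg Subtype.val (hs f hf)

/-- The fibre of the sheafified map over a section coming from the presheaf. -/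
theorem isLimitPreserving_fiber_eta {F G : PSp S} (a : F ⟶ G) (ha : IsRelLimitPreserving a) (T : Over S)
    (y : G.obj (op T)) :
    IsLimitPreserving (fiberFun (((presheafToSheaf (AlgSp.J S) (Type (u + 1))).map a).hom) T
      ((eta (@Flat ⊓ @LocallyOfFinitePresentation) G).app (op T) y)) := by
  let A := ((presheafToSheaf (AlgSp.J S) (Type (u + 1))).map a).hom
  let ηF := toSheafify (AlgSp.J S) F
  let ηG := toSheafify (AlgSp.J S) G
  haveI : Presheaf.IsLocallyInjective (AlgSp.J S) ηF := inferInstance
  haveI : Presheaf.IsLocallyInjective (AlgSp.J S) ηG := inferInstance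
  haveI : Presheaf.IsLocallySurjective (AlgSp.J S) ηF := inferInstance
  have hnat : ∀ (W : Over S) (x : F.obj (op W)), A.app _ (ηF.app _ x) = ηG.app _ (a.app _ x) := fun W x =>
    (ConcreteCategory.congr_hom (NatTrans.congr_app (toSheafify_naturality (AlgSp.J S) a) (op W)) x).symm
  let K := fiberFun a T y
  let H := fiberFun A T (ηG.app (op T) y)
  let φ : K ⟶ H :=
    { app := fun W => ↾fun x => ⟨ηF.app _ x.1, by
        refine (hnat _ x.1).trans ?_
        rw [x.2, NatTrans.naturality_apply]⟩
      naturality := fun W W' g => by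
        ext x : 3
        apply Subtype.ext
        exact NatTrans.naturality_apply ηF ((Over.map T.hom).map g.unop).op x.1 }
  have hinj : Presheaf.IsLocallyInjective (J T.left) φ := ⟨fun {W} x x' h => by
    have := mem_J_map T.hom (Presheaf.equalizerSieve_mem (AlgSp.J S) ηF
      (X := op ((Over.map T.hom).obj W.unop)) x.1 x'.1 (congrArg Subtype.val h))
    refine GrothendieckTopology.superset_covering _ ?_ this
    intro V f hf
    exact Subtype.ext hf⟩
  have hsurj : Presheaf.IsLocallySurjective (J T.left) φ := ⟨fun {W} s => by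
    have h1 := mem_J_map T.hom (Presheaf.imageSieve_mem (AlgSp.J S) ηF (U := op ((Over.map T.hom).obj W)) s.1)
    refine GrothendieckTopology.transitive _ h1 _ fun V f hf => ?_
    obtain ⟨x, hx⟩ := hf
    have he : ηG.app _ (a.app _ x) = ηG.app _ (G.map (overHom T V).op y) := by
      refine (hnat _ x).symm.trans ((congrArg (A.app _) hx).trans ?_)
      refine (NatTrans.naturality_apply A ((Over.map T.hom).map f).op s.1).trans ?_
      refine (congrArg _ s.2).trans ?_
      refine (map_map _ _ _).trans ?_
      rw [map_comp_overHom]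
      exact (NatTrans.naturality_apply ηG (overHom T V).op y).symm
    have h2 := mem_J_map T.hom (Presheaf.equalizerSieve_mem (AlgSp.J S) ηG
      (X := op ((Over.map T.hom).obj V)) _ _ he)
    refine GrothendieckTopology.superset_covering _ ?_ h2
    intro V' f' hf'
    have hf'' : G.map ((Over.map T.hom).map f').op (a.app _ x) =
        G.map ((Over.map T.hom).map f').op (G.map (overHom T V).op y) := hf'
    refine ⟨⟨F.map ((Over.map T.hom).map f').op x, by
      rw [NatTrans.naturality_apply, hf'', map_map, map_comp_overHom]⟩, Subtype.ext ?_⟩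
    show ηF.app _ (F.map ((Over.map T.hom).map f').op x) = _
    refine (NatTrans.naturality_apply ηF ((Over.map T.hom).map f').op x).trans ((congrArg _ hx).trans ?_)
    refine (map_map _ _ s.1).trans ?_
    rw [← Functor.map_comp]
    rfl⟩
  have hW : (J T.left).W φ := GrothendieckTopology.W_of_isLocallyBijective _ φ
  haveI : IsIso ((presheafToSheaf (J T.left) (Type (u + 1))).map φ) :=
    (GrothendieckTopology.W_iff _ φ).1 hW
  have hH : Presheaf.IsSheaf (J T.left) H := (isSheaf_iff_isSheaf_of_type _ _).2
    (isSheaf_fiberFun (Groth.Agent.ShLim95.isSheaf _ F) (Groth.Agent.ShLim95.isSheaf _ G) A T _)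
  refine IsLimitPreserving.of_iso
    (isLimitPreserving_shF (P := @Flat ⊓ @LocallyOfFinitePresentation) good_fppf (ha T y)) ?_
  exact (sheafToPresheaf _ _).mapIso (asIso ((presheafToSheaf (J T.left) (Type (u + 1))).map φ)) ≪≫
    (isoSheafify (J T.left) hH).symm

theorem isRelLimitPreserving_sheafify {F G : PSp S} (a : F ⟶ G) (ha : IsRelLimitPreserving a) :
    IsRelLimitPreserving (((presheafToSheaf (AlgSp.J S) (Type (u + 1))).map a).hom) := by
  intro T y
  let ηG := toSheafify (AlgSp.J S) G
  haveI : Presheaf.IsLocallySurjective (AlgSp.J S) ηG := inferInstance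
  have hR := Presheaf.imageSieve_mem (AlgSp.J S) ηG (U := op T) y
  have : (@Flat ⊓ @LocallyOfFinitePresentation : MorphismProperty Scheme.{u}).IsStableUnderBaseChange :=
    MorphismProperty.IsStableUnderBaseChange.inf
  haveI := good_fppf.{u}.comp
  haveI : (@Flat ⊓ @LocallyOfFinitePresentation : MorphismProperty Scheme.{u}).ContainsIdentities :=
    ⟨fun X => good_fppf.openImm (𝟙 X)⟩
  haveI : (Scheme.fppfPrecoverage : Precoverage Scheme.{u}).HasIsos :=
    inferInstanceAs ((Scheme.precoverage (@Flat ⊓ @LocallyOfFinitePresentation)).HasIsos)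
  rw [GrothendieckTopology.mem_over_iff] at hR
  obtain ⟨Rp, hRp, hRS⟩ := Precoverage.mem_toGrothendieck_iff_of_isStableUnderComposition.1 hR
  obtain ⟨ι, Y, f, rfl⟩ := Presieve.exists_eq_ofArrows Rp
  obtain ⟨hsurj, hprop⟩ := (AlgebraicGeometry.Scheme.ofArrows_mem_precoverage_iff _).1 hRp
  -- shrink the index
  have hpt : ∀ x : ↥T.left, ∃ i, x ∈ Set.range (f i).base := fun x => hsurj x
  choose i hi using hpt
  refine isLimitPreserving_of_local
    (isSheaf_fiberFun (Groth.Agent.ShLim95.isSheaf _ F) (Groth.Agent.ShLim95.isSheaf _ G) _ T y)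
    (U := fun x : ↥T.left => Over.mk (f (i x))) ?_ fun x => ?_
  · exact mem_J_of_jointly_surjective _ _ (fun x => (hprop (i x)).1) (fun x => (hprop (i x)).2)
      fun x => ⟨x, hi x⟩
  · let v : Over.mk (f (i x) ≫ T.hom) ⟶ T := Over.homMk (f (i x)) rfl
    have hv := (Sieve.overEquiv_iff _ _).1 (hRS _ _ ⟨i x⟩)
    obtain ⟨y', hy'⟩ := hv
    refine IsLimitPreserving.of_iso ?_ (fiberFunMapIso _ v y).symm
    have := isLimitPreserving_fiber_eta a ha (Over.mk (f (i x) ≫ T.hom)) y'
    rw [show ((presheafToSheaf (AlgSp.J S) (Type (u + 1))).obj G).obj.map v.op y = ηG.app _ y' from hy'.symm]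
    exact this

end Groth.Agent.SpPts86
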