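import Groth.Agent.SpPts86.LimPres
import Groth.Agent.SpPts86.RelLimSheaf
import Groth.Agent.SpPts86.Target
import Groth.Agent.SpPts86.LfpCrit
import Mathlib.CategoryTheory.Subfunctor.Image

/-!
A morphism of algebraic spaces is locally of finite presentation iff it is relatively limit preserving.
-/

universe u

set_option autoImplicit false
set_option backward.isDefEq.respectTransparency false
set_option linter.style.haveILetI false

open CategoryTheory CategoryTheory.Limits AlgebraicGeometry Opposite
open AlgSp Groth.Agent.SpFP87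

namespace Groth.Agent.SpPts86

variable {S : Scheme.{u}}

theorem uE_comp_hom {F G : Sp S} {T : Over S} (x : (yon S).obj T ⟶ F) (f : F ⟶ G) :
    uE (x ≫ f) = f.hom.app (op T) (uE x) := rfl

theorem uE_map_comp {F : Sp S} {T T' : Over S} (g : T' ⟶ T) (x : (yon S).obj T ⟶ F) :
    uE ((yon S).map g ≫ x) = F.obj.map g.op (uE x) :=
  (GrothendieckTopology.uliftYonedaEquiv_naturality _ x g).symm

theorem uE_map_symm {F : Sp S} {T T' : Over S} (g : T' ⟶ T) (z : F.obj.obj (op T)) :
    uE ((yon S).map g ≫ uE.symm z) = F.obj.map g.op z := by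
  rw [uE_map_comp, Equiv.apply_symm_apply]

theorem relLP_of_isIso {F G : PSp S} (a : F ⟶ G) [IsIso a] : RelLP a := by
  intro I _ _ D c _ _ _
  have hl : ∀ (T : Over S) (x : F.obj (op T)), (inv a).app _ (a.app _ x) = x := fun T x =>
    ConcreteCategory.congr_hom (NatTrans.congr_app (IsIso.hom_inv_id a) (op T)) x
  have hr : ∀ (T : Over S) (x : G.obj (op T)), a.app _ ((inv a).app _ x) = x := fun T x =>
    ConcreteCategory.congr_hom (NatTrans.congr_app (IsIso.inv_hom_id a) (op T)) x
  refine ⟨fun i x y e => ⟨i, 𝟙 i, (inv a).app _ y, ?_, ?_⟩, fun i x x' e _ => ⟨i, 𝟙 i, ?_⟩⟩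
  · rw [hr, D.map_id, op_id, Functor.map_id_apply]
  · exact (NatTrans.naturality_apply (inv a) (c.π.app i).op y).symm.trans ((congrArg _ e.symm).trans (hl _ x))
  · rw [← hl _ x, e, hl]

/-- A map representable by schemes locally of finite presentation is relatively limit preserving. -/
theorem relLP_of_repWith {F G : Sp S} (a : F ⟶ G) (ha : RepWith @LocallyOfFinitePresentation a) :
    RelLP a.hom := by
  intro I _ _ D c hc hD hT
  let D' : ∀ i : I, Over i ⥤ Scheme.{u} := fun i => Over.forget i ⋙ D ⋙ Over.forget S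
  let t' : ∀ i, D' i ⟶ (Functor.const (Over i)).obj (D.obj i).left := fun i =>
    { app := fun k => (D.map k.hom).left
      naturality := fun k l ψ => by
        show (D.map ψ.left).left ≫ (D.map l.hom).left = (D.map k.hom).left ≫ 𝟙 _
        rw [← Over.comp_left, ← D.map_comp, Over.w ψ, Category.comp_id] }
  let c' : ∀ i, Cone (D' i) := fun i => ((Over.forget S).mapCone c).whisker (Over.forget i)
  have hc' : ∀ i, IsLimit (c' i) := fun i =>
    (Functor.Initial.isLimitWhiskerEquiv (Over.forget i) ((Over.forget S).mapCone c)).symm hc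
  haveI : ∀ i (k : Over i), IsAffine ((D' i).obj k) := fun i k => hD k.left
  haveI : ∀ i {k l : Over i} (ψ : k ⟶ l), IsAffineHom ((D' i).map ψ) :=
    fun i k l ψ => isAffineHom_of_isAffine _
  haveI : ∀ i (k : Over i), CompactSpace ↥((D' i).obj k) := fun i k => inferInstance
  haveI : ∀ i (k : Over i), QuasiSeparatedSpace ↥((D' i).obj k) := fun i k => inferInstance
  refine ⟨fun i x y e => ?_, fun i x x' e e' => ?_⟩
  · obtain ⟨W, q, p, sq⟩ := ha.rep (uE.symm y)
    haveI : LocallyOfFinitePresentation q.left := ha.property _ _ _ sq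
    obtain ⟨s, hs⟩ := (yon S).map_surjective (sq.lift (uE.symm x) ((yon S).map (c.π.app i)) (by
      apply uE.injective
      exact (uE_comp_hom _ a).trans ((congrArg (a.hom.app _) (Equiv.apply_symm_apply uE x)).trans
        (e.trans (uE_map_symm (c.π.app i) y).symm))))
    have hsq : s ≫ q = c.π.app i := (yon S).map_injective (by rw [Functor.map_comp, hs, sq.lift_snd])
    have hsp : (yon S).map s ≫ p = uE.symm x := by rw [hs, sq.lift_fst]
    obtain ⟨k, g, hg, hg'⟩ := Scheme.exists_π_app_comp_eq_of_locallyOfFinitePresentation (D' i) (t' i)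
      q.left (c' i) (hc' i) s.left (by
        ext k : 2
        show (c.π.app k.left).left ≫ (D.map k.hom).left = s.left ≫ q.left
        rw [← Over.comp_left, ← Over.comp_left, c.w, hsq])
    let gS : D.obj k.left ⟶ W := Over.homMk g (by
      rw [← Over.w q, ← Category.assoc, hg']
      exact Over.w (D.map k.hom))
    have hgq : gS ≫ q = D.map k.hom := Over.OverMorphism.ext hg'
    have hgs : c.π.app k.left ≫ gS = s := Over.OverMorphism.ext hg
    refine ⟨k.left, k.hom, uE ((yon S).map gS ≫ p), ?_, ?_⟩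
    · rw [← uE_comp_hom, Category.assoc, sq.w, ← Functor.map_comp_assoc, hgq, uE_map_symm]
    · exact (uE_map_comp (c.π.app k.left) _).symm.trans ((congrArg uE ((Functor.map_comp_assoc (yon S) _ _ _).symm.trans
        ((congrArg (fun r => (yon S).map r ≫ p) hgs).trans hsp))).trans (Equiv.apply_symm_apply uE x))
  · obtain ⟨W, q, p, sq⟩ := ha.rep (uE.symm (a.hom.app _ x))
    haveI : LocallyOfFinitePresentation q.left := ha.property _ _ _ sq
    obtain ⟨σ, hσ⟩ := (yon S).map_surjective (sq.lift (uE.symm x) (𝟙 _) (by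
      apply uE.injective
      rw [uE_comp_hom, Equiv.apply_symm_apply, Category.id_comp, Equiv.apply_symm_apply]))
    obtain ⟨σ', hσ'⟩ := (yon S).map_surjective (sq.lift (uE.symm x') (𝟙 _) (by
      apply uE.injective
      rw [uE_comp_hom, Equiv.apply_symm_apply, Category.id_comp, Equiv.apply_symm_apply, e]))
    have h1 : σ ≫ q = 𝟙 _ := (yon S).map_injective (by
      rw [Functor.map_comp, hσ, sq.lift_snd, CategoryTheory.Functor.map_id])
    have h2 : σ' ≫ q = 𝟙 _ := (yon S).map_injective (by
      rw [Functor.map_comp, hσ', sq.lift_snd, CategoryTheory.Functor.map_id])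
    have h3 : c.π.app i ≫ σ = c.π.app i ≫ σ' := by
      apply (yon S).map_injective
      apply sq.hom_ext
      · apply uE.injective
        rw [Functor.map_comp, Functor.map_comp, Category.assoc, Category.assoc, hσ, hσ', sq.lift_fst,
          sq.lift_fst]
        exact (uE_map_symm (c.π.app i) x).trans (e'.trans (uE_map_symm (c.π.app i) x').symm)
      · rw [← Functor.map_comp, ← Functor.map_comp, Category.assoc, Category.assoc, h1, h2]
    let o : Over i := Over.mk (𝟙 i)
    obtain ⟨k, φ, hk⟩ := Scheme.exists_hom_comp_eq_comp_of_locallyOfFiniteType (D' i) (t' i) q.left (c' i)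
      (hc' i) (i := o) σ.left σ'.left
      ((congrArg CommaMorphism.left (D.map_id i)).trans (congrArg CommaMorphism.left h1).symm)
      ((congrArg CommaMorphism.left (D.map_id i)).trans (congrArg CommaMorphism.left h2).symm)
      (congrArg CommaMorphism.left h3)
    have hk' : D.map k.hom ≫ σ = D.map k.hom ≫ σ' := Over.OverMorphism.ext (by
      have hh : φ.left = k.hom := (Category.comp_id _).symm.trans (Over.w φ)
      rw [← hh]; exact hk)
    refine ⟨k.left, k.hom, ?_⟩
    have hx : ∀ (z : F.obj.obj (op (D.obj i))) (τ : D.obj i ⟶ W), (yon S).map τ ≫ p = uE.symm z →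
        F.obj.map (D.map k.hom).op z = uE ((yon S).map (D.map k.hom ≫ τ) ≫ p) := fun z τ h => by
      rw [Functor.map_comp_assoc, h, uE_map_symm]
    rw [hx x σ (by rw [hσ, sq.lift_fst]), hx x' σ' (by rw [hσ', sq.lift_fst]), hk']

/-- Relative limit preservation descends along a locally surjective map which is itself relatively limit
preserving. -/
theorem isRelLimitPreserving_of_locallySurjective {X Y U : Sp S} (π : U ⟶ X) (f : X ⟶ Y)
    [Sheaf.IsLocallySurjective π] (hπ : RelLP π.hom) (hπf : RelLP (π.hom ≫ f.hom)) :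
    IsRelLimitPreserving f.hom := by
  let P := Subfunctor.range π.hom
  have hP : RelLP (P.ι ≫ f.hom) := by
    intro I _ _ D c hc hD hT
    obtain ⟨s₁, i₁⟩ := hπ D c hc hD hT
    obtain ⟨s₂, i₂⟩ := hπf D c hc hD hT
    refine ⟨fun i x y e => ?_, fun i x x' e e' => ?_⟩
    · obtain ⟨u, hu⟩ := x.2
      obtain ⟨j, φ, u', h1, h2⟩ := s₂ i u y (by
        show f.hom.app _ (π.hom.app _ u) = _
        rw [hu]; exact e)
      refine ⟨j, φ, ⟨π.hom.app _ u', u', rfl⟩, h1, Subtype.ext ?_⟩
      exact (NatTrans.naturality_apply π.hom (c.π.app j).op u').symm.trans ((congrArg _ h2).trans hu)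
    · obtain ⟨u, hu⟩ := x.2
      obtain ⟨u', hu'⟩ := x'.2
      have ev : X.obj.map (c.π.app i).op x.1 = X.obj.map (c.π.app i).op x'.1 := congrArg Subtype.val e'
      obtain ⟨j, φ, v, h1, h2⟩ := s₁ i (U.obj.map (c.π.app i).op u') x.1
        ((NatTrans.naturality_apply π.hom (c.π.app i).op u').trans ((congrArg _ hu').trans ev.symm))
      have ef : f.hom.app _ x.1 = f.hom.app _ x'.1 := e
      obtain ⟨k, ψ, hk⟩ := i₂ j v (U.obj.map (D.map φ).op u') (by
        show f.hom.app _ (π.hom.app _ v) = f.hom.app _ (π.hom.app _ (U.obj.map (D.map φ).op u'))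
        rw [h1, NatTrans.naturality_apply π.hom, hu', NatTrans.naturality_apply f.hom,
          NatTrans.naturality_apply f.hom, ef])
        (h2.trans (map_map_eq _ _ _ (c.w φ) u').symm)
      refine ⟨k, ψ ≫ φ, Subtype.ext ?_⟩
      show X.obj.map (D.map (ψ ≫ φ)).op x.1 = X.obj.map (D.map (ψ ≫ φ)).op x'.1
      rw [D.map_comp, op_comp, Functor.map_comp_apply, Functor.map_comp_apply, ← h1, ← hu',
        ← NatTrans.naturality_apply π.hom, ← NatTrans.naturality_apply π.hom,
        ← NatTrans.naturality_apply π.hom, hk]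
  have hA := relLP_of_isRelLimitPreserving _
    (isRelLimitPreserving_sheafify _ (isRelLimitPreserving_of_relLP _ hP))
  haveI : Presheaf.IsLocallySurjective (AlgSp.J S) P.ι := by
    haveI : Presheaf.IsLocallySurjective (AlgSp.J S) (Subfunctor.toRange π.hom ≫ P.ι) := by
      rw [Subfunctor.toRange_ι]; infer_instance
    exact Presheaf.isLocallySurjective_of_isLocallySurjective (AlgSp.J S) (Subfunctor.toRange π.hom) P.ι
  have hW : (AlgSp.J S).W P.ι := GrothendieckTopology.W_of_isLocallyBijective _ P.ι
  haveI : IsIso ((presheafToSheaf (AlgSp.J S) (Type (u + 1))).map P.ι) := (GrothendieckTopology.W_iff _ P.ι).1 hW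
  let iX := isoSheafify (AlgSp.J S) X.property
  let iY := isoSheafify (AlgSp.J S) Y.property
  have hn : f.hom = iX.hom ≫ inv ((presheafToSheaf (AlgSp.J S) (Type (u + 1))).map P.ι).hom ≫
      ((presheafToSheaf (AlgSp.J S) (Type (u + 1))).map (P.ι ≫ f.hom)).hom ≫ iY.inv := by
    rw [Functor.map_comp, ObjectProperty.FullSubcategory.comp_hom]
    simp only [Category.assoc, IsIso.inv_hom_id_assoc]
    rw [← Category.assoc, Iso.eq_comp_inv]
    exact toSheafify_naturality (AlgSp.J S) f.hom
  rw [isRelLimitPreserving_iff_relLP, hn]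
  exact relLP_comp (relLP_of_isIso _) (relLP_comp (relLP_of_isIso _) (relLP_comp hA (relLP_of_isIso _)))

theorem isRelLimitPreserving_of_locP_lfp {X Y : Sp S} (hX : IsAlgSpace X) (hY : IsAlgSpace Y) (f : X ⟶ Y)
    (h : LocP @LocallyOfFinitePresentation f) : IsRelLimitPreserving f.hom := by
  obtain ⟨V, b, hb, hbs⟩ := hY.atlas
  obtain ⟨U, a, m, ha, has, w⟩ := exists_compatible_chart f hX hY.diag hb hbs
  have hm : LocallyOfFinitePresentation m.left := h a b m ha hb w
  haveI : Sheaf.IsLocallySurjective a := isLocallySurjective_of_locLift (locLift_of_atlas ha has)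
  have lfp_of_etale : ∀ {F G : Sp S} {g : F ⟶ G}, RepWith @Etale g → RepWith @LocallyOfFinitePresentation g :=
    fun hg => repWith_mono (fun _ _ g (hg : Etale g) => (inferInstance : LocallyOfFinitePresentation g)) hg
  refine isRelLimitPreserving_of_locallySurjective a f (relLP_of_repWith _ (lfp_of_etale ha)) ?_
  rw [← ObjectProperty.FullSubcategory.comp_hom, w, ObjectProperty.FullSubcategory.comp_hom]
  exact relLP_comp (relLP_of_repWith _ ((repWith_yon_map_iff _ m).2 hm)) (relLP_of_repWith _ (lfp_of_etale hb))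

theorem locP_lfp_iff_isRelLimitPreserving {X Y : Sp S} (hX : IsAlgSpace X) (hY : IsAlgSpace Y) (f : X ⟶ Y) :
    LocP @LocallyOfFinitePresentation f ↔ IsRelLimitPreserving f.hom := by
  refine ⟨isRelLimitPreserving_of_locP_lfp hX hY f, fun h => ?_⟩
  refine locP_lfp_of_lifts hX hY f fun I _ _ D c hc hD hT x i y e => ?_
  obtain ⟨hs, -⟩ := relLP_of_isRelLimitPreserving _ h D c hc hD hT
  obtain ⟨j, φ, x', h1, h2⟩ := hs i (uE x) (uE y)
    ((uE_comp_hom x f).symm.trans ((congrArg uE e).trans (uE_map_comp _ y)))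
  refine ⟨j, φ, uE.symm x', uE.injective ?_, uE.injective ?_⟩
  · exact (uE_map_symm _ x').trans h2
  · exact (uE_comp_hom _ f).trans ((congrArg _ (Equiv.apply_symm_apply uE x')).trans (h1.trans (uE_map_comp _ y).symm))

end Groth.Agent.SpPts86
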