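import Groth.Prelude.Def_AlgSpRep
import Mathlib.CategoryTheory.Filtered.Final
import Mathlib.CategoryTheory.Limits.Types.Filtered

/-!
Element-wise criteria for relative limit preservation of maps of presheaves.
-/

universe u

set_option autoImplicit false

open CategoryTheory CategoryTheory.Limits AlgebraicGeometry Opposite
open AlgSp

namespace Groth.Agent.SpPts86

variable {S : Scheme.{u}} {F G H : PSp S}

/-- Sections over a limit of affine schemes with image from a stage descend, uniquely up to going
further in the system. -/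
def RelLP (a : F ⟶ G) : Prop :=
  ∀ ⦃I : Type u⦄ [SmallCategory I] [IsCofiltered I] (D : I ⥤ Over S) (c : Cone D),
    IsLimit ((Over.forget S).mapCone c) → (∀ i, IsAffine (D.obj i).left) → IsAffine c.pt.left →
      (∀ (i : I) (x : F.obj (op c.pt)) (y : G.obj (op (D.obj i))),
        a.app _ x = G.map (c.π.app i).op y →
        ∃ (j : I) (f : j ⟶ i) (x' : F.obj (op (D.obj j))),
          a.app _ x' = G.map (D.map f).op y ∧ F.map (c.π.app j).op x' = x) ∧
      (∀ (i : I) (x x' : F.obj (op (D.obj i))), a.app _ x = a.app _ x' →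
        F.map (c.π.app i).op x = F.map (c.π.app i).op x' →
        ∃ (j : I) (f : j ⟶ i), F.map (D.map f).op x = F.map (D.map f).op x')

theorem map_map_eq {F : PSp S} {A B C : Over S} (f : B ⟶ A) (g : C ⟶ B) (h : C ⟶ A) (e : g ≫ f = h)
    (x : F.obj (op A)) : F.map g.op (F.map f.op x) = F.map h.op x := by
  rw [← Functor.map_comp_apply, ← op_comp, e]

theorem isRelLimitPreserving_of_relLP (a : F ⟶ G) (h : RelLP a) : IsRelLimitPreserving a := by
  intro T y I _ _ D c hc hD hT
  let M := Over.map T.hom
  have hc' : IsLimit ((Over.forget S).mapCone (M.mapCone c)) :=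
    IsLimit.ofIsoLimit (IsLimit.ofIsoLimit hc (Iso.refl _)) (Iso.refl _)
  obtain ⟨hsurj, hinj⟩ := h (D ⋙ M) (M.mapCone c) hc' hD hT
  refine ⟨Types.FilteredColimit.isColimitOf' _ _ (fun x => ?_) (fun i x x' e => ?_)⟩
  · let x₀ : {x : F.obj (op (M.obj c.pt)) // a.app _ x = G.map (overHom T c.pt).op y} := x
    obtain ⟨i⟩ : Nonempty I := IsCofiltered.nonempty
    obtain ⟨j, f, x', h1, h2⟩ := hsurj i x₀.1 (G.map (overHom T (D.obj i)).op y) (by
      exact x₀.2.trans (map_map_eq _ _ (overHom T c.pt) (map_comp_overHom T _) y).symm)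
    refine ⟨op j, ⟨x', ?_⟩, Subtype.ext h2.symm⟩
    exact h1.trans (map_map_eq _ _ (overHom T (D.obj j)) (map_comp_overHom T _) y)
  · obtain ⟨j, f, hf⟩ := hinj i.unop x.1 x'.1 (x.2.trans x'.2.symm) (congrArg Subtype.val e)
    exact ⟨op j, f.op, Subtype.ext hf⟩

theorem relLP_of_isRelLimitPreserving (a : F ⟶ G) (h : IsRelLimitPreserving a) : RelLP a := by
  intro I _ _ D c hc hD hT
  have key : ∀ (i : I) (y : G.obj (op (D.obj i))),
      (∀ x : F.obj (op c.pt), a.app _ x = G.map (c.π.app i).op y →
        ∃ (j : I) (f : j ⟶ i) (x' : F.obj (op (D.obj j))),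
          a.app _ x' = G.map (D.map f).op y ∧ F.map (c.π.app j).op x' = x) ∧
      (∀ x x' : F.obj (op (D.obj i)), a.app _ x = y → a.app _ x' = y →
        F.map (c.π.app i).op x = F.map (c.π.app i).op x' →
        ∃ (j : I) (f : j ⟶ i), F.map (D.map f).op x = F.map (D.map f).op x') := by
    intro i y
    let T := D.obj i
    let M := Over.map T.hom
    let D' : Over i ⥤ Over T.left :=
      { obj := fun j => Over.mk (D.map j.hom).left
        map := fun {j j'} g => Over.homMk (D.map g.left).left (by
          change (D.map g.left).left ≫ (D.map j'.hom).left = (D.map j.hom).left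
          rw [← Over.comp_left, ← Functor.map_comp, Over.w])
        map_id := fun j => Over.OverMorphism.ext (by
          change (D.map (𝟙 j.left)).left = _
          rw [D.map_id]; rfl)
        map_comp := fun g g' => Over.OverMorphism.ext (by
          change (D.map (g.left ≫ g'.left)).left = _
          rw [D.map_comp]; rfl) }
    let c' : Cone D' :=
      { pt := Over.mk (c.π.app i).left
        π := { app := fun j => Over.homMk (c.π.app j.left).left (by
                change (c.π.app j.left).left ≫ (D.map j.hom).left = (c.π.app i).left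
                rw [← Over.comp_left, c.w])
               naturality := fun j j' g => Over.OverMorphism.ext (by
                change 𝟙 _ ≫ (c.π.app j'.left).left = (c.π.app j.left).left ≫ (D.map g.left).left
                rw [Category.id_comp, ← Over.comp_left, c.w]) } }
    have hc' : IsLimit ((Over.forget T.left).mapCone c') :=
      IsLimit.ofIsoLimit ((Functor.Initial.isLimitWhiskerEquiv (Over.forget i) _).symm hc) (Iso.refl _)
    obtain ⟨hl⟩ := h T y D' c' hc' (fun j => hD j.left) hT
    let ε : ∀ j : Over i, M.obj (D'.obj j) ⟶ D.obj j.left := fun j =>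
      Over.homMk (𝟙 _) (by
        change 𝟙 _ ≫ (D.obj j.left).hom = (D.map j.hom).left ≫ T.hom
        rw [Category.id_comp, Over.w])
    let δ : ∀ j : Over i, D.obj j.left ⟶ M.obj (D'.obj j) := fun j =>
      Over.homMk (𝟙 _) (by
        change 𝟙 _ ≫ (D.map j.hom).left ≫ T.hom = (D.obj j.left).hom
        rw [Category.id_comp, Over.w])
    let εc : M.obj c'.pt ⟶ c.pt := Over.homMk (𝟙 _) (by
      change 𝟙 _ ≫ c.pt.hom = (c.π.app i).left ≫ T.hom
      rw [Category.id_comp, Over.w]; rfl)
    let δc : c.pt ⟶ M.obj c'.pt := Over.homMk (𝟙 _) (by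
      change 𝟙 _ ≫ (c.π.app i).left ≫ T.hom = c.pt.hom
      rw [Category.id_comp, Over.w]; rfl)
    refine ⟨fun x hx => ?_, fun x x' hx hx' e => ?_⟩
    · let x₀ : (fiberFun a T y).obj (op c'.pt) := ⟨F.map εc.op x, by
        rw [NatTrans.naturality_apply a, hx]
        refine map_map_eq _ _ _ (Over.OverMorphism.ext ?_) y
        exact Category.id_comp _⟩
      obtain ⟨⟨j⟩, x', hx'⟩ := Types.jointly_surjective_of_isColimit hl x₀
      let x₁ : {x : F.obj (op (M.obj (D'.obj j))) //
        a.app _ x = G.map (overHom T (D'.obj j)).op y} := x'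
      refine ⟨j.left, j.hom, F.map (δ j).op x₁.1, ?_, ?_⟩
      · rw [NatTrans.naturality_apply a, x₁.2]
        exact map_map_eq _ _ _ (Over.OverMorphism.ext (Category.id_comp _)) y
      · have h1 : F.map (M.map (c'.π.app j)).op x₁.1 = F.map εc.op x := congrArg Subtype.val hx'
        have h2 := congrArg (F.map δc.op) h1
        rw [map_map_eq εc δc (𝟙 _) (Over.OverMorphism.ext (Category.id_comp _)) x] at h2
        rw [op_id, Functor.map_id_apply] at h2
        refine Eq.trans ?_ h2
        rw [map_map_eq (δ j) (c.π.app j.left) (c.π.app j.left ≫ δ j) rfl,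
          map_map_eq (M.map (c'.π.app j)) δc (c.π.app j.left ≫ δ j) (Over.OverMorphism.ext ?_)]
        exact (Category.id_comp _).trans (Category.comp_id _).symm
    · let o : Over i := Over.mk (𝟙 i)
      have ho : ∀ z : F.obj (op (D.obj i)), a.app _ z = y →
          a.app _ (F.map (ε o).op z) = G.map (overHom T (D'.obj o)).op y := fun z hz => by
        refine (NatTrans.naturality_apply a _ z).trans ((congrArg (G.map (ε o).op) hz).trans ?_)
        congr 4
        refine Over.OverMorphism.ext ?_
        change 𝟙 _ = (D.map (𝟙 i)).left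
        rw [D.map_id]; rfl
      let z : (fiberFun a T y).obj (op (D'.obj o)) := ⟨F.map (ε o).op x, ho x hx⟩
      let z' : (fiberFun a T y).obj (op (D'.obj o)) := ⟨F.map (ε o).op x', ho x' hx'⟩
      have hz : (Functor.mapCocone (fiberFun a T y) c'.op).ι.app (op o) z =
          (Functor.mapCocone (fiberFun a T y) c'.op).ι.app (op o) z' := Subtype.ext (by
        change F.map (M.map (c'.π.app o)).op (F.map (ε o).op x) =
          F.map (M.map (c'.π.app o)).op (F.map (ε o).op x')
        have e' := congrArg (F.map εc.op) e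
        rw [map_map_eq (c.π.app i) εc _ rfl, map_map_eq (c.π.app i) εc _ rfl] at e'
        rw [map_map_eq (ε o) (M.map (c'.π.app o)) (εc ≫ c.π.app i) (Over.OverMorphism.ext
            ((Category.comp_id _).trans (Category.id_comp _).symm)),
          map_map_eq (ε o) (M.map (c'.π.app o)) (εc ≫ c.π.app i) (Over.OverMorphism.ext
            ((Category.comp_id _).trans (Category.id_comp _).symm))]
        exact e')
      obtain ⟨⟨j⟩, g, hg⟩ := (Types.FilteredColimit.isColimit_eq_iff' hl z z').1 hz
      have hg' : F.map (M.map (D'.map g.unop)).op (F.map (ε o).op x) =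
          F.map (M.map (D'.map g.unop)).op (F.map (ε o).op x') := congrArg Subtype.val hg
      refine ⟨j.left, j.hom, ?_⟩
      have h3 := congrArg (F.map (δ j).op) hg'
      have hjh : g.unop.left = j.hom := (Category.comp_id _).symm.trans (Over.w g.unop)
      have he : δ j ≫ M.map (D'.map g.unop) ≫ ε o = D.map j.hom := Over.OverMorphism.ext (by
        change 𝟙 _ ≫ (D.map g.unop.left).left ≫ 𝟙 _ = (D.map j.hom).left
        rw [hjh, Category.comp_id, Category.id_comp])
      simp only [← Functor.map_comp_apply, ← op_comp] at h3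
      rwa [he] at h3
  exact ⟨fun i x y hx => (key i y).1 x hx,
    fun i x x' hxx e => (key i (a.app _ x)).2 x x' rfl hxx.symm e⟩

theorem isRelLimitPreserving_iff_relLP (a : F ⟶ G) : IsRelLimitPreserving a ↔ RelLP a :=
  ⟨relLP_of_isRelLimitPreserving a, isRelLimitPreserving_of_relLP a⟩

theorem relLP_comp {a : F ⟶ G} {b : G ⟶ H} (ha : RelLP a) (hb : RelLP b) : RelLP (a ≫ b) := by
  intro I _ _ D c hc hD hT
  obtain ⟨sa, ia⟩ := ha D c hc hD hT
  obtain ⟨sb, ib⟩ := hb D c hc hD hT
  refine ⟨fun i x y hx => ?_, fun i x x' hx e => ?_⟩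
  · simp only [NatTrans.comp_app, types_comp_apply] at hx
    obtain ⟨j, f, y', h1, h2⟩ := sb i _ y hx
    obtain ⟨k, g, x', h3, h4⟩ := sa j x y' h2.symm
    refine ⟨k, g ≫ f, x', ?_, h4⟩
    simp only [NatTrans.comp_app, types_comp_apply]
    rw [h3, NatTrans.naturality_apply b, h1, D.map_comp, op_comp, Functor.map_comp_apply]
  · simp only [NatTrans.comp_app, types_comp_apply] at hx
    obtain ⟨j, f, hf⟩ := ib i _ _ hx (by
      rw [← NatTrans.naturality_apply, ← NatTrans.naturality_apply, e])
    obtain ⟨k, g, hg⟩ := ia j (F.map (D.map f).op x) (F.map (D.map f).op x')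
      (by rw [NatTrans.naturality_apply a, NatTrans.naturality_apply a, hf])
      (by rw [map_map_eq _ _ _ (c.w f), map_map_eq _ _ _ (c.w f), e])
    refine ⟨k, g ≫ f, ?_⟩
    rw [D.map_comp, op_comp, Functor.map_comp_apply, Functor.map_comp_apply]
    exact hg

theorem relLP_of_comp {a : F ⟶ G} {b : G ⟶ H} (hab : RelLP (a ≫ b)) (hb : RelLP b) : RelLP a := by
  intro I _ _ D c hc hD hT
  obtain ⟨sab, iab⟩ := hab D c hc hD hT
  obtain ⟨sb, ib⟩ := hb D c hc hD hT
  refine ⟨fun i x y hx => ?_, fun i x x' hx e => ?_⟩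
  · obtain ⟨j, f, x', h1, h2⟩ := sab i x (b.app _ y) (by
      simp only [NatTrans.comp_app, types_comp_apply]
      rw [hx, NatTrans.naturality_apply b])
    simp only [NatTrans.comp_app, types_comp_apply] at h1
    obtain ⟨k, g, hg⟩ := ib j (a.app _ x') (G.map (D.map f).op y)
      (by rw [h1, NatTrans.naturality_apply b])
      (by
        rw [← NatTrans.naturality_apply a, h2, map_map_eq _ _ _ (c.w f)]
        exact hx)
    refine ⟨k, g ≫ f, F.map (D.map g).op x', ?_, ?_⟩
    · rw [NatTrans.naturality_apply a, hg, D.map_comp, op_comp, Functor.map_comp_apply]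
    · rw [map_map_eq _ _ _ (c.w g), h2]
  · exact iab i x x' (by simp only [NatTrans.comp_app, types_comp_apply, hx]) e

theorem relLP_baseChange {P : PSp S} {a : F ⟶ G} {b : H ⟶ G} {fst : P ⟶ F} {snd : P ⟶ H}
    (hP : IsPullback fst snd a b) (ha : RelLP a) : RelLP snd := by
  intro I _ _ D c hc hD hT
  obtain ⟨sa, ia⟩ := ha D c hc hD hT
  have sqv := fun T => hP.map ((evaluation _ _).obj (op T))
  refine ⟨fun i x y hx => ?_, fun i x x' hx e => ?_⟩
  · obtain ⟨j, f, x', h1, h2⟩ := sa i (fst.app _ x) (b.app _ y) (by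
      rw [← NatTrans.naturality_apply b, ← hx]
      exact ConcreteCategory.congr_hom (NatTrans.congr_app hP.w _) x)
    obtain ⟨p, hp1, hp2⟩ := Types.exists_of_isPullback (sqv (D.obj j)) x' (H.map (D.map f).op y)
      (by
        change a.app _ x' = b.app _ _
        rw [h1, NatTrans.naturality_apply b])
    change fst.app _ p = x' at hp1
    change snd.app _ p = _ at hp2
    refine ⟨j, f, p, hp2, Types.ext_of_isPullback (sqv c.pt) ?_ ?_⟩
    · change fst.app _ _ = fst.app _ x
      rw [NatTrans.naturality_apply fst, hp1, h2]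
    · change snd.app _ _ = snd.app _ x
      rw [NatTrans.naturality_apply snd, hp2, map_map_eq _ _ _ (c.w f), hx]
  · obtain ⟨j, f, hf⟩ := ia i (fst.app _ x) (fst.app _ x') (by
      have w1 := ConcreteCategory.congr_hom (NatTrans.congr_app hP.w (op (D.obj i))) x
      have w2 := ConcreteCategory.congr_hom (NatTrans.congr_app hP.w (op (D.obj i))) x'
      simp only [NatTrans.comp_app, types_comp_apply] at w1 w2
      rw [w1, w2, hx]) (by rw [← NatTrans.naturality_apply fst, e, NatTrans.naturality_apply fst])
    refine ⟨j, f, Types.ext_of_isPullback (sqv (D.obj j)) ?_ ?_⟩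
    · change fst.app _ _ = fst.app _ _
      rw [NatTrans.naturality_apply fst, hf, NatTrans.naturality_apply fst]
    · change snd.app _ _ = snd.app _ _
      rw [NatTrans.naturality_apply snd, hx, NatTrans.naturality_apply snd]

end Groth.Agent.SpPts86
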