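import Groth.Agent.ShLim95.Main
import Mathlib.CategoryTheory.Sites.LocallySurjective

/-!
Being limit preserving is local for the fppf topology on the base.
-/

universe u

set_option autoImplicit false
set_option linter.style.haveILetI false
set_option backward.isDefEq.respectTransparency.types false

open CategoryTheory CategoryTheory.Limits AlgebraicGeometry Opposite
open AlgSp

namespace Groth.Agent.SpPts86

open Groth.Agent.ShLim95

variable {S : Scheme.{u}}

/-- A system lying over a scheme on which the presheaf is limit preserving. -/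
theorem localSystem {F : PSp S} {U : Over S}
    (hloc : IsLimitPreserving (S := U.left) ((Over.map U.hom).op ⋙ F)) {J : Type u} [SmallCategory J]
    [IsCofiltered J] (E : J ⥤ Over S) (e : Cone E) (he : IsLimit ((Over.forget S).mapCone e))
    (hE : ∀ k, IsAffine (E.obj k).left) (het : IsAffine e.pt.left)
    (b : ∀ k, E.obj k ⟶ U) (hb : ∀ {k l : J} (f : k ⟶ l), E.map f ≫ b l = b k) :
    (∀ (k : J) (x y : F.obj (op (E.obj k))), F.map (e.π.app k).op x = F.map (e.π.app k).op y →
      ∃ (l : J) (φ : l ⟶ k), F.map (E.map φ).op x = F.map (E.map φ).op y) ∧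
    ∀ x : F.obj (op e.pt), ∃ (k : J) (y : F.obj (op (E.obj k))), F.map (e.π.app k).op y = x := by
  obtain ⟨k₀⟩ := IsCofiltered.nonempty (C := J)
  have hp : ∀ k, e.π.app k ≫ b k = e.π.app k₀ ≫ b k₀ := fun k => by
    obtain ⟨m, a, a', -⟩ := IsCofilteredOrEmpty.cone_objs k k₀
    rw [← e.w a, ← e.w a', Category.assoc, Category.assoc, hb, hb]
  let E' : J ⥤ Over U.left :=
    { obj := fun k => Over.mk (b k).left
      map := fun {k l} f => Over.homMk (E.map f).left (congrArg CommaMorphism.left (hb f))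
      map_id := fun k => Over.OverMorphism.ext (show (E.map (𝟙 k)).left = (𝟙 (E.obj k) : E.obj k ⟶ E.obj k).left by rw [E.map_id])
      map_comp := fun f g => Over.OverMorphism.ext (show (E.map (f ≫ g)).left = (E.map f ≫ E.map g).left by rw [E.map_comp]) }
  let e' : Cone E' :=
    { pt := Over.mk (e.π.app k₀ ≫ b k₀).left
      π := { app := fun k => Over.homMk (e.π.app k).left (congrArg CommaMorphism.left (hp k))
             naturality := fun k l f => Over.OverMorphism.ext (show 𝟙 _ ≫ (e.π.app l).left = (e.π.app k ≫ E.map f).left by rw [e.w, Category.id_comp]) } }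
  have he' : IsLimit ((Over.forget U.left).mapCone e') :=
    he.ofIsoLimit (Cone.ext (Iso.refl _) fun k => (Category.id_comp _).symm)
  haveI : ∀ k, IsAffine (E'.obj k).left := hE
  haveI : IsAffine e'.pt.left := het
  let θ : ∀ k, (Over.map U.hom).obj (E'.obj k) ⟶ E.obj k := fun k =>
    Over.homMk (𝟙 _) ((Category.id_comp _).trans (Over.w (b k)).symm)
  let θ' : ∀ k, E.obj k ⟶ (Over.map U.hom).obj (E'.obj k) := fun k =>
    Over.homMk (𝟙 _) ((Category.id_comp _).trans (Over.w (b k)))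
  let ε : e.pt ⟶ (Over.map U.hom).obj e'.pt :=
    Over.homMk (𝟙 _) ((Category.id_comp _).trans (Over.w (e.π.app k₀ ≫ b k₀)))
  let ε' : (Over.map U.hom).obj e'.pt ⟶ e.pt :=
    Over.homMk (𝟙 _) ((Category.id_comp _).trans (Over.w (e.π.app k₀ ≫ b k₀)).symm)
  have hθ : ∀ {k l : J} (f : k ⟶ l), θ' k ≫ (Over.map U.hom).map (E'.map f) ≫ θ l = E.map f := fun f =>
    Over.OverMorphism.ext ((Category.id_comp _).trans (Category.comp_id _))
  have hπ : ∀ k, ε' ≫ e.π.app k = (Over.map U.hom).map (e'.π.app k) ≫ θ k := fun k =>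
    Over.OverMorphism.ext ((Category.id_comp _).trans (Category.comp_id _).symm)
  refine ⟨fun k x y h => ?_, fun x => ?_⟩
  · obtain ⟨l, φ, hl⟩ := presheaf_inj (D := E') he' hloc (F.map (θ k).op x) (F.map (θ k).op y) (by
      show F.map ((Over.map U.hom).map (e'.π.app k)).op (F.map (θ k).op x) =
        F.map ((Over.map U.hom).map (e'.π.app k)).op (F.map (θ k).op y)
      rw [map_map, map_map, ← hπ k, ← map_map, ← map_map, h])
    refine ⟨l, φ, ?_⟩
    rw [← hθ φ, ← map_map, ← map_map, ← map_map, ← map_map]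
    exact congrArg _ hl
  · obtain ⟨k, y, hy⟩ := presheaf_surj (D := E') he' hloc (F.map ε'.op x)
    refine ⟨k, F.map (θ' k).op y, ?_⟩
    have hy' : F.map ((Over.map U.hom).map (e'.π.app k)).op y = F.map ε'.op x := hy
    have h1 : e.π.app k ≫ θ' k = ε ≫ (Over.map U.hom).map (e'.π.app k) :=
      Over.OverMorphism.ext ((Category.comp_id _).trans (Category.id_comp _).symm)
    rw [map_map, h1, ← map_map, hy', map_map,
      show ε ≫ ε' = 𝟙 e.pt from Over.OverMorphism.ext (Category.id_comp _)]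
    exact FunctorToTypes.map_id_apply F x

section

variable {F : PSp S} (hF : Presieve.IsSheaf (J S) F) {ι : Type u} {U : ι → Over S}

theorem amalgamate' {T : Over S} (C : Cov (@Flat ⊓ @LocallyOfFinitePresentation) T)
    (hF : Presieve.IsSheaf (J S) F) (x : ∀ a, F.obj (op (C.U a)))
    (hx : Presieve.Arrows.Compatible F C.u x) : ∃! t, ∀ a, F.map (C.u a).op t = x a :=
  (Presieve.isSheafFor_arrows_iff _ _).1
    ((Presieve.isSheafFor_iff_generate _).2 (hF _ (C.mem_J good_fppf))) x hx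

theorem ext_cov' {T : Over S} (C : Cov (@Flat ⊓ @LocallyOfFinitePresentation) T)
    (hF : Presieve.IsSheaf (J S) F) {s t : F.obj (op T)}
    (h : ∀ a, F.map (C.u a).op s = F.map (C.u a).op t) : s = t :=
  (amalgamate' C hF (fun a => F.map (C.u a).op t) fun _ _ _ _ _ e => map_congr e t).unique h (fun _ => rfl)

variable (hU : Sieve.generate (Presieve.ofArrows U fun j => (Over.homMk (U j).hom (Category.comp_id _) :
    U j ⟶ Over.mk (𝟙 S))) ∈ J S (Over.mk (𝟙 S)))
  (hloc : ∀ j, IsLimitPreserving (S := (U j).left) ((Over.map (U j).hom).op ⋙ F))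

include hU

theorem exists_cov_refining (T : Over S) [IsAffine T.left] :
    ∃ C : Cov (@Flat ⊓ @LocallyOfFinitePresentation) T, ∀ a, ∃ j, Nonempty (C.U a ⟶ U j) := by
  obtain ⟨C, hC⟩ := exists_cov good_fppf
    ((J S).pullback_stable (Over.homMk T.hom (Category.comp_id _) : T ⟶ Over.mk (𝟙 S)) hU)
  refine ⟨C, fun a => ?_⟩
  obtain ⟨_, g, _, ⟨j⟩, -⟩ := hC a
  exact ⟨j, ⟨g⟩⟩

include hloc hF

variable {I : Type u} [SmallCategory I] [IsCofiltered I] {D : I ⥤ Over S} {c : Cone D}
  (hc : IsLimit ((Over.forget S).mapCone c)) [∀ i, IsAffine (D.obj i).left] [IsAffine c.pt.left]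

include hc

theorem local_inj {i : I} (s t : F.obj (op (D.obj i)))
    (h : F.map (c.π.app i).op s = F.map (c.π.app i).op t) :
    ∃ (j : I) (φ : j ⟶ i), F.map (D.map φ).op s = F.map (D.map φ).op t := by
  classical
  obtain ⟨C, hC⟩ := exists_cov_refining hU (D.obj i)
  have key : ∀ a : C.ι, ∃ k : Over i, F.map (bcSnd (C.u a) (D.map k.hom)).op (F.map (D.map k.hom).op s) =
      F.map (bcSnd (C.u a) (D.map k.hom)).op (F.map (D.map k.hom).op t) := by
    intro a
    obtain ⟨j, ⟨g⟩⟩ := hC a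
    haveI := C.aff a
    haveI : ∀ k : Over i, IsAffine ((bcE (C.u a)).obj k).left := fun k => isAffine_bcObj hc _ k
    have sq := IsPullback.of_hasPullback (C.u a).left (c.π.app i).left
    let cn := bcCn (C.u a) (bcFst (C.u a) (c.π.app i)) (bcSnd (C.u a) (c.π.app i)) sq
    haveI : IsAffine (((Functor.const I).obj c.pt).obj i).left := ‹IsAffine c.pt.left›
    haveI : IsAffineHom (c.π.app i).left := isAffineHom_of_isAffine _
    haveI : IsAffine cn.pt.left :=
      @isAffine_of_isAffineHom _ _ (pullback.fst (C.u a).left (c.π.app i).left)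
        (MorphismProperty.pullback_fst (P := @IsAffineHom) _ _ inferInstance) inferInstance
    obtain ⟨hlim⟩ := nonempty_isLimit_bcCn hc (C.u a) (bcFst (C.u a) (c.π.app i)) (bcSnd (C.u a) (c.π.app i)) sq
    let k₀ : Over i := Over.mk (𝟙 i)
    let z := fun r : F.obj (op (D.obj i)) => F.map (bcSnd (C.u a) (D.map k₀.hom)).op (F.map (D.map k₀.hom).op r)
    have hz : ∀ r, F.map (cn.π.app k₀).op (z r) =
        F.map (bcSnd (C.u a) (c.π.app i)).op (F.map (c.π.app i).op r) := fun r => by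
      refine map_trans₃ ?_ r
      exact (Category.assoc _ _ _).symm.trans ((congrArg (· ≫ _) (bcCn_snd _ _ _ sq k₀)).trans
        ((Category.assoc _ _ _).trans (congrArg (_ ≫ ·) (c.w k₀.hom))))
    obtain ⟨k, φ, hk⟩ := (localSystem (hloc j) (bcE (C.u a)) cn hlim (fun k => inferInstance) inferInstance
      (fun k => bcFst (C.u a) (D.map k.hom) ≫ g) (fun f => by rw [← Category.assoc, bcE_map_fst])).1 k₀
      (z s) (z t) (by rw [hz, hz, h])
    refine ⟨k, ?_⟩
    have e : ∀ r, F.map ((bcE (C.u a)).map φ).op (z r) =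
        F.map (bcSnd (C.u a) (D.map k.hom)).op (F.map (D.map k.hom).op r) := fun r => by
      refine map_trans₃ ?_ r
      exact (Category.assoc _ _ _).symm.trans ((congrArg (· ≫ _) (bcE_map_snd _ φ)).trans
        ((Category.assoc _ _ _).trans (congrArg (_ ≫ ·) ((D.map_comp _ _).symm.trans (congrArg D.map (Over.w φ))))))
    rw [← e, ← e, hk]
  choose k hk using key
  haveI := C.fin
  haveI := Fintype.ofFinite C.ι
  obtain ⟨k₁, hk₁⟩ := IsCofiltered.inf_objs_exists (insert (Over.mk (𝟙 i)) (Finset.univ.image k))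
  refine ⟨k₁.left, k₁.hom, ext_cov' (C.bc good_fppf (D.map k₁.hom)) hF fun (a : C.ι) => ?_⟩
  obtain ⟨f⟩ : Nonempty (k₁ ⟶ k a) :=
    hk₁ (Finset.mem_insert_of_mem (Finset.mem_image_of_mem k (Finset.mem_univ a)))
  have e : ∀ r, F.map ((bcE (C.u a)).map f).op
      (F.map (bcSnd (C.u a) (D.map (k a).hom)).op (F.map (D.map (k a).hom).op r)) =
        F.map (bcSnd (C.u a) (D.map k₁.hom)).op (F.map (D.map k₁.hom).op r) := fun r => by
    refine map_trans₃ ?_ r
    exact (Category.assoc _ _ _).symm.trans ((congrArg (· ≫ _) (bcE_map_snd _ f)).trans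
      ((Category.assoc _ _ _).trans (congrArg (_ ≫ ·) ((D.map_comp _ _).symm.trans (congrArg D.map (Over.w f))))))
  show F.map (bcSnd (C.u a) (D.map k₁.hom)).op _ = F.map (bcSnd (C.u a) (D.map k₁.hom)).op _
  rw [← e, ← e, hk a]

theorem local_surj (s : F.obj (op c.pt)) :
    ∃ (i : I) (t : F.obj (op (D.obj i))), F.map (c.π.app i).op t = s := by
  classical
  obtain ⟨i⟩ := IsCofiltered.nonempty (C := I)
  obtain ⟨C, hC⟩ := exists_cov_refining hU (D.obj i)
  haveI : IsAffine (((Functor.const I).obj c.pt).obj i).left := ‹IsAffine c.pt.left›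
  haveI : IsAffineHom (c.π.app i).left := isAffineHom_of_isAffine _
  let pV : ∀ a, bcObj (C.u a) (c.π.app i) ⟶ c.pt := fun a => bcSnd (C.u a) (c.π.app i)
  let qV : ∀ a, bcObj (C.u a) (c.π.app i) ⟶ C.U a := fun a => bcFst (C.u a) (c.π.app i)
  have sq : ∀ a, IsPullback (qV a).left (pV a).left (C.u a).left (c.π.app i).left := fun a =>
    IsPullback.of_hasPullback _ _
  have key : ∀ a, ∃ (k : Over i) (y : F.obj (op (bcObj (C.u a) (D.map k.hom)))),
      F.map ((bcCn (C.u a) (qV a) (pV a) (sq a)).π.app k).op y = F.map (pV a).op s := fun a => by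
    obtain ⟨j, ⟨g⟩⟩ := hC a
    haveI := C.aff a
    haveI : ∀ k : Over i, IsAffine ((bcE (C.u a)).obj k).left := fun k => isAffine_bcObj hc _ k
    haveI : IsAffine (bcCn (C.u a) (qV a) (pV a) (sq a)).pt.left :=
      @isAffine_of_isAffineHom _ _ (pullback.fst (C.u a).left (c.π.app i).left)
        (MorphismProperty.pullback_fst (P := @IsAffineHom) _ _ inferInstance) inferInstance
    obtain ⟨hlim⟩ := nonempty_isLimit_bcCn hc (C.u a) (qV a) (pV a) (sq a)
    exact (localSystem (hloc j) (bcE (C.u a)) _ hlim (fun k => inferInstance) inferInstance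
      (fun k => bcFst (C.u a) (D.map k.hom) ≫ g) (fun f => by rw [← Category.assoc, bcE_map_fst])).2 _
  choose k y hy using key
  haveI := C.fin
  haveI := Fintype.ofFinite C.ι
  obtain ⟨k₁, hk₁⟩ := IsCofiltered.inf_objs_exists (insert (Over.mk (𝟙 i)) (Finset.univ.image k))
  let f₁ : ∀ a, k₁ ⟶ k a := fun a =>
    (hk₁ (Finset.mem_insert_of_mem (Finset.mem_image_of_mem k (Finset.mem_univ a)))).some
  let n := k₁.left
  let C₁ : Cov (@Flat ⊓ @LocallyOfFinitePresentation) (D.obj n) := C.bc good_fppf (D.map k₁.hom)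
  let y₁ : ∀ a : C.ι, F.obj (op (bcObj (C.u a) (D.map k₁.hom))) := fun a => F.map ((bcE (C.u a)).map (f₁ a)).op (y a)
  let q₁ : ∀ a : C.ι, bcObj (C.u a) (c.π.app i) ⟶ bcObj (C.u a) (D.map k₁.hom) := fun a =>
    (bcCn (C.u a) (qV a) (pV a) (sq a)).π.app k₁
  have hy₁ : ∀ a, F.map (q₁ a).op (y₁ a) = F.map (pV a).op s := fun a =>
    (map_trans ((bcCn (C.u a) (qV a) (pV a) (sq a)).w (f₁ a)) (y a)).trans (hy a)
  have hq₁ : ∀ a, q₁ a ≫ C₁.u a = pV a ≫ c.π.app n := fun a => bcCn_snd _ _ _ _ _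
  have key₂ : ∀ ab : C.ι × C.ι, ∃ k : Over n, ∀ (Z : Over S) (g : Z ⟶ D.obj k.left)
      (g₁ : Z ⟶ C₁.U ab.1) (g₂ : Z ⟶ C₁.U ab.2), g₁ ≫ C₁.u ab.1 = g ≫ D.map k.hom →
        g₂ ≫ C₁.u ab.2 = g ≫ D.map k.hom → F.map g₁.op (y₁ ab.1) = F.map g₂.op (y₁ ab.2) := by
    rintro ⟨a, b⟩
    haveI := C₁.aff a
    haveI := C₁.aff b
    let fa : bcObj (C₁.u a) (C₁.u b) ⟶ C₁.U a := bcFst (C₁.u a) (C₁.u b)
    let fb : bcObj (C₁.u a) (C₁.u b) ⟶ C₁.U b := bcSnd (C₁.u a) (C₁.u b)
    let uab : bcObj (C₁.u a) (C₁.u b) ⟶ D.obj n := fb ≫ C₁.u b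
    haveI : IsAffine (bcObj (C₁.u a) (C₁.u b)).left :=
      inferInstanceAs (IsAffine (pullback (C₁.u a).left (C₁.u b).left))
    haveI : ∀ j : Over n, IsAffine ((bcE uab).obj j).left := fun j => isAffine_bcObj hc _ j
    have sqab := IsPullback.of_hasPullback uab.left (c.π.app n).left
    let qab := bcFst uab (c.π.app n)
    let pab := bcSnd uab (c.π.app n)
    let cn := bcCn uab qab pab sqab
    haveI : IsAffine (((Functor.const I).obj c.pt).obj n).left := ‹IsAffine c.pt.left›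
    haveI : IsAffineHom (c.π.app n).left := isAffineHom_of_isAffine _
    haveI : IsAffine cn.pt.left :=
      @isAffine_of_isAffineHom _ _ (pullback.fst uab.left (c.π.app n).left)
        (MorphismProperty.pullback_fst (P := @IsAffineHom) _ _ inferInstance) inferInstance
    obtain ⟨hlim⟩ := nonempty_isLimit_bcCn hc uab qab pab sqab
    let k₀ : Over n := Over.mk (𝟙 n)
    have hz : ∀ (e : C.ι) (g : bcObj (C₁.u a) (C₁.u b) ⟶ C₁.U e), g ≫ C₁.u e = uab →
        F.map qab.op (F.map g.op (y₁ e)) = F.map pab.op s := by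
      intro e g hg
      let r : bcObj uab (c.π.app n) ⟶ bcObj (C.u e) (c.π.app i) :=
        bcLift (C.u e) (c.π.app i) (qab ≫ g ≫ bcFst (C.u e) (D.map k₁.hom)) pab
          (calc (qab ≫ g ≫ bcFst (C.u e) (D.map k₁.hom)) ≫ C.u e
              = (qab ≫ g ≫ bcSnd (C.u e) (D.map k₁.hom)) ≫ D.map k₁.hom :=
                ((Category.assoc _ _ _).trans (congrArg (qab ≫ ·) ((Category.assoc _ _ _).trans
                  ((congrArg (g ≫ ·) (bc_condition _ _)).trans (Category.assoc _ _ _).symm)))).trans (Category.assoc _ _ _).symm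
            _ = (pab ≫ c.π.app n) ≫ D.map k₁.hom :=
                congrArg (· ≫ D.map k₁.hom) ((congrArg (qab ≫ ·) hg).trans (bc_condition _ _))
            _ = pab ≫ c.π.app i := (Category.assoc _ _ _).trans (congrArg (pab ≫ ·) (c.w k₁.hom)))
      have hr₂ : r ≫ pV e = pab := bcLift_snd _ _ _ _ _
      have hr₁ : r ≫ q₁ e = qab ≫ g := by
        refine Over.OverMorphism.ext (pullback.hom_ext ?_ ?_)
        · have h1 := bcCn_fst (C.u e) (qV e) (pV e) (sq e) k₁
          have : (r ≫ q₁ e) ≫ bcFst (C.u e) (D.map k₁.hom) = (qab ≫ g) ≫ bcFst (C.u e) (D.map k₁.hom) := by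
            exact (Category.assoc _ _ _).trans ((congrArg (r ≫ ·) h1).trans ((bcLift_fst _ _ _ _ _).trans (Category.assoc _ _ _).symm))
          exact congrArg CommaMorphism.left this
        · have : (r ≫ q₁ e) ≫ bcSnd (C.u e) (D.map k₁.hom) = (qab ≫ g) ≫ bcSnd (C.u e) (D.map k₁.hom) := by
            exact (Category.assoc _ _ _).trans ((congrArg (r ≫ ·) (hq₁ e)).trans ((Category.assoc _ _ _).symm.trans
              ((congrArg (· ≫ c.π.app n) hr₂).trans ((bc_condition _ _).symm.trans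
                ((congrArg (qab ≫ ·) hg.symm).trans (Category.assoc _ _ _).symm)))))
          exact congrArg CommaMorphism.left this
      exact (map_congr hr₁.symm _).trans ((congrArg _ (hy₁ e)).trans (map_trans hr₂ s))
    obtain ⟨k, φ, hk⟩ := local_inj hF hU hloc (D := bcE uab) hlim
      (F.map (bcFst uab (D.map k₀.hom)).op (F.map fa.op (y₁ a)))
      (F.map (bcFst uab (D.map k₀.hom)).op (F.map fb.op (y₁ b))) (by
        exact ((map_trans (bcCn_fst _ _ _ sqab k₀) _).trans (hz a fa (bc_condition _ _))).trans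
          ((map_trans (bcCn_fst _ _ _ sqab k₀) _).trans (hz b fb rfl)).symm)
    refine ⟨k, fun Z g g₁ g₂ h₁ h₂ => ?_⟩
    let w₀ : Z ⟶ bcObj (C₁.u a) (C₁.u b) := bcLift _ _ g₁ g₂ (h₁.trans h₂.symm)
    have hw₀ : w₀ ≫ uab = g ≫ D.map k.hom := by
      rw [← h₂]
      exact (Category.assoc _ _ _).symm.trans (congrArg (· ≫ _) (bcLift_snd _ _ _ _ _))
    let w₁ : Z ⟶ bcObj uab (D.map k.hom) := bcLift _ _ w₀ g hw₀
    have e₁ : ∀ (W : Over S) (g' : bcObj (C₁.u a) (C₁.u b) ⟶ W) (v : F.obj (op W)),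
        F.map w₁.op (F.map ((bcE uab).map φ).op
          (F.map (bcFst uab (D.map k₀.hom)).op (F.map g'.op v))) = F.map (w₀ ≫ g').op v := fun W g' v =>
      ((congrArg _ (map_trans (bcE_map_fst uab φ) _)).trans
        (map_trans (bcLift_fst _ _ _ _ _) _)).trans (map_map g' w₀ v)
    have e := ((e₁ _ fa _).symm.trans (congrArg _ hk)).trans (e₁ _ fb _)
    rwa [show w₀ ≫ fa = g₁ from bcLift_fst _ _ _ _ _, show w₀ ≫ fb = g₂ from bcLift_snd _ _ _ _ _] at e
  choose k₂ hk₂ using key₂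
  obtain ⟨n', hn'⟩ := IsCofiltered.inf_objs_exists (insert (Over.mk (𝟙 n)) (Finset.univ.image k₂))
  let C₂ : Cov (@Flat ⊓ @LocallyOfFinitePresentation) (D.obj n'.left) := C₁.bc good_fppf (D.map n'.hom)
  let z : ∀ a : C.ι, F.obj (op (C₂.U a)) := fun a => F.map (bcFst (C₁.u a) (D.map n'.hom)).op (y₁ a)
  obtain ⟨t, ht, -⟩ := amalgamate' C₂ hF z fun (a b : C.ι) Z ga gb h => by
    obtain ⟨f⟩ : Nonempty (n' ⟶ k₂ (a, b)) :=
      hn' (Finset.mem_insert_of_mem (Finset.mem_image_of_mem (α := C.ι × C.ι) k₂ (Finset.mem_univ ((a, b) : C.ι × C.ι))))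
    refine (map_map _ ga _).trans (Eq.trans ?_ (map_map _ gb _).symm)
    refine hk₂ (a, b) Z ((ga ≫ C₂.u a) ≫ D.map f.left) _ _ ?_ ?_
    · refine ((Category.assoc _ _ _).trans (congrArg (ga ≫ ·) (bc_condition _ _))).trans ?_
      rw [Category.assoc, ← D.map_comp, Over.w f]
      exact (Category.assoc _ _ _).symm
    · refine ((Category.assoc _ _ _).trans (congrArg (gb ≫ ·) (bc_condition _ _))).trans ?_
      rw [Category.assoc (ga ≫ C₂.u a), ← D.map_comp, Over.w f, h]
      exact (Category.assoc _ _ _).symm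
  refine ⟨n'.left, t, ext_cov' (C.bc good_fppf (c.π.app i)) hF fun (a : C.ι) => ?_⟩
  let r : bcObj (C.u a) (c.π.app i) ⟶ C₂.U a := bcLift (C₁.u a) (D.map n'.hom) (q₁ a) (pV a ≫ c.π.app n'.left) (by
    rw [Category.assoc, c.w]; exact hq₁ a)
  have hr : r ≫ C₂.u a = pV a ≫ c.π.app n'.left := bcLift_snd _ _ _ _ _
  show F.map (pV a).op _ = F.map (pV a).op s
  rw [map_map, ← hr, ← map_map, ht a, ← hy₁ a]
  exact map_trans (bcLift_fst _ _ _ _ _) _

end

theorem isLimitPreserving_of_local {F : PSp S} (hF : Presieve.IsSheaf (J S) F) {ι : Type u} {U : ι → Over S}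
    (hU : Sieve.generate (Presieve.ofArrows U fun j => (Over.homMk (U j).hom (Category.comp_id _) :
      U j ⟶ Over.mk (𝟙 S))) ∈ J S (Over.mk (𝟙 S)))
    (hloc : ∀ j, IsLimitPreserving (S := (U j).left) ((Over.map (U j).hom).op ⋙ F)) :
    IsLimitPreserving F := by
  intro I _ _ E e he hE hT
  haveI := hE
  haveI := hT
  refine ⟨Types.FilteredColimit.isColimitOf _ _ (fun x => ?_) fun i j xi xj h => ?_⟩
  · obtain ⟨i, t, ht⟩ := local_surj hF hU hloc he x
    exact ⟨op i, t, ht.symm⟩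
  · obtain ⟨m, a, b, -⟩ := IsCofilteredOrEmpty.cone_objs i.unop j.unop
    obtain ⟨n, φ, hn⟩ := local_inj hF hU hloc he (F.map (E.map a).op xi) (F.map (E.map b).op xj) (by
      rw [map_map, map_map, e.w, e.w]; exact h)
    rw [map_map, map_map, ← E.map_comp, ← E.map_comp] at hn
    exact ⟨op n, (φ ≫ a).op, (φ ≫ b).op, hn⟩

theorem mem_J_of_jointly_surjective {T : Over S} {ι : Type u} (U : ι → Over S) (u : ∀ j, U j ⟶ T)
    (hfl : ∀ j, Flat (u j).left) (hfp : ∀ j, LocallyOfFinitePresentation (u j).left)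
    (hsurj : ∀ x : ↥T.left, ∃ (j : ι) (y : ↥(U j).left), (u j).left y = x) :
    Sieve.generate (Presieve.ofArrows U u) ∈ J S T := by
  have : (@Flat ⊓ @LocallyOfFinitePresentation : MorphismProperty Scheme.{u}).IsStableUnderBaseChange :=
    MorphismProperty.IsStableUnderBaseChange.inf
  rw [GrothendieckTopology.mem_over_iff]
  refine (Scheme.fppfPrecoverage).toGrothendieck.superset_covering ?_
    (Precoverage.generate_mem_toGrothendieck ((Scheme.ofArrows_mem_precoverage_iff
      (f := fun a => (u a).left) (@Flat ⊓ @LocallyOfFinitePresentation)).2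
      ⟨fun x => hsurj x, fun a => ⟨hfl a, hfp a⟩⟩))
  rw [Sieve.generate_le_iff]
  rintro Y f ⟨a⟩
  refine (Sieve.overEquiv_iff _ _).2 ?_
  refine ⟨U a, Over.homMk (𝟙 _) (by simp), u a, Presieve.ofArrows.mk a, ?_⟩
  exact Over.OverMorphism.ext (Category.id_comp _)

end Groth.Agent.SpPts86
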