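import Groth.Agent.SpPts86.ZarGlue
import Groth.Agent.SpPts86.LfpCrit
import Groth.Agent.SpPts86.ImIdeal
import Groth.Agent.SpFP87.ThickAffineMor
import Groth.Agent.SpFP87.LocPRep
import Groth.Agent.SpFP87.EtLocInst

/-!
Being a closed immersion may be tested after a thickening.
-/

universe u

set_option autoImplicit false
set_option backward.isDefEq.respectTransparency false
set_option linter.style.haveILetI false

open CategoryTheory CategoryTheory.Limits AlgebraicGeometry
open AlgSp Groth.Agent.SpFP87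

namespace Groth.Agent.SpPts86

/-- An algebra which is surjective modulo a finitely generated nil ideal is surjective. -/
theorem surjective_of_nilpotent {A R : Type u} [CommRing A] [CommRing R] [Algebra A R] (J : Ideal A)
    (hJ : J.FG) (hn : J ≤ nilradical A)
    (h : LinearMap.range (Algebra.linearMap A R) ⊔ J • (⊤ : Submodule A R) = ⊤) :
    Function.Surjective (algebraMap A R) := by
  obtain ⟨n, hn⟩ := hJ.isNilpotent_iff_le_nilradical.2 hn
  have key : ∀ m : ℕ, LinearMap.range (Algebra.linearMap A R) ⊔ J ^ m • (⊤ : Submodule A R) = ⊤ := by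
    intro m
    induction m with
    | zero => rw [pow_zero, one_smul, sup_top_eq]
    | succ m ih =>
      refine top_le_iff.1 ?_
      calc (⊤ : Submodule A R)
          = LinearMap.range (Algebra.linearMap A R) ⊔ J ^ m •
            (LinearMap.range (Algebra.linearMap A R) ⊔ J • (⊤ : Submodule A R)) := by rw [h, ih]
        _ ≤ _ := by
          rw [Submodule.smul_sup, ← Submodule.smul_assoc, smul_eq_mul, ← pow_succ, ← sup_assoc]
          exact sup_le_sup_right (sup_le le_rfl Submodule.smul_le_right) _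
  have h' := key n
  rw [hn] at h'
  simp only [Submodule.zero_eq_bot, Submodule.bot_smul, sup_bot_eq] at h'
  exact LinearMap.range_eq_top.1 h'

/-- A finite type algebra surjective modulo a nil ideal is surjective modulo a finitely generated one. -/
theorem exists_fg_of_finiteType {A R : Type u} [CommRing A] [CommRing R] [Algebra A R] (I : Ideal A)
    [hft : Algebra.FiniteType A R]
    (h : LinearMap.range (Algebra.linearMap A R) ⊔ I • (⊤ : Submodule A R) = ⊤) :
    ∃ J ≤ I, J.FG ∧ LinearMap.range (Algebra.linearMap A R) ⊔ J • (⊤ : Submodule A R) = ⊤ := by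
  classical
  let L := LinearMap.range (Algebra.linearMap A R)
  obtain ⟨G, hG⟩ := hft.out
  have hmem : ∀ G' : Finset R, ∃ J ≤ I, J.FG ∧ ∀ x ∈ G', x ∈ L ⊔ J • (⊤ : Submodule A R) := by
    intro G'
    induction G' using Finset.induction_on with
    | empty => exact ⟨⊥, bot_le, Submodule.fg_bot, by simp⟩
    | insert x G' hx ih =>
      obtain ⟨J, hJI, hJ, hG'⟩ := ih
      obtain ⟨l, hl, y, hy, hly⟩ := Submodule.mem_sup.1 (show x ∈ L ⊔ I • (⊤ : Submodule A R) by rw [h]; trivial)
      obtain ⟨J₁, hJ₁I, hJ₁, hy₁⟩ : ∃ J₁ ≤ I, J₁.FG ∧ y ∈ J₁ • (⊤ : Submodule A R) := by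
        refine Submodule.smul_induction_on hy (fun a ha r _ => ?_) fun a b ⟨Ja, h1, h2, h3⟩ ⟨Jb, g1, g2, g3⟩ => ?_
        · exact ⟨Ideal.span {a}, (Ideal.span_singleton_le_iff_mem _).2 ha, Submodule.fg_span_singleton a,
            Submodule.smul_mem_smul (Ideal.mem_span_singleton_self a) trivial⟩
        · exact ⟨Ja ⊔ Jb, sup_le h1 g1, Submodule.FG.sup h2 g2, add_mem (Submodule.smul_mono_left le_sup_left h3)
            (Submodule.smul_mono_left le_sup_right g3)⟩
      refine ⟨J ⊔ J₁, sup_le hJI hJ₁I, Submodule.FG.sup hJ hJ₁, fun z hz => ?_⟩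
      rcases Finset.mem_insert.1 hz with rfl | hz
      · rw [← hly]
        exact Submodule.add_mem_sup hl (Submodule.smul_mono_left le_sup_right hy₁)
      · obtain ⟨l', hl', y', hy', e⟩ := Submodule.mem_sup.1 (hG' z hz)
        rw [← e]
        exact Submodule.add_mem_sup hl' (Submodule.smul_mono_left le_sup_left hy')
  obtain ⟨J, hJI, hJ, hGm⟩ := hmem G
  refine ⟨J, hJI, hJ, top_le_iff.1 fun r _ => ?_⟩
  have hone : (1 : R) ∈ L ⊔ J • (⊤ : Submodule A R) := Submodule.mem_sup_left ⟨1, by simp⟩
  have hmul : ∀ a b, a ∈ L ⊔ J • (⊤ : Submodule A R) → b ∈ L ⊔ J • (⊤ : Submodule A R) →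
      a * b ∈ L ⊔ J • (⊤ : Submodule A R) := by
    intro a b ha hb
    obtain ⟨_, ⟨a₁, rfl⟩, a₂, ha₂, rfl⟩ := Submodule.mem_sup.1 ha
    rw [add_mul, Algebra.linearMap_apply, ← Algebra.smul_def]
    refine add_mem (Submodule.smul_mem _ _ hb) (Submodule.mem_sup_right ?_)
    refine Submodule.smul_induction_on ha₂ (fun j hj t _ => ?_) fun u v hu hv => ?_
    · rw [smul_mul_assoc]; exact Submodule.smul_mem_smul hj trivial
    · rw [add_mul]; exact add_mem hu hv
  have hr : r ∈ Algebra.adjoin A (G : Set R) := by rw [hG]; trivial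
  induction hr using Algebra.adjoin_induction with
  | mem x hx => exact hGm x hx
  | algebraMap a => exact Submodule.mem_sup_left ⟨a, rfl⟩
  | add a b _ _ ha hb => exact add_mem (ha trivial) (hb trivial)
  | mul a b _ _ ha hb => exact hmul _ _ (ha trivial) (hb trivial)

/-- The scheme case. -/
theorem isClosedImmersion_of_thickening {Z Z₀ W P : Scheme.{u}} [IsAffine Z] [IsAffine W] (k : W ⟶ Z) (ζ : Z₀ ⟶ Z)
    [IsClosedImmersion ζ] [Surjective ζ] {a : P ⟶ W} {b : P ⟶ Z₀} (sq : IsPullback a b k ζ) [IsClosedImmersion b]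
    (hor : LocallyOfFiniteType k ∨ LocallyOfFinitePresentation ζ) : IsClosedImmersion k := by
  haveI : IsAffine Z₀ := isAffine_of_isAffineHom ζ
  haveI : IsAffine P := isAffine_of_isAffineHom b
  let A := Γ(Z, ⊤)
  let R := Γ(W, ⊤)
  letI : Algebra A R := k.appTop.hom.toAlgebra
  let I : Ideal A := RingHom.ker ζ.appTop.hom
  have hζ : Function.Surjective ζ.appTop.hom :=
    ((HasAffineProperty.iff_of_isAffine (P := @IsClosedImmersion)).mp ‹IsClosedImmersion ζ›).2
  have hb : Function.Surjective b.appTop.hom :=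
    ((HasAffineProperty.iff_of_isAffine (P := @IsClosedImmersion)).mp ‹IsClosedImmersion b›).2
  have hI : I ≤ nilradical A := fun s hs => by
    rw [mem_nilradical, Scheme.isNilpotent_iff_basicOpen_eq_bot]
    refine eq_bot_iff.2 fun z hz => ?_
    obtain ⟨y, rfl⟩ := ζ.surjective z
    have : y ∈ Z₀.basicOpen (ζ.appTop s) := by rw [← Scheme.preimage_basicOpen_top]; exact hz
    rw [show ζ.appTop s = 0 from hs, Scheme.basicOpen_zero] at this
    exact this.elim
  have hsup : LinearMap.range (Algebra.linearMap A R) ⊔ I • (⊤ : Submodule A R) = ⊤ := by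
    refine top_le_iff.1 fun r _ => ?_
    let q : R →+* R ⧸ I.map (algebraMap A R) := Ideal.Quotient.mk _
    have hker : I ≤ RingHom.ker (q.comp (algebraMap A R)) := fun x hx => by
      rw [RingHom.mem_ker, RingHom.comp_apply]
      exact Ideal.Quotient.eq_zero_iff_mem.2 (Ideal.mem_map_of_mem _ hx)
    let d : Γ(Z₀, ⊤) →+* R ⧸ I.map (algebraMap A R) := RingHom.liftOfSurjective ζ.appTop.hom hζ ⟨_, hker⟩
    have po := isPushout_appTop_of_isPullback sq
    obtain ⟨δ, hδa, hδb⟩ := po.exists_desc (CommRingCat.ofHom q) (CommRingCat.ofHom d) (by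
      ext x
      exact (RingHom.liftOfRightInverse_comp_apply _ _ (Function.rightInverse_surjInv hζ) ⟨_, hker⟩ x).symm)
    obtain ⟨c, hc⟩ := hb (a.appTop r)
    obtain ⟨x, rfl⟩ := hζ c
    have hx : a.appTop (algebraMap A R x) = a.appTop r := by
      rw [← hc]
      exact congr($(po.w) x)
    have h2 : q (algebraMap A R x) = q r := by
      have := congrArg δ.hom hx
      rwa [← CommRingCat.comp_apply, ← CommRingCat.comp_apply, hδa] at this
    have hmem : r - algebraMap A R x ∈ I • (⊤ : Submodule A R) := by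
      rw [Ideal.smul_top_eq_map, Submodule.restrictScalars_mem]
      exact Ideal.Quotient.eq.1 h2.symm
    exact Submodule.mem_sup.2 ⟨algebraMap A R x, ⟨x, rfl⟩, _, hmem, add_sub_cancel _ _⟩
  refine (HasAffineProperty.iff_of_isAffine (P := @IsClosedImmersion)).mpr ⟨inferInstance, ?_⟩
  rcases hor with h | h
  · haveI : Algebra.FiniteType A R := RingHom.finiteType_algebraMap.mp
      ((HasRingHomProperty.iff_of_isAffine (P := @LocallyOfFiniteType)).mp h :)
    obtain ⟨J, hJI, hJ, hJs⟩ := exists_fg_of_finiteType I hsup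
    exact surjective_of_nilpotent J hJ (hJI.trans hI) hJs
  · have hfp : ζ.appTop.hom.FinitePresentation :=
      (HasRingHomProperty.iff_of_isAffine (P := @LocallyOfFinitePresentation)).mp h
    letI : Algebra A Γ(Z₀, ⊤) := ζ.appTop.hom.toAlgebra
    have : Algebra.FinitePresentation A Γ(Z₀, ⊤) := hfp
    exact surjective_of_nilpotent I (Algebra.FinitePresentation.ker_fG_of_surjective (Algebra.ofId A Γ(Z₀, ⊤)) hζ)
      hI hsup

variable {S : Scheme.{u}} {X B B' X' : Sp S}

theorem repWith_closedImm_of_thick {f : X ⟶ B} {g : B' ⟶ B} (hX : IsAlgSpace X) (hB : IsAlgSpace B)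
    (hB' : IsAlgSpace B') (hg : RepWith @IsClosedImmersion g) (hgs : IsSurjectiveMor g)
    {fst : X' ⟶ X} {snd : X' ⟶ B'} (hX' : IsPullback fst snd f g) (hsnd : RepWith @IsClosedImmersion snd)
    (hor : LocP @LocallyOfFiniteType f ∨ LocP @LocallyOfFinitePresentation g) :
    RepWith @IsClosedImmersion f := by
  have hgt : IsThickMor g := repWith_inf hg ((repWith_surjective_iff hg.rep).2 hgs)
  have hft : IsThickMor fst := thick_baseChange hgt hX'.flip
  refine repWith_of_affine_squares @IsClosedImmersion fun Z hZ z => ?_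
  obtain ⟨W', k', p, sqW, hW', -⟩ := exists_affine_of_thick_left hft hgt hX'.w hX hB @IsClosedImmersion
    (fun T hT t => by
      obtain ⟨V, v, q, sqV⟩ := hsnd.rep t
      haveI := hT
      haveI : IsClosedImmersion v.left := hsnd.property t q v sqV
      exact ⟨V, v, q, sqV, isAffine_of_isAffineHom v.left, inferInstance⟩) hZ z
  haveI := hZ; haveI := hW'
  obtain ⟨Z₀, ζ, q₀, sq₀⟩ := hgt.rep z
  haveI : IsClosedImmersion ζ.left := (hgt.property z q₀ ζ sq₀).1
  haveI : Surjective ζ.left := (hgt.property z q₀ ζ sq₀).2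
  obtain ⟨P, a, b, sqP, wP⟩ := exists_isPullback_over k' ζ
  have sqPy : IsPullback ((yon S).map a) ((yon S).map b) ((yon S).map k') ((yon S).map ζ) :=
    (IsPullback.of_map_of_faithful (Over.forget S) sqP).map (yon S)
  let l := hX'.lift ((yon S).map a ≫ p) ((yon S).map b ≫ q₀)
    (by rw [Category.assoc, sqW.w, ← Category.assoc, sqPy.w, Category.assoc, ← sq₀.w, Category.assoc])
  have sql : IsPullback l ((yon S).map b) snd q₀ := by
    refine IsPullback.of_right (h₁₂ := fst) (h₂₂ := g) ?_ (hX'.lift_snd _ _ _) hX'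
    rw [hX'.lift_fst, sq₀.w]
    exact sqPy.paste_horiz sqW
  haveI : IsClosedImmersion b.left := hsnd.property q₀ l b sql
  refine ⟨W', k', p, sqW, isClosedImmersion_of_thickening k'.left ζ.left sqP ?_⟩
  rcases hor with h | h
  · exact Or.inl ((locP_yon_map_iff k').1 (locP_baseChange sqW hX hB (IsAlgSpace.yon_obj _) h))
  · exact Or.inr ((locP_yon_map_iff ζ).1 (locP_baseChange sq₀ hB' hB (IsAlgSpace.yon_obj _) h))

end Groth.Agent.SpPts86
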