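import Groth.Agent.SpPts86.IdealBridge

/-!
A quasi-coherent family of ideals on affine etale charts cuts out a closed subspace.
-/

universe u

set_option autoImplicit false
set_option backward.isDefEq.respectTransparency false
set_option linter.style.haveILetI false

open CategoryTheory CategoryTheory.Limits AlgebraicGeometry Opposite
open AlgSp
open Groth.Agent.SpFP87

namespace Groth.Agent.SpPts86

variable {S : Scheme.{u}} {Y : Sp S}

/-- An ideal on an atlas with equal pullbacks to the relation descends to a closed subspace. -/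
theorem exists_closed_of_invariant (hY : IsAlgSpace Y) {U : Over S} {a : (yon S).obj U ⟶ Y}
    (ha : RepWith @Etale a) (has : RepWith @Surjective a) (K : U.left.IdealSheafData)
    (hK : ∀ (R : Over S) (t s : R ⟶ U), Etale t.left → Etale s.left →
      (yon S).map t ≫ a = (yon S).map s ≫ a → K.comap t.left = K.comap s.left) :
    ∃ (Z : Sp S) (i : Z ⟶ Y) (hi : RepWith @IsClosedImmersion i),
      IsAlgSpace Z ∧ idealOf hi a = K := by
  let C : Over S := Over.mk (K.subschemeι ≫ U.hom)
  let ι : C ⟶ U := Over.homMk K.subschemeι rfl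
  haveI hι : IsClosedImmersion ι.left := inferInstanceAs (IsClosedImmersion K.subschemeι)
  haveI : Mono ι := (Over.forget S).mono_of_mono_map (f := ι) (inferInstanceAs (Mono ι.left))
  have hker : ι.left.ker = K := K.ker_subschemeι
  have hfac : ∀ {W : Over S} (l : W ⟶ U), (∃ k : W ⟶ C, k ≫ ι = l) ↔ K.comap l.left = ⊥ := by
    intro W l
    rw [comap_eq_bot_iff]
    constructor
    · rintro ⟨k, rfl⟩
      rw [← hker, Over.comp_left]
      exact Scheme.Hom.le_ker_comp _ _
    · intro hle
      refine ⟨Over.homMk (IsClosedImmersion.lift ι.left l.left (hker.trans_le hle)) ?_,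
        Over.OverMorphism.ext (IsClosedImmersion.lift_fac _ _ _)⟩
      rw [← Over.w ι, ← Category.assoc, IsClosedImmersion.lift_fac, Over.w l]
  obtain ⟨R, t, s, sq⟩ := SpFP87.exists_isPullback_yon hY.diag a a
  have ht : Etale t.left := etale_snd_of_isPullback sq.flip ha
  have hs : Etale s.left := etale_snd_of_isPullback sq ha
  have hinv : ∀ (W : Over S) (l l' : W ⟶ U), (yon S).map l ≫ a = (yon S).map l' ≫ a →
      (∃ k : W ⟶ C, k ≫ ι = l) → ∃ k : W ⟶ C, k ≫ ι = l' := by
    intro W l l' e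
    obtain ⟨ρ, hρ⟩ := (yon S).map_surjective (sq.lift _ _ e)
    have h1 : ρ ≫ t = l := (yon S).map_injective (by rw [Functor.map_comp, hρ, IsPullback.lift_fst])
    have h2 : ρ ≫ s = l' := (yon S).map_injective (by rw [Functor.map_comp, hρ, IsPullback.lift_snd])
    rw [hfac, hfac, ← h1, ← h2, Over.comp_left, Over.comp_left, Scheme.IdealSheafData.comap_comp,
      Scheme.IdealSheafData.comap_comp, hK R t s ht hs sq.w]
    exact id
  obtain ⟨p, sqp⟩ := exists_isPullback_factor a ι hY hinv
  have hcl : RepWith @IsClosedImmersion (factorι Y a ι) :=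
    repWith_isClosedImmersion_of_cover (locLift_of_atlas ha has) sqp
  exact ⟨factorSheaf Y a ι, factorι Y a ι, hcl, isAlgSpace_of_representable_mono hcl.1 hY,
    (idealOf_eq hcl a sqp).trans hker⟩

/-- The ideal sheaf on an affine etale chart given by a family of ideals. -/
noncomputable def chartIdeal (I : IdealEt Y) {T : Over S} (t : (yon S).obj T ⟶ Y)
    (ht : RepWith @Etale t) (hT : IsAffine T.left) : T.left.IdealSheafData :=
  haveI := hT
  Scheme.IdealSheafData.ofIdealTop (I.ideal (EtOver.mk t ht) hT)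

theorem chartIdeal_congr (I : IdealEt Y) {T : Over S} {t t' : (yon S).obj T ⟶ Y} (e : t = t')
    (ht : RepWith @Etale t) (ht' : RepWith @Etale t') (hT : IsAffine T.left) :
    chartIdeal I t ht hT = chartIdeal I t' ht' hT := by
  subst e
  rfl

theorem chartIdeal_comap {I : IdealEt Y} (hI : I.IsQCoh) {T T' : Over S} (c : T' ⟶ T)
    {t : (yon S).obj T ⟶ Y} {t' : (yon S).obj T' ⟶ Y} (e : (yon S).map c ≫ t = t')
    (ht : RepWith @Etale t) (ht' : RepWith @Etale t') (hT : IsAffine T.left) (hT' : IsAffine T'.left) :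
    (chartIdeal I t ht hT).comap c.left = chartIdeal I t' ht' hT' := by
  haveI := hT
  haveI := hT'
  refine Scheme.IdealSheafData.ext_of_isAffine ?_
  rw [Div89.ideal_comap_top_of_isAffine, chartIdeal, chartIdeal, ofIdealTop_ideal_top,
    ofIdealTop_ideal_top]
  let g : EtOver.mk t' ht' ⟶ EtOver.mk t ht := EtOver.homMk c e
  exact le_antisymm (I.map_le g hT hT') (hI g hT hT')

theorem exists_opens_two {R U V : Scheme.{u}} (p : R ⟶ U) (q : R ⟶ V) (x : R) :
    ∃ (A : U.affineOpens) (B : V.affineOpens) (W : R.affineOpens),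
      W.1 ≤ p ⁻¹ᵁ A.1 ∧ W.1 ≤ q ⁻¹ᵁ B.1 ∧ x ∈ W.1 := by
  obtain ⟨A, y, hy⟩ := exists_mem_affineOpens U (p x)
  obtain ⟨B, z, hz⟩ := exists_mem_affineOpens V (q x)
  obtain ⟨W, hW, hx, hle⟩ := exists_isAffineOpen_mem_and_subset (x := x) (U := p ⁻¹ᵁ A.1 ⊓ q ⁻¹ᵁ B.1)
    ⟨show p x ∈ A.1 from hy ▸ y.2, show q x ∈ B.1 from hz ▸ z.2⟩
  exact ⟨A, B, ⟨W, hW⟩, fun a ha => (hle ha).1, fun a ha => (hle ha).2, hx⟩

/-- The restriction of a morphism over `S` to opens. -/
noncomputable abbrev opRes {R U : Over S} (p : R ⟶ U) (A : U.left.Opens) (W : R.left.Opens)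
    (h : W ≤ p.left ⁻¹ᵁ A) : opOver R W ⟶ opOver U A :=
  Over.homMk (p.left.resLE A W h) (by
    show p.left.resLE A W h ≫ A.ι ≫ U.hom = W.ι ≫ R.hom
    rw [← Category.assoc, Scheme.Hom.resLE_comp_ι, Category.assoc, Over.w p])

theorem opRes_comp {R U : Over S} (p : R ⟶ U) (A : U.left.Opens) (W : R.left.Opens)
    (h : W ≤ p.left ⁻¹ᵁ A) : opRes p A W h ≫ opIncl U A = opIncl R W ≫ p :=
  Over.OverMorphism.ext (Scheme.Hom.resLE_comp_ι _ _)

/-- Pulling an ideal that restricts to the chart ideals back to an affine open of a chart. -/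
theorem comap_comap_eq_chartIdeal {I : IdealEt Y} (hI : I.IsQCoh) {R U : Over S}
    {a : (yon S).obj U ⟶ Y} (ha : RepWith @Etale a) (K : U.left.IdealSheafData)
    (hK : ∀ A : U.left.affineOpens, K.comap A.1.ι =
      chartIdeal I ((yon S).map (opIncl U A.1) ≫ a) (repWith_etale_opIncl ha A.1) A.2)
    (p : R ⟶ U) {b : (yon S).obj R ⟶ Y} (hb : RepWith @Etale b) (e : (yon S).map p ≫ a = b)
    (A : U.left.affineOpens) (W : R.left.affineOpens) (h : W.1 ≤ p.left ⁻¹ᵁ A.1) :
    (K.comap p.left).comap W.1.ι =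
      chartIdeal I ((yon S).map (opIncl R W.1) ≫ b) (repWith_etale_opIncl hb W.1) W.2 := by
  rw [← Scheme.IdealSheafData.comap_comp, ← Scheme.Hom.resLE_comp_ι p.left h,
    Scheme.IdealSheafData.comap_comp, hK A]
  refine chartIdeal_comap hI (opRes p A.1 W.1 h) ?_ _ _ _ _
  rw [← Functor.map_comp_assoc, opRes_comp, Functor.map_comp, Category.assoc, e]

theorem exists_glued_chartIdeal {I : IdealEt Y} (hI : I.IsQCoh) {U : Over S}
    {a : (yon S).obj U ⟶ Y} (ha : RepWith @Etale a) :
    ∃ K : U.left.IdealSheafData, ∀ A : U.left.affineOpens, K.comap A.1.ι =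
      chartIdeal I ((yon S).map (opIncl U A.1) ≫ a) (repWith_etale_opIncl ha A.1) A.2 := by
  let g : ∀ V : U.left.affineOpens, V.1.toScheme ⟶ U.left := fun V => V.1.ι
  let 𝒰 : U.left.OpenCover := U.left.openCoverOfIsOpenCover _ (iSup_affineOpens_eq_top U.left)
  haveI : QuasiCompactCover
      (⟨U.left.affineOpens, fun V => V.1.toScheme, g⟩ : PreZeroHypercover.{u} U.left) :=
    inferInstanceAs (QuasiCompactCover 𝒰.toPreZeroHypercover)
  obtain ⟨K, hK, -⟩ := Desc59.IdealFpqc.existsUnique_comap_eq (g := g)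
    (I := fun V => chartIdeal I ((yon S).map (opIncl U V.1) ≫ a) (repWith_etale_opIncl ha V.1) V.2)
    (fun i j Z x y e => by
      refine (congrArg _ (pullback.lift_fst x y e).symm).trans
        (Eq.trans ?_ (congrArg _ (pullback.lift_snd x y e)))
      rw [Scheme.IdealSheafData.comap_comp, Scheme.IdealSheafData.comap_comp]
      congr 1
      let R : Over S := Over.mk (pullback.fst (g i) (g j) ≫ (opOver U i.1).hom)
      let r₁ : R ⟶ opOver U i.1 := Over.homMk (pullback.fst (g i) (g j)) rfl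
      let r₂ : R ⟶ opOver U j.1 := Over.homMk (pullback.snd (g i) (g j)) (by
        show pullback.snd _ _ ≫ g j ≫ U.hom = pullback.fst _ _ ≫ g i ≫ U.hom
        rw [pullback.condition_assoc])
      have hr : r₁ ≫ opIncl U i.1 = r₂ ≫ opIncl U j.1 := Over.OverMorphism.ext pullback.condition
      refine Desc59.IdealFpqc.ext_of_family (fun W : R.left.affineOpens => W.1.ι)
        (fun W => inferInstance) (fun z => exists_mem_affineOpens R.left z) fun W => ?_
      show ((chartIdeal I ((yon S).map (opIncl U i.1) ≫ a) (repWith_etale_opIncl ha i.1) i.2).comap r₁.left).comap W.1.ι =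
        ((chartIdeal I ((yon S).map (opIncl U j.1) ≫ a) (repWith_etale_opIncl ha j.1) j.2).comap r₂.left).comap W.1.ι
      haveI : Etale r₁.left := inferInstanceAs (Etale (pullback.fst (g i) (g j)))
      rw [← Scheme.IdealSheafData.comap_comp, ← Scheme.IdealSheafData.comap_comp,
        ← show (opIncl R W.1 ≫ r₁).left = W.1.ι ≫ r₁.left from rfl,
        ← show (opIncl R W.1 ≫ r₂).left = W.1.ι ≫ r₂.left from rfl]
      have hW : RepWith @Etale ((yon S).map (opIncl R W.1 ≫ r₁ ≫ opIncl U i.1) ≫ a) := by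
        refine (repWith_isMultiplicative (S := S) @Etale).comp_mem _ _
          ((repWith_yon_map_iff _ _).2 ?_) ha
        show Etale (W.1.ι ≫ r₁.left ≫ i.1.ι)
        infer_instance
      rw [chartIdeal_comap hI (opIncl R W.1 ≫ r₁) (t' := (yon S).map (opIncl R W.1 ≫ r₁ ≫ opIncl U i.1) ≫ a)
          (by simp only [Functor.map_comp, Category.assoc]) _ hW i.2 W.2,
        chartIdeal_comap hI (opIncl R W.1 ≫ r₂) (t' := (yon S).map (opIncl R W.1 ≫ r₁ ≫ opIncl U i.1) ≫ a)
          (by rw [hr]; simp only [Functor.map_comp, Category.assoc]) _ hW j.2 W.2])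
    (fun i => inferInstance) (fun x => exists_mem_affineOpens U.left x)
  exact ⟨K, hK⟩

/-- Quasi-coherent families of ideals cut out closed subspaces. -/
theorem exists_isCutOutBy (hY : IsAlgSpace Y) (I : IdealEt Y) (hI : I.IsQCoh) :
    ∃ (Z : Sp S) (i : Z ⟶ Y), IsAlgSpace Z ∧ IsCutOutBy I i := by
  obtain ⟨U, a, ha, has⟩ := hY.atlas
  obtain ⟨K, hK⟩ := exists_glued_chartIdeal hI ha
  obtain ⟨Z, i, hi, hZ, hid⟩ := exists_closed_of_invariant hY ha has K (fun R t s ht hs w => by
    haveI := ht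
    have hb : RepWith @Etale ((yon S).map t ≫ a) :=
      (repWith_isMultiplicative (S := S) @Etale).comp_mem _ _ ((repWith_yon_map_iff _ _).2 ht) ha
    refine Desc59.IdealFpqc.ext_of_family
      (fun p : {p : (U.left.affineOpens × U.left.affineOpens) × R.left.affineOpens //
        p.2.1 ≤ t.left ⁻¹ᵁ p.1.1.1 ∧ p.2.1 ≤ s.left ⁻¹ᵁ p.1.2.1} => p.1.2.1.ι)
      (fun p => inferInstance) (fun x => ?_) fun p => ?_
    · obtain ⟨A, B, W, h1, h2, hx⟩ := exists_opens_two t.left s.left x
      exact ⟨⟨((A, B), W), h1, h2⟩, ⟨x, hx⟩, rfl⟩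
    · obtain ⟨⟨⟨A, B⟩, W⟩, h1, h2⟩ := p
      show (K.comap t.left).comap W.1.ι = (K.comap s.left).comap W.1.ι
      rw [comap_comap_eq_chartIdeal hI ha K hK t hb rfl A W h1,
        comap_comap_eq_chartIdeal hI ha K hK s hb w.symm B W h2])
  refine ⟨Z, i, hZ, hi, IdealEt.ext (funext fun E => funext fun hE => ?_)⟩
  haveI := hE
  have key : idealOf hi E.obj.hom = chartIdeal I E.obj.hom E.property hE := by
    obtain ⟨R, p, q, hp, hq, sq, -, hqs, hb⟩ := exists_common_chart hY ha E.property
    haveI := hq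
    haveI : Surjective q.left := hqs has
    refine eq_of_flat_surjective q.left ?_
    rw [← idealOf_comp, ← sq.w, idealOf_comp, hid]
    refine Desc59.IdealFpqc.ext_of_family
      (fun x : {x : U.left.affineOpens × R.left.affineOpens //
        x.2.1 ≤ p.left ⁻¹ᵁ x.1.1} => x.1.2.1.ι)
      (fun x => inferInstance) (fun x => ?_) fun x => ?_
    · obtain ⟨A, -, W, h1, -, hx⟩ := exists_opens_two p.left p.left x
      exact ⟨⟨(A, W), h1⟩, ⟨x, hx⟩, rfl⟩
    · obtain ⟨⟨A, W⟩, h1⟩ := x
      show (K.comap p.left).comap W.1.ι = ((chartIdeal I E.obj.hom E.property hE).comap q.left).comap W.1.ι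
      rw [comap_comap_eq_chartIdeal hI ha K hK p hb rfl A W h1, ← Scheme.IdealSheafData.comap_comp,
        ← show (opIncl R W.1 ≫ q).left = W.1.ι ≫ q.left from rfl]
      refine (chartIdeal_comap hI (opIncl R W.1 ≫ q) ?_ _ _ _ _).symm
      rw [Functor.map_comp, Category.assoc, ← sq.w]
  rw [idealOfRep_ideal hi E hE, key, chartIdeal, ofIdealTop_ideal_top]
  rfl

end Groth.Agent.SpPts86
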