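import Groth.Agent.SpPts86.LimitScheme
import Groth.Agent.SpPts86.IdealGlueSp
import Mathlib.Order.Zorn

/-!
A closed subspace minimal among those which are not schemes.
-/

universe u

set_option autoImplicit false
set_option backward.isDefEq.respectTransparency false
set_option linter.style.haveILetI false

open CategoryTheory CategoryTheory.Limits AlgebraicGeometry Opposite
open AlgSp Groth.Agent.SpFP87

namespace Groth.Agent.SpPts86

variable {S : Scheme.{u}} {X : Sp S}

theorem repWith_closedImm_of_fac {Z Z' : Sp S} {i : Z ⟶ X} {i' : Z' ⟶ X} (hi : RepWith @IsClosedImmersion i)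
    [Mono i'] {k : Z ⟶ Z'} (hk : k ≫ i' = i) : RepWith @IsClosedImmersion k := by
  have sq : IsPullback (𝟙 Z) k i i' := by
    refine IsPullback.mk' (by rw [Category.id_comp, hk]) (fun T a b h1 _ => ?_) fun T a b w => ⟨a, ?_, ?_⟩
    · simpa using h1
    · exact Category.comp_id _
    · rw [← cancel_mono i', Category.assoc, hk, w]
  exact (repWith_isStableUnderBaseChange _).of_isPullback sq hi

/-- The closed subspaces which are not schemes have a minimal element. -/
theorem exists_minimal_nonscheme [QuasiSeparatedSpace ↥S] (hX : IsAlgSpace X) (hqc : IsQuasiCompactSp X)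
    (hqs : IsQuasiSeparatedSp X) (hns : ¬ X.obj.IsRepresentable) :
    ∃ (Z : Sp S) (i : Z ⟶ X), IsAlgSpace Z ∧ RepWith @IsClosedImmersion i ∧ ¬ Z.obj.IsRepresentable ∧
      ∀ (Z' : Sp S) (i' : Z' ⟶ Z), IsAlgSpace Z' → RepWith @IsClosedImmersion i' → ¬ IsIso i' →
        Z'.obj.IsRepresentable := by
  obtain ⟨U, a, ha, has⟩ := hX.atlas
  let Bad : Set U.left.IdealSheafData := {K | ∃ (Z : Sp S) (i : Z ⟶ X) (hi : RepWith @IsClosedImmersion i),
    IsAlgSpace Z ∧ idealOf hi a = K ∧ ¬ Z.obj.IsRepresentable}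
  have hinv : ∀ {Z : Sp S} {i : Z ⟶ X} (hi : RepWith @IsClosedImmersion i) {R : Over S} (t s : R ⟶ U),
      (yon S).map t ≫ a = (yon S).map s ≫ a → (idealOf hi a).comap t.left = (idealOf hi a).comap s.left :=
    fun hi R t s e => by rw [← idealOf_comp, e, idealOf_comp]
  have hid : RepWith @IsClosedImmersion (𝟙 X) := (repWith_isMultiplicative (S := S) @IsClosedImmersion).id_mem X
  obtain ⟨K, -, hK⟩ := zorn_le_nonempty₀ Bad (fun C hC hch K₀ hK₀ => by
    refine ⟨sSup C, ?_, fun z hz => le_sSup hz⟩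
    obtain ⟨Z, i, hi, hZA, hZ⟩ := exists_closed_of_invariant hX ha has (sSup C) (fun R t s _ _ e => by
      rw [(Scheme.IdealSheafData.map_gc t.left).l_sSup, (Scheme.IdealSheafData.map_gc s.left).l_sSup]
      refine iSup_congr fun K => iSup_congr fun hK => ?_
      obtain ⟨Z', i', hi', -, hK', -⟩ := hC hK
      rw [← hK']
      exact hinv hi' t s e)
    refine ⟨Z, i, hi, hZA, hZ, fun hrep => ?_⟩
    choose Zc ic hic hA hideal hnr using fun K : ↥C => hC K.2
    haveI : ∀ K, Mono (ic K) := fun K => mono_of_repWith_le isClosedImmersion_le_monomorphisms (hic K)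
    haveI := mono_of_repWith_le isClosedImmersion_le_monomorphisms hi
    have hfac : ∀ {K L : ↥C}, K.1 ≤ L.1 → ∃ k : Zc L ⟶ Zc K, k ≫ ic K = ic L := fun {K L} h =>
      exists_factor_of_idealOf_le (hic L) (hic K) ha has (by rw [hideal, hideal]; exact h)
    choose tr htr using @hfac
    let D : (↥C)ᵒᵖ ⥤ Sp S :=
      { obj := fun K => Zc K.unop
        map := fun h => tr (leOfHom h.unop)
        map_id := fun K => by rw [← cancel_mono (ic K.unop), htr, Category.id_comp]
        map_comp := fun {K L M} f g => by rw [← cancel_mono (ic M.unop), htr, Category.assoc, htr, htr] }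
    choose pr hpr using fun K : ↥C => exists_factor_of_idealOf_le hi (hic K) ha has
      (by rw [hideal, hZ]; exact le_sSup K.2)
    let c : Cone D :=
      { pt := Z
        π :=
          { app := fun K => pr K.unop
            naturality := fun K L h => by
              rw [← cancel_mono (ic L.unop)]
              exact (Category.assoc _ _ _).trans ((Category.id_comp _).trans
                ((hpr L.unop).trans ((hpr K.unop).symm.trans
                  ((congrArg (pr K.unop ≫ ·) (htr (leOfHom h.unop)).symm).trans (Category.assoc _ _ _).symm)))) } }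
    haveI : Nonempty ↥C := ⟨⟨K₀, hK₀⟩⟩
    haveI : IsDirected ↥C (· ≤ ·) := ⟨fun p q => by
      obtain ⟨z, hz, h1, h2⟩ := hch.directedOn _ p.2 _ q.2
      exact ⟨⟨z, hz⟩, h1, h2⟩⟩
    have hlift : ∀ s : Cone D, ∃ l : s.pt ⟶ Z, l ≫ i = s.π.app (op ⟨K₀, hK₀⟩) ≫ ic ⟨K₀, hK₀⟩ := fun s => by
      have hall : ∀ K : ↥C, s.π.app (op K) ≫ ic K = s.π.app (op ⟨K₀, hK₀⟩) ≫ ic ⟨K₀, hK₀⟩ := fun K => by
        obtain ⟨M, h1, h2⟩ := exists_ge_ge K ⟨K₀, hK₀⟩
        rw [← s.w (homOfLE h1).op, ← s.w (homOfLE h2).op, Category.assoc, Category.assoc]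
        exact congrArg (s.π.app (op M) ≫ ·) ((htr _).trans (htr _).symm)
      refine exists_factor_of_forall_yon _ fun T z => exists_lift_of_comap_eq_bot hi ha has _ ?_
      intro T' e r _ w
      rw [hZ, (Scheme.IdealSheafData.map_gc r.left).l_sSup]
      simp only [iSup_eq_bot]
      intro K hK
      obtain ⟨m, hm⟩ := (yon S).map_surjective
        (((hic ⟨K, hK⟩).rep.isPullback a).lift ((yon S).map e ≫ z ≫ s.π.app (op ⟨K, hK⟩)) ((yon S).map r)
          (by rw [Category.assoc, Category.assoc, hall ⟨K, hK⟩, w]))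
      have : m ≫ (hic ⟨K, hK⟩).rep.snd a = r := (yon S).map_injective (by
        rw [Functor.map_comp, hm, IsPullback.lift_snd])
      rw [comap_eq_bot_iff, ← this, Over.comp_left]
      exact (hideal ⟨K, hK⟩).ge.trans (Scheme.Hom.le_ker_comp _ _)
    choose l hl using hlift
    let hc : IsLimit c :=
      { lift := l
        fac := fun s K => by
          rw [← cancel_mono (ic K.unop)]
          show (l s ≫ pr K.unop) ≫ _ = _
          rw [Category.assoc, hpr, hl]
          obtain ⟨M, h1, h2⟩ := exists_ge_ge K.unop ⟨K₀, hK₀⟩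
          show _ = s.π.app (op K.unop) ≫ _
          rw [← s.w (homOfLE h1).op, ← s.w (homOfLE h2).op, Category.assoc, Category.assoc]
          exact congrArg (s.π.app (op M) ≫ ·) ((htr _).trans (htr _).symm)
        uniq := fun s m hm => by
          rw [← cancel_mono i, hl, ← hm (op ⟨K₀, hK₀⟩), Category.assoc]
          exact congrArg (m ≫ ·) (hpr _).symm }
    obtain ⟨K, hKr⟩ := exists_isRepresentable_of_limit (D := D) (fun K => hA _)
      (fun K L h => isAffineMor_of_closedImm (repWith_closedImm_of_fac (hic K.unop) (htr (leOfHom h.unop))))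
      (fun K => isQuasiCompactSp_of_isAffineMor hX (isAffineMor_of_closedImm (hic _)) hqc)
      (fun K => isQuasiSeparatedSp_of_isAffineMor hX hqs (isAffineMor_of_closedImm (hic _))) hc hrep
    exact hnr K.unop hKr) _ ⟨X, 𝟙 X, hid, hX, rfl, hns⟩
  obtain ⟨Z, i, hi, hZA, hZK, hZns⟩ := hK.prop
  refine ⟨Z, i, hZA, hi, hZns, fun Z' i' hZ' hi' hne => by_contra fun hbad => hne ?_⟩
  have hc : RepWith @IsClosedImmersion (i' ≫ i) :=
    (repWith_isMultiplicative (S := S) @IsClosedImmersion).comp_mem _ _ hi' hi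
  have hle : K ≤ idealOf hc a := by
    rw [← hZK]
    exact (idealOf_le_imIdeal hi ⟨i', rfl⟩ a).trans (imIdeal_closed_eq hc a).le
  obtain ⟨k, hk⟩ := exists_factor_of_idealOf_le hi hc ha has
    (by rw [hZK]; exact hK.le_of_ge ⟨Z', _, hc, hZ', rfl, hbad⟩ hle)
  haveI := mono_of_repWith_le isClosedImmersion_le_monomorphisms hi
  haveI := mono_of_repWith_le isClosedImmersion_le_monomorphisms hi'
  have h1 : k ≫ i' = 𝟙 Z := by rw [← cancel_mono i, Category.assoc, hk, Category.id_comp]
  exact ⟨k, by rw [← cancel_mono i', Category.assoc, h1, Category.comp_id, Category.id_comp], h1⟩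

end Groth.Agent.SpPts86
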