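import Groth.Agent.SpPts86.SliceSp
import Groth.Agent.SpFP87.Basic
import Mathlib.CategoryTheory.Limits.Constructions.Over.Connected
import Mathlib.CategoryTheory.Comma.Over.Pullback

/-!
Algebraic spaces over `S` as algebraic spaces over `S'` with a map to `h_S`.
-/

universe u

set_option autoImplicit false
set_option backward.isDefEq.respectTransparency false
set_option linter.style.haveILetI false

open CategoryTheory CategoryTheory.Limits AlgebraicGeometry Opposite
open AlgSp

namespace Groth.Agent.SpPts86.Slice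

variable {S S' : Scheme.{u}} (g : S ⟶ S') {F G : Sp S}

theorem isPullback_eFun {P X Y Z : Sp S} {fst : P ⟶ X} {snd : P ⟶ Y} {a : X ⟶ Z} {b : Y ⟶ Z}
    (sq : IsPullback fst snd a b) :
    IsPullback ((eFun g).map fst) ((eFun g).map snd) ((eFun g).map a) ((eFun g).map b) :=
  (eOver g ⋙ Over.forget (hB g)).map_isPullback sq

theorem isPullback_of_eFun {P X Y Z : Sp S} {fst : P ⟶ X} {snd : P ⟶ Y} {a : X ⟶ Z} {b : Y ⟶ Z}
    (sq : IsPullback ((eFun g).map fst) ((eFun g).map snd) ((eFun g).map a) ((eFun g).map b)) :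
    IsPullback fst snd a b := by
  have h1 : IsPullback ((eOver g).map fst) ((eOver g).map snd) ((eOver g).map a) ((eOver g).map b) :=
    IsPullback.of_map (Over.forget (hB g)) (Over.OverMorphism.ext sq.w) sq
  exact IsPullback.of_map (eOver g) ((eOver g).map_injective (by rw [Functor.map_comp, Functor.map_comp, h1.w])) h1

theorem eFun_map_surjective (c : (eFun g).obj F ⟶ (eFun g).obj G) (w : c ≫ eπ g G = eπ g F) :
    ∃ b : F ⟶ G, (eFun g).map b = c := by
  obtain ⟨b, hb⟩ := (eOver g).map_surjective (Over.homMk c w : (eOver g).obj F ⟶ (eOver g).obj G)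
  exact ⟨b, congrArg CommaMorphism.left hb⟩

/-- A scheme over `S'` with a map to `S` over `S'` is one over `S`. -/
theorem exists_iso_map {T' : Over S'} (q : T' ⟶ Over.mk g) :
    ∃ (T : Over S) (ι : T' ≅ (Over.map g).obj T),
      ι.hom ≫ (Over.homMk T.hom rfl : (Over.map g).obj T ⟶ Over.mk g) = q := by
  refine ⟨Over.mk q.left, Over.isoMk (Iso.refl _) ?_, ?_⟩
  · simpa using Over.w q
  · ext
    exact Category.id_comp _

/-- Points of an extension are extensions of points. -/
theorem exists_eq_map {T' : Over S'}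
    (x : (yon S').obj T' ⟶ (eFun g).obj G) :
    ∃ (T : Over S) (ι : T' ≅ (Over.map g).obj T) (y : (yon S).obj T ⟶ G),
      (eFun g).map y = (eYon g T).hom ≫ (yon S').map ι.inv ≫ x := by
  obtain ⟨q, hq⟩ := (yon S').map_surjective (x ≫ eπ g G)
  obtain ⟨T, ι, hι⟩ := exists_iso_map g q
  obtain ⟨y, hy⟩ := eFun_map_surjective g ((eYon g T).hom ≫ (yon S').map ι.inv ≫ x) (by
    rw [Category.assoc, Category.assoc, ← hq, ← Functor.map_comp, ← hι, Iso.inv_hom_id_assoc, eYon_π])
  exact ⟨T, ι, y, hy⟩

variable {P : MorphismProperty Scheme.{u}} [P.IsStableUnderBaseChange] {f : F ⟶ G}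

theorem repWith_eFun (hf : RepWith P f) : RepWith P ((eFun g).map f) := by
  refine MorphismProperty.relative.of_exists fun T' x => ?_
  obtain ⟨T, ι, y, hy⟩ := exists_eq_map g (x := x)
  obtain ⟨W, snd, fst, sq⟩ := hf.rep y
  haveI : P.RespectsIso := MorphismProperty.IsStableUnderBaseChange.respectsIso
  refine ⟨(Over.map g).obj W, (eYon g W).inv ≫ (eFun g).map fst, (Over.map g).map snd ≫ ι.inv, ?_, ?_⟩
  · refine IsPullback.of_iso (isPullback_eFun g sq) (eYon g W) (Iso.refl _)
      (eYon g T ≪≫ (yon S').mapIso ι.symm) (Iso.refl _) (by simp) ?_ (by simp) ?_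
    · rw [Iso.trans_hom, Functor.mapIso_hom, Iso.symm_hom, ← Category.assoc, eYon_natural, Functor.map_comp,
        Category.assoc]
    · rw [Iso.refl_hom, Category.comp_id, hy, Iso.trans_hom, Functor.mapIso_hom, Iso.symm_hom, Category.assoc]
  · change P ((Over.map g).map snd ≫ ι.inv).left
    rw [Over.comp_left]
    haveI : IsIso ι.inv.left := inferInstanceAs (IsIso ((Over.forget S').map ι.inv))
    exact (MorphismProperty.cancel_right_of_respectsIso P _ _).2 (hf.property y fst snd sq)

theorem repWith_of_eFun (hf : RepWith P ((eFun g).map f)) : RepWith P f := by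
  refine MorphismProperty.relative.of_exists fun T x => ?_
  obtain ⟨V', snd', fst', sq⟩ := hf.rep ((eYon g T).inv ≫ (eFun g).map x)
  have hP := hf.property _ fst' snd' sq
  let q : V' ⟶ Over.mk g := snd' ≫ Over.homMk T.hom rfl
  let V : Over S := Over.mk q.left
  let ι : V' ≅ (Over.map g).obj V := Over.isoMk (Iso.refl _) (by simpa [V] using Over.w q)
  let snd : V ⟶ T := Over.homMk snd'.left rfl
  have hsnd : (Over.map g).map snd = ι.inv ≫ snd' := by
    ext
    exact (Category.id_comp _).symm
  let c := (eYon g V).hom ≫ (yon S').map ι.inv ≫ fst'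
  have w1 : c ≫ (eFun g).map f = (eFun g).map ((yon S).map snd) ≫ (eFun g).map x := by
    simp only [c, Category.assoc, sq.w]
    rw [← Functor.map_comp_assoc, ← hsnd, ← Category.assoc, ← eYon_natural, Category.assoc,
      Iso.hom_inv_id_assoc]
  obtain ⟨fst, hfst⟩ := eFun_map_surjective g c (by
    rw [← eπ_naturality g f, ← Category.assoc, w1, Category.assoc, eπ_naturality, eπ_naturality])
  refine ⟨V, fst, snd, isPullback_of_eFun g (IsPullback.of_iso sq
    ((yon S').mapIso ι ≪≫ (eYon g V).symm) (Iso.refl _) (eYon g T).symm (Iso.refl _) ?_ ?_ (by simp) ?_), hP⟩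
  · simp [hfst, c, ← Functor.map_comp_assoc]
  · rw [Iso.trans_hom, Functor.mapIso_hom, Iso.symm_hom, Category.assoc]
    rw [← cancel_mono (eYon g T).hom]
    simp only [Category.assoc, Iso.symm_hom, Iso.inv_hom_id, Category.comp_id]
    rw [eYon_natural, Iso.inv_hom_id_assoc, ← Functor.map_comp, hsnd, Iso.hom_inv_id_assoc]
  · simp

theorem repWith_top_iff {A B : Sp S} (a : A ⟶ B) :
    RepWith (⊤ : MorphismProperty Scheme.{u}) a ↔ Representable a :=
  ⟨fun h => h.1, fun h => ⟨h, fun _ _ _ _ _ _ => trivial⟩⟩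

theorem repWith_eFun_iff : RepWith P ((eFun g).map f) ↔ RepWith P f :=
  ⟨repWith_of_eFun g, repWith_eFun g⟩

theorem representable_eFun_iff : Representable ((eFun g).map f) ↔ Representable f := by
  rw [← repWith_top_iff, ← repWith_top_iff (S := S)]
  exact repWith_eFun_iff g

theorem isAlgSpace_eFun_iff (F : Sp S) : IsAlgSpace ((eFun g).obj F) ↔ IsAlgSpace F := by
  constructor
  · intro h
    refine ⟨Functor.relativelyRepresentable.diag_of_map_from_obj fun T x => ?_, ?_⟩
    · refine (representable_eFun_iff g).1 ?_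
      have := h.representable_from_yon ((eYon g T).inv ≫ (eFun g).map x)
      have := MorphismProperty.RespectsIso.precomp Representable (eYon g T).hom _ this
      rwa [Iso.hom_inv_id_assoc] at this
    · obtain ⟨U', p', hp, hps⟩ := h.atlas
      obtain ⟨U, ι, p, hp'⟩ := exists_eq_map g (x := p')
      refine ⟨U, p, repWith_of_eFun g ?_, repWith_of_eFun g ?_⟩
      · rw [hp', ← Category.assoc]; exact MorphismProperty.RespectsIso.precomp _ _ _ hp
      · rw [hp', ← Category.assoc]; exact MorphismProperty.RespectsIso.precomp _ _ _ hps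
  · intro h
    refine ⟨Functor.relativelyRepresentable.diag_of_map_from_obj fun T' x => ?_, ?_⟩
    · obtain ⟨T, ι, y, hy⟩ := exists_eq_map g (x := x)
      have := (representable_eFun_iff g).2 (h.representable_from_yon y)
      have := MorphismProperty.RespectsIso.precomp Representable ((yon S').map ι.hom ≫ (eYon g T).inv) _ this
      rwa [hy, Category.assoc, Iso.inv_hom_id_assoc, ← Functor.map_comp_assoc, Iso.hom_inv_id,
        CategoryTheory.Functor.map_id, Category.id_comp] at this
    · obtain ⟨U, p, hp, hps⟩ := h.atlas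
      exact ⟨(Over.map g).obj U, (eYon g U).inv ≫ (eFun g).map p,
        MorphismProperty.RespectsIso.precomp _ _ _ (repWith_eFun g hp),
        MorphismProperty.RespectsIso.precomp _ _ _ (repWith_eFun g hps)⟩

theorem isAlgSpace_res_iff (H : Sp S') : IsAlgSpace ((res g).obj H) ↔ IsAlgSpace (hB g ⨯ H) := by
  let adj : eOver g ⋙ Over.forget (hB g) ⊣ Over.star (hB g) ⋙ (eOver g).inv :=
    (eOver g).asEquivalence.toAdjunction.comp (Over.forgetAdjStar (hB g))
  let i : (res g).obj H ≅ (eOver g).inv.obj ((Over.star (hB g)).obj H) :=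
    ((eAdj g).rightAdjointUniq adj).app H
  let j : (eFun g).obj ((eOver g).inv.obj ((Over.star (hB g)).obj H)) ≅ ((Over.star (hB g)).obj H).left :=
    (Over.forget (hB g)).mapIso ((eOver g).asEquivalence.counitIso.app _)
  rw [isAlgSpace_iff_of_iso i, ← isAlgSpace_eFun_iff g, isAlgSpace_iff_of_iso j]
  exact Iff.rfl

theorem isAlgSpace_prod {A B : Sp S} (hA : IsAlgSpace A) (hB' : IsAlgSpace B) : IsAlgSpace (A ⨯ B) := by
  have hT : IsTerminal ((yon S).obj (Over.mk (𝟙 S))) := IsTerminal.isTerminalObj (yon S) _ Over.mkIdTerminal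
  exact Groth.Agent.SpFP87.isAlgSpace_of_isPullback (IsPullback.of_is_product (prodIsProd A B) hT) hA hB'
    (IsAlgSpace.yon_obj _).diag

end Groth.Agent.SpPts86.Slice
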