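import Groth.Agent.SpPts86.LimitScheme
import Groth.Agent.SpPts86.SliceAlg
import Groth.Agent.SpPts86.Proper
import Groth.Agent.LimTop61.StalkLimit

/-!
A quasi-compact quasi-separated space over a base is a scheme as soon as it is so over the local rings.
-/

universe u

set_option autoImplicit false
set_option backward.isDefEq.respectTransparency false
set_option linter.style.haveILetI false

open CategoryTheory CategoryTheory.Limits AlgebraicGeometry Opposite
open AlgSp Groth.Agent.SpFP87 Groth.Agent.SpPts86.Slice Groth.Agent.LimTop61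

namespace Groth.Agent.SpPts86

variable {S S' : Scheme.{u}} (g : S ⟶ S')

theorem isRepresentable_eFun_iff (F : Sp S) :
    ((eFun g).obj F).obj.IsRepresentable ↔ F.obj.IsRepresentable := by
  constructor
  · intro h
    obtain ⟨T', ⟨e⟩⟩ := h.has_representation
    let φ : (yon S').obj T' ≅ (eFun g).obj F := isoOfRepresentableBy e
    obtain ⟨T, ι, y, hy⟩ := exists_eq_map g φ.hom
    have h1 : IsIso ((eFun g).map y) := by rw [hy]; infer_instance
    have h2 : IsIso ((eOver g).map y) := by
      have : IsIso ((Over.forget (hB g)).map ((eOver g).map y)) := h1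
      exact isIso_of_reflects_iso _ (Over.forget (hB g))
    haveI : IsIso y := isIso_of_reflects_iso y (eOver g)
    exact isRepresentable_of_iso (asIso y)
  · intro h
    obtain ⟨T, ⟨e⟩⟩ := h.has_representation
    let φ : (yon S).obj T ≅ F := isoOfRepresentableBy e
    exact isRepresentable_of_iso ((eYon g T).symm ≪≫ (eFun g).mapIso φ)

theorem eπ_eq_map_toTerminal {F : Sp S} (toT : F ⟶ (yon S).obj (Over.mk (𝟙 S))) :
    (eFun g).map toT ≫ eπ g _ = eπ g F := eπ_naturality g toT

theorem isIso_eπ_terminal : IsIso (eπ g ((yon S).obj (Over.mk (𝟙 S)))) := by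
  rw [← eYon_π]
  have : IsIso (Over.homMk (Over.mk (𝟙 S)).hom rfl : (Over.map g).obj (Over.mk (𝟙 S)) ⟶ Over.mk g) := by
    have : IsIso ((Over.forget S').map
        (Over.homMk (Over.mk (𝟙 S)).hom rfl : (Over.map g).obj (Over.mk (𝟙 S)) ⟶ Over.mk g)) :=
      inferInstanceAs (IsIso (𝟙 S))
    exact isIso_of_reflects_iso _ (Over.forget S')
  infer_instance

/-- The restriction of a quasi-compact quasi-separated space over the base to an affine open. -/
theorem exists_restrict_affine {X : Sp S'} (hX : IsAlgSpace X) (q : X ⟶ (yon S').obj (Over.mk (𝟙 S')))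
    (hqc : IsQuasiCompactMor q) (hqs : IsQuasiSeparatedMor q) [IsAffine S] :
    ∃ (F : Sp S) (p : (eFun g).obj F ⟶ X), IsAlgSpace F ∧ IsQuasiCompactSp F ∧ IsQuasiSeparatedSp F ∧
      IsPullback p (eπ g F) q ((yon S').map (Over.homMk g (Category.comp_id _) : Over.mk g ⟶ Over.mk (𝟙 S'))) := by
  let j : hB g ⟶ (yon S').obj (Over.mk (𝟙 S')) :=
    (yon S').map (Over.homMk g (Category.comp_id _) : Over.mk g ⟶ Over.mk (𝟙 S'))
  let P : Over (hB g) := Over.mk (pullback.snd q j)
  let F := (eOver g).objPreimage P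
  let e : (eOver g).obj F ≅ P := (eOver g).objObjPreimageIso P
  have hew : e.hom.left ≫ pullback.snd q j = eπ g F := Over.w e.hom
  have : IsIso e.hom.left := inferInstanceAs (IsIso ((Over.forget (hB g)).map e.hom))
  let p : (eFun g).obj F ⟶ X := e.hom.left ≫ pullback.fst q j
  have sq : IsPullback p (eπ g F) q j := by
    refine (IsPullback.of_hasPullback q j).of_iso (asIso e.hom.left).symm (Iso.refl _) (Iso.refl _) (Iso.refl _)
      (by simp [p]) ?_ (by simp) (by simp)
    rw [Iso.refl_hom, Category.comp_id, Iso.symm_hom, asIso_inv, IsIso.eq_inv_comp, hew]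
  have hFA : IsAlgSpace F :=
    (isAlgSpace_eFun_iff g F).1 (isAlgSpace_of_isPullback sq hX (IsAlgSpace.yon_obj _) (IsAlgSpace.yon_obj _).diag)
  refine ⟨F, p, hFA, ?_, ?_, sq⟩
  · haveI : CompactSpace ↥(Over.mk g).left := inferInstanceAs (CompactSpace ↥S)
    obtain ⟨U', u, hu, hus, hU'⟩ := hqc (IsAlgSpace.yon_obj _) (isQuasiCompactSp_yon (Over.mk g)) j p _ sq
    obtain ⟨T, ι, y, hy⟩ := exists_eq_map g u
    refine ⟨T, y, repWith_of_eFun g ?_, repWith_of_eFun g ?_, ?_⟩
    · rw [hy, ← Category.assoc]; exact MorphismProperty.RespectsIso.precomp _ _ _ hu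
    · rw [hy, ← Category.assoc]; exact MorphismProperty.RespectsIso.precomp _ _ _ hus
    · haveI : IsIso ι.hom.left := inferInstanceAs (IsIso ((Over.forget S').map ι.hom))
      haveI := hU'
      exact (asIso ι.hom.left).hom.homeomorph.compactSpace
  · let hT : IsTerminal ((yon S).obj (Over.mk (𝟙 S))) := IsTerminal.isTerminalObj (yon S) _ Over.mkIdTerminal
    have sq0 : IsPullback (prod.fst : F ⨯ F ⟶ F) prod.snd (hT.from F) (hT.from F) :=
      IsPullback.of_is_product (prodIsProd F F) hT
    have := isIso_eπ_terminal g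
    have sq1 : IsPullback ((eFun g).map (prod.fst : F ⨯ F ⟶ F)) ((eFun g).map prod.snd) (eπ g F) (eπ g F) :=
      (isPullback_eFun g sq0).of_iso (Iso.refl _) (Iso.refl _) (Iso.refl _) (asIso (eπ g _))
        (by simp) (by simp) (by simp [eπ_naturality]) (by simp [eπ_naturality])
    refine repWith_of_eFun g ?_
    have hd : (eFun g).map (Limits.diag F) ≫ sq1.isoPullback.hom = pullback.diagonal (eπ g F) := by
      apply pullback.hom_ext
      · simp [← Functor.map_comp]
      · simp [← Functor.map_comp]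
    refine (MorphismProperty.cancel_right_of_respectsIso (RepWith @QuasiCompact) _ sq1.isoPullback.hom).1 ?_
    rw [hd]
    exact (repWith_isStableUnderBaseChange _).of_isPullback (isPullback_diagonal_baseChange sq) hqs

variable {g}

theorem exists_open_subscheme_of_stalk [IsOpenImmersion g] [IsAffine S] {X : Sp S'} (hX : IsAlgSpace X)
    (q : X ⟶ (yon S').obj (Over.mk (𝟙 S'))) (hqc : IsQuasiCompactMor q) (hqs : IsQuasiSeparatedMor q)
    (x : Points X) (w : ↥S) (hw : Points.map q x = Points.schemeHomeo (Over.mk (𝟙 S')) (g w))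
    (hP : ∀ (P : Sp S') (fst : P ⟶ X) (snd : P ⟶ (yon S').obj (Over.mk (S'.fromSpecStalk (g w)))),
      IsPullback fst snd q ((yon S').map (Over.homMk (S'.fromSpecStalk _))) → P.obj.IsRepresentable) :
    ∃ (V : Over S') (j : (yon S').obj V ⟶ X), RepWith @IsOpenImmersion j ∧
      x ∈ Set.range (Points.ofPt j) := by
  obtain ⟨F, p, hFA, hFqc, hFqs, sqF⟩ := exists_restrict_affine g hX q hqc hqs
  let hT : IsTerminal ((yon S).obj (Over.mk (𝟙 S))) := IsTerminal.isTerminalObj (yon S) _ Over.mkIdTerminal
  /- the neighbourhoods of `w` -/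
  let E : (AffineNhd S w)ᵒᵖ ⥤ Over S :=
    { obj := fun j => Over.mk ((nhdι S w).app j)
      map := fun {j k} h => Over.homMk ((nhdSpec S w).map h) (by
        exact ((nhdι S w).naturality h).trans (Category.comp_id _))
      map_id := fun j => by ext; exact (nhdSpec S w).map_id j
      map_comp := fun a b => by ext; exact (nhdSpec S w).map_comp a b }
  let cE : Cone E :=
    { pt := Over.mk (S.fromSpecStalk w)
      π :=
        { app := fun j => Over.homMk ((nhdCone S w).π.app j) (nhdCone_π_ι S w j)
          naturality := fun j k h => by ext; exact (nhdCone S w).π.naturality h } }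
  haveI : IsConnected (AffineNhd S w)ᵒᵖ := IsCofiltered.isConnected _
  have hcE : IsLimit cE := isLimitOfReflects (Over.forget S) (isLimitNhdCone S w)
  have hY : IsLimit ((yon S).mapCone cE) := isLimitOfPreserves (yon S) hcE
  let t : ∀ j, (E ⋙ yon S).obj j ⟶ (yon S).obj (Over.mk (𝟙 S)) := fun j => hT.from _
  have ht : ∀ {j k : (AffineNhd S w)ᵒᵖ} (h : j ⟶ k), (E ⋙ yon S).map h ≫ t k = t j := fun h => hT.hom_ext _ _
  have hta : ∀ j, IsAffineMor (t j) := fun j => by
    obtain ⟨a, ha⟩ := (yon S).map_surjective (t j)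
    rw [← ha]
    refine isAffineMor_of_repWith ((repWith_yon_map_iff _ _).2 ?_)
    haveI : IsAffine (E.obj j).left := inferInstanceAs (IsAffine ((nhdSpec S w).obj j))
    haveI : IsAffine (Over.mk (𝟙 S)).left := inferInstanceAs (IsAffine S)
    exact isAffineHom_of_isAffine _
  have hpa : ∀ j, IsAffineMor (pullback.snd (t j) (hT.from F)) := fun j =>
    isAffineMor_of_isPullback (IsPullback.of_hasPullback _ _) (hta j)
  let gL : ((yon S).mapCone cE).pt ⟶ (yon S).obj (Over.mk (𝟙 S)) := hT.from _
  /- the limit is a scheme -/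
  have hlim : (pullback gL (hT.from F)).obj.IsRepresentable := by
    refine (isRepresentable_eFun_iff g _).1 ?_
    have sq1 : IsPullback ((eFun g).map (pullback.snd gL (hT.from F))) ((eFun g).map (pullback.fst gL (hT.from F)))
        (eπ g F) (eπ g ((yon S).obj cE.pt)) := by
      have := isIso_eπ_terminal g
      exact (isPullback_eFun g (IsPullback.of_hasPullback gL (hT.from F)).flip).of_iso
        (Iso.refl _) (Iso.refl _) (Iso.refl _) (asIso (eπ g _))
        (by simp) (by simp) (by simp [eπ_naturality]) (by simp [gL, eπ_naturality])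
    have sq2 := sq1.paste_horiz sqF
    let σ : (Over.map g).obj cE.pt ≅ Over.mk (S'.fromSpecStalk (g w)) :=
      Over.isoMk (asIso (Spec.map (g.stalkMap w))) (Scheme.SpecMap_stalkMap_fromSpecStalk g)
    let ε := eYon g cE.pt ≪≫ (yon S').mapIso σ
    refine hP _ ((eFun g).map (pullback.snd gL (hT.from F)) ≫ p)
      ((eFun g).map (pullback.fst gL (hT.from F)) ≫ ε.hom) ?_
    refine sq2.of_iso (Iso.refl _) (Iso.refl _) ε (Iso.refl _) (by simp) (by simp) (by simp) ?_
    rw [Iso.refl_hom, Category.comp_id, ← eYon_π]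
    simp only [ε, Iso.trans_hom, Functor.mapIso_hom, Category.assoc, ← Functor.map_comp]
    congr 2
    ext
    exact (Scheme.SpecMap_stalkMap_fromSpecStalk g).symm
  haveI : QuasiSeparatedSpace ↥S := inferInstance
  obtain ⟨j, hj⟩ := exists_isRepresentable_of_limit (D := pbSystem t ht (hT.from F))
    (fun j => isAlgSpace_pullback _ _ (IsAlgSpace.yon_obj _) hFA (IsAlgSpace.yon_obj _))
    (fun j k h => isAffineMor_of_isPullback (isPullback_pbSystem t ht (hT.from F) h).flip (by
      refine isAffineMor_of_repWith ((repWith_yon_map_iff _ (E.map h)).2 ?_)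
      exact inferInstanceAs (IsAffineHom ((nhdSpec S w).map h))))
    (fun j => isQuasiCompactSp_of_isAffineMor hFA (hpa j) hFqc)
    (fun j => isQuasiSeparatedSp_of_isAffineMor hFA hFqs (hpa j))
    (pbIsLimit (c := (yon S).mapCone cE) t ht (hT.from F) gL (fun j => hT.hom_ext _ _) hY) hlim
  obtain ⟨V, ⟨e⟩⟩ := ((isRepresentable_eFun_iff g _).2 hj).has_representation
  let φ : (yon S').obj V ≅ (eFun g).obj (pullback (t j) (hT.from F)) := isoOfRepresentableBy e
  have hto : RepWith @IsOpenImmersion (t j) := by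
    have : t j = (yon S).map (Over.homMk ((nhdι S w).app j) : E.obj j ⟶ Over.mk (𝟙 S)) := hT.hom_ext _ _
    rw [this]
    exact (repWith_yon_map_iff _ _).2
      (inferInstanceAs (IsOpenImmersion (OrderDual.ofDual j.unop).1.2.fromSpec))
  let u := φ.hom ≫ (eFun g).map (pullback.snd (t j) (hT.from F)) ≫ p
  have hu : RepWith @IsOpenImmersion u :=
    (MorphismProperty.cancel_left_of_respectsIso (RepWith @IsOpenImmersion) φ.hom _).2
      ((repWith_isMultiplicative (S := S') @IsOpenImmersion).comp_mem _ _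
        (repWith_eFun g ((repWith_isStableUnderBaseChange _).of_isPullback (IsPullback.of_hasPullback _ _) hto))
        ((repWith_isStableUnderBaseChange _).of_isPullback sqF.flip
          ((repWith_yon_map_iff _ _).2 (inferInstanceAs (IsOpenImmersion g)))))
  refine ⟨V, u, hu, ?_⟩
  obtain ⟨z₁, hz₁, hz₂⟩ := exists_of_isPullback sqF x (Points.schemeHomeo (Over.mk g) w) (by
    rw [hw, Points.map_yon_map_apply]; rfl)
  obtain ⟨v, hv⟩ : w ∈ Set.range (OrderDual.ofDual j.unop).1.2.fromSpec := by
    rw [IsAffineOpen.range_fromSpec]; exact (OrderDual.ofDual j.unop).2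
  have sqj : IsPullback ((eFun g).map (pullback.snd (t j) (hT.from F))) ((eFun g).map (pullback.fst (t j) (hT.from F)))
      (eπ g F) (eπ g ((E ⋙ yon S).obj j)) := by
    have := isIso_eπ_terminal g
    exact (isPullback_eFun g (IsPullback.of_hasPullback (t j) (hT.from F)).flip).of_iso
      (Iso.refl _) (Iso.refl _) (Iso.refl _) (asIso (eπ g _))
      (by simp) (by simp) (by simp [eπ_naturality]) (by simp [eπ_naturality])
  obtain ⟨z₃, hz₃, -⟩ := exists_of_isPullback sqj z₁
    (Points.map (eYon g (E.obj j)).inv (Points.schemeHomeo ((Over.map g).obj (E.obj j)) v)) (by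
      refine hz₂.trans ?_
      show _ = Points.map (eπ g ((yon S).obj (E.obj j))) _
      rw [← eYon_π, ← Points.map_comp, Iso.inv_hom_id_assoc, Points.map_yon_map_apply]
      exact congrArg _ hv.symm)
  obtain ⟨v', hv'⟩ := (Points.schemeHomeo V).surjective (Points.map φ.inv z₃)
  refine ⟨v', ?_⟩
  rw [Points.ofPt_eq_map_ofScheme, show Points.ofScheme V v' = Points.map φ.inv z₃ from hv', ← Points.map_comp]
  simp only [u, Iso.inv_hom_id_assoc]
  rw [Points.map_comp, hz₃, hz₁]

theorem isRepresentable_of_local_base_changes {X : Sp S'} (hX : IsAlgSpace X)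
    (q : X ⟶ (yon S').obj (Over.mk (𝟙 S'))) (hqc : IsQuasiCompactMor q) (hqs : IsQuasiSeparatedMor q)
    (h : ∀ x : Points X, ∀ (P : Sp S') (fst : P ⟶ X)
      (snd : P ⟶ (yon S').obj (Over.mk (S'.fromSpecStalk ((Points.schemeHomeo (Over.mk (𝟙 S'))).symm (Points.map q x))))),
      IsPullback fst snd q ((yon S').map (Over.homMk (S'.fromSpecStalk _))) → P.obj.IsRepresentable) :
    X.obj.IsRepresentable := by
  have hx : ∀ x : Points X, ∃ (V : Over S') (j : (yon S').obj V ⟶ X), RepWith @IsOpenImmersion j ∧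
      x ∈ Set.range (Points.ofPt j) := by
    intro x
    obtain ⟨W, hW, hsW, -⟩ := exists_isAffineOpen_mem_and_subset
      (x := (Points.schemeHomeo (Over.mk (𝟙 S'))).symm (Points.map q x)) (U := (⊤ : S'.Opens)) trivial
    haveI : IsAffine W.toScheme := hW
    exact exists_open_subscheme_of_stalk (g := W.ι) hX q hqc hqs x ⟨_, hsW⟩
      ((Homeomorph.apply_symm_apply _ _).symm) (h x)
  choose V j hj hxj using hx
  -- a set of points indexes the cover
  obtain ⟨A, a, -, has⟩ := hX.atlas
  obtain ⟨U, ⟨e⟩⟩ := exists_iso_of_open_cover (ι := ↥A.left)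
    (fun s => V (Points.ofPt a s)) (fun s => j _) (fun s => hj _) (fun x => by
      obtain ⟨s, rfl⟩ := surjective_ofPt has x
      exact ⟨s, hxj _⟩)
  exact isRepresentable_of_iso e

end Groth.Agent.SpPts86
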