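import Groth.Agent.SpPts86.LimitScheme
import Groth.Agent.SpPts86.Proper
import Groth.Agent.SpFP87.YonProper
import Mathlib.Order.Zorn

/-!
An ideal maximal among those over which a space is not a scheme.
-/

universe u

set_option autoImplicit false
set_option backward.isDefEq.respectTransparency false
set_option linter.style.haveILetI false

open CategoryTheory CategoryTheory.Limits AlgebraicGeometry Opposite
open AlgSp Groth.Agent.SpFP87

namespace Groth.Agent.SpPts86

variable (A : CommRingCat.{u})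

/-- The closed subscheme of an ideal, over the base. -/
noncomputable abbrev quotOver (I : Ideal A) : Over (Spec A) :=
  Over.mk (Spec.map (CommRingCat.ofHom (Ideal.Quotient.mk I)))

variable {A}

theorem exists_map_quotOver {I I' : Ideal A} (h : I ≤ I') :
    (CommRingCat.ofHom (Ideal.Quotient.mk I) ≫ CommRingCat.ofHom (Ideal.Quotient.factor h) :
      A ⟶ CommRingCat.of (A ⧸ I')) = CommRingCat.ofHom (Ideal.Quotient.mk I') := by
  ext a; rfl

variable (c : Set (Ideal A))

/-- The rings `A / I` for the ideals of a family. -/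
noncomputable def quotRings : ↥c ⥤ CommRingCat.{u} where
  obj I := CommRingCat.of (A ⧸ (I.1 : Ideal A))
  map {I J} h := CommRingCat.ofHom (Ideal.Quotient.factor (leOfHom h : I.1 ≤ J.1))
  map_id I := by ext x; rfl
  map_comp f g := by ext x; rfl

/-- Their cocone to the quotient by the union. -/
noncomputable def quotCocone : Cocone (quotRings c) where
  pt := CommRingCat.of (A ⧸ (sSup c : Ideal A))
  ι :=
    { app := fun I => CommRingCat.ofHom (Ideal.Quotient.factor (le_sSup I.2))
      naturality := fun I J h => by ext x; obtain ⟨a, rfl⟩ := Ideal.Quotient.mk_surjective x; rfl }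

theorem exists_isColimit_quotCocone (hne : c.Nonempty) (hdir : DirectedOn (· ≤ ·) c) :
    Nonempty (IsColimit (quotCocone c)) := by
  haveI : Nonempty ↥c := hne.to_subtype
  haveI : IsDirected ↥c (· ≤ ·) := ⟨fun a b => by
    obtain ⟨z, hz, h1, h2⟩ := hdir _ a.2 _ b.2
    exact ⟨⟨z, hz⟩, h1, h2⟩⟩
  let G := CategoryTheory.forget CommRingCat.{u}
  have : ReflectsColimit (quotRings c) G := reflectsColimit_of_reflectsIsomorphisms _ G
  refine ⟨isColimitOfReflects G (Types.FilteredColimit.isColimitOf _ _ (fun s => ?_)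
    (fun i j si sj hij => ?_))⟩
  · obtain ⟨a, rfl⟩ := Ideal.Quotient.mk_surjective s
    exact ⟨Classical.arbitrary _, Ideal.Quotient.mk _ a, rfl⟩
  · obtain ⟨a, rfl⟩ := Ideal.Quotient.mk_surjective si
    obtain ⟨b, rfl⟩ := Ideal.Quotient.mk_surjective sj
    have hab : a - b ∈ sSup c := Ideal.Quotient.eq.1 hij
    obtain ⟨k, hk, hkab⟩ := (Submodule.mem_sSup_of_directed hne hdir).1 hab
    obtain ⟨l, hl1, hl2⟩ := exists_ge_ge i j
    obtain ⟨m, hm1, hm2⟩ := exists_ge_ge l ⟨k, hk⟩
    refine ⟨m, homOfLE (hl1.trans hm1), homOfLE (hl2.trans hm1), ?_⟩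
    exact Ideal.Quotient.eq.2 (hm2 hkab)

variable {c}

theorem exists_stage_of_chain {X : Sp (Spec A)} (hX : IsAlgSpace X)
    (q : X ⟶ (yon (Spec A)).obj (Over.mk (𝟙 (Spec A)))) (hqc : IsQuasiCompactMor q) (hqs : IsQuasiSeparatedMor q)
    (hne : c.Nonempty) (hdir : DirectedOn (· ≤ ·) c) {P : Sp (Spec A)} {fst : P ⟶ X}
    {snd : P ⟶ (yon (Spec A)).obj (quotOver A (sSup c))}
    (sq : IsPullback fst snd q
      ((yon (Spec A)).map (Over.homMk (Spec.map (CommRingCat.ofHom (Ideal.Quotient.mk (sSup c)))))))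
    (hP : P.obj.IsRepresentable) :
    ∃ I ∈ c, ∀ (P : Sp (Spec A)) (fst : P ⟶ X) (snd : P ⟶ (yon (Spec A)).obj (quotOver A I)),
      IsPullback fst snd q ((yon (Spec A)).map (Over.homMk (Spec.map (CommRingCat.ofHom (Ideal.Quotient.mk I))))) →
        P.obj.IsRepresentable := by
  haveI : Nonempty ↥c := hne.to_subtype
  haveI : IsDirected ↥c (· ≤ ·) := ⟨fun a b => by
    obtain ⟨z, hz, h1, h2⟩ := hdir _ a.2 _ b.2
    exact ⟨⟨z, hz⟩, h1, h2⟩⟩
  let hT : IsTerminal ((yon (Spec A)).obj (Over.mk (𝟙 (Spec A)))) :=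
    IsTerminal.isTerminalObj (yon (Spec A)) _ Over.mkIdTerminal
  let E : (↥c)ᵒᵖ ⥤ Over (Spec A) :=
    { obj := fun I => quotOver A I.unop.1
      map := fun {I J} h => Over.homMk (Spec.map ((quotRings c).map h.unop)) (by
        show Spec.map _ ≫ Spec.map _ = Spec.map _
        rw [← Spec.map_comp]
        exact congrArg Spec.map (exists_map_quotOver (leOfHom h.unop)))
      map_id := fun I => by ext; exact (congrArg Spec.map ((quotRings c).map_id I.unop)).trans (Spec.map_id _)
      map_comp := fun f g => by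
        ext; exact (congrArg Spec.map ((quotRings c).map_comp g.unop f.unop)).trans (Spec.map_comp _ _) }
  let cE : Cone E :=
    { pt := quotOver A (sSup c)
      π :=
        { app := fun I => Over.homMk (Spec.map ((quotCocone c).ι.app I.unop)) (by
            show Spec.map _ ≫ Spec.map _ = Spec.map _
            rw [← Spec.map_comp]
            exact congrArg Spec.map (exists_map_quotOver (le_sSup I.unop.2)))
          naturality := fun I J h => by
            ext
            show 𝟙 _ ≫ Spec.map _ = Spec.map _ ≫ Spec.map _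
            rw [Category.id_comp, ← Spec.map_comp]
            exact congrArg Spec.map ((quotCocone c).w h.unop).symm } }
  haveI : IsConnected (↥c)ᵒᵖ := IsCofiltered.isConnected _
  haveI : IsConnected ↥c := IsFiltered.isConnected _
  obtain ⟨hcol⟩ := exists_isColimit_quotCocone c hne hdir
  have hS : IsLimit ((Over.forget (Spec A)).mapCone cE) :=
    (IsLimit.equivOfNatIsoOfIso (Iso.refl _) (Scheme.Spec.mapCone (quotCocone c).op) _
      (Cone.ext (Iso.refl _) fun I => (Category.comp_id _).trans (Category.id_comp _).symm)).toFun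
      (isLimitOfPreserves Scheme.Spec hcol.op)
  have hcE : IsLimit cE := isLimitOfReflects (Over.forget (Spec A)) hS
  let t : ∀ j, (E ⋙ yon (Spec A)).obj j ⟶ (yon (Spec A)).obj (Over.mk (𝟙 (Spec A))) := fun j => hT.from _
  have ht : ∀ {j k : (↥c)ᵒᵖ} (h : j ⟶ k), (E ⋙ yon (Spec A)).map h ≫ t k = t j := fun h => hT.hom_ext _ _
  have hpa : ∀ j, IsAffineMor (pullback.snd (t j) q) := fun j => by
    refine isAffineMor_of_isPullback (IsPullback.of_hasPullback _ _) ?_
    obtain ⟨a, ha⟩ := (yon (Spec A)).map_surjective (t j)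
    rw [← ha]
    refine isAffineMor_of_repWith ((repWith_yon_map_iff _ _).2 ?_)
    haveI : IsAffine (E.obj j).left := inferInstanceAs (IsAffine (Spec _))
    haveI : IsAffine (Over.mk (𝟙 (Spec A))).left := inferInstanceAs (IsAffine (Spec A))
    exact isAffineHom_of_isAffine _
  have hXqc : IsQuasiCompactSp X := by
    haveI : CompactSpace ↥(Over.mk (𝟙 (Spec A))).left := inferInstanceAs (CompactSpace ↥(Spec A))
    exact hqc (IsAlgSpace.yon_obj _) (isQuasiCompactSp_yon _) (𝟙 _) (𝟙 X) q (IsPullback.of_horiz_isIso ⟨by simp⟩)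
  have hXqs : IsQuasiSeparatedSp X := isQuasiSeparatedSp_of_toBase q hqs
  haveI : QuasiSeparatedSpace ↥(Spec A) := inferInstance
  have hlim : (pullback (hT.from ((yon (Spec A)).obj cE.pt)) q).obj.IsRepresentable := by
    obtain ⟨T, ⟨e⟩⟩ := hP.has_representation
    have sq' : IsPullback snd fst (hT.from ((yon (Spec A)).obj cE.pt)) q := by
      convert sq.flip using 1
      exact hT.hom_ext _ _
    exact isRepresentable_of_iso ((isoOfRepresentableBy e : (yon (Spec A)).obj T ≅ P) ≪≫
      sq'.isoPullback)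
  obtain ⟨j, hj⟩ := exists_isRepresentable_of_limit (D := pbSystem t ht q)
    (fun j => isAlgSpace_pullback _ _ (IsAlgSpace.yon_obj _) hX (IsAlgSpace.yon_obj _))
    (fun j k h => isAffineMor_of_isPullback (isPullback_pbSystem t ht q h).flip (by
      refine isAffineMor_of_repWith ((repWith_yon_map_iff _ (E.map h)).2 ?_)
      haveI : IsAffine (E.obj j).left := inferInstanceAs (IsAffine (Spec _))
      haveI : IsAffine (E.obj k).left := inferInstanceAs (IsAffine (Spec _))
      exact isAffineHom_of_isAffine _))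
    (fun j => isQuasiCompactSp_of_isAffineMor hX (hpa j) hXqc)
    (fun j => isQuasiSeparatedSp_of_isAffineMor hX hXqs (hpa j))
    (pbIsLimit (c := (yon (Spec A)).mapCone cE) t ht q (hT.from _) (fun j => hT.hom_ext _ _)
      (isLimitOfPreserves (yon (Spec A)) hcE)) hlim
  refine ⟨j.unop.1, j.unop.2, fun P' fst' snd' sq' => ?_⟩
  obtain ⟨T, ⟨e⟩⟩ := hj.has_representation
  have sq'' : IsPullback snd' fst' (t j) q := by
    convert sq'.flip using 1
    exact hT.hom_ext _ _
  exact isRepresentable_of_iso ((isoOfRepresentableBy e : (yon (Spec A)).obj T ≅ (pbSystem t ht q).obj j) ≪≫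
    sq''.isoPullback.symm)

theorem exists_maximal_nonscheme_ideal {X : Sp (Spec A)} (hX : IsAlgSpace X)
    (q : X ⟶ (yon (Spec A)).obj (Over.mk (𝟙 (Spec A)))) (hqc : IsQuasiCompactMor q) (hqs : IsQuasiSeparatedMor q)
    (hns : ¬ X.obj.IsRepresentable) :
    ∃ I : Ideal A,
      (∀ (P : Sp (Spec A)) (fst : P ⟶ X) (snd : P ⟶ (yon (Spec A)).obj (quotOver A I)),
        IsPullback fst snd q ((yon (Spec A)).map (Over.homMk (Spec.map (CommRingCat.ofHom (Ideal.Quotient.mk I))))) →
          ¬ P.obj.IsRepresentable) ∧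
      ∀ I' : Ideal A, I < I' → ∀ (P : Sp (Spec A)) (fst : P ⟶ X) (snd : P ⟶ (yon (Spec A)).obj (quotOver A I')),
        IsPullback fst snd q ((yon (Spec A)).map (Over.homMk (Spec.map (CommRingCat.ofHom (Ideal.Quotient.mk I'))))) →
          P.obj.IsRepresentable := by
  let Bad : Set (Ideal A) := {I | ∀ (P : Sp (Spec A)) (fst : P ⟶ X) (snd : P ⟶ (yon (Spec A)).obj (quotOver A I)),
    IsPullback fst snd q ((yon (Spec A)).map (Over.homMk (Spec.map (CommRingCat.ofHom (Ideal.Quotient.mk I))))) →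
      ¬ P.obj.IsRepresentable}
  have hbot : (⊥ : Ideal A) ∈ Bad := by
    intro P fst snd sq hP
    have : IsIso (CommRingCat.ofHom (Ideal.Quotient.mk (⊥ : Ideal A))) :=
      (ConcreteCategory.isIso_iff_bijective _).2
        ⟨(injective_iff_map_eq_zero _).2 fun a ha => Ideal.mem_bot.1 (Ideal.Quotient.eq_zero_iff_mem.1 ha),
          Ideal.Quotient.mk_surjective⟩
    have : IsIso (Over.homMk (Spec.map (CommRingCat.ofHom (Ideal.Quotient.mk (⊥ : Ideal A)))) :
        quotOver A ⊥ ⟶ Over.mk (𝟙 (Spec A))) := by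
      have : IsIso ((Over.forget (Spec A)).map (Over.homMk (Spec.map (CommRingCat.ofHom (Ideal.Quotient.mk (⊥ : Ideal A)))) :
          quotOver A ⊥ ⟶ Over.mk (𝟙 (Spec A)))) :=
        inferInstanceAs (IsIso (Spec.map (CommRingCat.ofHom (Ideal.Quotient.mk (⊥ : Ideal A)))))
      exact isIso_of_reflects_iso _ (Over.forget (Spec A))
    haveI := sq.isIso_fst_of_isIso
    obtain ⟨T, ⟨e⟩⟩ := hP.has_representation
    exact hns (isRepresentable_of_iso ((isoOfRepresentableBy e : (yon (Spec A)).obj T ≅ P) ≪≫ asIso fst))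
  obtain ⟨I, -, hI⟩ := zorn_le_nonempty₀ Bad (fun c hc hch y hy => ⟨sSup c, fun P fst snd sq hP => by
    obtain ⟨I, hIc, hI⟩ := exists_stage_of_chain hX q hqc hqs ⟨y, hy⟩ hch.directedOn sq hP
    have sqI := IsPullback.of_hasPullback q ((yon (Spec A)).map
      (Over.homMk (Spec.map (CommRingCat.ofHom (Ideal.Quotient.mk I))) : quotOver A I ⟶ Over.mk (𝟙 (Spec A))))
    exact hc hIc _ _ _ sqI (hI _ _ _ sqI), fun z hz => le_sSup hz⟩) ⊥ hbot
  refine ⟨I, hI.prop, fun I' hI' P fst snd sq => ?_⟩
  have hI'B : I' ∉ Bad := fun h => hI'.not_ge (hI.le_of_ge h hI'.le)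
  simp only [Bad, Set.mem_setOf_eq, not_forall, not_not] at hI'B
  obtain ⟨P', fst', snd', sq', hP'⟩ := hI'B
  obtain ⟨T, ⟨e⟩⟩ := hP'.has_representation
  exact isRepresentable_of_iso ((isoOfRepresentableBy e : (yon (Spec A)).obj T ≅ P') ≪≫ sq'.isoIsPullback _ _ sq)

end Groth.Agent.SpPts86
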