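import Groth.Agent.SpPts86.DecentPts
import Mathlib.Algebra.Category.Ring.Limits
import Mathlib.Algebra.Category.Ring.FilteredColimits
import Mathlib.CategoryTheory.Limits.ConcreteCategory.Basic

/-!
Points of cofiltered limits of decent spaces.
-/

universe u

set_option autoImplicit false
set_option backward.isDefEq.respectTransparency false
set_option linter.style.haveILetI false

open CategoryTheory CategoryTheory.Limits AlgebraicGeometry Opposite
open AlgSp

namespace Groth.Agent.SpPts86

variable {S : Scheme.{u}} {X : Sp S}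

/-- A representative factors through a monomorphic one. -/
theorem exists_factor_of_mono {p q : FieldPt X} [Mono p.toHom] (hp : Representable p.toHom)
    (h : Points.mk q = Points.mk p) : ∃ a : q.pt ⟶ p.pt, (yon S).map a ≫ p.toHom = q.toHom := by
  obtain ⟨V, snd, fst, sq⟩ := hp q.toHom
  obtain ⟨ψ, rfl⟩ := (yon S).map_surjective fst
  obtain ⟨v, -, -⟩ := exists_pt_of_isPullback' sq (IsLocalRing.closedPoint p.K)
    (IsLocalRing.closedPoint q.K) ((Points.ofPt_toHom p _).trans (h.symm.trans (Points.ofPt_toHom q _).symm))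
  have : Nonempty ↥V.left := ⟨v⟩
  have : Mono ((yon S).map snd) :=
    MorphismProperty.of_isPullback (P := MorphismProperty.monomorphisms (Sp S)) sq ‹Mono p.toHom›
  have : Mono snd := (yon S).mono_of_mono_map (f := snd) ‹_›
  have : Mono snd.left := inferInstanceAs (Mono ((Over.forget S).map snd))
  have : IsIso snd.left := isIso_of_mono_spec_field (L := q.K) snd.left
  have : IsIso ((Over.forget S).map snd) := inferInstanceAs (IsIso snd.left)
  have : IsIso snd := isIso_of_reflects_iso snd (Over.forget S)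
  refine ⟨inv snd ≫ ψ, ?_⟩
  rw [Functor.map_comp, Category.assoc, sq.w, ← Category.assoc, ← Functor.map_comp,
    IsIso.inv_hom_id, CategoryTheory.Functor.map_id, Category.id_comp]

theorem mk_eq_mk_of_comp {p q : FieldPt X} {T : Over S} (a : T ⟶ p.pt) (b : T ⟶ q.pt) {Ω : Type u} [Field Ω]
    {w : Spec (CommRingCat.of Ω) ⟶ S} (hT : T = Over.mk w)
    (h : (yon S).map a ≫ p.toHom = (yon S).map b ≫ q.toHom) : Points.mk p = Points.mk q := by
  subst hT
  refine Points.sound ⟨Ω, inferInstance, w, a, b, ?_⟩
  rw [← FieldPt.toHom_app p a, ← FieldPt.toHom_app q b]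
  exact congrArg (fun k : (yon S).obj (Over.mk w) ⟶ X => k.hom.app (op (Over.mk w)) ⟨𝟙 _⟩) h

/-- A filtered colimit of fields is a field. -/
theorem isField_colimit {J : Type u} [SmallCategory J] [IsFiltered J] (F : J ⥤ CommRingCat.{u})
    (h : ∀ j, IsField (F.obj j)) : IsField (colimit F : CommRingCat.{u}) := by
  refine ⟨⟨0, 1, fun e => ?_⟩, mul_comm, fun {a} ha => ?_⟩
  · haveI : Nonempty J := IsFiltered.nonempty
    let j : J := Classical.arbitrary J
    rw [← map_zero (colimit.ι F j).hom, ← map_one (colimit.ι F j).hom] at e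
    obtain ⟨k, g₁, g₂, hk⟩ := Concrete.colimit_exists_of_rep_eq F (0 : F.obj j) (1 : F.obj j) e
    rw [map_zero, map_one] at hk
    haveI := (h k).nontrivial
    exact zero_ne_one hk
  · obtain ⟨j, x, rfl⟩ := Concrete.colimit_exists_rep F a
    have hx : x ≠ 0 := fun hx => ha (by rw [hx]; exact map_zero _)
    obtain ⟨y, hy⟩ := (h j).mul_inv_cancel hx
    exact ⟨(colimit.ι F j) y, by rw [← map_mul, hy, map_one]⟩

variable {I : Type u} [SmallCategory I] [IsCofiltered I] {D : I ⥤ Sp S} {c : Cone D}

/-- Compatible monomorphic representatives. -/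
structure MonoPts (D : I ⥤ Sp S) where
  /-- the representatives -/
  p : ∀ i, FieldPt (D.obj i)
  mono : ∀ i, Mono (p i).toHom
  rep : ∀ i, Representable (p i).toHom
  compat : ∀ (i j : I) (φ : i ⟶ j), Points.mk ((p i).map (D.map φ)) = Points.mk (p j)

variable (P : MonoPts D)

theorem MonoPts.exists_trans {i j : I} (φ : i ⟶ j) :
    ∃ a : (P.p i).pt ⟶ (P.p j).pt, (yon S).map a ≫ (P.p j).toHom = (P.p i).toHom ≫ D.map φ := by
  haveI := P.mono j
  obtain ⟨a, ha⟩ := exists_factor_of_mono (P.rep j) (P.compat i j φ)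
  exact ⟨a, ha.trans (FieldPt.toHom_map _ _)⟩

theorem MonoPts.eq_of_comp {T : Over S} {j : I} {a b : T ⟶ (P.p j).pt}
    (h : (yon S).map a ≫ (P.p j).toHom = (yon S).map b ≫ (P.p j).toHom) : a = b :=
  haveI := P.mono j
  (yon S).map_injective ((cancel_mono _).1 h)

/-- The system of residue field spectra. -/
noncomputable def MonoPts.ptSys : I ⥤ Over S where
  obj i := (P.p i).pt
  map φ := (P.exists_trans φ).choose
  map_id i := P.eq_of_comp (by
    rw [(P.exists_trans (𝟙 i)).choose_spec, D.map_id, Category.comp_id, CategoryTheory.Functor.map_id,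
      Category.id_comp])
  map_comp {i j k} φ ψ := P.eq_of_comp (by
    rw [(P.exists_trans (φ ≫ ψ)).choose_spec, D.map_comp, Functor.map_comp, Category.assoc,
      (P.exists_trans ψ).choose_spec, ← Category.assoc ((yon S).map _), (P.exists_trans φ).choose_spec,
      Category.assoc])

theorem MonoPts.map_ptSys {i j : I} (φ : i ⟶ j) :
    (yon S).map (P.ptSys.map φ) ≫ (P.p j).toHom = (P.p i).toHom ≫ D.map φ := (P.exists_trans φ).choose_spec

/-- The system of fields. -/
noncomputable def MonoPts.fields : Iᵒᵖ ⥤ CommRingCat.{u} where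
  obj i := CommRingCat.of (P.p i.unop).K
  map g := Spec.preimage (P.ptSys.map g.unop).left
  map_id i := Spec.map_injective (by simp; rfl)
  map_comp g g' := Spec.map_injective (by simp)

/-- The common residue field. -/
noncomputable abbrev MonoPts.K : CommRingCat.{u} := colimit P.fields

theorem MonoPts.isField_K : IsField P.K := isField_colimit _ fun i => Field.toIsField (P.p i.unop).K

/-- The projection from the spectrum of the common residue field. -/
noncomputable def MonoPts.projS (i : I) : Spec P.K ⟶ (P.p i).pt.left := Spec.map (colimit.ι P.fields (op i))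

theorem MonoPts.projS_comp {i j : I} (φ : i ⟶ j) : P.projS i ≫ (P.ptSys.map φ).left = P.projS j := by
  show Spec.map _ ≫ _ = Spec.map _
  rw [← colimit.w P.fields φ.op, Spec.map_comp]
  exact congrArg (_ ≫ ·) (Spec.map_preimage _).symm

theorem MonoPts.str_eq (i j : I) : P.projS i ≫ (P.p i).str = P.projS j ≫ (P.p j).str := by
  have key : ∀ {i j : I} (φ : i ⟶ j), P.projS i ≫ (P.p i).str = P.projS j ≫ (P.p j).str := fun {i j} φ => by
    rw [← P.projS_comp φ, Category.assoc]
    exact congrArg (_ ≫ ·) (Over.w (P.ptSys.map φ)).symm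
  exact (key (IsCofiltered.minToLeft i j)).symm.trans (key (IsCofiltered.minToRight i j))

theorem MonoPts.exists_point (hc : IsLimit c) :
    ∃ x : Points c.pt, ∀ i, Points.map (c.π.app i) x = Points.mk (P.p i) := by
  letI := P.isField_K.toField
  haveI : Nonempty I := IsCofiltered.nonempty
  let i₀ : I := Classical.arbitrary I
  let w : Spec P.K ⟶ S := P.projS i₀ ≫ (P.p i₀).str
  let b : ∀ i, Over.mk w ⟶ (P.p i).pt := fun i => Over.homMk (P.projS i) (P.str_eq i i₀)
  let cK : Cone D :=
    { pt := (yon S).obj (Over.mk w)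
      π :=
        { app := fun i => (yon S).map (b i) ≫ (P.p i).toHom
          naturality := fun i j φ => by
            dsimp only [Functor.const_obj_obj, Functor.const_obj_map]
            rw [Category.id_comp, Category.assoc, ← P.map_ptSys φ, ← Category.assoc, ← Functor.map_comp]
            exact congrArg (fun k => (yon S).map k ≫ (P.p j).toHom) (Over.OverMorphism.ext (P.projS_comp φ)).symm } }
  let l := hc.lift cK
  let q : FieldPt c.pt := ⟨P.K, w, (J S).uliftYonedaEquiv l⟩
  have hq : q.toHom = l := (J S).uliftYonedaEquiv.injective (FieldPt.uliftYonedaEquiv_toHom q)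
  refine ⟨Points.mk q, fun i => ?_⟩
  rw [Points.map_mk]
  refine mk_eq_mk_of_comp (T := Over.mk w) (p := q.map (c.π.app i)) (𝟙 _) (b i) (Ω := P.K) rfl ?_
  rw [CategoryTheory.Functor.map_id, Category.id_comp, FieldPt.toHom_map, hq]
  exact hc.fac cK i

theorem MonoPts.exists_cocone (q : FieldPt c.pt) (h : ∀ i, Points.map (c.π.app i) (Points.mk q) = Points.mk (P.p i)) :
    ∃ (a : ∀ i, q.pt ⟶ (P.p i).pt) (g : P.K ⟶ CommRingCat.of q.K),
      (∀ i, (yon S).map (a i) ≫ (P.p i).toHom = q.toHom ≫ c.π.app i) ∧
        ∀ i, Spec.map g ≫ P.projS i = (a i).left := by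
  have := fun i => haveI := P.mono i; exists_factor_of_mono (P.rep i) (h i)
  choose a ha using this
  have ha' : ∀ i, (yon S).map (a i) ≫ (P.p i).toHom = q.toHom ≫ c.π.app i := fun i =>
    (ha i).trans (FieldPt.toHom_map _ _)
  have hcomp : ∀ {i j : I} (φ : i ⟶ j), a i ≫ P.ptSys.map φ = a j := fun {i j} φ => P.eq_of_comp (by
    rw [Functor.map_comp, Category.assoc, P.map_ptSys, ← Category.assoc, ha', ha', Category.assoc, c.w φ])
  let cc : Cocone P.fields :=
    { pt := CommRingCat.of q.K
      ι :=
        { app := fun i => Spec.preimage (a i.unop).left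
          naturality := fun i j g => Spec.map_injective (by
            simp [MonoPts.fields, ← Over.comp_left, hcomp g.unop]) } }
  refine ⟨a, colimit.desc _ cc, ha', fun i => ?_⟩
  rw [MonoPts.projS, ← Spec.map_comp, colimit.ι_desc]
  exact Spec.map_preimage _

theorem MonoPts.eq_of_map_eq (hc : IsLimit c) {x x' : Points c.pt}
    (h : ∀ i, Points.map (c.π.app i) x = Points.mk (P.p i))
    (h' : ∀ i, Points.map (c.π.app i) x' = Points.mk (P.p i)) : x = x' := by
  letI := P.isField_K.toField
  induction x using Points.ind with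
  | h q =>
    induction x' using Points.ind with
    | h q' =>
      obtain ⟨a, g, ha, hg⟩ := P.exists_cocone q h
      obtain ⟨a', g', ha', hg'⟩ := P.exists_cocone q' h'
      obtain ⟨Ω, _, i₁, i₂, hi⟩ := FieldPt.exists_amalgamation g.hom g'.hom
      haveI : Nonempty I := IsCofiltered.nonempty
      let i₀ : I := Classical.arbitrary I
      let m : Spec (CommRingCat.of Ω) ⟶ Spec P.K := Spec.map (g ≫ CommRingCat.ofHom i₁)
      have hm' : m = Spec.map (g' ≫ CommRingCat.ofHom i₂) := congrArg Spec.map (CommRingCat.hom_ext hi)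
      let w : Spec (CommRingCat.of Ω) ⟶ S := m ≫ P.projS i₀ ≫ (P.p i₀).str
      let d : Over.mk w ⟶ q.pt := Over.homMk (Spec.map (CommRingCat.ofHom i₁)) (by
        show _ ≫ q.str = m ≫ P.projS i₀ ≫ (P.p i₀).str
        rw [show q.str = (a i₀).left ≫ (P.p i₀).str from (Over.w (a i₀)).symm]
        simp only [m, Spec.map_comp, Category.assoc]
        rw [← reassoc_of% (hg i₀)])
      let d' : Over.mk w ⟶ q'.pt := Over.homMk (Spec.map (CommRingCat.ofHom i₂)) (by
        show _ ≫ q'.str = m ≫ P.projS i₀ ≫ (P.p i₀).str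
        rw [show q'.str = (a' i₀).left ≫ (P.p i₀).str from (Over.w (a' i₀)).symm, hm']
        simp only [Spec.map_comp, Category.assoc]
        rw [← reassoc_of% (hg' i₀)])
      refine mk_eq_mk_of_comp (T := Over.mk w) d d' (Ω := Ω) rfl (hc.hom_ext fun i => ?_)
      rw [Category.assoc, Category.assoc, ← ha i, ← ha' i, ← Category.assoc, ← Category.assoc,
        ← Functor.map_comp, ← Functor.map_comp]
      refine congrArg (fun k => (yon S).map k ≫ (P.p i).toHom) (Over.OverMorphism.ext ?_)
      show Spec.map _ ≫ (a i).left = Spec.map _ ≫ (a' i).left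
      rw [← hg i, ← hg' i, ← Category.assoc, ← Category.assoc, ← Spec.map_comp, ← Spec.map_comp]
      exact congrArg (fun k => Spec.map k ≫ P.projS i) (CommRingCat.hom_ext hi)

theorem exists_monoPts (hdec : ∀ i, IsDecent (D.obj i)) (s : ∀ i, Points (D.obj i))
    (hs : ∀ (i j : I) (φ : i ⟶ j), Points.map (D.map φ) (s i) = s j) :
    ∃ P : MonoPts D, ∀ i, Points.mk (P.p i) = s i := by
  choose p hp hm hr using fun i => hdec i (s i)
  exact ⟨⟨p, hm, fun i => (hr i).1, fun i j φ => by rw [← Points.map_mk, hp, hs, hp]⟩, hp⟩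

end Groth.Agent.SpPts86
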