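import Groth.Agent.SpPts86.LimAffine
import Groth.Agent.SpPts86.SchImagePoints
import Mathlib.AlgebraicGeometry.AffineTransitionLimit

/-!
The topology of a limit along affine transition maps.
-/

universe u

set_option autoImplicit false
set_option backward.isDefEq.respectTransparency false
set_option linter.style.haveILetI false

open CategoryTheory CategoryTheory.Limits AlgebraicGeometry Opposite
open AlgSp

namespace Groth.Agent.SpPts86

variable {S : Scheme.{u}} {I : Type u} [SmallCategory I] [IsCofiltered I] {D : I ⥤ Sp S}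

/-- Open sets of a limit are unions of preimages. -/
theorem exists_open_preimage_le (hD : ∀ i, IsAlgSpace (D.obj i))
    (hDa : ∀ (i j : I) (φ : i ⟶ j), IsAffineMor (D.map φ)) {c : Cone D} (hc : IsLimit c)
    {U : Set (Points c.pt)} (hU : IsOpen U) {x : Points c.pt} (hx : x ∈ U) :
    ∃ (i : I) (W : Set (Points (D.obj i))), IsOpen W ∧ Points.map (c.π.app i) x ∈ W ∧
      Points.map (c.π.app i) ⁻¹' W ⊆ U := by
  obtain ⟨i⟩ := IsCofiltered.nonempty (C := I)
  obtain ⟨T, a, v, hT, ha, hv⟩ := exists_affine_chart_pt (hD i) (Points.map (c.π.app i) x)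
  obtain ⟨W, fst, w, cL, -, hLS, fL, iL, hsq, hW, -, -, hiL, hfL, sq, hL⟩ :=
    exists_affine_limit_chart hDa hc i hT a
  obtain ⟨u, hu, -⟩ := exists_pt_of_isPullback sq x v hv.symm
  haveI : ∀ {k l : Over i} (φ : k ⟶ l), IsAffineHom ((W ⋙ Over.forget S).map φ) := fun {k l} φ => by
    haveI : IsAffine ((W ⋙ Over.forget S).obj k) := hW k
    haveI : IsAffine ((W ⋙ Over.forget S).obj l) := hW l
    exact isAffineHom_of_isAffine _
  let U' : ((Over.forget S).mapCone cL).pt.Opens :=
    ⟨Points.ofPt fL ⁻¹' U, hU.preimage (Points.continuous_ofPt fL)⟩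
  obtain ⟨_, ⟨k, V, -, rfl⟩, huV, hVU⟩ :=
    TopologicalSpace.Opens.isBasis_iff_nbhd.1 (isBasis_preimage_isAffineOpen _ _ hLS)
      (U := U') (x := u) (show Points.ofPt fL u ∈ U by rw [hu]; exact hx)
  have hfk : RepWith @Etale (fst k) := MorphismProperty.of_isPullback (hsq k).flip ha
  refine ⟨k.left, Points.ofPt (fst k) '' V.1, isOpenMap_ofPt hfk _ V.isOpen,
    ⟨(cL.π.app k).left u, huV, ?_⟩, ?_⟩
  · rw [← hu, Points.map_ofPt, hfL, ofPt_comp]
    rfl
  · rintro y ⟨z, hz, e⟩
    have key : Points.map (c.π.app i) y = Points.ofPt a ((w k).left z) := by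
      rw [← c.w k.hom, Points.map_comp, ← e, Points.map_ofPt, (hsq k).w, ofPt_comp]
    obtain ⟨y', hy1, hy2⟩ : ∃ y' : ↥cL.pt.left, Points.ofPt fL y' = y ∧ (cL.π.app k).left y' = z := by
      have sqk : IsPullback fL ((yon S).map (cL.π.app k)) (c.π.app k.left) (fst k) := by
        refine IsPullback.of_bot ?_ (hfL k) (hsq k)
        rw [c.w k.hom, ← Functor.map_comp, hiL k]
        exact sq
      exact exists_pt_of_isPullback sqk y z e.symm
    rw [← hy1]
    exact hVU (show (cL.π.app k).left y' ∈ V by rw [hy2]; exact hz)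

theorem topologicalSpace_limit (hD : ∀ i, IsAlgSpace (D.obj i))
    (hDa : ∀ (i j : I) (φ : i ⟶ j), IsAffineMor (D.map φ)) {c : Cone D} (hc : IsLimit c) :
    Points.topologicalSpace c.pt =
      ⨅ i, TopologicalSpace.induced (Points.map (c.π.app i)) (Points.topologicalSpace (D.obj i)) := by
  refine le_antisymm (le_iInf fun i => continuous_iff_le_induced.1 (Points.continuous_map _)) ?_
  intro U hU
  refine (@isOpen_iff_forall_mem_open _ (s := U) (⨅ i, TopologicalSpace.induced (Points.map (c.π.app i))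
    (Points.topologicalSpace (D.obj i)))).2 fun x hx => ?_
  obtain ⟨i, W, hWo, hxW, hWU⟩ := exists_open_preimage_le hD hDa hc hU hx
  have hle : (⨅ j, TopologicalSpace.induced (Points.map (c.π.app j)) (Points.topologicalSpace (D.obj j))) ≤
      TopologicalSpace.induced (Points.map (c.π.app i)) (Points.topologicalSpace (D.obj i)) := iInf_le _ i
  have hopen : @IsOpen _ (TopologicalSpace.induced (Points.map (c.π.app i)) (Points.topologicalSpace (D.obj i)))
      (Points.map (c.π.app i) ⁻¹' W) := ⟨W, hWo, rfl⟩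
  exact ⟨_, hWU, hle _ hopen, hxW⟩

end Groth.Agent.SpPts86
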