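import Groth.Agent.SpPts86.LimitAffineMor
import Groth.Agent.SpPts86.FiniteCrit

/-!
Integral limits of systems with finite transition maps are eventually finite.
-/

universe u

set_option autoImplicit false
set_option backward.isDefEq.respectTransparency false
set_option linter.style.haveILetI false

open CategoryTheory CategoryTheory.Limits AlgebraicGeometry
open AlgSp Groth.Agent.SpFP87

namespace Groth.Agent.SpPts86

/-- A finite-type affine stage of an integral limit of finite transition maps becomes integral. -/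
theorem exists_isIntegralHom_stage {J : Type u} [SmallCategory J] [IsCofiltered J]
    (F : J ⥤ Scheme.{u}) [∀ j, IsAffine (F.obj j)] {c : Cone F} (hc : IsLimit c) {V : Scheme.{u}}
    [IsAffine V] {j : J} (s : F.obj j ⟶ V) [LocallyOfFiniteType s]
    (hfin : ∀ (k : J) (φ : k ⟶ j), IsFinite (F.map φ)) [IsAffine c.pt]
    (hint : IsIntegralHom (c.π.app j ≫ s)) :
    ∃ (k : J) (φ : k ⟶ j), IsIntegralHom (F.map φ ≫ s) := by
  classical
  let A := Γ(V, ⊤)
  let B₀ := Γ(F.obj j, ⊤)
  letI : Algebra A B₀ := s.appTop.hom.toAlgebra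
  have : Algebra.FiniteType A B₀ :=
    RingHom.finiteType_algebraMap.mp
      ((HasRingHomProperty.iff_of_isAffine (P := @LocallyOfFiniteType)).mp ‹_› :)
  obtain ⟨G, hG⟩ := this.out
  have hi : (c.π.app j ≫ s).appTop.hom.IsIntegral :=
    ((HasAffineProperty.iff_of_isAffine (P := @IsIntegralHom)).mp hint).2
  /- kill one polynomial per generator -/
  have hp : ∀ x : B₀, ∃ p : Polynomial A, p.Monic ∧
      ∃ (k : J) (φ : k ⟶ j), (F.map φ).appTop (Polynomial.aeval x p) = 0 := fun x => by
    obtain ⟨p, hp, hp0⟩ := hi ((c.π.app j).appTop x)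
    refine ⟨p, hp, exists_appTop_map_eq_zero_of_isAffine_of_isLimit F c hc j _ ?_⟩
    rw [← hp0, Polynomial.aeval_def]
    exact Polynomial.hom_eval₂ _ _ _ _
  choose p hmon k φ hz using hp
  have hcommon : ∀ G' : Finset B₀, ∃ (k' : J) (ψ : k' ⟶ j),
      ∀ x ∈ G', (F.map ψ).appTop (Polynomial.aeval x (p x)) = 0 := by
    intro G'
    induction G' using Finset.induction_on with
    | empty => exact ⟨j, 𝟙 j, by simp⟩
    | insert x G' hx ih =>
      obtain ⟨k', ψ, hk'⟩ := ih
      obtain ⟨m, a, b, hab⟩ := IsCofiltered.cospan ψ (φ x)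
      refine ⟨m, a ≫ ψ, fun y hy => ?_⟩
      rcases Finset.mem_insert.1 hy with rfl | hy
      · rw [hab, F.map_comp, Scheme.Hom.comp_appTop, CommRingCat.comp_apply, hz, map_zero]
      · rw [F.map_comp, Scheme.Hom.comp_appTop, CommRingCat.comp_apply, hk' y hy, map_zero]
  obtain ⟨m, ψ, hm⟩ := hcommon G
  refine ⟨m, ψ, (HasAffineProperty.iff_of_isAffine (P := @IsIntegralHom)).mpr ⟨inferInstance, ?_⟩⟩
  let Bm := Γ(F.obj m, ⊤)
  let h : B₀ →+* Bm := (F.map ψ).appTop.hom
  letI : Algebra A Bm := (h.comp (algebraMap A B₀)).toAlgebra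
  let hA : B₀ →ₐ[A] Bm := { h with commutes' := fun _ => rfl }
  have hmem : ∀ y, hA y ∈ integralClosure A Bm := by
    have : (⊤ : Subalgebra A B₀) ≤ (integralClosure A Bm).comap hA := by
      rw [← hG, Algebra.adjoin_le_iff]
      intro x hx
      show IsIntegral A (hA x)
      exact ⟨p x, hmon x, by rw [← Polynomial.aeval_def, Polynomial.aeval_algHom_apply]; exact hm x hx⟩
    exact fun y => this trivial
  have hh : h.IsIntegral :=
    ((HasAffineProperty.iff_of_isAffine (P := @IsIntegralHom)).mp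
      (haveI := hfin m ψ; inferInstance : IsIntegralHom (F.map ψ))).2
  show (h.comp (algebraMap A B₀)).IsIntegral
  intro y
  obtain ⟨q, hq, hq0⟩ := hh y
  let h' : B₀ →+* integralClosure A Bm := hA.toRingHom.codRestrict _ hmem
  have hyC : IsIntegral (integralClosure A Bm) y :=
    ⟨q.map h', hq.map h', by rw [Polynomial.eval₂_map]; exact hq0⟩
  exact (isIntegral_trans (R := A) y hyC : IsIntegral A y)

variable {S : Scheme.{u}}

theorem repWith_isFinite_of_cover {F G : Sp S} {a : F ⟶ G} {T V : Over S} {g : (yon S).obj T ⟶ G}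
    {p : (yon S).obj V ⟶ F} {s : V ⟶ T} (hg : LocLift g) (sq : IsPullback p ((yon S).map s) a g)
    [IsFinite s.left] : RepWith @IsFinite a := by
  have : MorphismProperty.DescendsAlong (@IsFinite : MorphismProperty Scheme.{u}) fppfMor :=
    descends_fppf_of_fpqc _ Unr55.isFinite
  have := isLocalAtTarget_fppf.{u} @IsFinite
  exact repWith_of_locLift _ (repWith_isAffineHom_of_cover hg sq).rep hg sq
    ((repWith_yon_map_iff _ _).2 inferInstance)

variable [QuasiSeparatedSpace ↥S]

theorem eventually_isFiniteMor {I : Type u} [SmallCategory I] [IsCofiltered I] {D : I ⥤ Sp S} {Y : Sp S}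
    (hY : IsAlgSpace Y) (hD : ∀ i, IsAlgSpace (D.obj i)) (t : ∀ i, D.obj i ⟶ Y)
    (ht : ∀ {i j : I} (φ : i ⟶ j), D.map φ ≫ t j = t i)
    (hDf : ∀ (i j : I) (φ : i ⟶ j), IsFiniteMor (D.map φ))
    {c : Cone D} (hc : IsLimit c) (g : c.pt ⟶ Y) (hg : ∀ i, c.π.app i ≫ t i = g)
    (hqc : ∀ i, IsQuasiCompactSp (D.obj i)) (hqs : ∀ i, IsQuasiSeparatedSp (D.obj i))
    (hYqc : IsQuasiCompactSp Y) (hYqs : IsQuasiSeparatedSp Y)
    (hft : ∀ i, LocP @LocallyOfFiniteType (t i)) (hgI : IsIntegralMor g) :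
    ∃ i₀ : I, ∀ (i : I) (_ : i ⟶ i₀), IsFiniteMor (t i) := by
  have hDa : ∀ (i j : I) (φ : i ⟶ j), IsAffineMor (D.map φ) := fun i j φ Z hZ z =>
    let ⟨W, w, fst, sq, hW, _⟩ := hDf i j φ hZ z
    ⟨W, w, fst, sq, hW⟩
  haveI := (isQuasiCompactSp_iff_compactSpace hY).1 hYqc
  obtain ⟨V, a, hV, hae, has⟩ := exists_affine_chart_of_compactSpace hY
  haveI := hV
  obtain ⟨W, s, p, sq, hW, hs⟩ := hgI hV a
  haveI := hW; haveI := hs
  obtain ⟨j, Wj, sj, pj, hWj, sqj⟩ :=
    exists_stage_pullback_affine hD hDa hqc hqs hY hYqs a t ht hc g hg p s sq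
  haveI := hWj
  have hje : RepWith @Etale pj := (repWith_isStableUnderBaseChange _).of_isPullback sqj.flip hae
  haveI : LocallyOfFiniteType sj.left := hft j pj a sj hje hae sqj.w
  obtain ⟨Wd, fst, w, cL, -, hLS, fL, iL, sqW, hWa, hfst, hWw, hiL, hfL, sqL, hLA⟩ :=
    exists_affine_limit_chart hDa hc j hWj pj
  haveI := hLA
  haveI : ∀ k, IsAffine ((Wd ⋙ Over.forget S).obj k) := hWa
  haveI : IsAffine ((Over.forget S).mapCone cL).pt := hLA
  have sqV : IsPullback fL ((yon S).map (iL ≫ sj)) g a := by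
    rw [Functor.map_comp, ← hg j]
    exact sqL.paste_vert sqj
  have hint : IsIntegralHom (iL ≫ sj).left := by
    obtain ⟨e, he⟩ := (yon S).map_surjective (sqV.isoIsPullback _ _ sq).hom
    have hs' : e ≫ s = iL ≫ sj := (yon S).map_injective (by
      rw [Functor.map_comp, he]; exact sqV.isoIsPullback_hom_snd _ _ sq)
    haveI : IsIso e := by
      have : IsIso ((yon S).map e) := by rw [he]; infer_instance
      exact isIso_of_reflects_iso e (yon S)
    rw [← hs', Over.comp_left]
    infer_instance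
  let k₀ : Over j := Over.mk (𝟙 j)
  have sq0 : IsIso (w k₀) := by
    have : IsIso ((yon S).map (w k₀)) := by
      haveI : IsIso k₀.hom := inferInstanceAs (IsIso (𝟙 j))
      exact (sqW k₀).isIso_snd_of_isIso
    exact isIso_of_reflects_iso (w k₀) (yon S)
  have hfin : ∀ k, IsFinite (w k).left := fun k => by
    haveI : RepWith @IsFinite ((yon S).map (w k)) :=
      (repWith_isStableUnderBaseChange _).of_isPullback (sqW k) ((isFiniteMor_iff _).1 (hDf _ _ k.hom))
    exact (repWith_yon_map_iff _ _).1 ‹_›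
  obtain ⟨k, φ, hk⟩ := exists_isIntegralHom_stage (Wd ⋙ Over.forget S) hLS (j := k₀)
    ((w k₀).left ≫ sj.left) (fun k φ => by
      have h1 : (Wd.map φ).left = (w k).left ≫ inv (w k₀).left := by
        rw [IsIso.eq_comp_inv, ← Over.comp_left, hWw]
      show IsFinite (Wd.map φ).left
      rw [h1]
      haveI := hfin k
      infer_instance)
    (by
      show IsIntegralHom ((cL.π.app k₀).left ≫ (w k₀).left ≫ sj.left)
      rw [← Over.comp_left, ← Over.comp_left, ← Category.assoc, hiL]
      exact hint)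
  have hkf : IsFinite (w k ≫ sj).left := by
    haveI := hfin k
    refine (IsFinite.iff_isIntegralHom_and_locallyOfFiniteType _).mpr ⟨?_, ?_⟩
    · have : ((Wd ⋙ Over.forget S).map φ ≫ (w k₀).left ≫ sj.left) = (w k ≫ sj).left := by
        show (Wd.map φ).left ≫ (w k₀).left ≫ sj.left = _
        rw [← Over.comp_left, ← Over.comp_left, ← Category.assoc, hWw]
      rw [← this]; exact hk
    · rw [Over.comp_left]; infer_instance
  have sqk : IsPullback (fst k) ((yon S).map (w k ≫ sj)) (t k.left) a := by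
    rw [Functor.map_comp, ← ht k.hom]
    exact (sqW k).paste_vert sqj
  have hk' : RepWith @IsFinite (t k.left) :=
    repWith_isFinite_of_cover (locLift_of_repWith etale_surjective_le_fppfSurj (repWith_inf hae has)) sqk
  refine ⟨k.left, fun i φ => (isFiniteMor_iff _).2 ?_⟩
  rw [← ht φ]
  exact (repWith_isMultiplicative (S := S) @IsFinite).comp_mem _ _ ((isFiniteMor_iff _).1 (hDf _ _ φ)) hk'

end Groth.Agent.SpPts86
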