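import Groth.Agent.SpPts86.EvIso
import Groth.Agent.SpPts86.EvMono
import Groth.Agent.SpPts86.EvSepSp
import Groth.Agent.Lim60.EvAffine

/-!
If the limit of a system along closed immersions is closed in the base, so are the late stages.
-/

universe u

set_option autoImplicit false
set_option backward.isDefEq.respectTransparency false
set_option linter.style.haveILetI false

open CategoryTheory CategoryTheory.Limits AlgebraicGeometry
open AlgSp Groth.Agent.SpFP87

namespace Groth.Agent.SpPts86

variable {S : Scheme.{u}}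

theorem isPullback_diagonal_of_mono {X' X Y : Sp S} {f : X ⟶ Y} {f' : X' ⟶ Y} (a : X' ⟶ X) [Mono a]
    (e : a ≫ f = f') :
    IsPullback a (pullback.diagonal f') (pullback.diagonal f)
      (pullback.map f' f' f f a a (𝟙 Y) (by simp [e]) (by simp [e])) := by
  subst e
  refine IsPullback.mk' (by apply pullback.hom_ext <;> simp [pullback.diagonal] <;> exact (Category.id_comp _).symm)
    (fun Q u v h _ => (cancel_mono a).1 h) fun Q u v huv => ?_
  have h1 := congrArg (· ≫ pullback.fst f f) huv
  have h2 := congrArg (· ≫ pullback.snd f f) huv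
  simp only [Category.assoc, pullback.diagonal_fst, pullback.diagonal_snd, Category.comp_id,
    pullback.lift_fst, pullback.lift_snd] at h1 h2
  refine ⟨v ≫ pullback.fst (a ≫ f) (a ≫ f), by rw [Category.assoc]; exact h1.symm, ?_⟩
  apply pullback.hom_ext
  · rw [Category.assoc, pullback.diagonal_fst, Category.comp_id]
  · rw [Category.assoc, pullback.diagonal_snd, Category.comp_id]
    refine (cancel_mono a).1 ?_
    rw [Category.assoc, Category.assoc, ← h1, ← h2]

variable {I : Type u} [SmallCategory I] [IsCofiltered I] {Y : Sp S} {D : I ⥤ Sp S}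
  (t : D ⟶ (Functor.const I).obj Y)

/-- The self fibre products of the stages over the base. -/
noncomputable def sqSys : I ⥤ Sp S where
  obj i := pullback (t.app i) (t.app i)
  map {j k} φ := pullback.map (t.app j) (t.app j) (t.app k) (t.app k) (D.map φ) (D.map φ) (𝟙 Y)
    (by simp [t.naturality φ]) (by simp [t.naturality φ])
  map_id k := by apply pullback.hom_ext <;> simp
  map_comp φ ψ := by apply pullback.hom_ext <;> simp

variable {c : Cone D} (g : c.pt ⟶ Y) (hg : ∀ i, c.π.app i ≫ t.app i = g)

/-- The self fibre product of the limit, as a cone. -/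
noncomputable def sqCone : Cone (sqSys t) where
  pt := pullback g g
  π :=
    { app := fun i => pullback.map g g (t.app i) (t.app i) (c.π.app i) (c.π.app i) (𝟙 Y)
        (by simp [hg]) (by simp [hg])
      naturality := fun j k φ => by
        show 𝟙 _ ≫ _ = _ ≫ pullback.map (t.app j) (t.app j) (t.app k) (t.app k) (D.map φ) (D.map φ) (𝟙 Y)
          (by simp [t.naturality φ]) (by simp [t.naturality φ])
        apply pullback.hom_ext <;> simp }

theorem nonempty_isLimit_sqCone (hc : IsLimit c) : Nonempty (IsLimit (sqCone t g hg)) := by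
  obtain ⟨i₁⟩ := IsCofiltered.nonempty (C := I)
  let c₁ : Cone (sqSys t) → Cone D := fun s =>
    { pt := s.pt
      π := { app := fun k => s.π.app k ≫ pullback.fst (t.app k) (t.app k)
             naturality := fun j k φ => by
              show 𝟙 _ ≫ _ = (_ ≫ _) ≫ _
              rw [Category.id_comp, ← s.w φ, Category.assoc, Category.assoc]
              exact congrArg _ (pullback.lift_fst _ _ _) } }
  let c₂ : Cone (sqSys t) → Cone D := fun s =>
    { pt := s.pt
      π := { app := fun k => s.π.app k ≫ pullback.snd (t.app k) (t.app k)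
             naturality := fun j k φ => by
              show 𝟙 _ ≫ _ = (_ ≫ _) ≫ _
              rw [Category.id_comp, ← s.w φ, Category.assoc, Category.assoc]
              exact congrArg _ (pullback.lift_snd _ _ _) } }
  refine ⟨⟨fun s => pullback.lift (hc.lift (c₁ s)) (hc.lift (c₂ s)) ?_, fun s k => ?_, fun s m hm => ?_⟩⟩
  · rw [← hg i₁, ← Category.assoc, hc.fac, ← Category.assoc, hc.fac]
    show (s.π.app i₁ ≫ pullback.fst (t.app i₁) (t.app i₁)) ≫ t.app i₁ =
      (s.π.app i₁ ≫ pullback.snd (t.app i₁) (t.app i₁)) ≫ t.app i₁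
    exact (Category.assoc _ _ _).trans ((s.π.app i₁ ≫= pullback.condition).trans (Category.assoc _ _ _).symm)
  · apply pullback.hom_ext
    · simp [sqCone, c₁]
    · simp [sqCone, c₂]
  · apply pullback.hom_ext
    · rw [pullback.lift_fst]
      refine hc.hom_ext fun k => ?_
      rw [hc.fac, Category.assoc]
      show _ = s.π.app k ≫ _
      rw [← hm k]
      simp [sqCone]
    · rw [pullback.lift_snd]
      refine hc.hom_ext fun k => ?_
      rw [hc.fac, Category.assoc]
      show _ = s.π.app k ≫ _
      rw [← hm k]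
      simp [sqCone]

variable {t} {g} [QuasiSeparatedSpace ↥S]

include hg in
theorem eventually_mono_base (hD : ∀ i, IsAlgSpace (D.obj i)) (hY : IsAlgSpace Y)
    (hDc : ∀ (i j : I) (φ : i ⟶ j), RepWith @IsClosedImmersion (D.map φ)) (hc : IsLimit c) [Mono g]
    (i₁ : I) (hqc : IsQuasiCompactSp (D.obj i₁)) (hqs : IsQuasiSeparatedSp (D.obj i₁))
    (hYqs : IsQuasiSeparatedSp Y) (hft : LocP @LocallyOfFiniteType (t.app i₁)) :
    ∃ i₀ : I, ∀ (i : I) (_ : i ⟶ i₀), Mono (t.app i) := by
  have := isLocalAtTarget_fppf (MorphismProperty.isomorphisms Scheme.{u})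
  have := lfp_descends.{u}
  obtain ⟨hE⟩ := nonempty_isLimit_sqCone t g hg hc
  have hDa := fun i j φ => isAffineMor_of_closedImm (hDc i j φ)
  have hm : ∀ {j k : I} (φ : j ⟶ k), Mono (D.map φ) := fun φ =>
    mono_of_repWith_le (fun _ _ a (ha : IsClosedImmersion a) => (inferInstance : Mono a)) (hDc _ _ φ)
  have : Mono (c.π.app i₁) :=
    mono_of_repWith_le (fun _ _ a (ha : IsClosedImmersion a) => (inferInstance : Mono a))
      (repWith_closedImm_π hDc hc i₁)
  have hEA := isAlgSpace_pullback (t.app i₁) (t.app i₁) (hD i₁) (hD i₁) hY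
  have hq := qc_pullback_self (f₀ := t.app i₁) (hD i₁) hY hqc hqs hYqs
  have hEa : ∀ (j k : I) (φ : j ⟶ k), IsAffineMor ((sqSys t).map φ) := fun j k φ => by
    have h1 : RepWith @IsAffineHom
        (pullback.map (t.app j) (t.app j) (t.app k) (t.app j) (D.map φ) (𝟙 _) (𝟙 Y) (by simp) (by simp)) :=
      (repWith_isStableUnderBaseChange _).of_isPullback (isPullback_map_fst (t.app j) (D.map φ) (by simp)).flip
        (repWith_of_isAffineMor (hDa j k φ))
    have h2 : RepWith @IsAffineHom
        (pullback.map (t.app k) (t.app j) (t.app k) (t.app k) (𝟙 _) (D.map φ) (𝟙 Y) (by simp) (by simp)) :=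
      (repWith_isStableUnderBaseChange _).of_isPullback (isPullback_map_snd (t.app k) (D.map φ) (by simp)).flip
        (repWith_of_isAffineMor (hDa j k φ))
    have e : (sqSys t).map φ =
        pullback.map (t.app j) (t.app j) (t.app k) (t.app j) (D.map φ) (𝟙 _) (𝟙 Y) (by simp) (by simp) ≫
          pullback.map (t.app k) (t.app j) (t.app k) (t.app k) (𝟙 _) (D.map φ) (𝟙 Y) (by simp) (by simp) := by
      apply pullback.hom_ext <;> simp [sqSys]
    rw [e]
    exact isAffineMor_of_repWith (MorphismProperty.comp_mem _ _ _ h1 h2)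
  have hfp : RepWith @LocallyOfFinitePresentation (pullback.diagonal (t.app i₁)) :=
    repWith_of_locP hEA (repWith_diagonal_props (hD i₁) _).1.rep
      (S9960.result (X := ⟨_, hD i₁⟩) (Y := ⟨Y, hY⟩) (ObjectProperty.homMk (t.app i₁)) hft).1
  obtain ⟨j, φ, hj⟩ := descend_repWith hEa hE (Y₀ := (sqSys t).obj i₁) hEA hq.1 (b₀ := 𝟙 _) (qY := 𝟙 _)
    (pY := (sqCone t g hg).π.app i₁) (IsPullback.of_vert_isIso ⟨by simp⟩) (pX := c.π.app i₁)
    (f := pullback.diagonal g) (f₀ := pullback.diagonal (t.app i₁))
    (isPullback_diagonal_of_mono (c.π.app i₁) (hg i₁))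
    LimDesc62.descProp_isIso (repWith_diagonal hqs) (repWith_diagonal_props (hD i₁) _).2 hfp
    (repWith_isomorphisms_of_isIso (pullback.diagonal g))
  have : Mono (D.map φ) := hm φ
  have : IsIso (pullback.diagonal (t.app j)) := isIso_of_repWith_isomorphisms
    (hj (D.obj j) ((sqSys t).obj j) (pullback.diagonal (t.app j)) ((sqSys t).map φ) (𝟙 _)
      (IsPullback.of_vert_isIso ⟨by simp⟩) (D.map φ) (isPullback_diagonal_of_mono (D.map φ) (by simp)))
  have hmj : Mono (t.app j) := (pullback.isIso_diagonal_iff _).1 this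
  refine ⟨j, fun i ψ => ?_⟩
  have := hm ψ
  rw [show t.app i = D.map ψ ≫ t.app j by simp]
  exact mono_comp _ _

include hg in
theorem eventually_closedImm_base (hD : ∀ i, IsAlgSpace (D.obj i)) (hY : IsAlgSpace Y)
    (hDc : ∀ (i j : I) (φ : i ⟶ j), RepWith @IsClosedImmersion (D.map φ)) (hc : IsLimit c)
    (hqc : ∀ i, IsQuasiCompactSp (D.obj i)) (hqs : ∀ i, IsQuasiSeparatedSp (D.obj i))
    (hYqc : IsQuasiCompactSp Y) (hYqs : IsQuasiSeparatedSp Y)
    (hft : ∀ i, LocP @LocallyOfFiniteType (t.app i)) (hX : RepWith @IsClosedImmersion g) :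
    ∃ i₀ : I, ∀ (i : I) (_ : i ⟶ i₀), RepWith @IsClosedImmersion (t.app i) := by
  obtain ⟨i₁⟩ := IsCofiltered.nonempty (C := I)
  have : Mono g := mono_of_repWith_le (fun _ _ a (ha : IsClosedImmersion a) => (inferInstance : Mono a)) hX
  obtain ⟨k, hk⟩ := eventually_mono_base hg hD hY hDc hc i₁ (hqc i₁) (hqs i₁) hYqs (hft i₁)
  have hr : ∀ j : Over k, Representable (t.app j.left) := fun j =>
    haveI := hk j.left j.hom
    representable_of_lft_mono (hD j.left) hY (hft j.left)
  haveI := (isQuasiCompactSp_iff_compactSpace hY).1 hYqc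
  obtain ⟨V, p, hV, hpe, hps⟩ := exists_affine_chart_of_compactSpace hY
  choose W w fst sq using fun j : Over k => hr j p
  have hmap : ∀ {j l : Over k} (φ : j ⟶ l), ∃ e : W j ⟶ W l,
      (yon S).map e ≫ fst l = fst j ≫ D.map φ.left ∧ e ≫ w l = w j := by
    intro j l φ
    obtain ⟨e, he⟩ := (yon S).map_surjective ((sq l).lift (fst j ≫ D.map φ.left) ((yon S).map (w j))
      (by rw [Category.assoc]; simpa using (sq j).w))
    exact ⟨e, by rw [he, (sq l).lift_fst],
      (yon S).map_injective (by rw [Functor.map_comp, he, (sq l).lift_snd])⟩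
  choose e he₁ he₂ using @hmap
  have hext : ∀ {l : Over k} {A : Over S} (a b : A ⟶ W l),
      (yon S).map a ≫ fst l = (yon S).map b ≫ fst l → a ≫ w l = b ≫ w l → a = b :=
    fun {l} A a b h1 h2 => (yon S).map_injective ((sq l).hom_ext h1
      (by rw [← Functor.map_comp, ← Functor.map_comp, h2]))
  let F : Over k ⥤ Over S :=
    { obj := W
      map := fun φ => e φ
      map_id := fun j => hext _ _
          (by rw [he₁, Over.id_left, CategoryTheory.Functor.map_id, Category.comp_id,
            CategoryTheory.Functor.map_id, Category.id_comp])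
          (by rw [he₂, Category.id_comp])
      map_comp := fun {a b d} φ ψ => hext _ _
          (by rw [he₁, Functor.map_comp, Category.assoc, he₁, ← Category.assoc, he₁, Category.assoc,
            ← Functor.map_comp, Over.comp_left])
          (by rw [he₂, Category.assoc, he₂, he₂]) }
  obtain ⟨L, l, a, sqL⟩ := hX.rep p
  haveI : IsClosedImmersion l.left := hX.property p a l sqL
  have hπ : ∀ j : Over k, ∃ m : L ⟶ W j,
      (yon S).map m ≫ fst j = a ≫ c.π.app j.left ∧ m ≫ w j = l := fun j => by
    obtain ⟨m, hm⟩ := (yon S).map_surjective ((sq j).lift (a ≫ c.π.app j.left) ((yon S).map l)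
      (by rw [Category.assoc, hg]; exact sqL.w))
    exact ⟨m, by rw [hm, (sq j).lift_fst],
      (yon S).map_injective (by rw [Functor.map_comp, hm, (sq j).lift_snd])⟩
  choose m hm₁ hm₂ using hπ
  let cL : Cone F :=
    { pt := L
      π := { app := fun j => m j
             naturality := fun j i φ => (Category.id_comp _).trans (hext _ _
              (by rw [hm₁, Functor.map_comp, Category.assoc]
                  show _ = (yon S).map (m j) ≫ (yon S).map (e φ) ≫ fst i
                  rw [he₁, ← Category.assoc, hm₁, Category.assoc, c.w])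
              (by rw [hm₂, Category.assoc]
                  show _ = m j ≫ e φ ≫ w i
                  rw [he₂, hm₂])) } }
  let r : Over k := Over.mk (𝟙 k)
  haveI : IsConnected (Over k) := IsCofiltered.isConnected _
  let hc' := (Functor.Initial.isLimitWhiskerEquiv (Over.forget k) c).symm hc
  have hL : IsLimit cL := by
    have key : ∀ s : Cone F, ∃ u : s.pt ⟶ L, (∀ j, u ≫ m j = s.π.app j) := fun s => by
      let cs : Cone (Over.forget k ⋙ D) :=
        { pt := (yon S).obj s.pt
          π := { app := fun j => (yon S).map (s.π.app j) ≫ fst j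
                 naturality := fun j i φ => by
                  show 𝟙 _ ≫ (yon S).map (s.π.app i) ≫ fst i = ((yon S).map (s.π.app j) ≫ fst j) ≫ D.map φ.left
                  rw [Category.id_comp, ← s.w φ, Functor.map_comp, Category.assoc, Category.assoc]
                  exact congrArg _ (he₁ φ) } }
      have hb : ∀ j, s.π.app j ≫ w j = s.π.app r ≫ w r := fun j => by
        have : ∃ φ : j ⟶ r, φ.left = j.hom := ⟨Over.homMk j.hom (by simp [r]), rfl⟩
        obtain ⟨φ, -⟩ := this
        rw [← he₂ φ, ← s.w φ, Category.assoc]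
      obtain ⟨u, hu⟩ := (yon S).map_surjective (sqL.lift (hc'.lift cs) ((yon S).map (s.π.app r ≫ w r)) (by
        rw [← hg r.left, ← Category.assoc, show hc'.lift cs ≫ c.π.app r.left = cs.π.app r from hc'.fac cs r,
          Category.assoc, (sq r).w, Functor.map_comp_assoc]))
      refine ⟨u, fun j => hext _ _ ?_ ?_⟩
      · rw [Functor.map_comp, Category.assoc, hm₁, ← Category.assoc, hu, sqL.lift_fst]
        exact hc'.fac cs j
      · rw [Category.assoc, hm₂, hb j]
        exact (yon S).map_injective (by rw [Functor.map_comp, hu, sqL.lift_snd])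
    choose u hu using key
    refine ⟨u, hu, fun s v hv => ?_⟩
    have hv' : ∀ j, v ≫ m j = u s ≫ m j := fun j => (hv j).trans (hu s j).symm
    refine (yon S).map_injective (sqL.hom_ext (hc'.hom_ext fun j => ?_) ?_)
    · show ((yon S).map v ≫ a) ≫ c.π.app j.left = ((yon S).map (u s) ≫ a) ≫ c.π.app j.left
      rw [Category.assoc, Category.assoc, ← hm₁ j, ← Functor.map_comp_assoc, ← Functor.map_comp_assoc, hv' j]
    · rw [← Functor.map_comp, ← Functor.map_comp, ← hm₂ r, reassoc_of% (hv' r)]
  let D' : Over k ⥤ Scheme.{u} := F ⋙ Over.forget S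
  let cS : Cone D' := (Over.forget S).mapCone cL
  have hLS : IsLimit cS := isLimitOfPreserves (Over.forget S) hL
  let t' : D' ⟶ (Functor.const (Over k)).obj V.left :=
    { app := fun j => (w j).left
      naturality := fun j i φ => by
        show (e φ).left ≫ (w i).left = (w j).left ≫ 𝟙 _
        rw [Category.comp_id, ← Over.comp_left, he₂] }
  have hcl : ∀ (j i : Over k) (φ : j ⟶ i), IsClosedImmersion (D'.map φ) := fun j i φ => by
    have s1 : IsPullback (fst j) ((yon S).map (e φ)) (D.map φ.left) (fst i) := by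
      refine IsPullback.of_bot ?_ (he₁ φ).symm (sq i)
      rw [← Functor.map_comp, he₂]
      convert sq j using 1
      all_goals first
        | rfl
        | exact (t.naturality φ.left).trans (Category.comp_id _)
    exact (hDc _ _ φ.left).property _ _ _ s1
  haveI : ∀ (j i : Over k) (φ : j ⟶ i), IsAffineHom (D'.map φ) := fun j i φ =>
    have := hcl j i φ; inferInstance
  haveI : IsAffine V.left := hV
  haveI : CompactSpace ↥V.left := inferInstance
  haveI := compactSpace_points_yon V
  haveI : ∀ j : Over k, CompactSpace ↥(D'.obj j) := fun j => by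
    haveI := (isQuasiCompactSp_iff_compactSpace (hD j.left)).1 (hqc j.left)
    have hc₁ : IsQuasiCompactSp ((yon S).obj (W j)) := isQuasiCompactMor_of_qc_qs (hD j.left) hY hYqs
      (IsAlgSpace.yon_obj V) (isQuasiCompactSp_yon V) p _ _ (sq j)
    haveI := (isQuasiCompactSp_iff_compactSpace (IsAlgSpace.yon_obj (W j))).1 hc₁
    exact (Points.schemeHomeo (W j)).symm.compactSpace
  haveI : ∀ j : Over k, QuasiSeparatedSpace ↥(D'.obj j) := fun j => by
    haveI := hk j.left j.hom
    have hmw : MorphismProperty.monomorphisms Scheme.{u} (w j).left :=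
      (repWith_monomorphisms_of_mono (hr j)).property p (fst j) (w j) (sq j)
    have := monomorphisms_le_isSeparated _ hmw
    exact quasiSeparatedSpace_of_quasiSeparated (w j).left
  haveI : ∀ j : Over k, LocallyOfFiniteType (t'.app j) := fun j =>
    hft j.left (fst j) p (w j) ((repWith_isStableUnderBaseChange _).of_isPullback (sq j).flip hpe) hpe (sq j).w
  haveI : IsClosedImmersion (cS.π.app r ≫ t'.app r) := by
    show IsClosedImmersion (m r ≫ w r).left
    rw [hm₂]; infer_instance
  obtain ⟨j₁, hj₁⟩ := Lim60.exists_isClosedImmersion_structureMap V.left D' t' cS hLS hcl r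
  have := isClosedImmersion_descends.{u}
  have := isLocalAtTarget_fppf (@IsClosedImmersion : MorphismProperty Scheme.{u})
  refine ⟨j₁.left, fun i ψ => ?_⟩
  let i' : Over k := Over.mk (ψ ≫ j₁.hom)
  exact repWith_of_locLift (P := @IsClosedImmersion) (hr i') (locLift_of_atlas hpe hps) (sq i')
    ((repWith_yon_map_iff _ _).2 (hj₁ i' (Over.homMk ψ rfl)))

end Groth.Agent.SpPts86
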