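import Groth.Agent.SpPts86.DvrRefined
import Groth.Agent.SpVal61.DvrSep
import Groth.Agent.SpFP87.FpqcMono

/-!
Properness and separatedness from discrete valuation rings through a dense `U ⟶ X`.
-/

universe u

set_option autoImplicit false
set_option backward.isDefEq.respectTransparency false
set_option linter.style.haveILetI false

open CategoryTheory CategoryTheory.Limits AlgebraicGeometry Topology IsLocalRing
open AlgSp Groth.Agent.SpFP87

namespace Groth.Agent.SpPts86

variable {S : Scheme.{u}} {U X Y : Sp S}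

theorem exists_noeth_chart_pt (hN : IsLocNoethSp Y) (y : Points Y) :
    ∃ (T : Over S) (t : (yon S).obj T ⟶ Y) (v : ↥T.left),
      IsAffine T.left ∧ IsLocallyNoetherian T.left ∧ RepWith @Etale t ∧ Points.ofPt t v = y := by
  obtain ⟨V, a, ha, has, hV⟩ := hN
  obtain ⟨u, rfl⟩ := surjective_ofPt has y
  obtain ⟨W, v, rfl⟩ := exists_mem_affineOpens V.left u
  haveI : IsLocallyNoetherian V.left := hV
  refine ⟨opOver V W.1, (yon S).map (opIncl V W.1) ≫ a, v, W.2,
    inferInstanceAs (IsLocallyNoetherian W.1.toScheme), ?_, ofPt_comp _ _ _⟩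
  exact (repWith_isMultiplicative (S := S) @Etale).comp_mem _ _
    ((repWith_yon_map_iff _ _).2 (inferInstanceAs (Etale W.1.ι))) ha

theorem hasLift_of_valSqMap {P Z : Sp S} {f : X ⟶ Y} {g : Z ⟶ Y} {fst : P ⟶ X} {f' : P ⟶ Z}
    (sq : IsPullback fst f' f g) (q : ValSq f') (h : (valSqMap q fst g sq.w).HasLift) : q.HasLift := by
  obtain ⟨l, hl1, hl2⟩ := h
  refine ⟨sq.lift l q.bot hl2, ?_, sq.lift_snd _ _ _⟩
  apply sq.hom_ext
  · rw [Category.assoc, sq.lift_fst]
    exact hl1
  · rw [Category.assoc, sq.lift_snd, q.comm]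

/-- Lifts over discrete valuation rings through a dense `U` give the existence part. -/
theorem existVC_of_dvr_refined (hU : IsAlgSpace U) (hX : IsAlgSpace X) (hY : IsAlgSpace Y)
    (hN : IsLocNoethSp Y) {f : X ⟶ Y} {h : U ⟶ X}
    (hs : IsSeparatedMor f) (hft : IsFiniteTypeMor f) (hh : IsFiniteTypeMor h)
    (hd : DenseRange (Points.map h))
    (hval : ∀ sq : ValSq f, IsDiscreteValuationRing sq.A →
      (∃ t : (yon S).obj sq.ptK ⟶ U, t ≫ h = sq.top) → sq.HasLift) : ExistVC f := by
  refine existVC_of_charts hX hY fun y => ?_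
  obtain ⟨T, t, v, hT, hTN, ht, hvt⟩ := exists_noeth_chart_pt hN y
  haveI := hT
  haveI := hTN
  refine ⟨T, t, v, ht, hvt, ?_⟩
  have sqP := IsPullback.of_hasPullback f t
  have hP : IsAlgSpace (pullback f t) :=
    SpFP87.isAlgSpace_of_isPullback sqP hX (IsAlgSpace.yon_obj T) hY.diag
  have hpe : RepWith @Etale (pullback.fst f t) :=
    (repWith_isStableUnderBaseChange _).of_isPullback sqP.flip ht
  have sqU := IsPullback.of_hasPullback h (pullback.fst f t)
  have hU' : IsAlgSpace (pullback h (pullback.fst f t)) :=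
    SpFP87.isAlgSpace_of_isPullback sqU hU hP hX.diag
  have hs' : IsSeparatedMor (pullback.snd f t) :=
    (repWith_isStableUnderBaseChange @IsClosedImmersion).of_isPullback
      (isPullback_diagonal_baseChange sqP) hs
  have hqs' : IsQuasiSeparatedMor (pullback.snd f t) :=
    repWith_mono (fun _ _ g hg => by haveI : IsClosedImmersion g := hg; infer_instance) hs'
  refine existVC_affine_of_refined hP (h := pullback.snd h (pullback.fst f t))
    (isQuasiCompactMor_baseChange hh.2 sqU) (denseRange_baseChange_etale hd hpe sqU) fun q hq => ?_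
  refine ⟨uniqVC_of_isSeparatedMor hs' q, hasLiftExt_of_dvr hU' hP
    (isQuasiCompactMor_baseChange hft.2 sqP) hqs'
    (locP_baseChange sqP hX hY (IsAlgSpace.yon_obj T) hft.1)
    (isQuasiCompactMor_baseChange hh.2 sqU) (locP_baseChange sqU hU hX hP hh.1) (fun q' hA hq' => ?_) q hq⟩
  exact hasLift_of_valSqMap sqP q' (hval _ hA (exists_lift_valSqMap sqP h q' hq'))

theorem isProperMor_of_dvr_refined (hU : IsAlgSpace U) (hX : IsAlgSpace X) (hY : IsAlgSpace Y)
    (hN : IsLocNoethSp Y) {f : X ⟶ Y} {h : U ⟶ X}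
    (hs : IsSeparatedMor f) (hft : IsFiniteTypeMor f) (hh : IsFiniteTypeMor h)
    (hd : DenseRange (Points.map h))
    (hval : ∀ sq : ValSq f, IsDiscreteValuationRing sq.A →
      (∃ t : (yon S).obj sq.ptK ⟶ U, t ≫ h = sq.top) → sq.HasLift) : IsProperMor f :=
  ⟨hs, hft, isUnivClosedMor_of_existVC hft.2 (existVC_of_dvr_refined hU hX hY hN hs hft hh hd hval)⟩

theorem isSeparatedMor_of_dvr_refined (hU : IsAlgSpace U) (hX : IsAlgSpace X) (hY : IsAlgSpace Y)
    (hN : IsLocNoethSp Y) {f : X ⟶ Y} {h : U ⟶ X}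
    (hqs : IsQuasiSeparatedMor f) (hft : LocP @LocallyOfFiniteType f) (hh : IsFiniteTypeMor h)
    (hd : DenseRange (Points.map h))
    (hu : ∀ sq : ValSq f, IsDiscreteValuationRing sq.A →
      (∃ t : (yon S).obj sq.ptK ⟶ U, t ≫ h = sq.top) → sq.HasUniq) : IsSeparatedMor f := by
  have sqP := IsPullback.of_hasPullback f f
  have hP : IsAlgSpace (pullback f f) := SpFP87.isAlgSpace_of_isPullback sqP hX hX hY.diag
  have hNX := SpVal61.isLocNoethSp_of_lft hX hY hft hN
  have hNP := SpVal61.isLocNoethSp_of_lft hP hX (locP_baseChange sqP hX hY hX hft) hNX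
  have hd' : RepWith @LocallyOfFiniteType (pullback.diagonal f) :=
    repWith_mono diagLike_le_lft (repWith_diagLike_diagonal hX f)
  have hds : IsSeparatedMor (pullback.diagonal f) := by
    haveI : IsIso (pullback.diagonal (pullback.diagonal f)) := inferInstance
    exact repWith_mono (fun _ _ g hg => by haveI : IsIso g := hg; infer_instance)
      (repWith_isomorphisms_of_isIso (pullback.diagonal (pullback.diagonal f)))
  refine isSeparatedMor_of_diag_univClosed hX hY (isUnivClosedMor_of_existVC
    (isQuasiCompactMor_of_repWith hP hqs) (existVC_of_dvr_refined hU hX hP hNP hds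
      ⟨locP_of_repWith hX.diag hP hd', isQuasiCompactMor_of_repWith hP hqs⟩ hh hd fun q hA hq => ?_))
  have h1 := congrArg (· ≫ pullback.fst f f) q.comm
  have h2 := congrArg (· ≫ pullback.snd f f) q.comm
  simp only [Category.assoc, pullback.diagonal_fst, pullback.diagonal_snd, Category.comp_id] at h1 h2
  let q' : ValSq f :=
    { A := q.A, K := q.K, str := q.str, top := q.top, bot := q.bot ≫ pullback.fst f f ≫ f,
      comm := by rw [h1]; simp only [Category.assoc] }
  have e : q.bot ≫ pullback.fst f f = q.bot ≫ pullback.snd f f := by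
    refine hu q' hA hq _ _ h1.symm (Category.assoc _ _ _) h2.symm ?_
    rw [Category.assoc, ← pullback.condition]
  refine ⟨q.bot ≫ pullback.fst f f, h1.symm, ?_⟩
  apply pullback.hom_ext
  · simp only [Category.assoc, pullback.diagonal_fst, Category.comp_id]
  · simp only [Category.assoc, pullback.diagonal_snd, Category.comp_id]
    exact e

end Groth.Agent.SpPts86
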