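import Groth.Agent.SpPts86.FiniteCrit
import Groth.Agent.SpPts86.Graph
import Groth.Agent.SpPts86.RedFactor
import Groth.Agent.SpPts86.PieceEtale
import Groth.Prelude.Def_AlgSpMor5

/-!
Formal properties of relative normalizations of algebraic spaces.
-/

universe u

set_option autoImplicit false
set_option backward.isDefEq.respectTransparency false
set_option linter.style.haveILetI false

open CategoryTheory CategoryTheory.Limits AlgebraicGeometry
open AlgSp Groth.Agent.SpFP87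

namespace Groth.Agent.SpPts86

variable {S : Scheme.{u}} {X Y Z W : Sp S}

theorem isIntegralMor_comp {f : X ⟶ Y} {g : Y ⟶ Z} (hf : IsIntegralMor f) (hg : IsIntegralMor g) :
    IsIntegralMor (f ≫ g) :=
  (isIntegralMor_iff _).2 ((repWith_isMultiplicative (S := S) @IsIntegralHom).comp_mem _ _
    ((isIntegralMor_iff _).1 hf) ((isIntegralMor_iff _).1 hg))

theorem isIntegralMor_of_comp (hX : IsAlgSpace X) (hY : IsAlgSpace Y) (hZ : IsAlgSpace Z)
    {f : X ⟶ Y} {g : Y ⟶ Z} (hfg : IsIntegralMor (f ≫ g)) (hg : IsIntegralMor g) : IsIntegralMor f := by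
  have hg' := (isIntegralMor_iff g).1 hg
  have hd : RepWith @IsClosedImmersion (pullback.diagonal g) :=
    (S9905.result (X := ⟨Y, hY⟩) (Y := ⟨Z, hZ⟩) ⟨g⟩ hg'.rep).1.2
      (repWith_mono (fun _ _ k hk => by have : IsIntegralHom k := hk; infer_instance) hg')
  exact (isIntegralMor_iff f).2 (repWith_of_comp
    (repWith_mono (fun _ _ k hk => by have : IsClosedImmersion k := hk; infer_instance) hd)
    ((isIntegralMor_iff _).1 hfg))

theorem isRelNormalization_desc {X' : Sp S} (hX : IsAlgSpace X) (hX' : IsAlgSpace X') (hW : IsAlgSpace W)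
    {f : Y ⟶ X} {ν : X' ⟶ X} {f' : Y ⟶ X'} (hn : IsRelNormalization f ν f') {π : W ⟶ X}
    (hπ : IsIntegralMor π) {g : Y ⟶ W} (hg : g ≫ π = f) {h : X' ⟶ W} (h1 : f' ≫ h = g) (h2 : h ≫ π = ν) :
    IsRelNormalization g h f' := by
  refine ⟨h1, isIntegralMor_of_comp hX' hW hX (h2 ▸ hn.2.1) hπ, fun V hV π' g' hπ' hg' => ?_⟩
  obtain ⟨k, ⟨hk1, hk2⟩, huniq⟩ := hn.2.2 hV (π' ≫ π) g' (isIntegralMor_comp hπ' hπ)
    (by rw [← Category.assoc, hg', hg])
  have hk : k ≫ π' = h := by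
    obtain ⟨h₀, -, hu0⟩ := hn.2.2 hW π g hπ hg
    rw [hu0 h ⟨h1, h2⟩]
    refine hu0 _ ⟨?_, ?_⟩
    · rw [← Category.assoc, hk1, hg']
    · rw [Category.assoc, hk2]
  refine ⟨k, ⟨hk1, hk⟩, fun k' ⟨e1, e2⟩ => huniq k' ⟨e1, ?_⟩⟩
  rw [← Category.assoc, e2, h2]

theorem isReducedSp_of_normalization {X' : Sp S} (hY : IsAlgSpace Y) (hX : IsAlgSpace X)
    (hX' : IsAlgSpace X') {f : Y ⟶ X} {ν : X' ⟶ X} {f' : Y ⟶ X'} (hn : IsRelNormalization f ν f')
    (hr : IsReducedSp Y) : IsReducedSp X' := by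
  obtain ⟨Z, i, hZ, hi, hir, hred⟩ := exists_isRedInduced hX' Set.univ isClosed_univ
  obtain ⟨k, hk⟩ := exists_factor_of_reduced hY hr hi f' (by rw [hir]; exact Set.subset_univ _)
  have hii : IsIntegralMor i := (isIntegralMor_iff i).2
    (repWith_mono (fun _ _ g hg => by have : IsClosedImmersion g := hg; infer_instance) hi)
  obtain ⟨h, ⟨h1, h2⟩, -⟩ := hn.2.2 hZ (i ≫ ν) k (isIntegralMor_comp hii hn.2.1)
    (by rw [← Category.assoc, hk, hn.1])
  obtain ⟨e, -, he⟩ := hn.2.2 hX' ν f' hn.2.1 hn.1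
  have hid : h ≫ i = 𝟙 X' := by
    rw [he (𝟙 X') ⟨Category.comp_id _, Category.id_comp _⟩]
    refine he _ ⟨?_, ?_⟩
    · rw [← Category.assoc, h1, hk]
    · rw [Category.assoc, h2]
  haveI : Mono i := mono_of_repWith_le (fun _ _ g (hg : IsClosedImmersion g) => (inferInstanceAs (Mono g))) hi
  haveI : IsSplitEpi i := IsSplitEpi.mk' ⟨h, hid⟩
  haveI : IsIso i := isIso_of_mono_of_isSplitEpi i
  obtain ⟨U, a, ha, has, hU⟩ := hred
  exact ⟨U, a ≫ i, (repWith_isMultiplicative (S := S) @Etale).comp_mem _ _ ha (repWith_etale_of_isIso i),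
    (repWith_isMultiplicative (S := S) @Surjective).comp_mem _ _ has (repWith_surjective_of_isIso i), hU⟩

end Groth.Agent.SpPts86
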