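import Groth.Agent.SpPts86.EtPushImage
import Groth.Agent.SpPts86.EtaleMor
import Groth.Prelude.Def_AlgSpOX2
import Mathlib.Algebra.Category.ModuleCat.Sheaf.Limits
import Mathlib.CategoryTheory.Sites.CoverPreserving

/-!
Inverse image along a representable etale morphism is restriction.
-/

universe u

set_option autoImplicit false
set_option backward.isDefEq.respectTransparency false
set_option linter.style.haveILetI false

open CategoryTheory CategoryTheory.Limits AlgebraicGeometry Opposite
open AlgSp Groth.Agent.SpFP87

namespace Groth.Agent.SpPts86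

variable {S : Scheme.{u}} {X Y : Sp S} {f : X ⟶ Y}

/-- An object etale over `X`, as one etale over `Y`. -/
noncomputable def postComp (hf : RepWith @Etale f) : EtOver X ⥤ EtOver Y where
  obj E := EtOver.mk (E.obj.hom ≫ f) ((repWith_isMultiplicative (S := S) @Etale).comp_mem _ _ E.property hf)
  map g := EtOver.homMk g.hom.left (by
    show (yon S).map g.hom.left ≫ _ ≫ f = _ ≫ f
    rw [← Category.assoc, EtOver.w g])
  map_id _ := EtOver.hom_ext _ _ rfl
  map_comp _ _ := EtOver.hom_ext _ _ rfl

variable (hf : RepWith @Etale f)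

theorem postComp_map_left {E E' : EtOver X} (g : E ⟶ E') : ((postComp hf).map g).hom.left = g.hom.left := rfl

/-- A morphism to an object coming from `X` comes from `X`. -/
theorem exists_postComp_preimage {E : EtOver X} {V : EtOver Y} (g : V ⟶ (postComp hf).obj E) :
    ∃ (V' : EtOver X) (g' : V' ⟶ E) (k : (postComp hf).obj V' ⟶ V),
      k ≫ g = (postComp hf).map g' ∧ Function.Surjective k.hom.left.left := by
  haveI : Etale g.hom.left.left := EtOver.etale_left g
  let a : (yon S).obj V.obj.left ⟶ X := (yon S).map g.hom.left ≫ E.obj.hom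
  refine ⟨EtOver.mk a (repWith_etale_comp g.hom.left E.property), EtOver.homMk g.hom.left rfl,
    EtOver.homMk (𝟙 V.obj.left) ?_, EtOver.hom_ext _ _ (Category.id_comp _), fun v => ⟨v, rfl⟩⟩
  show (yon S).map (𝟙 V.obj.left) ≫ V.obj.hom = a ≫ f
  rw [CategoryTheory.Functor.map_id, Category.id_comp, ← EtOver.w g, Category.assoc]
  rfl

instance postComp_isCocontinuous : (postComp hf).IsCocontinuous (etTop X) (etTop Y) where
  cover_lift {E R} hR := mem_etTop_of_forall _ fun v => by
    obtain ⟨V, g, hg, hv⟩ := exists_mem_range_of_mem_etTop hR v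
    obtain ⟨V', g', k, hk, hks⟩ := exists_postComp_preimage hf g
    refine ⟨V', g', ?_, ?_⟩
    · show R ((postComp hf).map g')
      rw [← hk]
      exact R.downward_closed hg k
    · obtain ⟨w, rfl⟩ := hv
      obtain ⟨w', rfl⟩ := hks w
      exact ⟨w', congrArg (fun m : (postComp hf).obj V' ⟶ (postComp hf).obj E => m.hom.left.left w') hk.symm⟩

theorem coverPreserving_postComp : CoverPreserving (etTop X) (etTop Y) (postComp hf) where
  cover_preserve {E R} hR := mem_etTop_of_forall _ fun v => by
    obtain ⟨V, g, hg, hv⟩ := exists_mem_range_of_mem_etTop hR v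
    exact ⟨_, (postComp hf).map g, Presieve.image_mem_functorPushforward _ _ hg, hv⟩

variable {E₁ E₂ E₀ : EtOver X} (g₁ : E₁ ⟶ E₀) (g₂ : E₂ ⟶ E₀)

/-- The image of a fibre product. -/
noncomputable def postCompPullbackIsLimit :
    IsLimit (PullbackCone.mk ((postComp hf).map (EtOver.pullbackFst g₁ g₂))
      ((postComp hf).map (EtOver.pullbackSnd g₁ g₂))
      (by rw [← Functor.map_comp, ← Functor.map_comp, EtOver.pullback_condition]) :
      PullbackCone ((postComp hf).map g₁) ((postComp hf).map g₂)) :=
  PullbackCone.IsLimit.mk _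
    (fun s => EtOver.homMk (pullback.lift s.fst.hom.left s.snd.hom.left (congrArg (fun k => k.hom.left) s.condition)) (by
      change (yon S).map _ ≫ ((yon S).map _ ≫ E₁.obj.hom) ≫ f = s.pt.obj.hom
      rw [← Category.assoc, ← Category.assoc, ← Functor.map_comp, pullback.lift_fst, Category.assoc]
      exact EtOver.w s.fst))
    (fun s => EtOver.hom_ext _ _ (pullback.lift_fst _ _ _))
    (fun s => EtOver.hom_ext _ _ (pullback.lift_snd _ _ _))
    (fun s m h₁ h₂ => EtOver.hom_ext _ _ (pullback.hom_ext
      ((congrArg (fun k => k.hom.left) h₁).trans (pullback.lift_fst _ _ _).symm)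
      ((congrArg (fun k => k.hom.left) h₂).trans (pullback.lift_snd _ _ _).symm)))

instance preservesLimit_cospan_postComp : PreservesLimit (cospan g₁ g₂) (postComp hf) :=
  preservesLimit_of_preserves_limit_cone (EtOver.pullbackIsLimit g₁ g₂)
    ((isLimitMapConePullbackConeEquiv _ _).symm (postCompPullbackIsLimit hf g₁ g₂))

instance preservesPullbacks_postComp : PreservesLimitsOfShape WalkingCospan (postComp hf) where
  preservesLimit {K} := preservesLimit_of_iso_diagram _ (diagramIsoCospan K).symm

instance postComp_preservesOneHypercovers :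
    Functor.PreservesOneHypercovers.{u + 1} (postComp hf) (etTop X) (etTop Y) :=
  Functor.PreservesOneHypercovers.of_coverPreserving (coverPreserving_postComp hf)

instance postComp_isContinuous : (postComp hf).IsContinuous (etTop X) (etTop Y) := inferInstance

instance postComp_overPost_isContinuous (E : EtOver X) :
    (Over.post (X := E) (postComp hf)).IsContinuous ((etTop X).over E) ((etTop Y).over _) := inferInstance

variable (hrep : Representable f)

theorem bc_hom_ext {E : EtOver X} {V : EtOver Y} {k k' : E ⟶ (EtOver.bc hrep).obj V}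
    (h : k.hom.left ≫ hrep.snd V.obj.hom = k'.hom.left ≫ hrep.snd V.obj.hom) : k = k' :=
  EtOver.hom_ext _ _ (hrep.hom_ext ((EtOver.w k).trans (EtOver.w k').symm) h)

theorem yon_map_id_comp {A : Over S} {Z : Sp S} (g : (yon S).obj A ⟶ Z) : (yon S).map (𝟙 A) ≫ g = g := by
  rw [CategoryTheory.Functor.map_id, Category.id_comp]

/-- The unit. -/
noncomputable def unitHom (E : EtOver X) : E ⟶ (EtOver.bc hrep).obj ((postComp hf).obj E) :=
  EtOver.homMk (hrep.lift E.obj.hom (𝟙 E.obj.left) (yon_map_id_comp (E.obj.hom ≫ f)).symm) (hrep.lift_fst _ _ _)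

theorem unitHom_snd (E : EtOver X) :
    (unitHom hf hrep E).hom.left ≫ hrep.snd ((postComp hf).obj E).obj.hom = 𝟙 E.obj.left := hrep.lift_snd _ _ _

/-- The counit. -/
noncomputable def counitHom (V : EtOver Y) : (postComp hf).obj ((EtOver.bc hrep).obj V) ⟶ V :=
  EtOver.homMk (hrep.snd V.obj.hom) (hrep.w _).symm

theorem counitHom_left (V : EtOver Y) : (counitHom hf hrep V).hom.left = hrep.snd V.obj.hom := rfl

theorem unitHom_naturality {E E' : EtOver X} (g : E ⟶ E') :
    g ≫ unitHom hf hrep E' = unitHom hf hrep E ≫ (EtOver.bc hrep).map ((postComp hf).map g) :=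
  bc_hom_ext hrep (by
    change (g.hom.left ≫ (unitHom hf hrep E').hom.left) ≫ _ =
      ((unitHom hf hrep E).hom.left ≫ (EtOver.bcMap hrep ((postComp hf).map g)).hom.left) ≫ _
    rw [Category.assoc, Category.assoc, EtOver.bcMap_snd, unitHom_snd, ← Category.assoc, unitHom_snd]
    exact (Category.comp_id _).trans (Category.id_comp _).symm)

theorem right_triangle (V : EtOver Y) :
    unitHom hf hrep ((EtOver.bc hrep).obj V) ≫ (EtOver.bc hrep).map (counitHom hf hrep V) = 𝟙 _ :=
  bc_hom_ext hrep (by
    change ((unitHom hf hrep ((EtOver.bc hrep).obj V)).hom.left ≫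
      (EtOver.bcMap hrep (counitHom hf hrep V)).hom.left) ≫ _ = 𝟙 _ ≫ _
    rw [Category.assoc, EtOver.bcMap_snd, ← Category.assoc, unitHom_snd, counitHom_left])

/-- Restriction is left adjoint to base change. -/
noncomputable def postCompAdj : postComp hf ⊣ EtOver.bc hrep where
  unit := { app := fun E => unitHom hf hrep E, naturality := fun _ _ g => unitHom_naturality hf hrep g }
  counit := { app := fun V => counitHom hf hrep V
              naturality := fun _ _ g => EtOver.hom_ext _ _ (EtOver.bcMap_snd hrep g) }
  left_triangle_components E := EtOver.hom_ext _ _ (unitHom_snd hf hrep E)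
  right_triangle_components V := right_triangle hf hrep V

/-- The structure sheaves agree. -/
noncomputable def postCompRingHom :
    OEtRing X ⟶ ((postComp hf).sheafPushforwardContinuous RingCat.{u + 1} (etTop X) (etTop Y)).obj (OEtRing Y) :=
  ObjectProperty.homMk
    { app := fun E => 𝟙 ((OEtRing X).obj.obj E)
      naturality := fun _ _ _ => rfl }

instance isIso_postCompRingHom : IsIso (postCompRingHom hf) := by
  haveI : ∀ E, IsIso ((postCompRingHom hf).hom.app E) := fun E => inferInstanceAs (IsIso (𝟙 ((OEtRing X).obj.obj E)))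
  haveI : IsIso (postCompRingHom hf).hom := NatIso.isIso_of_isIso_app _
  haveI : IsIso ((sheafToPresheaf (etTop X) RingCat.{u + 1}).map (postCompRingHom hf)) :=
    inferInstanceAs (IsIso (postCompRingHom hf).hom)
  exact isIso_of_reflects_iso (postCompRingHom hf) (sheafToPresheaf (etTop X) RingCat.{u + 1})

/-- Restriction of modules. -/
noncomputable abbrev restrModEt : ModEt Y ⥤ ModEt X := SheafOfModules.pushforward (postCompRingHom hf)

/-- Restriction is left adjoint to direct image. -/
noncomputable def restrPushAdj : restrModEt hf ⊣ pushModEt hrep :=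
  SheafOfModules.pushforwardPushforwardAdj (postCompAdj hf hrep) (postCompRingHom hf) (bcRingHom hrep)
    (by
      refine NatTrans.ext (funext fun V => ?_)
      exact (Category.comp_id _).symm)
    (by
      refine NatTrans.ext (funext fun E => ?_)
      refine (Category.id_comp _).trans ?_
      show (BigSite.ORing Scheme.etalePrecoverage S).obj.map (hrep.snd _).op ≫
        (BigSite.ORing Scheme.etalePrecoverage S).obj.map ((postCompAdj hf hrep).unit.app E.unop).hom.left.op = 𝟙 _
      rw [← Functor.map_comp, ← op_comp]
      refine (congrArg (fun k : E.unop.obj.left ⟶ _ => (BigSite.ORing Scheme.etalePrecoverage S).obj.map k.op)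
        (hrep.lift_snd _ (𝟙 _) _)).trans ?_
      exact (BigSite.ORing Scheme.etalePrecoverage S).obj.map_id _)

/-- Inverse image along an etale morphism is restriction. -/
noncomputable def pullModEtIso [(SheafOfModules.pushforward.{u + 1} (bcRingHom hrep)).IsRightAdjoint] :
    pullModEt hrep ≅ restrModEt hf :=
  (pullPushAdjModEt hrep).leftAdjointUniq (restrPushAdj hf hrep)

instance preservesFiniteLimits_restrModEt : PreservesFiniteLimits (restrModEt hf) := by
  haveI : PreservesFiniteLimits ((postComp hf).sheafPushforwardContinuous AddCommGrpCat.{u + 1} (etTop X) (etTop Y)) :=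
    ⟨fun J _ _ => inferInstance⟩
  haveI : PreservesFiniteLimits (restrModEt hf ⋙ SheafOfModules.toSheaf _) :=
    preservesFiniteLimits_of_natIso (F := SheafOfModules.toSheaf _ ⋙
      (postComp hf).sheafPushforwardContinuous AddCommGrpCat.{u + 1} (etTop X) (etTop Y)) (Iso.refl _)
  exact preservesFiniteLimits_of_reflects_of_preserves (restrModEt hf) (SheafOfModules.toSheaf _)

theorem isQuasicoherent_restrModEt {M : ModEt Y} (hM : M.IsQuasicoherent) :
    ((restrModEt hf).obj M).IsQuasicoherent := by
  haveI := hM
  haveI : (postComp hf).IsLeftAdjoint := (postCompAdj hf hf.1).isLeftAdjoint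
  exact SheafOfModules.isQuasicoherent_pushforward_of_isLeftAdjoint (postComp hf) (postCompRingHom hf) (Iso.refl _)

theorem isQuasicoherent_pullModEt [(SheafOfModules.pushforward.{u + 1} (bcRingHom hrep)).IsRightAdjoint]
    {M : ModEt Y} (hM : M.IsQuasicoherent) (hf : RepWith @Etale f) : ((pullModEt hrep).obj M).IsQuasicoherent :=
  (SheafOfModules.isQuasicoherent (OEtRing X)).prop_of_iso ((pullModEtIso hf hrep).app M).symm
    (isQuasicoherent_restrModEt hf hM)

end Groth.Agent.SpPts86
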