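import Groth.Agent.SpPts86.BootSpace
import Groth.Agent.SpPts86.LocPDescent
import Groth.Prelude.Def_AlgSpGpd

/-!
The quotient of a space by a free action of a flat group space.
-/

universe u

set_option autoImplicit false

open CategoryTheory CategoryTheory.Limits AlgebraicGeometry MonoidalCategory CartesianMonoidalCategory MonObj
open AlgSp Groth.Agent.SpFP87

namespace Groth.Agent.SpPts86

variable {S : Scheme.{u}} {B : Sp S} {G X : Over B} [GrpObj G] (a : GAction G X)


theorem act_one {Z : Over B} (x : Z ⟶ X) : lift (1 : Z ⟶ G) x ≫ a.act = x := by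
  have e : lift (1 : Z ⟶ G) x = lift (toUnit Z) x ≫ η[G] ▷ X := by
    apply CartesianMonoidalCategory.hom_ext <;> simp [Hom.one_def]
  rw [e, Category.assoc, a.one_act]
  simp

theorem act_mul {Z : Over B} (g h : Z ⟶ G) (x : Z ⟶ X) :
    lift (g * h) x ≫ a.act = lift g (lift h x ≫ a.act) ≫ a.act := by
  have e : lift (g * h) x = lift (lift g h) x ≫ μ[G] ▷ X := by
    apply CartesianMonoidalCategory.hom_ext <;> simp [Hom.mul_def]
  rw [e, Category.assoc, a.mul_act, ← Category.assoc, ← Category.assoc]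
  congr 1
  rw [Category.assoc]
  apply CartesianMonoidalCategory.hom_ext <;> simp

theorem isEqvRelSp_action (ha : a.IsFree) : IsEqvRelSp (snd G X).left a.act.left where
  injective T r r' h1 h2 := by
    let R₁ : Over.mk (r ≫ (G ⊗ X).hom) ⟶ G ⊗ X := Over.homMk r rfl
    have hw : r' ≫ (G ⊗ X).hom = r ≫ (G ⊗ X).hom := by
      rw [← Over.w (snd G X), ← reassoc_of% h2]
    let R₂ : Over.mk (r ≫ (G ⊗ X).hom) ⟶ G ⊗ X := Over.homMk r' hw
    have e1 : R₁ ≫ a.act = R₂ ≫ a.act := Over.OverMorphism.ext h1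
    have e2 : R₁ ≫ snd G X = R₂ ≫ snd G X := Over.OverMorphism.ext h2
    suffices R₁ = R₂ from congrArg CommaMorphism.left this
    have l1 : R₁ = lift (R₁ ≫ fst G X) (R₁ ≫ snd G X) := by
      apply CartesianMonoidalCategory.hom_ext <;> simp
    have l2 : R₂ = lift (R₂ ≫ fst G X) (R₁ ≫ snd G X) := by
      rw [e2]; apply CartesianMonoidalCategory.hom_ext <;> simp
    rw [l1, l2] at e1
    have key := ha _ ((R₂ ≫ fst G X)⁻¹ * (R₁ ≫ fst G X)) (R₁ ≫ snd G X) (by
      rw [act_mul, e1, ← act_mul, inv_mul_cancel, act_one])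
    have : R₁ ≫ fst G X = R₂ ≫ fst G X := (inv_mul_eq_one.1 (key.trans Hom.one_def.symm)).symm
    rw [l1, l2, this]
  equivalence T := by
    have key : ∀ u v : (yon S).obj T ⟶ X.left, (∃ r : (yon S).obj T ⟶ (G ⊗ X).left,
        r ≫ a.act.left = u ∧ r ≫ (snd G X).left = v) ↔
        ∃ (h : u ≫ X.hom = v ≫ X.hom) (g : Over.mk (v ≫ X.hom) ⟶ G),
          lift g (Over.homMk v rfl : Over.mk (v ≫ X.hom) ⟶ X) ≫ a.act = Over.homMk u h := by
      intro u v
      constructor
      · rintro ⟨r, rfl, rfl⟩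
        have hr : r ≫ (G ⊗ X).hom = (r ≫ (snd G X).left) ≫ X.hom := by rw [Category.assoc, Over.w]
        let R₁ : Over.mk ((r ≫ (snd G X).left) ≫ X.hom) ⟶ G ⊗ X := Over.homMk r hr
        refine ⟨by rw [Category.assoc, Category.assoc, Over.w, Over.w], R₁ ≫ fst G X, ?_⟩
        have : lift (R₁ ≫ fst G X) (Over.homMk (r ≫ (snd G X).left) rfl) = R₁ := by
          apply CartesianMonoidalCategory.hom_ext
          · simp
          · rw [lift_snd]; exact (Over.OverMorphism.ext rfl)
        rw [this]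
        exact Over.OverMorphism.ext rfl
      · rintro ⟨h, g, e⟩
        refine ⟨(lift g (Over.homMk v rfl : Over.mk (v ≫ X.hom) ⟶ X)).left, ?_, ?_⟩
        · exact congrArg CommaMorphism.left e
        · exact congrArg CommaMorphism.left (lift_snd g (Over.homMk v rfl : Over.mk (v ≫ X.hom) ⟶ X))
    simp only [key]
    refine ⟨fun u => ⟨rfl, 1, ?_⟩, ?_, ?_⟩
    · exact act_one a _
    · rintro u v ⟨h, g, e⟩
      let σ₀ : Over.mk (u ≫ X.hom) ⟶ Over.mk (v ≫ X.hom) := Over.homMk (𝟙 _) (by simp [h])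
      refine ⟨h.symm, σ₀ ≫ g⁻¹, ?_⟩
      have e1 : (Over.homMk u rfl : Over.mk (u ≫ X.hom) ⟶ X) = σ₀ ≫ Over.homMk u h :=
        Over.OverMorphism.ext (Category.id_comp _).symm
      rw [e1, ← e, ← comp_lift_assoc, ← act_mul, inv_mul_cancel, act_one]
      exact Over.OverMorphism.ext (Category.id_comp _)
    · rintro u v w ⟨h, g, e⟩ ⟨h', g', e'⟩
      let σ₀ : Over.mk (w ≫ X.hom) ⟶ Over.mk (v ≫ X.hom) := Over.homMk (𝟙 _) (by simp [h'])
      refine ⟨h.trans h', (σ₀ ≫ g) * g', ?_⟩
      have e1 : (Over.homMk v h' : Over.mk (w ≫ X.hom) ⟶ X) = σ₀ ≫ Over.homMk v rfl :=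
        Over.OverMorphism.ext (Category.id_comp _).symm
      rw [act_mul, e', e1, ← comp_lift_assoc, e]
      exact Over.OverMorphism.ext (Category.id_comp _)

/-- The quotient by a free action of a flat locally finitely presented group space. -/
theorem isAlgSpace_quot_action (hB : IsAlgSpace B) (hG : IsAlgSpace G.left) (hX : IsAlgSpace X.left)
    (ha : a.IsFree) (hfl : LocP @Flat G.hom) (hfp : LocP @LocallyOfFinitePresentation G.hom) :
    IsAlgSpace a.quot ∧
      (IsSurjectiveMor a.quotπ ∧ LocP @Flat a.quotπ ∧ LocP @LocallyOfFinitePresentation a.quotπ) ∧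
      IsIso (pullback.lift a.act.left (snd G X).left
        (quotSp_condition (snd G X).left a.act.left).symm : (G ⊗ X).left ⟶ pullback a.quotπ a.quotπ) := by
  have sqs : IsPullback (fst G X).left (snd G X).left G.hom X.hom := IsPullback.of_hasPullback G.hom X.hom
  have hR := isAlgSpace_of_isPullback sqs hG hX hB.diag
  have h1 := locP_baseChange sqs hG hB hX hfl
  have h2 := locP_baseChange sqs hG hB hX hfp
  have hE := isEqvRelSp_action a ha
  have hQ : IsAlgSpace a.quot := isAlgSpace_quotSp hR hX hE h1 h2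
  have sq := quotSp_kernelPair hE
  have hl := locLift_quotSpπ (snd G X).left a.act.left
  have : MorphismProperty.DescendsAlong (@Flat : MorphismProperty Scheme.{u}) fppfSurj := flat_descends
  have : MorphismProperty.DescendsAlong (@LocallyOfFinitePresentation : MorphismProperty Scheme.{u}) fppfSurj :=
    lfp_descends
  refine ⟨hQ, ⟨(covLift_of_locLift hl).surjective_points, locP_of_locLift sq hX hQ hX hl h1,
    locP_of_locLift sq hX hQ hX hl h2⟩, ?_⟩
  have e : (pullback.lift a.act.left (snd G X).left (quotSp_condition (snd G X).left a.act.left).symm :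
      (G ⊗ X).left ⟶ pullback a.quotπ a.quotπ) = sq.isoPullback.hom := by
    apply pullback.hom_ext
    · rw [pullback.lift_fst]; exact sq.isoPullback_hom_fst.symm
    · rw [pullback.lift_snd]; exact sq.isoPullback_hom_snd.symm
  rw [e]
  infer_instance

end Groth.Agent.SpPts86
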