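import Groth.Agent.SpPts86.QuotSp

/-!
Groupoids in sheaves: the pre-equivalence relation and translation.
-/

universe u

set_option autoImplicit false

open CategoryTheory CategoryTheory.Limits AlgebraicGeometry
open AlgSp Groth.Agent.SpFP87

namespace Groth.Agent.SpPts86

variable {S : Scheme.{u}} {B : Sp S}

theorem isPreEqvRelSp_grpd (G : GroupoidSp B) : IsPreEqvRelSp G.s G.t := fun T => by
  refine ⟨fun a => ⟨a ≫ G.e, ?_, ?_⟩, ?_, ?_⟩
  · rw [Category.assoc, G.e_t, Category.comp_id]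
  · rw [Category.assoc, G.e_s, Category.comp_id]
  · rintro a b ⟨r, h1, h2⟩
    exact ⟨r ≫ G.i, by rw [Category.assoc, G.i_t, h2], by rw [Category.assoc, G.i_s, h1]⟩
  · rintro a b c ⟨r, h1, h2⟩ ⟨r', h1', h2'⟩
    exact ⟨pullback.lift r r' (h2.trans h1'.symm) ≫ G.c,
      (G.comp_t _ _ _).trans h1, (G.comp_s _ _ _).trans h2'⟩

theorem grpd_over (G : GroupoidSp B) {Z : Sp S} (r : Z ⟶ G.R) :
    (r ≫ G.t) ≫ G.pU = (r ≫ G.s) ≫ G.pU := by
  rw [Category.assoc, Category.assoc, G.t_over, G.s_over]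

theorem isPullback_of_restriction {G G' : GroupoidSp B} (φ : GroupoidSp.Hom G' G)
    (hφ : φ.IsRestriction) :
    IsPullback (prod.lift G'.t G'.s) φ.fR (prod.map φ.fU φ.fU) (prod.lift G.t G.s) := by
  have ext' : ∀ {Z : Sp S} {x y : Z ⟶ pullback G.pU G.pU},
      x ≫ pullback.fst _ _ = y ≫ pullback.fst _ _ → x ≫ pullback.snd _ _ = y ≫ pullback.snd _ _ → x = y :=
    fun h1 h2 => pullback.hom_ext h1 h2
  refine IsPullback.mk' (Limits.prod.hom_ext ?_ ?_) (fun Z x y e1 e2 => ?_) fun Z a r w => ?_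
  · simp only [Category.assoc, prod.map_fst, prod.lift_fst, prod.lift_fst_assoc]
    exact φ.comm_t.symm
  · simp only [Category.assoc, prod.map_snd, prod.lift_snd, prod.lift_snd_assoc]
    exact φ.comm_s.symm
  · refine hφ.hom_ext e2 (pullback.hom_ext ?_ ?_)
    · simpa only [Category.assoc, GroupoidSp.j_fst, prod.lift_fst] using congrArg (· ≫ prod.fst) e1
    · simpa only [Category.assoc, GroupoidSp.j_snd, prod.lift_snd] using congrArg (· ≫ prod.snd) e1
  · have w1 : (a ≫ prod.fst) ≫ φ.fU = r ≫ G.t := by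
      have := congrArg (· ≫ prod.fst) w
      simpa only [Category.assoc, prod.map_fst, prod.lift_fst] using this
    have w2 : (a ≫ prod.snd) ≫ φ.fU = r ≫ G.s := by
      have := congrArg (· ≫ prod.snd) w
      simpa only [Category.assoc, prod.map_snd, prod.lift_snd] using this
    have hover : (a ≫ prod.fst) ≫ G'.pU = (a ≫ prod.snd) ≫ G'.pU := by
      rw [← φ.fU_over, ← Category.assoc, w1, ← Category.assoc, w2]
      exact grpd_over G r
    obtain ⟨l, h1, h2⟩ : ∃ l, l ≫ φ.fR = r ∧ l ≫ G'.j = pullback.lift (a ≫ prod.fst) (a ≫ prod.snd) hover :=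
      ⟨_, hφ.lift_fst r (pullback.lift (a ≫ prod.fst) (a ≫ prod.snd) hover) (ext'
        (by simp only [GroupoidSp.Hom.prodMap, Category.assoc, GroupoidSp.j_fst, pullback.lift_fst,
              pullback.lift_fst_assoc]
            simpa only [Category.assoc] using w1.symm)
        (by simp only [GroupoidSp.Hom.prodMap, Category.assoc, GroupoidSp.j_snd, pullback.lift_snd,
              pullback.lift_snd_assoc]
            simpa only [Category.assoc] using w2.symm)), hφ.lift_snd _ _ _⟩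
    refine ⟨l, Limits.prod.hom_ext ?_ ?_, h1⟩
    · simp only [Category.assoc, prod.lift_fst]
      rw [← GroupoidSp.j_fst G', reassoc_of% h2]
      exact pullback.lift_fst _ _ _
    · simp only [Category.assoc, prod.lift_snd]
      rw [← GroupoidSp.j_snd G', reassoc_of% h2]
      exact pullback.lift_snd _ _ _

/-- Translation by the inverse: right cancellation of composition. -/
theorem comp_cancel (G : GroupoidSp B) {Z : Sp S} (α γ : Z ⟶ G.R) (h : α ≫ G.t = γ ≫ G.t) :
    ∃ (h' : (α ≫ G.i) ≫ G.s = γ ≫ G.t)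
      (h'' : α ≫ G.s = (pullback.lift (α ≫ G.i) γ h' ≫ G.c) ≫ G.t),
      pullback.lift α (pullback.lift (α ≫ G.i) γ h' ≫ G.c) h'' ≫ G.c = γ := by
  have h' : (α ≫ G.i) ≫ G.s = γ ≫ G.t := by rw [Category.assoc, G.i_s, h]
  refine ⟨h', by rw [G.comp_t, Category.assoc, G.i_t], ?_⟩
  rw [← G.assoc α (α ≫ G.i) γ (by rw [Category.assoc, G.i_t]) h']
  have e : pullback.lift α (α ≫ G.i) (by rw [Category.assoc, G.i_t]) ≫ G.c = γ ≫ G.t ≫ G.e := by
    rw [G.comp_i, reassoc_of% h]
  simp only [e]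
  exact G.e_comp γ

theorem cancel_comp (G : GroupoidSp B) {Z : Sp S} (α β : Z ⟶ G.R) (h : α ≫ G.s = β ≫ G.t) :
    ∃ (h' : (α ≫ G.i) ≫ G.s = (pullback.lift α β h ≫ G.c) ≫ G.t),
      pullback.lift (α ≫ G.i) (pullback.lift α β h ≫ G.c) h' ≫ G.c = β := by
  refine ⟨by rw [G.comp_t, Category.assoc, G.i_s], ?_⟩
  rw [← G.assoc (α ≫ G.i) α β (by rw [Category.assoc, G.i_s]) h]
  have e : pullback.lift (α ≫ G.i) α (by rw [Category.assoc, G.i_s]) ≫ G.c = β ≫ G.t ≫ G.e := by
    rw [G.i_comp, reassoc_of% h]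
  simp only [e]
  exact G.e_comp β

theorem comp_right_cancel (G : GroupoidSp B) {Z : Sp S} (α α' β : Z ⟶ G.R) (h : α ≫ G.s = β ≫ G.t)
    (h' : α' ≫ G.s = β ≫ G.t) (e : pullback.lift α β h ≫ G.c = pullback.lift α' β h' ≫ G.c) :
    α = α' := by
  have key : ∀ (a : Z ⟶ G.R) (ha : a ≫ G.s = β ≫ G.t),
      a = pullback.lift (pullback.lift a β ha ≫ G.c) (β ≫ G.i)
        (by rw [G.comp_s, Category.assoc, G.i_t]) ≫ G.c := fun a ha => by
    rw [G.assoc a β (β ≫ G.i) ha (by rw [Category.assoc, G.i_t])]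
    have e : pullback.lift β (β ≫ G.i) (by rw [Category.assoc, G.i_t]) ≫ G.c = a ≫ G.s ≫ G.e := by
      rw [G.comp_i, ← reassoc_of% ha]
    simp only [e]
    exact (G.comp_e a).symm
  rw [key α h, key α' h']
  simp only [e]

theorem isPullback_comp (G : GroupoidSp B) :
    IsPullback G.c (pullback.snd G.s G.t) G.s G.s := by
  have eta : ∀ {Z : Sp S} (x : Z ⟶ pullback G.s G.t), x = pullback.lift (x ≫ pullback.fst G.s G.t)
      (x ≫ pullback.snd G.s G.t) (by rw [Category.assoc, Category.assoc, pullback.condition]) :=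
    fun x => pullback.hom_ext (pullback.lift_fst _ _ _).symm (pullback.lift_snd _ _ _).symm
  refine IsPullback.mk' ?_ (fun Z x y e1 e2 => ?_) fun Z a b w => ?_
  · have := G.comp_s (pullback.fst G.s G.t) (pullback.snd G.s G.t) pullback.condition
    have hid : pullback.lift (pullback.fst G.s G.t) (pullback.snd G.s G.t) pullback.condition = 𝟙 _ :=
      pullback.hom_ext (by rw [pullback.lift_fst, Category.id_comp])
        (by rw [pullback.lift_snd, Category.id_comp])
    rwa [hid, Category.id_comp] at this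
  · refine pullback.hom_ext ?_ e2
    rw [eta x, eta y] at e1
    simp only [← e2] at e1
    exact comp_right_cancel G _ _ _ _ _ e1
  · have h0 : a ≫ G.s = (b ≫ G.i) ≫ G.t := by rw [Category.assoc, G.i_t, w]
    have h1 : (pullback.lift a (b ≫ G.i) h0 ≫ G.c) ≫ G.s = b ≫ G.t := by
      rw [G.comp_s, Category.assoc, G.i_s]
    refine ⟨pullback.lift _ b h1, ?_, pullback.lift_snd _ _ _⟩
    rw [G.assoc a (b ≫ G.i) b h0 (by rw [Category.assoc, G.i_s])]
    have e : pullback.lift (b ≫ G.i) b (by rw [Category.assoc, G.i_s]) ≫ G.c = a ≫ G.s ≫ G.e := by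
      rw [G.i_comp, ← reassoc_of% w]
    simp only [e]
    exact G.comp_e a

theorem shear_isIso (G : GroupoidSp B) (φ : pullback G.t G.t ⟶ pullback G.s G.t)
    (h1 : φ ≫ pullback.fst G.s G.t = pullback.fst G.t G.t)
    (h2 : φ ≫ pullback.snd G.s G.t =
      pullback.lift (pullback.fst G.t G.t ≫ G.i) (pullback.snd G.t G.t)
        ((Category.assoc _ _ _).trans ((congrArg (pullback.fst G.t G.t ≫ ·) G.i_s).trans pullback.condition)) ≫ G.c) :
    IsIso φ ∧ φ ≫ G.c = pullback.snd G.t G.t := by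
  obtain ⟨h', h'', e⟩ := comp_cancel G (pullback.fst G.t G.t) (pullback.snd G.t G.t) pullback.condition
  have hφ : φ = pullback.lift _ _ h'' := pullback.hom_ext (by rw [h1, pullback.lift_fst])
    (by rw [h2, pullback.lift_snd])
  have hc : φ ≫ G.c = pullback.snd G.t G.t := by rw [hφ, e]
  let ψ : pullback G.s G.t ⟶ pullback G.t G.t :=
    pullback.lift (pullback.fst G.s G.t)
      (pullback.lift (pullback.fst G.s G.t) (pullback.snd G.s G.t) pullback.condition ≫ G.c)
      (G.comp_t _ _ _).symm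
  have hid : pullback.lift (pullback.fst G.s G.t) (pullback.snd G.s G.t) pullback.condition = 𝟙 _ :=
    pullback.hom_ext (by rw [pullback.lift_fst, Category.id_comp])
      (by rw [pullback.lift_snd, Category.id_comp])
  have hfst : ψ ≫ pullback.fst G.t G.t = pullback.fst G.s G.t := pullback.lift_fst _ _ _
  have hsnd : ψ ≫ pullback.snd G.t G.t = G.c := by
    rw [show ψ ≫ pullback.snd G.t G.t = _ from pullback.lift_snd _ _ _, hid, Category.id_comp]
  refine ⟨⟨ψ, pullback.hom_ext ?_ ?_, pullback.hom_ext ?_ ?_⟩, hc⟩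
  · rw [Category.assoc, hfst, h1, Category.id_comp]
  · rw [Category.assoc, hsnd, hc, Category.id_comp]
  · rw [Category.assoc, h1, hfst, Category.id_comp]
  · obtain ⟨h0, e0⟩ := cancel_comp G (pullback.fst G.s G.t) (pullback.snd G.s G.t) pullback.condition
    rw [Category.assoc, h2, Category.id_comp, ← e0, ← Category.assoc]
    congr 1
    apply pullback.hom_ext
    · simp only [Category.assoc, pullback.lift_fst]
      rw [reassoc_of% hfst]
    · simp only [Category.assoc, pullback.lift_snd, hid, Category.id_comp]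
      exact hsnd

end Groth.Agent.SpPts86
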