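import Groth.Agent.SpPts86.RelDim
import Groth.Agent.SpPts86.HasAtMorBC
import Groth.Agent.SpFP87.OverField
import Groth.Agent.SpFP87.Residual

/-!
Locally quasi-finite morphisms are those with discrete fibres.
-/

universe u

set_option autoImplicit false

open CategoryTheory CategoryTheory.Limits AlgebraicGeometry Topology
open AlgSp Groth.Agent.SpFP87

namespace Groth.Agent.SpPts86

variable {S : Scheme.{u}} {X Y P : Sp S}

theorem discrete_of_locP_lqf {k : Type u} [Field k] {str : Spec (CommRingCat.of k) ⟶ S} (hP : IsAlgSpace P)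
    (snd : P ⟶ (yon S).obj (Over.mk str))
    (h : LocP ((@LocallyQuasiFinite : MorphismProperty Scheme.{u}) ⊓ @LocallyOfFiniteType) snd) :
    DiscreteTopology (Points P) := by
  refine discreteTopology_iff_isOpen_singleton.2 fun x => ?_
  obtain ⟨U, a, ha, has⟩ := hP.atlas
  obtain ⟨u, rfl⟩ := surjective_ofPt has x
  obtain ⟨g, hg⟩ := (yon S).map_surjective (a ≫ snd)
  obtain ⟨hq, hft⟩ := h a (𝟙 _) g ha (repWith_id _ _) (by rw [Category.comp_id]; exact hg.symm)
  let g' : U.left ⟶ Spec (CommRingCat.of k) := g.left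
  have : LocallyQuasiFinite g' := hq
  have : IsLocallyArtinian U.left := .of_locallyQuasiFinite g'
  rw [← Set.image_singleton]
  exact isOpenMap_ofPt ha _ (isOpen_discrete _)

theorem fibreDim_zero_of_discrete {k : Type u} [Field k] {str : Spec (CommRingCat.of k) ⟶ S} (hP : IsAlgSpace P)
    (snd : P ⟶ (yon S).obj (Over.mk str)) (h : LocP @LocallyOfFiniteType snd) [DiscreteTopology (Points P)]
    (x : Points P) : HasAtMor (fun _ _ h u => FlatMor.fibreDimAt h u = 0) snd x := by
  obtain ⟨U, a, ha, has⟩ := hP.atlas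
  obtain ⟨u, rfl⟩ := surjective_ofPt has x
  obtain ⟨g, hg⟩ := (yon S).map_surjective (a ≫ snd)
  have w : a ≫ snd = (yon S).map g ≫ 𝟙 _ := by rw [Category.comp_id]; exact hg.symm
  let g' : U.left ⟶ Spec (CommRingCat.of k) := g.left
  have : LocallyOfFiniteType g' := h a (𝟙 _) g ha (repWith_id _ _) w
  have : IsLocallyNoetherian U.left := LocallyOfFiniteType.isLocallyNoetherian g'
  have : JacobsonSpace ↥(Spec (CommRingCat.of k)) := inferInstanceAs (JacobsonSpace (PrimeSpectrum k))
  have : JacobsonSpace ↥U.left := LocallyOfFiniteType.jacobsonSpace g'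
  have h0 : FlatMor.localDim ↥U.left u = 0 :=
    (localDim_eq_zero_iff u).2 (SpFP87.isOpen_singleton_of_isOpen_pts hP ha (isOpen_discrete _))
  refine ⟨U, Over.mk str, a, 𝟙 _, g, u, ha, repWith_id _ _, w, rfl, ?_⟩
  have : Subsingleton ↥(Over.mk str).left := inferInstanceAs (Subsingleton (PrimeSpectrum k))
  have huniv : g.left ⁻¹' {g.left u} = Set.univ := Set.eq_univ_of_forall fun t => Subsingleton.elim _ _
  show FlatMor.fibreDimAt g.left u = 0
  rw [E4O.fibreDimAt_eq_localDim,
    E4O.localDim_eq_of_homeomorph ((Homeomorph.setCongr huniv).trans (Homeomorph.Set.univ _))]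
  exact h0

theorem locP_lqf_iff_discrete (hX : IsAlgSpace X) (hY : IsAlgSpace Y) (f : X ⟶ Y)
    (hf : LocP @LocallyOfFiniteType f) :
    LocP ((@LocallyQuasiFinite : MorphismProperty Scheme.{u}) ⊓ @LocallyOfFiniteType) f ↔
      ∀ (k : Type u) [Field k] (str : Spec (CommRingCat.of k) ⟶ S) (y : (yon S).obj (Over.mk str) ⟶ Y)
        (P : Sp S) (fst : P ⟶ X) (snd : P ⟶ (yon S).obj (Over.mk str)),
        IsPullback fst snd f y → DiscreteTopology (Points P) := by
  constructor
  · intro h k _ str y P fst snd sq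
    exact discrete_of_locP_lqf (SpFP87.isAlgSpace_of_isPullback sq hX (IsAlgSpace.yon_obj _) hY.diag) snd
      (locP_baseChange sq hX hY (IsAlgSpace.yon_obj _) h)
  · intro H U V a b h ha hb w
    have := hf a b h ha hb w
    refine ⟨locallyQuasiFinite_of_fibreDimAt h.left fun u => ?_, this⟩
    let v := h.left u
    let y : (yon S).obj (resPt v) ⟶ Y := (yon S).map (resIncl v) ≫ b
    have sq := IsPullback.of_hasPullback f y
    have hP := SpFP87.isAlgSpace_of_isPullback sq hX (IsAlgSpace.yon_obj _) hY.diag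
    have : DiscreteTopology (Points (pullback f y)) :=
      H (V.left.residueField v) (V.left.fromSpecResidueField v ≫ V.hom) y _ _ _ sq
    obtain ⟨x', hx', -⟩ := exists_of_isPullback sq (Points.ofPt a u)
      (Points.ofScheme (resPt v) (IsLocalRing.closedPoint (V.left.residueField v))) (by
        rw [Points.map_ofPt, w, ofPt_comp, ← Points.ofPt_eq_map_ofScheme, ofPt_comp]
        exact congrArg (Points.ofPt b) (Scheme.fromSpecResidueField_apply v _).symm)
    have h1 := (hasAtMor_fibreDim_baseChange (· = 0) sq hX hY (IsAlgSpace.yon_obj _) hf x').1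
      (fibreDim_zero_of_discrete (k := V.left.residueField v) hP _
        (locP_baseChange sq hX hY (IsAlgSpace.yon_obj _) hf) x')
    rw [hx'] at h1
    exact forall_diagram_of_hasAtMor hX hY (etInv_fibreDim (· = 0)) h1 ha hb w rfl

end Groth.Agent.SpPts86
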