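import Groth.Agent.SpPts86.Boot
import Groth.Agent.SpPts86.EtaleMor
import Groth.Agent.SpPts86.LocPMore
import Groth.Agent.SpPts86.UnivInj

/-!
Unramified morphisms of algebraic spaces and their diagonals.
-/

universe u

set_option autoImplicit false

open CategoryTheory CategoryTheory.Limits AlgebraicGeometry
open AlgSp Groth.Agent.SpFP87

namespace Groth.Agent.SpPts86

variable {S : Scheme.{u}} {X Y : Sp S}

theorem mono_inf_etale_le_openImmersion :
    (MorphismProperty.monomorphisms Scheme.{u} ⊓ @Etale) ≤ @IsOpenImmersion := by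
  rintro A B f ⟨(_ : Mono f), h⟩
  have : Etale f := h
  exact IsOpenImmersion.of_flat_of_mono f

theorem repWith_openImm_diagonal_of_unramified {f : X ⟶ Y} (hX : IsAlgSpace X) (hY : IsAlgSpace Y)
    (hf : LocP (@LocallyOfFiniteType ⊓ @FormallyUnramified) f) :
    RepWith @IsOpenImmersion (pullback.diagonal f) := by
  have hP := isAlgSpace_of_isPullback (IsPullback.of_hasPullback f f) hX hX hY.diag
  have h2 : LocP (@LocallyOfFiniteType ⊓ @FormallyUnramified) (pullback.fst f f) :=
    locP_baseChange (IsPullback.of_hasPullback f f).flip hX hY hX hf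
  have h3 : LocP @Etale (pullback.diagonal f ≫ pullback.fst f f) := by
    rw [pullback.diagonal_fst]
    exact locP_of_isIso (𝟙 X) hX hX
  have h4 : LocP @Etale (pullback.diagonal f) :=
    locP_of_comp (P := @Etale) (R := @Etale) (Q := @LocallyOfFiniteType ⊓ @FormallyUnramified)
      (fun f g hfg hg => MorphismProperty.of_postcomp (W := @Etale)
        (W' := @LocallyOfFiniteType ⊓ @FormallyUnramified) f g hg hfg) hX hP hX h3 h2
  exact repWith_mono mono_inf_etale_le_openImmersion
    (repWith_inf (repWith_monomorphisms_of_mono (representable_diagonal hX.diag f))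
      (repWith_of_locP hP (representable_diagonal hX.diag f) h4))

theorem formallyUnramified_of_repWith_openImm_diagonal {f : X ⟶ Y} (hX : IsAlgSpace X)
    (hf : RepWith @IsOpenImmersion (pullback.diagonal f)) {U V : Over S}
    {a : (yon S).obj U ⟶ X} {b : (yon S).obj V ⟶ Y} {h : U ⟶ V} (ha : RepWith @Etale a)
    (w : a ≫ f = (yon S).map h ≫ b) : FormallyUnramified h.left := by
  let D : Over S := Over.mk (pullback.fst h.left h.left ≫ U.hom)
  let d₁ : D ⟶ U := Over.homMk (pullback.fst h.left h.left) rfl
  let d₂ : D ⟶ U := Over.homMk (pullback.snd h.left h.left) (by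
    change pullback.snd h.left h.left ≫ U.hom = pullback.fst h.left h.left ≫ U.hom
    rw [← Over.w h, ← pullback.condition_assoc])
  have hd : d₁ ≫ h = d₂ ≫ h := Over.OverMorphism.ext pullback.condition
  let δ : U ⟶ D := Over.homMk (pullback.diagonal h.left) (by
    change pullback.diagonal h.left ≫ pullback.fst h.left h.left ≫ U.hom = U.hom
    rw [pullback.diagonal_fst_assoc])
  have δ₁ : δ ≫ d₁ = 𝟙 U := Over.OverMorphism.ext (pullback.diagonal_fst _)
  have δ₂ : δ ≫ d₂ = 𝟙 U := Over.OverMorphism.ext (pullback.diagonal_snd _)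
  let l : (yon S).obj D ⟶ pullback f f :=
    pullback.lift ((yon S).map d₁ ≫ a) ((yon S).map d₂ ≫ a) (by
      rw [Category.assoc, Category.assoc, w, ← Functor.map_comp_assoc, ← Functor.map_comp_assoc, hd])
  obtain ⟨E, i, fst, sq⟩ := hf.rep l
  have : IsOpenImmersion i.left := hf.property l fst i sq
  have e1 : fst = (yon S).map (i ≫ d₁) ≫ a := by
    have := congrArg (· ≫ pullback.fst f f) sq.w
    simp only [l, Category.assoc, pullback.diagonal_fst, Category.comp_id] at this
    erw [pullback.lift_fst] at this
    rw [this, Functor.map_comp, Category.assoc]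
  have e2 : fst = (yon S).map (i ≫ d₂) ≫ a := by
    have := congrArg (· ≫ pullback.snd f f) sq.w
    simp only [l, Category.assoc, pullback.diagonal_snd, Category.comp_id] at this
    erw [pullback.lift_snd] at this
    rw [this, Functor.map_comp, Category.assoc]
  obtain ⟨R, t, s, sqR⟩ := exists_isPullback_yon hX.diag a a
  have : Etale s.left := (etale_of_isPullback ha sqR).1
  obtain ⟨m, hm⟩ := (yon S).map_surjective
    (sqR.lift ((yon S).map (i ≫ d₁)) ((yon S).map (i ≫ d₂)) (e1.symm.trans e2))
  have mt : m ≫ t = i ≫ d₁ := (yon S).map_injective (by rw [Functor.map_comp, hm, sqR.lift_fst])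
  have ms : m ≫ s = i ≫ d₂ := (yon S).map_injective (by rw [Functor.map_comp, hm, sqR.lift_snd])
  have : Mono m.left := ⟨fun {Z} x y e => by
    rw [← cancel_mono i.left]
    exact pullback.hom_ext
      (show (x ≫ i.left) ≫ d₁.left = (y ≫ i.left) ≫ d₁.left by
        rw [Category.assoc, Category.assoc, ← Over.comp_left, ← mt, Over.comp_left, reassoc_of% e])
      (show (x ≫ i.left) ≫ d₂.left = (y ≫ i.left) ≫ d₂.left by
        rw [Category.assoc, Category.assoc, ← Over.comp_left, ← ms, Over.comp_left, reassoc_of% e])⟩
  obtain ⟨ε, hε⟩ := (yon S).map_surjective (sq.lift a ((yon S).map δ) (by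
    apply pullback.hom_ext
    · simp only [l, Category.assoc, pullback.diagonal_fst, Category.comp_id]
      erw [pullback.lift_fst]
      rw [← Functor.map_comp_assoc, δ₁, CategoryTheory.Functor.map_id, Category.id_comp]
    · simp only [l, Category.assoc, pullback.diagonal_snd, Category.comp_id]
      erw [pullback.lift_snd]
      rw [← Functor.map_comp_assoc, δ₂, CategoryTheory.Functor.map_id, Category.id_comp]))
  have εi : ε ≫ i = δ := (yon S).map_injective (by rw [Functor.map_comp, hε, sq.lift_snd])
  let e := ε.left ≫ m.left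
  have he : e ≫ s.left = 𝟙 U.left := by
    rw [Category.assoc, ← Over.comp_left, ms, ← Over.comp_left, ← Category.assoc, εi, δ₂]
    rfl
  have : Etale (e ≫ s.left) := by rw [he]; infer_instance
  have : Etale e := Etale.of_comp e s.left
  have : Mono e := mono_of_mono_fac he
  have : IsOpenImmersion e := IsOpenImmersion.of_flat_of_mono e
  have sqm : IsPullback (𝟙 U.left) ε.left e m.left :=
    IsPullback.of_isLimit (PullbackCone.IsLimit.mk (Category.id_comp _) (fun c => c.fst) (fun c => by simp)
      (fun c => by
        have := c.condition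
        rw [← cancel_mono m.left, Category.assoc]
        exact this) (fun c k hk _ => by simpa using hk))
  have : IsOpenImmersion ε.left := MorphismProperty.of_isPullback (P := @IsOpenImmersion) sqm ‹_›
  have : IsOpenImmersion (pullback.diagonal h.left) := by
    have e3 : pullback.diagonal h.left = ε.left ≫ i.left := (congrArg CommaMorphism.left εi).symm
    rw [e3]
    infer_instance
  infer_instance

theorem unramified_of_repWith_openImm_diagonal {f : X ⟶ Y} (hX : IsAlgSpace X)
    (hf : LocP @LocallyOfFiniteType f) (h : RepWith @IsOpenImmersion (pullback.diagonal f)) :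
    LocP (@LocallyOfFiniteType ⊓ @FormallyUnramified) f :=
  fun _ _ a b g ha hb w =>
    ⟨hf a b g ha hb w, formallyUnramified_of_repWith_openImm_diagonal hX h ha w⟩

theorem isIso_diagonal_of_unramified_univInjective {f : X ⟶ Y} (hX : IsAlgSpace X) (hY : IsAlgSpace Y)
    (hu : LocP (@LocallyOfFiniteType ⊓ @FormallyUnramified) f) (hinj : IsUnivInjectiveMor f) :
    IsIso (pullback.diagonal f) := by
  have hd := repWith_openImm_diagonal_of_unramified hX hY hu
  have hs := surjective_diagonal_of_univInjective hX hinj
  refine Groth.Agent.SpFP87.isIso_of_probe _ fun T g => ?_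
  obtain ⟨E, i, fst, sq⟩ := hd.rep g
  have : IsOpenImmersion i.left := hd.property g fst i sq
  have : Surjective i.left := ⟨fun z => by
    obtain ⟨x, hx⟩ := hs (Points.ofPt g z)
    obtain ⟨v, -, hv⟩ := exists_pt_of_isPullback sq x z hx
    exact ⟨v, hv⟩⟩
  have : IsIso i.left := (isIso_iff_isOpenImmersion_and_surjective _).2 ⟨inferInstance, inferInstance⟩
  have : IsIso ((Over.forget S).map i) := this
  have : IsIso i := isIso_of_reflects_iso i (Over.forget S)
  refine ⟨(yon S).map (inv i) ≫ fst, ?_, fun y hy => ?_⟩
  · change ((yon S).map (inv i) ≫ fst) ≫ pullback.diagonal f = g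
    rw [Category.assoc, sq.w, ← Functor.map_comp_assoc, IsIso.inv_hom_id,
      CategoryTheory.Functor.map_id, Category.id_comp]
  · rw [← cancel_mono (pullback.diagonal f), hy, Category.assoc, sq.w, ← Functor.map_comp_assoc,
      IsIso.inv_hom_id, CategoryTheory.Functor.map_id, Category.id_comp]

end Groth.Agent.SpPts86
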