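import Groth.Agent.SpPts86.FreeAction
import Groth.Agent.SpPts86.UnramDiag
import Groth.Agent.SpPts86.DiscreteFib
import Groth.Agent.SpPts86.Graph
import Mathlib.AlgebraicGeometry.Morphisms.UniversallyOpen

/-!
Pseudo torsors inherit unramifiedness and local quasi-finiteness from the group.
-/

universe u

set_option autoImplicit false
set_option backward.isDefEq.respectTransparency false
set_option linter.style.haveILetI false

open CategoryTheory CategoryTheory.Limits AlgebraicGeometry MonoidalCategory CartesianMonoidalCategory MonObj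
open AlgSp Groth.Agent.SpFP87

namespace Groth.Agent.SpPts86

variable {S : Scheme.{u}} {B : Sp S} {G X : Over B} [GrpObj G] (a : GAction G X)

theorem unit_left_hom : (η[G]).left ≫ G.hom = 𝟙 B := Over.w (η[G])

theorem isIso_left_of_pseudoTorsor (ha : a.IsPseudoTorsor) : IsIso (lift a.act (snd G X)).left := by
  haveI : IsIso (lift a.act (snd G X)) := ha
  exact inferInstanceAs (IsIso ((Over.forget B).map (lift a.act (snd G X))))

theorem isPullback_shear [IsIso (lift a.act (snd G X)).left] {Q : Sp S} {T : Sp S} {x : T ⟶ X.left}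
    {p : Q ⟶ pullback X.hom X.hom} {q : Q ⟶ T}
    (sq : IsPullback p q (pullback.snd X.hom X.hom) x) :
    IsPullback (p ≫ inv (lift a.act (snd G X)).left ≫ pullback.fst G.hom X.hom) q G.hom (x ≫ X.hom) := by
  have hsnd : (lift a.act (snd G X)).left ≫ pullback.snd X.hom X.hom = pullback.snd G.hom X.hom :=
    congrArg CommaMorphism.left (lift_snd a.act (snd G X))
  have sq' : IsPullback (p ≫ inv (lift a.act (snd G X)).left) q (pullback.snd G.hom X.hom) x := by
    refine IsPullback.of_iso sq (Iso.refl _) (asIso (lift a.act (snd G X)).left).symm (Iso.refl _)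
      (Iso.refl _) ?_ ?_ ?_ ?_
    · exact (Category.id_comp _).symm
    · exact (Category.comp_id _).trans (Category.id_comp _).symm
    · refine (Category.comp_id _).trans ?_
      show _ = inv (lift a.act (snd G X)).left ≫ pullback.snd G.hom X.hom
      rw [← hsnd, IsIso.inv_hom_id_assoc]
    · exact (Category.comp_id _).trans (Category.id_comp _).symm
  have := sq'.paste_horiz (IsPullback.of_hasPullback G.hom X.hom)
  rw [Category.assoc] at this
  exact this

theorem repWith_diagonal_of_unit {P : MorphismProperty Scheme.{u}} [P.RespectsIso]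
    (ha : a.IsPseudoTorsor) (h : RepWith P (η[G]).left) : RepWith P (pullback.diagonal X.hom) := by
  haveI : IsIso (lift a.act (snd G X)) := ha
  haveI : IsIso (lift a.act (snd G X)).left := isIso_left_of_pseudoTorsor a ha
  let e : X ⟶ G ⊗ X := lift (1 : X ⟶ G) (𝟙 X)
  have he1 : e.left ≫ pullback.fst G.hom X.hom = X.hom ≫ (η[G]).left := by
    show (e ≫ fst G X).left = _
    rw [lift_fst, Hom.one_def]
    rfl
  have he2 : e.left ≫ pullback.snd G.hom X.hom = 𝟙 X.left := by
    show (e ≫ snd G X).left = _
    rw [lift_snd]
    rfl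
  have hd : e.left ≫ (lift a.act (snd G X)).left = pullback.diagonal X.hom := by
    apply pullback.hom_ext
    · show (e ≫ lift a.act (snd G X) ≫ fst X X).left = _
      rw [lift_fst, act_one, pullback.diagonal_fst]
      rfl
    · show (e ≫ lift a.act (snd G X) ≫ snd X X).left = _
      rw [lift_snd, lift_snd, pullback.diagonal_snd]
      rfl
  have sq : IsPullback X.hom e.left (η[G]).left (pullback.fst G.hom X.hom) := by
    refine IsPullback.mk' he1.symm (fun Z x y _ e2 => ?_) fun Z b c w => ?_
    · have := congrArg (· ≫ pullback.snd G.hom X.hom) e2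
      simp only [Category.assoc, he2] at this
      simpa using this
    · have hb : (c ≫ pullback.snd G.hom X.hom) ≫ X.hom = b := by
        have h1 := congrArg (· ≫ G.hom) w
        simp only [Category.assoc, unit_left_hom] at h1
        rw [pullback.condition] at h1
        rw [Category.assoc, ← h1]
        exact Category.comp_id b
      refine ⟨c ≫ pullback.snd G.hom X.hom, hb, pullback.hom_ext ?_ ?_⟩
      · rw [Category.assoc, he1, ← Category.assoc, hb]
        exact w
      · simp only [Category.assoc, he2, Category.comp_id]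
  have hiso : IsPullback (𝟙 X.left) (pullback.diagonal X.hom) e.left (inv (lift a.act (snd G X)).left) :=
    IsPullback.of_horiz_isIso ⟨by rw [← hd, Category.id_comp, Category.assoc, IsIso.hom_inv_id, Category.comp_id]⟩
  exact (repWith_isStableUnderBaseChange P).of_isPullback (hiso.paste_horiz sq) h

theorem unramified_of_pseudoTorsor (hB : IsAlgSpace B) (hG : IsAlgSpace G.left) (hX : IsAlgSpace X.left)
    (ha : a.IsPseudoTorsor) (hXt : LocP @LocallyOfFiniteType X.hom)
    (hu : LocP (@LocallyOfFiniteType ⊓ @FormallyUnramified) G.hom) :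
    LocP (@LocallyOfFiniteType ⊓ @FormallyUnramified) X.hom := by
  have h := repWith_section (P := @IsOpenImmersion) (unit_left_hom (G := G))
    (repWith_openImm_diagonal_of_unramified hG hB hu)
  exact unramified_of_repWith_openImm_diagonal hX hXt (repWith_diagonal_of_unit a ha h)

theorem lqf_of_pseudoTorsor (hB : IsAlgSpace B) (hG : IsAlgSpace G.left) (hX : IsAlgSpace X.left)
    (ha : a.IsPseudoTorsor) (hXt : LocP @LocallyOfFiniteType X.hom)
    (hu : LocP ((@LocallyQuasiFinite : MorphismProperty Scheme.{u}) ⊓ @LocallyOfFiniteType) G.hom) :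
    LocP ((@LocallyQuasiFinite : MorphismProperty Scheme.{u}) ⊓ @LocallyOfFiniteType) X.hom := by
  refine (locP_lqf_iff_discrete hX hB _ hXt).2 fun k _ str y P fst' snd' sq => ?_
  refine discreteTopology_iff_isOpen_singleton.2 fun x => ?_
  obtain ⟨⟨k', i, p, c, rfl⟩⟩ : ∃ d : Σ' (k' : Type u) (_ : Field k') (q : FieldPt P)
      (c : q.pt ⟶ Over.mk str), Points.mk q = x, True := by
    obtain ⟨q, rfl⟩ := Quotient.exists_rep x
    obtain ⟨c, -⟩ := (yon S).map_surjective (q.toHom ≫ snd')
    exact ⟨⟨q.K, inferInstance, q, c, rfl⟩, trivial⟩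
  obtain ⟨g, hg⟩ := (yon S).map_surjective (p.toHom ≫ snd')
  have hy : (p.toHom ≫ fst') ≫ X.hom = (yon S).map g ≫ y := by
    rw [Category.assoc, sq.w, ← Category.assoc, hg]
  let R := pullback snd' ((yon S).map g)
  have sqR := IsPullback.of_hasPullback snd' ((yon S).map g)
  have big : IsPullback (pullback.fst snd' ((yon S).map g) ≫ fst') (pullback.snd snd' ((yon S).map g))
      X.hom ((p.toHom ≫ fst') ≫ X.hom) := by
    rw [hy]
    exact sqR.paste_horiz sq
  have sqXX := IsPullback.of_hasPullback X.hom X.hom
  have sqP : IsPullback (sqXX.lift (pullback.fst snd' ((yon S).map g) ≫ fst')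
      (pullback.snd snd' ((yon S).map g) ≫ p.toHom ≫ fst') (by rw [big.w]; simp only [Category.assoc]))
      (pullback.snd snd' ((yon S).map g)) (pullback.snd X.hom X.hom) (p.toHom ≫ fst') :=
    IsPullback.of_right (by rw [sqXX.lift_fst]; exact big) (sqXX.lift_snd _ _ _) sqXX
  haveI := isIso_left_of_pseudoTorsor a ha
  have hG' := isPullback_shear a sqP
  haveI : DiscreteTopology (Points R) :=
    (locP_lqf_iff_discrete hG hB _ (LocP.of_le inf_le_right hu)).1 hu p.K
      p.pt.hom _ R _ _ hG'
  have hopen : IsOpenMap (Points.map (pullback.fst snd' ((yon S).map g))) := by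
    refine isOpenMap_map_of_repWith ((repWith_isStableUnderBaseChange @UniversallyOpen).of_isPullback
      sqR.flip ((repWith_yon_map_iff _ _).2 ?_))
    have : Subsingleton ↥(Over.mk str : Over S).left := inferInstanceAs (Subsingleton (PrimeSpectrum k))
    have : IsIntegral (Over.mk str : Over S).left := inferInstanceAs (IsIntegral (Spec (CommRingCat.of k)))
    infer_instance
  obtain ⟨r, hr, -⟩ := exists_of_isPullback sqR (Points.mk p)
    (Points.ofScheme p.pt (IsLocalRing.closedPoint p.K)) (by
      have : Subsingleton (Points ((yon S).obj (Over.mk str : Over S))) := by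
        haveI : Subsingleton ↥(Over.mk str : Over S).left := inferInstanceAs (Subsingleton (PrimeSpectrum k))
        exact (Points.schemeHomeo _).symm.injective.subsingleton
      exact Subsingleton.elim _ _)
  have := hopen {r} (isOpen_discrete _)
  rw [Set.image_singleton, hr] at this
  exact this

end Groth.Agent.SpPts86
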