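import Groth.Agent.SpPts86.GrpdSp
import Groth.Agent.SpFP87.LocP
import Groth.Agent.SpFP87.EtLocInst

/-!
Translations in groupoids and base changes in restrictions.
-/

universe u

set_option autoImplicit false
set_option backward.isDefEq.respectTransparency false
set_option linter.style.haveILetI false

open CategoryTheory CategoryTheory.Limits AlgebraicGeometry
open AlgSp Groth.Agent.SpFP87

namespace Groth.Agent.SpPts86

variable {S : Scheme.{u}} {B : Sp S} (G : GroupoidSp B)

/-- Composition of two arrows, with the compatibility as an argument. -/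
noncomputable abbrev gcomp {T : Sp S} (α β : T ⟶ G.R) (h : α ≫ G.s = β ≫ G.t) : T ⟶ G.R :=
  pullback.lift α β h ≫ G.c

theorem gcomp_congr {T : Sp S} {α α' β β' : T ⟶ G.R} (e₁ : α = α') (e₂ : β = β')
    (h : α ≫ G.s = β ≫ G.t) :
    gcomp G α β h = gcomp G α' β' (by rw [← e₁, ← e₂]; exact h) := by subst e₁; subst e₂; rfl

theorem comp_gcomp {T T' : Sp S} (r : T' ⟶ T) (α β : T ⟶ G.R) (h : α ≫ G.s = β ≫ G.t) :
    r ≫ gcomp G α β h = gcomp G (r ≫ α) (r ≫ β) (by rw [Category.assoc, Category.assoc, h]) := by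
  rw [gcomp, gcomp, ← Category.assoc]
  congr 1
  apply pullback.hom_ext <;> simp only [Category.assoc, pullback.lift_fst, pullback.lift_snd]

theorem translation_hyp (a : G.U ⟶ G.R) (ha : a ≫ G.s = 𝟙 G.U) :
    (G.t ≫ a) ≫ G.s = 𝟙 G.R ≫ G.t := by
  rw [Category.assoc, ha, Category.comp_id, Category.id_comp]

theorem isIso_translation (a : G.U ⟶ G.R) (ha : a ≫ G.s = 𝟙 G.U) [IsIso (a ≫ G.t)] :
    IsIso (gcomp G (G.t ≫ a) (𝟙 G.R) (translation_hyp G a ha)) ∧
      G.e ≫ gcomp G (G.t ≫ a) (𝟙 G.R) (translation_hyp G a ha) = a := by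
  let L := gcomp G (G.t ≫ a) (𝟙 G.R) (translation_hyp G a ha)
  have hLt : L ≫ G.t = G.t ≫ a ≫ G.t := (G.comp_t _ _ _).trans (Category.assoc _ _ _)
  let b : G.R ⟶ G.R := G.t ≫ inv (a ≫ G.t) ≫ a
  have hb : (b ≫ G.i) ≫ G.s = 𝟙 G.R ≫ G.t := by
    rw [Category.assoc, G.i_s, Category.id_comp]
    simp only [b, Category.assoc, IsIso.inv_hom_id, Category.comp_id]
  let M := gcomp G (b ≫ G.i) (𝟙 G.R) hb
  have hMt : M ≫ G.t = G.t ≫ inv (a ≫ G.t) := by
    refine (G.comp_t _ _ _).trans ?_
    simp only [b, Category.assoc, G.i_t, ha, Category.comp_id]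
  have hLb : L ≫ b = G.t ≫ a := by
    simp only [b, reassoc_of% hLt]
    rw [← Category.assoc a G.t, IsIso.hom_inv_id_assoc]
  have hMa : M ≫ G.t ≫ a = b := by rw [reassoc_of% hMt]
  refine ⟨⟨M, ?_, ?_⟩, ?_⟩
  · show L ≫ M = 𝟙 G.R
    obtain ⟨h', e⟩ := cancel_comp G (G.t ≫ a) (𝟙 G.R) (translation_hyp G a ha)
    refine ((comp_gcomp G L _ _ hb).trans
      (gcomp_congr G (by rw [← Category.assoc, hLb]) (Category.comp_id L) _)).trans ?_
    exact e
  · show M ≫ L = 𝟙 G.R
    obtain ⟨h', h'', e⟩ := comp_cancel G b (𝟙 G.R) (by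
      rw [Category.id_comp]
      simp only [b, Category.assoc, IsIso.inv_hom_id, Category.comp_id])
    refine ((comp_gcomp G M _ _ (translation_hyp G a ha)).trans
      (gcomp_congr G hMa (Category.comp_id M) _)).trans ?_
    exact e
  · refine ((comp_gcomp G G.e _ _ _).trans (gcomp_congr G (α' := a) (β' := a ≫ G.s ≫ G.e)
      (by rw [← Category.assoc, G.e_t, Category.id_comp])
      (by rw [Category.comp_id, ← Category.assoc, ha, Category.id_comp]) _)).trans ?_
    exact G.comp_e a

variable {G} {G' : GroupoidSp B} {φ : GroupoidSp.Hom G' G}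

theorem isPullback_restrict_s (hφ : φ.IsRestriction) :
    IsPullback G'.s (pullback.lift G'.t φ.fR φ.comm_t.symm) φ.fU (pullback.snd φ.fU G.t ≫ G.s) := by
  have h := isPullback_of_restriction φ hφ
  refine IsPullback.mk' ?_ (fun Z x y e1 e2 => ?_) fun Z a q w => ?_
  · rw [pullback.lift_snd_assoc]
    exact φ.comm_s.symm
  · have e3 := congrArg (· ≫ pullback.fst φ.fU G.t) e2
    have e4 := congrArg (· ≫ pullback.snd φ.fU G.t) e2
    simp only [Category.assoc, pullback.lift_fst, pullback.lift_snd] at e3 e4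
    refine h.hom_ext (Limits.prod.hom_ext ?_ ?_) e4
    · simpa only [Category.assoc, prod.lift_fst] using e3
    · simpa only [Category.assoc, prod.lift_snd] using e1
  · have w1 : prod.lift (q ≫ pullback.fst _ _) a ≫ prod.map φ.fU φ.fU =
        (q ≫ pullback.snd _ _) ≫ prod.lift G.t G.s := by
      apply Limits.prod.hom_ext
      · simp only [Category.assoc, prod.map_fst, prod.lift_fst_assoc, prod.lift_fst, pullback.condition]
      · simp only [Category.assoc, prod.map_snd, prod.lift_snd_assoc, prod.lift_snd]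
        exact w
    obtain ⟨l, hl1, hl2⟩ := IsPullback.exists_lift h _ _ w1
    have hl3 := congrArg (· ≫ prod.fst) hl1
    have hl4 := congrArg (· ≫ prod.snd) hl1
    simp only [Category.assoc, prod.lift_fst, prod.lift_snd] at hl3 hl4
    refine ⟨l, hl4, pullback.hom_ext ?_ ?_⟩
    · rw [Category.assoc, pullback.lift_fst, hl3]
    · rw [Category.assoc, pullback.lift_snd, hl2]

theorem isPullback_restrict_t (hφ : φ.IsRestriction) :
    IsPullback G'.t (pullback.lift G'.s φ.fR φ.comm_s.symm) φ.fU (pullback.snd φ.fU G.s ≫ G.t) := by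
  have h := isPullback_of_restriction φ hφ
  refine IsPullback.mk' ?_ (fun Z x y e1 e2 => ?_) fun Z a q w => ?_
  · rw [pullback.lift_snd_assoc]
    exact φ.comm_t.symm
  · have e3 := congrArg (· ≫ pullback.fst φ.fU G.s) e2
    have e4 := congrArg (· ≫ pullback.snd φ.fU G.s) e2
    simp only [Category.assoc, pullback.lift_fst, pullback.lift_snd] at e3 e4
    refine h.hom_ext (Limits.prod.hom_ext ?_ ?_) e4
    · simpa only [Category.assoc, prod.lift_fst] using e1
    · simpa only [Category.assoc, prod.lift_snd] using e3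
  · have w1 : prod.lift a (q ≫ pullback.fst _ _) ≫ prod.map φ.fU φ.fU =
        (q ≫ pullback.snd _ _) ≫ prod.lift G.t G.s := by
      apply Limits.prod.hom_ext
      · simp only [Category.assoc, prod.map_fst, prod.lift_fst_assoc, prod.lift_fst]
        exact w
      · simp only [Category.assoc, prod.map_snd, prod.lift_snd_assoc, prod.lift_snd, pullback.condition]
    obtain ⟨l, hl1, hl2⟩ := IsPullback.exists_lift h _ _ w1
    have hl3 := congrArg (· ≫ prod.fst) hl1
    have hl4 := congrArg (· ≫ prod.snd) hl1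
    simp only [Category.assoc, prod.lift_fst, prod.lift_snd] at hl3 hl4
    refine ⟨l, hl3, pullback.hom_ext ?_ ?_⟩
    · rw [Category.assoc, pullback.lift_fst, hl4]
    · rw [Category.assoc, pullback.lift_snd, hl2]

theorem restrict_locP {P : MorphismProperty Scheme.{u}} [EtLoc P] (hU : IsAlgSpace G.U)
    (hR : IsAlgSpace G.R) (hU' : IsAlgSpace G'.U) (hφ : φ.IsRestriction) (hs : LocP P G.s)
    (ht : LocP P G.t) (hf : LocP P φ.fU) : LocP P G'.s ∧ LocP P G'.t := by
  have key : ∀ {p q : G.R ⟶ G.U}, LocP P q → ∀ {r' : G'.R ⟶ G'.U} {l : G'.R ⟶ pullback φ.fU p},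
      IsPullback r' l φ.fU (pullback.snd φ.fU p ≫ q) → LocP P r' := by
    intro p q hq r' l sq
    have hP : IsAlgSpace (pullback φ.fU p) :=
      SpFP87.isAlgSpace_of_isPullback (IsPullback.of_hasPullback _ _) hU' hR hU.diag
    have h2 : LocP P (pullback.snd φ.fU p ≫ q) :=
      locP_comp hP hR hU (locP_baseChange (IsPullback.of_hasPullback φ.fU p) hU' hU hR hf) hq
    exact locP_baseChange sq.flip hP hU hU' h2
  exact ⟨key hs (isPullback_restrict_s hφ), key ht (isPullback_restrict_t hφ)⟩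

end Groth.Agent.SpPts86
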