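import Groth.Agent.SpPts86.FieldBase
import Groth.Agent.SpPts86.ImmDescent
import Groth.Agent.SpFP87.LocPRep

/-!
Groupoids over a field and restriction along field extensions.
-/

universe u

set_option autoImplicit false
set_option backward.isDefEq.respectTransparency false
set_option linter.style.haveILetI false

open CategoryTheory CategoryTheory.Limits AlgebraicGeometry MonoidalCategory CartesianMonoidalCategory MonObj
open AlgSp Groth.Agent.SpFP87

namespace Groth.Agent.SpPts86

variable {S : Scheme.{u}}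

theorem mul_flat_univOpen {K : Over S} [IsIntegral K.left] [Subsingleton ↥K.left]
    (G : Over ((yon S).obj K)) [GrpObj G] (hG : IsAlgSpace G.left) :
    LocP @Flat (μ[G]).left ∧ IsUnivOpenMor (μ[G]).left := by
  let ψ : G ⊗ G ⟶ G ⊗ G := lift (fst G G * snd G G) (snd G G)
  let ψ' : G ⊗ G ⟶ G ⊗ G := lift (fst G G * (snd G G)⁻¹) (snd G G)
  haveI : IsIso ψ := ⟨ψ', by
    apply CartesianMonoidalCategory.hom_ext <;>
      simp [ψ, ψ', MonObj.comp_mul, GrpObj.comp_inv], by
    apply CartesianMonoidalCategory.hom_ext <;>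
      simp [ψ, ψ', MonObj.comp_mul, GrpObj.comp_inv]⟩
  haveI : IsIso ψ.left := inferInstanceAs (IsIso ((Over.forget _).map ψ))
  have hμ : μ[G] = ψ ≫ fst G G := by
    rw [lift_fst, Hom.mul_def, lift_fst_snd, Category.id_comp]
  refine flat_univOpen_of_isPullback_id ψ.left (𝟙 G.left) (f := pullback.fst G.hom G.hom) ?_
    (SpFP87.isAlgSpace_pullback G.hom G.hom hG hG (IsAlgSpace.yon_obj K)) hG hG
    (flat_univOpen_of_isPullback (IsPullback.of_hasPullback G.hom G.hom).flip hG (IsAlgSpace.yon_obj K) hG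
      (flat_univOpen_to_field hG G.hom))
  rw [Category.comp_id, hμ]
  rfl

theorem isSurjectiveMor_of_section {X Y : Sp S} {f : X ⟶ Y} {s : Y ⟶ X} (h : s ≫ f = 𝟙 Y) :
    IsSurjectiveMor f := fun y => ⟨Points.map s y, by rw [← Points.map_comp, h, Points.map_id]⟩

theorem grpd_st_field {B : Sp S} (G : GroupoidSp B) (hR : IsAlgSpace G.R) {K : Over S}
    [IsIntegral K.left] [Subsingleton ↥K.left] (eU : G.U ≅ (yon S).obj K) :
    ∀ f ∈ [G.s, G.t], IsSurjectiveMor f ∧ LocP @Flat f ∧ IsUnivOpenMor f := by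
  have hU : IsAlgSpace G.U := SpFP87.isAlgSpace_of_representable eU.hom
    (repWith_isomorphisms_of_isIso eU.hom).rep (IsAlgSpace.yon_obj K)
  have key : ∀ f : G.R ⟶ G.U, G.e ≫ f = 𝟙 G.U → IsSurjectiveMor f ∧ LocP @Flat f ∧ IsUnivOpenMor f :=
    fun f hf => ⟨isSurjectiveMor_of_section hf, flat_univOpen_of_isPullback_id (𝟙 G.R) eU.hom
      (by rw [Category.id_comp]) hR (IsAlgSpace.yon_obj K) hU (flat_univOpen_to_field hR (f ≫ eU.hom))⟩
  intro f hf
  simp only [List.mem_cons, List.not_mem_nil, or_false] at hf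
  rcases hf with rfl | rfl
  · exact key _ G.e_s
  · exact key _ G.e_t

theorem isUnivOpenMor_of_repWith {X Y : Sp S} {f : X ⟶ Y} (h : RepWith @UniversallyOpen f) :
    IsUnivOpenMor f := fun _ _ _ g q₁ q₂ sq =>
  isOpenMap_map_of_repWith ((repWith_isStableUnderBaseChange _).of_isPullback sq h)

theorem repWith_prodMap {P : MorphismProperty Scheme.{u}} [P.IsStableUnderBaseChange] [P.IsMultiplicative]
    {X Y : Sp S} {f : X ⟶ Y} (h : RepWith P f) : RepWith P (Limits.prod.map f f) := by
  have h1 : IsPullback prod.fst (Limits.prod.map f (𝟙 X)) f (prod.fst : Y ⨯ X ⟶ Y) := by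
    refine IsPullback.mk' (by rw [prod.map_fst]) (fun Z x y e1 e2 => ?_) fun Z a b w => ?_
    · refine Limits.prod.hom_ext e1 ?_
      simpa using congrArg (· ≫ prod.snd) e2
    · refine ⟨prod.lift a (b ≫ prod.snd), prod.lift_fst _ _, Limits.prod.hom_ext ?_ ?_⟩
      · simp [w]
      · simp
  have h2 : IsPullback prod.snd (Limits.prod.map (𝟙 Y) f) f (prod.snd : Y ⨯ Y ⟶ Y) := by
    refine IsPullback.mk' (by rw [prod.map_snd]) (fun Z x y e1 e2 => ?_) fun Z a b w => ?_
    · refine Limits.prod.hom_ext ?_ e1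
      simpa using congrArg (· ≫ prod.fst) e2
    · refine ⟨prod.lift (b ≫ prod.fst) a, prod.lift_snd _ _, Limits.prod.hom_ext ?_ ?_⟩
      · simp
      · simp [w]
  have e : Limits.prod.map f f = Limits.prod.map f (𝟙 X) ≫ Limits.prod.map (𝟙 Y) f := by
    rw [prod.map_map, Category.id_comp, Category.comp_id]
  rw [e]
  exact (repWith_isMultiplicative (S := S) P).comp_mem _ _
    ((repWith_isStableUnderBaseChange P).of_isPullback h1 h)
    ((repWith_isStableUnderBaseChange P).of_isPullback h2 h)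

theorem restrict_field_maps {B : Sp S} {G G' : GroupoidSp B} (hR : IsAlgSpace G.R) (hR' : IsAlgSpace G'.R)
    {K K' : Over S} [IsIntegral K.left] [Subsingleton ↥K.left] [Nonempty ↥K'.left]
    [IsAffine K.left] [IsAffine K'.left] (c : K' ⟶ K)
    (eU : G.U ≅ (yon S).obj K) (eU' : G'.U ≅ (yon S).obj K') (φ : GroupoidSp.Hom G' G)
    (hφ : φ.IsRestriction) (hfU : φ.fU = eU'.hom ≫ (yon S).map c ≫ eU.inv) :
    (IsSurjectiveMor φ.fU ∧ LocP @Flat φ.fU ∧ IsUnivOpenMor φ.fU) ∧
      (IsSurjectiveMor φ.fR ∧ LocP @Flat φ.fR ∧ IsUnivOpenMor φ.fR ∧ IsAffineMor φ.fR) := by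
  have hU : IsAlgSpace G.U := SpFP87.isAlgSpace_of_representable eU.hom
    (repWith_isomorphisms_of_isIso eU.hom).rep (IsAlgSpace.yon_obj K)
  have hU' : IsAlgSpace G'.U := SpFP87.isAlgSpace_of_representable eU'.hom
    (repWith_isomorphisms_of_isIso eU'.hom).rep (IsAlgSpace.yon_obj K')
  have hc : ∀ (P : MorphismProperty Scheme.{u}) [P.IsStableUnderBaseChange] [P.IsMultiplicative],
      P c.left → RepWith P φ.fU := fun P _ _ h => by
    have sq : IsPullback eU'.hom φ.fU ((yon S).map c) eU.hom :=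
      IsPullback.of_horiz_isIso ⟨by rw [hfU]; simp⟩
    exact (repWith_isStableUnderBaseChange P).of_isPullback sq ((repWith_yon_map_iff _ _).2 h)
  have hf : IsAffineHom c.left := inferInstance
  have hfl : Flat c.left := inferInstance
  have ho : UniversallyOpen c.left := inferInstance
  have hs : Surjective c.left := ⟨fun x => ⟨Classical.arbitrary _, Subsingleton.elim _ _⟩⟩
  have sq := isPullback_of_restriction φ hφ
  have hR2 : ∀ (P : MorphismProperty Scheme.{u}) [P.IsStableUnderBaseChange] [P.IsMultiplicative],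
      P c.left → RepWith P φ.fR := fun P _ _ h =>
    (repWith_isStableUnderBaseChange P).of_isPullback sq (repWith_prodMap (hc P h))
  exact ⟨⟨isSurjectiveMor_of_repWith (hc @Surjective hs),
      locP_of_repWith hU'.diag hU (hc @Flat hfl), isUnivOpenMor_of_repWith (hc @UniversallyOpen ho)⟩,
    ⟨isSurjectiveMor_of_repWith (hR2 @Surjective hs), locP_of_repWith hR'.diag hR (hR2 @Flat hfl),
      isUnivOpenMor_of_repWith (hR2 @UniversallyOpen ho), isAffineMor_of_repWith (hR2 @IsAffineHom hf)⟩⟩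

end Groth.Agent.SpPts86
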