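import Groth.Agent.SpPts86.Subspace
import Groth.Agent.SpFP87.Cover
import Groth.Agent.S10121
import Groth.Prelude.Def_AlgSpGpd
import Groth.Prelude.Def_AlgSp4

/-!
Orbits of a groupoid in spaces on points; invariant open subspaces.
-/

universe u

set_option autoImplicit false

open CategoryTheory CategoryTheory.Limits AlgebraicGeometry
open AlgSp

namespace Groth.Agent.SpPts86

variable {S : Scheme.{u}} {B : Sp S} (G : GroupoidSp B)

theorem isPreEqvRelSp_grpdSp : IsPreEqvRelSp G.s G.t := fun T => by
  refine ⟨fun a => ⟨a ≫ G.e, by rw [Category.assoc, G.e_t, Category.comp_id],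
    by rw [Category.assoc, G.e_s, Category.comp_id]⟩, ?_, ?_⟩
  · rintro a b ⟨r, rfl, rfl⟩
    exact ⟨r ≫ G.i, by rw [Category.assoc, G.i_t], by rw [Category.assoc, G.i_s]⟩
  · rintro a b c ⟨r, rfl, h⟩ ⟨r', h', rfl⟩
    exact ⟨pullback.lift r r' (h.trans h'.symm) ≫ G.c, G.comp_t r r' _, G.comp_s r r' _⟩

/-- The saturation of a set of points. -/
def orbitSet (A : Set (Points G.U)) : Set (Points G.U) :=
  Points.map G.s '' (Points.map G.t ⁻¹' A)

variable (hU : IsAlgSpace G.U) (hR : IsAlgSpace G.R)

include hU hR in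
theorem orbitSet_saturated (A : Set (Points G.U)) (r : Points G.R) :
    Points.map G.t r ∈ orbitSet G A ↔ Points.map G.s r ∈ orbitSet G A := by
  have E := Groth.Agent.S10121.result S G.R G.U hR hU G.s G.t (isPreEqvRelSp_grpdSp G)
  constructor
  · rintro ⟨q, hq, e⟩
    obtain ⟨w, h1, h2⟩ := E.trans (x := Points.map G.t q) (y := Points.map G.s q)
      (z := Points.map G.s r) ⟨q, rfl, rfl⟩ ⟨r, e.symm, rfl⟩
    exact ⟨w, by rw [Set.mem_preimage, h1]; exact hq, h2⟩
  · rintro ⟨q, hq, e⟩
    obtain ⟨r', h1', h2'⟩ := E.symm (x := Points.map G.t r) (y := Points.map G.s r) ⟨r, rfl, rfl⟩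
    obtain ⟨w, h1, h2⟩ := E.trans (x := Points.map G.t q) (y := Points.map G.s q)
      (z := Points.map G.t r) ⟨q, rfl, rfl⟩ ⟨r', h1'.trans e.symm, h2'⟩
    exact ⟨w, by rw [Set.mem_preimage, h1]; exact hq, h2⟩

include hU hR in
theorem subset_orbitSet (A : Set (Points G.U)) : A ⊆ orbitSet G A := fun x hx => by
  obtain ⟨r, h1, h2⟩ :=
    (Groth.Agent.S10121.result S G.R G.U hR hU G.s G.t (isPreEqvRelSp_grpdSp G)).refl x
  exact ⟨r, by rw [Set.mem_preimage, h1]; exact hx, h2⟩

include hU hR in
theorem isInvariant_of_range_eq_orbitSet {W' : Sp S} {w' : W' ⟶ G.U}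
    (hw' : RepWith @IsOpenImmersion w') (A : Set (Points G.U))
    (h : Set.range (Points.map w') = orbitSet G A) : G.IsInvariant w' := fun T r => by
  rw [factors_iff_range_subset hw', factors_iff_range_subset hw', h]
  simp only [Set.range_subset_iff, Points.map_comp]
  exact forall_congr' fun z => orbitSet_saturated G hU hR A (Points.map r z)

include hU hR in
theorem exists_invariant_qc_nbhd (hs : IsOpenMor G.s) (ht : IsQuasiCompactMor G.t)
    (x : Points G.U) :
    ∃ (W : Sp S) (w : W ⟶ G.U), RepWith @IsOpenImmersion w ∧ G.IsInvariant w ∧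
      IsQuasiCompactSp W ∧ x ∈ Set.range (Points.map w) := by
  obtain ⟨U₀, p, hpe, hps⟩ := hU.atlas
  obtain ⟨u₀, rfl⟩ := surjective_ofPt hps x
  obtain ⟨V, hV, hu, -⟩ := exists_isAffineOpen_mem_and_subset (x := u₀) (U := ⊤) trivial
  have : CompactSpace ↥V := isCompact_iff_compactSpace.1 hV.isCompact
  let A := Points.ofPt p '' (V : Set ↥U₀.left)
  have hA : IsOpen A := isOpenMap_ofPt hpe _ V.isOpen
  let j := restrictι G.U A
  have hj : RepWith @IsOpenImmersion j := repWith_restrictι hA
  have hjs : IsQuasiCompactSp (restrictSheaf G.U A) := by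
    have he := (isEmbedding_map_of_openImmersion hj).isEmbedding
    rw [isQuasiCompactSp_iff_compactSpace (isAlgSpace_restrictSheaf hU hA), ← isCompact_univ_iff,
      he.isCompact_iff, Set.image_univ, range_map_restrictι hA]
    exact hV.isCompact.image (Points.continuous_ofPt p)
  let O := orbitSet G A
  have hO : IsOpen O := hs _ (hA.preimage (Points.continuous_map G.t))
  have hOc : IsCompact O := by
    refine IsCompact.image ?_ (Points.continuous_map G.s)
    have sq := IsPullback.of_hasPullback G.t j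
    have hc := ht (isAlgSpace_restrictSheaf hU hA) hjs j _ _ sq
    have : Set.range (Points.map (pullback.fst G.t j)) = Points.map G.t ⁻¹' A := by
      ext z
      constructor
      · rintro ⟨w, rfl⟩
        rw [Set.mem_preimage, ← Points.map_comp, pullback.condition, Points.map_comp]
        exact (range_map_restrictι hA).le ⟨_, rfl⟩
      · intro hz
        obtain ⟨y, hy⟩ := (range_map_restrictι hA).ge hz
        obtain ⟨w, h1, -⟩ := exists_of_isPullback sq z y hy.symm
        exact ⟨w, h1⟩
    rw [← this]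
    have : CompactSpace (Points (pullback G.t j)) :=
      (isQuasiCompactSp_iff_compactSpace (SpFP87.isAlgSpace_pullback _ _ hR (isAlgSpace_restrictSheaf hU hA) hU)).1 hc
    exact isCompact_range (Points.continuous_map _)
  refine ⟨restrictSheaf G.U O, restrictι G.U O, repWith_restrictι hO,
    isInvariant_of_range_eq_orbitSet G hU hR (repWith_restrictι hO) A (range_map_restrictι hO), ?_, ?_⟩
  · rw [isQuasiCompactSp_iff_compactSpace (isAlgSpace_restrictSheaf hU hO), ← isCompact_univ_iff, (isEmbedding_map_of_openImmersion (repWith_restrictι hO)).isEmbedding.isCompact_iff,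
      Set.image_univ, range_map_restrictι hO]
    exact hOc
  · rw [range_map_restrictι hO]
    exact subset_orbitSet G hU hR A ⟨u₀, hu, rfl⟩

end Groth.Agent.SpPts86
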