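import Groth.Agent.SpPts86.NormalBranch
import Groth.Agent.SpPts86.Codim
import Groth.Agent.SpPts86.ImIdeal
import Groth.Agent.SpPts86.GrpdTranslate
import Groth.Agent.SpPts86.GrpdSp
import Groth.Agent.Brnch26.Nbhd
import Groth.Prelude.Def_AlgSp2
import Groth.Prelude.Def_AlgSpGpd

/-!
Spaces with a ternary translation over a field are geometrically unibranch.
-/

universe u

set_option autoImplicit false
set_option backward.isDefEq.respectTransparency false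
set_option linter.style.haveILetI false

open CategoryTheory CategoryTheory.Limits AlgebraicGeometry TensorProduct
open AlgSp Groth.Agent.SpFP87

namespace Groth.Agent.SpPts86

variable {S : Scheme.{u}}

/-- The ternary operation `(r₁, x, r₂) ↦ r₁ x⁻¹ r₂`. -/
def HasTernary {R U : Sp S} (s t : R ⟶ U) : Prop :=
  ∀ {T : Sp S} (r₁ x r₂ : T ⟶ R), r₁ ≫ s = x ≫ s → r₂ ≫ t = x ≫ t →
    ∃ m : T ⟶ R, (∀ {T' : Sp S} (l : T' ⟶ T), l ≫ x = l ≫ r₂ → l ≫ m = l ≫ r₁) ∧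
      ∀ {T' : Sp S} (l : T' ⟶ T), l ≫ x = l ≫ r₁ → l ≫ m = l ≫ r₂

/-- A generalization lifts to the base change to a bigger field. -/
theorem exists_lift_generalization {k Ω : Type u} [Field k] [Field Ω] {X : Scheme.{u}}
    (m : X ⟶ Spec (CommRingCat.of k)) (o : Spec (CommRingCat.of Ω) ⟶ X) {η : X}
    (hη : η ⤳ o (IsLocalRing.closedPoint Ω)) :
    ∃ η' : ↥(pullback m (o ≫ m)),
      η' ⤳ pullback.lift o (𝟙 _) (by rw [Category.id_comp]) (IsLocalRing.closedPoint Ω) ∧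
        pullback.fst m (o ≫ m) η' = η := by
  have : Flat (o ≫ m) := by
    obtain ⟨f, hf⟩ := Spec.map_surjective (o ≫ m)
    rw [← hf]
    exact (HasRingHomProperty.Spec_iff (P := @Flat)).mpr (RingHom.Flat.of_isField (Field.toIsField k) _)
  have : Flat (pullback.fst m (o ≫ m)) := inferInstance
  obtain ⟨η', h1, h2⟩ := Flat.generalizingMap (pullback.fst m (o ≫ m))
    (show η ⤳ pullback.fst m (o ≫ m)
      (pullback.lift o (𝟙 _) (by rw [Category.id_comp]) (IsLocalRing.closedPoint Ω)) by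
      rw [← Scheme.Hom.comp_apply, pullback.lift_fst]; exact hη)
  exact ⟨η', h1, h2⟩

theorem eq_component_of_mem {X : Type u} [TopologicalSpace X] {Z C : Set X} {η : X}
    (hZ : Z ∈ irreducibleComponents X) (hη : IsGenericPoint η Z) (hC : IsIrreducible C) (h : η ∈ C)
    (hcl : IsClosed C) : C = Z := by
  have hsub : Z ⊆ C := by
    rw [← hη.def]
    exact hcl.closure_subset_iff.2 (Set.singleton_subset_iff.2 h)
  exact (hZ.2 hC hsub).antisymm hsub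

set_option maxHeartbeats 1600000 in
/-- Two components of a chart through one point coincide. -/
theorem unique_component {k : Type u} [Field k] {σ : Spec (CommRingCat.of k) ⟶ S} {R : Sp S}
    (hR : IsAlgSpace R) {s t : R ⟶ (yon S).obj (Over.mk σ)} (hM : HasTernary s t)
    {U : Over S} {a : (yon S).obj U ⟶ R} (ha : RepWith @Etale a) (u : ↥U.left) {Z₁ Z₂ : Set ↥U.left}
    (hZ₁ : Z₁ ∈ irreducibleComponents (U.left : Type u)) (hZ₂ : Z₂ ∈ irreducibleComponents (U.left : Type u))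
    (hu₁ : u ∈ Z₁) (hu₂ : u ∈ Z₂) : Z₁ = Z₂ := by
  obtain ⟨ms, hms⟩ := (yon S).map_surjective (a ≫ s)
  obtain ⟨mt, hmt⟩ := (yon S).map_surjective (a ≫ t)
  obtain ⟨η₁, hη₁⟩ := QuasiSober.sober hZ₁.1 (isClosed_of_mem_irreducibleComponents Z₁ hZ₁)
  obtain ⟨η₂, hη₂⟩ := QuasiSober.sober hZ₂.1 (isClosed_of_mem_irreducibleComponents Z₂ hZ₂)
  let Ω := AlgebraicClosure (U.left.residueField u)
  obtain ⟨o, ho⟩ : ∃ o : Spec (CommRingCat.of Ω) ⟶ U.left, o (IsLocalRing.closedPoint Ω) = u :=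
    ⟨Spec.map (CommRingCat.ofHom (algebraMap (U.left.residueField u) Ω)) ≫ U.left.fromSpecResidueField u, by
      rw [Scheme.Hom.comp_apply]; exact Scheme.fromSpecResidueField_apply u _⟩
  let msL : U.left ⟶ Spec (CommRingCat.of k) := ms.left
  let mtL : U.left ⟶ Spec (CommRingCat.of k) := mt.left
  have hmsw : msL ≫ σ = U.hom := Over.w ms
  have hmtw : mtL ≫ σ = U.hom := Over.w mt
  let ys : Spec (CommRingCat.of Ω) ⟶ pullback msL (o ≫ msL) :=
    pullback.lift o (𝟙 _) (by rw [Category.id_comp])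
  let yt : Spec (CommRingCat.of Ω) ⟶ pullback mtL (o ≫ mtL) :=
    pullback.lift o (𝟙 _) (by rw [Category.id_comp])
  obtain ⟨ν₁, hν₁, hν₁'⟩ := exists_lift_generalization msL o (η := η₁) (by rw [ho]; exact hη₁.specializes hu₁)
  obtain ⟨ν₂, hν₂, hν₂'⟩ := exists_lift_generalization mtL o (η := η₂) (by rw [ho]; exact hη₂.specializes hu₂)
  obtain ⟨B₁, _, _, _, _, φ₁, π₁, hπ₁, hφ₁, e₁, he₁⟩ :=
    exists_normal_branch (pullback.snd msL (o ≫ msL)) ys (pullback.lift_snd _ _ _) ν₁ hν₁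
  obtain ⟨B₂, _, _, _, _, φ₂, π₂, hπ₂, hφ₂, e₂, he₂⟩ :=
    exists_normal_branch (pullback.snd mtL (o ≫ mtL)) yt (pullback.lift_snd _ _ _) ν₂ hν₂
  let al₁ := Spec.map (CommRingCat.ofHom (algebraMap Ω B₁))
  let al₂ := Spec.map (CommRingCat.ofHom (algebraMap Ω B₂))
  let q₁ : Spec (CommRingCat.of B₁) ⟶ U.left := π₁ ≫ pullback.fst _ _
  let q₂ : Spec (CommRingCat.of B₂) ⟶ U.left := π₂ ≫ pullback.fst _ _
  have hq₁ : q₁ ≫ msL = al₁ ≫ o ≫ msL := by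
    simp only [q₁, al₁, Category.assoc, pullback.condition, reassoc_of% hπ₁]
  have hq₂ : q₂ ≫ mtL = al₂ ≫ o ≫ mtL := by
    simp only [q₂, al₂, Category.assoc, pullback.condition, reassoc_of% hπ₂]
  let N := B₁ ⊗[Ω] B₂
  let qΩ : Spec (CommRingCat.of N) ⟶ Spec (CommRingCat.of Ω) :=
    Spec.map (CommRingCat.ofHom (algebraMap Ω N))
  let pr₁ : Spec (CommRingCat.of N) ⟶ Spec (CommRingCat.of B₁) :=
    Spec.map (CommRingCat.ofHom (Algebra.TensorProduct.includeLeft : B₁ →ₐ[Ω] N).toRingHom)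
  let pr₂ : Spec (CommRingCat.of N) ⟶ Spec (CommRingCat.of B₂) :=
    Spec.map (CommRingCat.ofHom (Algebra.TensorProduct.includeRight : B₂ →ₐ[Ω] N).toRingHom)
  have hpr₁ : pr₁ ≫ al₁ = qΩ := by
    rw [← Spec.map_comp]
    exact congrArg Spec.map (CommRingCat.hom_ext (RingHom.ext fun c =>
      (Algebra.TensorProduct.includeLeft : B₁ →ₐ[Ω] N).commutes c))
  have hpr₂ : pr₂ ≫ al₂ = qΩ := by
    rw [← Spec.map_comp]
    exact congrArg Spec.map (CommRingCat.hom_ext (RingHom.ext fun c =>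
      (Algebra.TensorProduct.includeRight : B₂ →ₐ[Ω] N).commutes c))
  let T₀ : Over S := Over.mk (o ≫ U.hom)
  let NO : Over S := Over.mk (qΩ ≫ o ≫ U.hom)
  let d₁ : NO ⟶ U := Over.homMk (pr₁ ≫ q₁) (by
    show (pr₁ ≫ q₁) ≫ U.hom = qΩ ≫ o ≫ U.hom
    rw [← hmsw, Category.assoc, reassoc_of% hq₁, reassoc_of% hpr₁])
  let d₂ : NO ⟶ U := Over.homMk (pr₂ ≫ q₂) (by
    show (pr₂ ≫ q₂) ≫ U.hom = qΩ ≫ o ≫ U.hom
    rw [← hmtw, Category.assoc, reassoc_of% hq₂, reassoc_of% hpr₂])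
  let d₀ : NO ⟶ U := Over.homMk (qΩ ≫ o) (Category.assoc _ _ _)
  have h₁ : d₁ ≫ ms = d₀ ≫ ms := Over.OverMorphism.ext (by
    show (pr₁ ≫ q₁) ≫ msL = (qΩ ≫ o) ≫ msL
    rw [Category.assoc, hq₁, reassoc_of% hpr₁, Category.assoc])
  have h₂ : d₂ ≫ mt = d₀ ≫ mt := Over.OverMorphism.ext (by
    show (pr₂ ≫ q₂) ≫ mtL = (qΩ ≫ o) ≫ mtL
    rw [Category.assoc, hq₂, reassoc_of% hpr₂, Category.assoc])
  obtain ⟨m, hm₁, hm₂⟩ := hM ((yon S).map d₁ ≫ a) ((yon S).map d₀ ≫ a) ((yon S).map d₂ ≫ a)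
    (by rw [Category.assoc, Category.assoc, ← hms, ← Functor.map_comp, ← Functor.map_comp, h₁])
    (by rw [Category.assoc, Category.assoc, ← hmt, ← Functor.map_comp, ← Functor.map_comp, h₂])
  obtain ⟨W, p, g, sqW⟩ := exists_isPullback_yon hR.diag a m
  have hg : Etale g.left :=
    (repWith_yon_map_iff _ _).1 ((repWith_isStableUnderBaseChange _).of_isPullback sqW ha)
  /- the two sections -/
  let ψ₁ : N →ₐ[Ω] B₁ := Algebra.TensorProduct.lift (AlgHom.id Ω B₁) ((Algebra.ofId Ω B₁).comp φ₂)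
    fun _ _ => Commute.all _ _
  let ψ₂ : N →ₐ[Ω] B₂ := Algebra.TensorProduct.lift ((Algebra.ofId Ω B₂).comp φ₁) (AlgHom.id Ω B₂)
    fun _ _ => Commute.all _ _
  let j₁ : Spec (CommRingCat.of B₁) ⟶ Spec (CommRingCat.of N) := Spec.map (CommRingCat.ofHom ψ₁.toRingHom)
  let j₂ : Spec (CommRingCat.of B₂) ⟶ Spec (CommRingCat.of N) := Spec.map (CommRingCat.ofHom ψ₂.toRingHom)
  have hj₁₁ : j₁ ≫ pr₁ = 𝟙 _ := by
    rw [← Spec.map_comp, ← Spec.map_id]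
    exact congrArg Spec.map (CommRingCat.hom_ext (RingHom.ext fun b => by
      show ψ₁ (b ⊗ₜ 1) = b
      exact (Algebra.TensorProduct.lift_tmul _ _ _ _ _).trans (by simp)))
  have hj₂₂ : j₂ ≫ pr₂ = 𝟙 _ := by
    rw [← Spec.map_comp, ← Spec.map_id]
    exact congrArg Spec.map (CommRingCat.hom_ext (RingHom.ext fun b => by
      show ψ₂ ((1 : B₁) ⊗ₜ b) = b
      exact (Algebra.TensorProduct.lift_tmul _ _ _ _ _).trans (by simp)))
  let f₁ : Spec (CommRingCat.of Ω) ⟶ Spec (CommRingCat.of B₁) := Spec.map (CommRingCat.ofHom φ₁.toRingHom)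
  let f₂ : Spec (CommRingCat.of Ω) ⟶ Spec (CommRingCat.of B₂) := Spec.map (CommRingCat.ofHom φ₂.toRingHom)
  have hf₁ : f₁ ≫ al₁ = 𝟙 _ := by
    rw [← Spec.map_comp, ← Spec.map_id]
    exact congrArg Spec.map (CommRingCat.hom_ext (RingHom.ext fun c => φ₁.commutes c))
  have hf₂ : f₂ ≫ al₂ = 𝟙 _ := by
    rw [← Spec.map_comp, ← Spec.map_id]
    exact congrArg Spec.map (CommRingCat.hom_ext (RingHom.ext fun c => φ₂.commutes c))
  have hj₁₂ : j₁ ≫ pr₂ = al₁ ≫ f₂ := by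
    rw [← Spec.map_comp, ← Spec.map_comp]
    exact congrArg Spec.map (CommRingCat.hom_ext (RingHom.ext fun b => by
      show ψ₁ ((1 : B₁) ⊗ₜ b) = algebraMap Ω B₁ (φ₂ b)
      exact (Algebra.TensorProduct.lift_tmul _ _ _ _ _).trans (by simp)))
  have hj₂₁ : j₂ ≫ pr₁ = al₂ ≫ f₁ := by
    rw [← Spec.map_comp, ← Spec.map_comp]
    exact congrArg Spec.map (CommRingCat.hom_ext (RingHom.ext fun b => by
      show ψ₂ (b ⊗ₜ (1 : B₂)) = algebraMap Ω B₂ (φ₁ b)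
      exact (Algebra.TensorProduct.lift_tmul _ _ _ _ _).trans (by simp)))
  have ho₁ : f₁ ≫ q₁ = o := by simp only [f₁, q₁, reassoc_of% hφ₁, ys, pullback.lift_fst]
  have ho₂ : f₂ ≫ q₂ = o := by simp only [f₂, q₂, reassoc_of% hφ₂, yt, pullback.lift_fst]
  let O₁ : Over S := Over.mk (j₁ ≫ NO.hom)
  let O₂ : Over S := Over.mk (j₂ ≫ NO.hom)
  let J₁ : O₁ ⟶ NO := Over.homMk j₁ rfl
  let J₂ : O₂ ⟶ NO := Over.homMk j₂ rfl
  have hJ₁ : J₁ ≫ d₀ = J₁ ≫ d₂ := Over.OverMorphism.ext (by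
    show j₁ ≫ qΩ ≫ o = j₁ ≫ pr₂ ≫ q₂
    rw [reassoc_of% hj₁₂, ho₂, ← hpr₁, ← Category.assoc, ← Category.assoc, hj₁₁, Category.id_comp])
  have hJ₂ : J₂ ≫ d₀ = J₂ ≫ d₁ := Over.OverMorphism.ext (by
    show j₂ ≫ qΩ ≫ o = j₂ ≫ pr₁ ≫ q₁
    rw [reassoc_of% hj₂₁, ho₁, ← hpr₂, ← Category.assoc, ← Category.assoc, hj₂₂, Category.id_comp])
  have hM₁ : (yon S).map J₁ ≫ m = (yon S).map J₁ ≫ (yon S).map d₁ ≫ a :=
    hm₁ _ (by rw [← Category.assoc, ← Category.assoc, ← Functor.map_comp, ← Functor.map_comp, hJ₁])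
  have hM₂ : (yon S).map J₂ ≫ m = (yon S).map J₂ ≫ (yon S).map d₂ ≫ a :=
    hm₂ _ (by rw [← Category.assoc, ← Category.assoc, ← Functor.map_comp, ← Functor.map_comp, hJ₂])
  obtain ⟨s₁, hs₁⟩ := (yon S).map_surjective (sqW.lift ((yon S).map (J₁ ≫ d₁)) ((yon S).map J₁)
    (by rw [Functor.map_comp, Category.assoc, hM₁]))
  obtain ⟨s₂, hs₂⟩ := (yon S).map_surjective (sqW.lift ((yon S).map (J₂ ≫ d₂)) ((yon S).map J₂)
    (by rw [Functor.map_comp, Category.assoc, hM₂]))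
  have s₁p : s₁ ≫ p = J₁ ≫ d₁ := (yon S).map_injective (by rw [Functor.map_comp, hs₁, sqW.lift_fst])
  have s₂p : s₂ ≫ p = J₂ ≫ d₂ := (yon S).map_injective (by rw [Functor.map_comp, hs₂, sqW.lift_fst])
  have s₁g : s₁ ≫ g = J₁ := (yon S).map_injective (by rw [Functor.map_comp, hs₁, sqW.lift_snd])
  have s₂g : s₂ ≫ g = J₂ := (yon S).map_injective (by rw [Functor.map_comp, hs₂, sqW.lift_snd])
  let K₁ : T₀ ⟶ O₁ := Over.homMk f₁ (by
    show f₁ ≫ j₁ ≫ qΩ ≫ o ≫ U.hom = o ≫ U.hom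
    rw [← hpr₁, Category.assoc, reassoc_of% hj₁₁, reassoc_of% hf₁])
  let K₂ : T₀ ⟶ O₂ := Over.homMk f₂ (by
    show f₂ ≫ j₂ ≫ qΩ ≫ o ≫ U.hom = o ≫ U.hom
    rw [← hpr₂, Category.assoc, reassoc_of% hj₂₂, reassoc_of% hf₂])
  have hKg : K₁ ≫ J₁ = K₂ ≫ J₂ := Over.OverMorphism.ext (by
    show f₁ ≫ j₁ = f₂ ≫ j₂
    rw [← Spec.map_comp, ← Spec.map_comp]
    refine congrArg Spec.map (CommRingCat.hom_ext ?_)
    have : φ₁.comp ψ₁ = φ₂.comp ψ₂ := Algebra.TensorProduct.ext' fun b c => by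
      show φ₁ (ψ₁ (b ⊗ₜ c)) = φ₂ (ψ₂ (b ⊗ₜ c))
      refine (congrArg φ₁ (Algebra.TensorProduct.lift_tmul _ _ _ b c)).trans
        (Eq.trans ?_ (congrArg φ₂ (Algebra.TensorProduct.lift_tmul _ _ _ b c)).symm)
      simp [map_mul]
    exact congrArg AlgHom.toRingHom this)
  have hKp : K₁ ≫ J₁ ≫ d₁ = K₂ ≫ J₂ ≫ d₂ := Over.OverMorphism.ext (by
    show f₁ ≫ j₁ ≫ pr₁ ≫ q₁ = f₂ ≫ j₂ ≫ pr₂ ≫ q₂
    rw [reassoc_of% hj₁₁, reassoc_of% hj₂₂, ho₁, ho₂])
  have hK : K₁ ≫ s₁ = K₂ ≫ s₂ := (yon S).map_injective (sqW.hom_ext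
    (by rw [← Functor.map_comp, ← Functor.map_comp, Category.assoc, Category.assoc, s₁p, s₂p, hKp])
    (by rw [← Functor.map_comp, ← Functor.map_comp, Category.assoc, Category.assoc, s₁g, s₂g, hKg]))
  have := hg
  obtain ⟨C, hC, hCu⟩ := exists_component_of_normal g.left (normal_tensor_stalk B₁ B₂)
    ((K₁ ≫ s₁).left (IsLocalRing.closedPoint Ω))
  have irr : ∀ (B : Type u) [CommRing B] [IsDomain B] (f : Spec (CommRingCat.of B) ⟶ W.left),
      IsIrreducible (Set.range f) := fun B _ _ f => by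
    rw [← Set.image_univ]
    exact (IrreducibleSpace.isIrreducible_univ (Spec (CommRingCat.of B))).image _ f.continuous.continuousOn
  have hC₁ : Set.range s₁.left ⊆ C := hCu _ (irr B₁ s₁.left) ⟨_, rfl⟩
  have hC₂ : Set.range s₂.left ⊆ C := hCu _ (irr B₂ s₂.left) ⟨K₂.left (IsLocalRing.closedPoint Ω),
    ((Scheme.Hom.comp_apply _ _ _).symm.trans
      (congrArg (fun f : T₀ ⟶ W => f.left (IsLocalRing.closedPoint Ω)) hK).symm)⟩
  have hp : IsIrreducible (closure (p.left '' C)) :=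
    (hC.1.image _ p.left.continuous.continuousOn).closure
  have m₁ : η₁ ∈ closure (p.left '' C) := subset_closure ⟨s₁.left e₁, hC₁ ⟨e₁, rfl⟩, by
    rw [← Scheme.Hom.comp_apply, ← Over.comp_left, s₁p]
    show (j₁ ≫ pr₁ ≫ q₁) e₁ = η₁
    rw [← Category.assoc, hj₁₁, Category.id_comp, Scheme.Hom.comp_apply, he₁, hν₁']⟩
  have m₂ : η₂ ∈ closure (p.left '' C) := subset_closure ⟨s₂.left e₂, hC₂ ⟨e₂, rfl⟩, by
    rw [← Scheme.Hom.comp_apply, ← Over.comp_left, s₂p]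
    show (j₂ ≫ pr₂ ≫ q₂) e₂ = η₂
    rw [← Category.assoc, hj₂₂, Category.id_comp, Scheme.Hom.comp_apply, he₂, hν₂']⟩
  exact (eq_component_of_mem hZ₁ hη₁ hp m₁ isClosed_closure).symm.trans
    (eq_component_of_mem hZ₂ hη₂ hp m₂ isClosed_closure)

theorem hasAt_geomUnibranch {k : Type u} [Field k] {σ : Spec (CommRingCat.of k) ⟶ S} {R : Sp S}
    (hR : IsAlgSpace R) {s t : R ⟶ (yon S).obj (Over.mk σ)} (hM : HasTernary s t) (x : Points R) :
    HasAt (fun V v => Brnch.numGeomBranchesAt V v = 1) R x := by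
  obtain ⟨U, a, ha, has⟩ := hR.atlas
  obtain ⟨u, hu⟩ := surjective_ofPt has x
  refine ⟨U, a, u, ha, hu, ?_⟩
  show Brnch.numGeomBranchesAt U.left u = 1
  rw [Brnch26.numGeomBranchesAt_eq_iSup]
  refine le_antisymm (iSup_le fun U' => iSup_le fun g => iSup_le fun u' => iSup_le fun h => ?_) ?_
  · refine Set.encard_le_one_iff.2 fun Z₁ Z₂ hZ₁ hZ₂ => ?_
    let V : Over S := Over.mk (g ≫ U.hom)
    let g' : V ⟶ U := Over.homMk g rfl
    have hg' : RepWith @Etale ((yon S).map g' ≫ a) :=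
      (repWith_isMultiplicative (S := S) @Etale).comp_mem _ _ ((repWith_yon_map_iff _ _).2 h.1) ha
    exact unique_component hR hM hg' u' hZ₁.1 hZ₂.1 hZ₁.2 hZ₂.2
  · refine le_iSup_of_le U.left (le_iSup_of_le (𝟙 _) (le_iSup_of_le u (le_iSup_of_le ⟨inferInstance, rfl⟩ ?_)))
    rw [Set.one_le_encard_iff_nonempty]
    exact ⟨_, irreducibleComponent_mem_irreducibleComponents u, mem_irreducibleComponent⟩

/-- The ternary operation of a groupoid. -/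
theorem hasTernary_grpd {B : Sp S} (G : GroupoidSp B) {U : Sp S} (e : G.U ≅ U) :
    HasTernary (G.s ≫ e.hom) (G.t ≫ e.hom) := by
  intro r₁ x r₂ hs ht
  rw [← Category.assoc, ← Category.assoc, cancel_mono] at hs ht
  have h1 : r₁ ≫ G.s = (x ≫ G.i) ≫ G.t := by rw [Category.assoc, G.i_t]; exact hs
  have h2 : gcomp G r₁ (x ≫ G.i) h1 ≫ G.s = r₂ ≫ G.t := by
    rw [G.comp_s, Category.assoc, G.i_s, ht]
  refine ⟨gcomp G (gcomp G r₁ (x ≫ G.i) h1) r₂ h2, fun {T'} l hl => ?_, fun {T'} l hl => ?_⟩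
  · have h1' : (l ≫ r₁) ≫ G.s = ((l ≫ x) ≫ G.i) ≫ G.t := by
      rw [Category.assoc, Category.assoc, Category.assoc, G.i_t, hs]
    have h3 : gcomp G (l ≫ r₁) ((l ≫ x) ≫ G.i) h1' ≫ G.s = (l ≫ x) ≫ G.t := by
      rw [G.comp_s, Category.assoc, G.i_s]
    refine ((comp_gcomp G l _ _ h2).trans (gcomp_congr G ?_ hl.symm _)).trans
      (gcomp_inv_cancel' G (l ≫ r₁) (l ≫ x) h1' h3)
    exact (comp_gcomp G l _ _ h1).trans (gcomp_congr G rfl (Category.assoc _ _ _).symm _)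
  · have hc : l ≫ gcomp G r₁ (x ≫ G.i) h1 = (l ≫ r₂) ≫ G.t ≫ G.e := by
      refine ((comp_gcomp G l _ _ h1).trans (gcomp_congr G hl.symm (Category.assoc _ _ _).symm _)).trans ?_
      refine (G.comp_i (l ≫ x)).trans ?_
      simp only [Category.assoc]
      rw [← reassoc_of% ht]
    refine ((comp_gcomp G l _ _ h2).trans (gcomp_congr G hc rfl _)).trans ?_
    exact G.e_comp (l ≫ r₂)
where
  gcomp_inv_cancel' {B : Sp S} (G : GroupoidSp B) {T : Sp S} (r β : T ⟶ G.R)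
      (h : r ≫ G.s = (β ≫ G.i) ≫ G.t) (h' : gcomp G r (β ≫ G.i) h ≫ G.s = β ≫ G.t) :
      gcomp G (gcomp G r (β ≫ G.i) h) β h' = r := by
    simp only [gcomp]
    rw [G.assoc r (β ≫ G.i) β h (by rw [Category.assoc, G.i_s])]
    have e : pullback.lift (β ≫ G.i) β (by rw [Category.assoc, G.i_s]) ≫ G.c = r ≫ G.s ≫ G.e := by
      rw [G.i_comp, ← reassoc_of% (show r ≫ G.s = β ≫ G.s by rw [h, Category.assoc, G.i_t])]
    simp only [e]
    exact G.comp_e r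

open MonObj in
/-- The ternary operation of a group object. -/
theorem hasTernary_grp {B : Sp S} (G : Over B) [GrpObj G] : HasTernary G.hom G.hom := by
  intro T r₁ x r₂ hs ht
  let T' : Over B := Over.mk (x ≫ G.hom)
  let a₁ : T' ⟶ G := Over.homMk r₁ hs
  let b : T' ⟶ G := Over.homMk x rfl
  let a₂ : T' ⟶ G := Over.homMk r₂ ht
  refine ⟨(a₁ * b⁻¹ * a₂).left, fun {T''} l hl => ?_, fun {T''} l hl => ?_⟩
  · let L : Over.mk (l ≫ x ≫ G.hom) ⟶ T' := Over.homMk l rfl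
    have e : L ≫ b = L ≫ a₂ := Over.OverMorphism.ext hl
    have key : L ≫ (a₁ * b⁻¹ * a₂) = L ≫ a₁ := by
      rw [MonObj.comp_mul, MonObj.comp_mul, GrpObj.comp_inv, e, inv_mul_cancel_right]
    exact congrArg CommaMorphism.left key
  · let L : Over.mk (l ≫ x ≫ G.hom) ⟶ T' := Over.homMk l rfl
    have e : L ≫ b = L ≫ a₁ := Over.OverMorphism.ext hl
    have key : L ≫ (a₁ * b⁻¹ * a₂) = L ≫ a₂ := by
      rw [MonObj.comp_mul, MonObj.comp_mul, GrpObj.comp_inv, e, mul_inv_cancel, _root_.one_mul]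
    exact congrArg CommaMorphism.left key

end Groth.Agent.SpPts86
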