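import Groth.Agent.SpPts86.Codim
import Groth.Agent.SpPts86.ImIdeal
import Groth.Agent.SpFP87.EtLocInst
import Groth.Agent.Grpd80.SmoothBC
import Groth.Agent.TopDim50.Basic
import Groth.Prelude.Def_AlgSp2

/-!
Local dimensions of spaces locally of finite type over a field: base change and homogeneity.
-/

universe u

set_option autoImplicit false
set_option backward.isDefEq.respectTransparency false
set_option linter.style.haveILetI false

open CategoryTheory CategoryTheory.Limits AlgebraicGeometry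
open AlgSp Groth.Agent.SpFP87

namespace Groth.Agent.SpPts86

variable {S : Scheme.{u}}

/-- The predicate: the local dimension is `d`. -/
abbrev LDim (d : WithBot ℕ∞) : ∀ U : Scheme.{u}, ↥U → Prop := fun U u => FlatMor.localDim ↥U u = d

/-- A map to a representable sheaf is locally of finite type on every etale chart. -/
def LftTo {X : Sp S} {K : Over S} (p : X ⟶ (yon S).obj K) : Prop :=
  ∀ (U : Over S) (a : (yon S).obj U ⟶ X) (m : U ⟶ K), RepWith @Etale a → a ≫ p = (yon S).map m →
    LocallyOfFiniteType m.left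

theorem lftTo_of_locP {X Y : Sp S} {K : Over S} {q : X ⟶ Y} (hq : LocP @LocallyOfFiniteType q)
    (e : Y ≅ (yon S).obj K) : LftTo (q ≫ e.hom) := by
  intro U a m ha hw
  have he : RepWith @Etale e.inv :=
    repWith_mono (fun _ _ f (hf : IsIso f) => inferInstanceAs (Etale f))
      (repWith_isomorphisms_of_isIso e.inv)
  refine hq a e.inv m ha he ?_
  rw [← hw]
  simp only [Category.assoc, Iso.hom_inv_id, Category.comp_id]

theorem lftTo_of_locP' {X : Sp S} {K : Over S} {q : X ⟶ (yon S).obj K}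
    (hq : LocP @LocallyOfFiniteType q) : LftTo q := by
  simpa using lftTo_of_locP hq (Iso.refl _)

theorem dim_eq_of_forall_hasAt {X : Sp S} (hX : IsAlgSpace X) [Nonempty (Points X)] {d : WithBot ℕ∞}
    (h : ∀ x, HasAt (LDim d) X x) : dim X = d := by
  apply le_antisymm
  · refine iSup_le fun U => iSup₂_le fun a ha => ?_
    rw [TopDim50.dim_eq_iSup_localDim]
    exact iSup_le fun u =>
      (forall_chart_of_hasAt hX (fun g hg a => invariant_localDim d g hg a) (h _) ha rfl).le
  · obtain ⟨U, a, u, ha, -, hu⟩ := h (Classical.arbitrary _)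
    exact hu.symm.le.trans ((TopDim50.localDim_le_dim u).trans
      (le_iSup_of_le U (le_iSup₂_of_le a ha le_rfl)))

theorem exists_hasAt_localDim {X : Sp S} (hX : IsAlgSpace X) (x : Points X) :
    ∃ d, HasAt (LDim d) X x := by
  obtain ⟨U, a, ha, has⟩ := hX.atlas
  obtain ⟨u, hu⟩ := surjective_ofPt has x
  exact ⟨_, U, a, u, ha, hu, rfl⟩

theorem localDim_bc_of_isPullback {k Ω : Type u} [Field k] [Field Ω] {U V : Scheme.{u}}
    (m : U ⟶ Spec (CommRingCat.of k)) [LocallyOfFiniteType m]
    (f : Spec (CommRingCat.of Ω) ⟶ Spec (CommRingCat.of k)) {v : V ⟶ U}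
    {n : V ⟶ Spec (CommRingCat.of Ω)} (sq : IsPullback v n m f) (z : ↥V) :
    FlatMor.localDim ↥V z = FlatMor.localDim ↥U (v z) := by
  obtain ⟨φ, rfl⟩ := Spec.map_surjective f
  letI : Algebra k Ω := φ.hom.toAlgebra
  haveI : IsLocallyNoetherian (Spec (CommRingCat.of k)) := inferInstance
  haveI : LocallyOfFinitePresentation m := inferInstance
  have sq' : IsPullback v n m (Spec.map (CommRingCat.ofHom (algebraMap k Ω))) := sq
  have h := (Grpd80.smoothLocus_localDim_bc m (K := Ω) (sq'.isoPullback.hom z)).2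
  have e : pullback.fst m (Spec.map (CommRingCat.ofHom (algebraMap k Ω))) (sq'.isoPullback.hom z) = v z := by
    rw [← Scheme.Hom.comp_apply, sq'.isoPullback_hom_fst]
  rw [e] at h
  rw [← h]
  exact Grpd80.LocDim.localDim_isOpenEmbedding sq'.isoPullback.hom.isOpenEmbedding z

/-- The local dimension is unchanged by an extension of the ground field. -/
theorem hasAt_localDim_bc {k Ω : Type u} [Field k] [Field Ω] {σ : Spec (CommRingCat.of k) ⟶ S}
    {σ' : Spec (CommRingCat.of Ω) ⟶ S} (j : Over.mk σ' ⟶ Over.mk σ) {F P : Sp S} (hF : IsAlgSpace F)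
    {p : F ⟶ (yon S).obj (Over.mk σ)} (hp : LftTo p) {q₁ : P ⟶ F} {q₂ : P ⟶ (yon S).obj (Over.mk σ')}
    (sq : IsPullback q₁ q₂ p ((yon S).map j)) (z : Points P) (d : WithBot ℕ∞) :
    HasAt (LDim d) F (Points.map q₁ z) ↔ HasAt (LDim d) P z := by
  have hP : IsAlgSpace P :=
    SpFP87.isAlgSpace_of_isPullback sq hF (IsAlgSpace.yon_obj _) (IsAlgSpace.yon_obj _).diag
  obtain ⟨U, a, ha, has⟩ := hF.atlas
  obtain ⟨m, hm⟩ := (yon S).map_surjective (a ≫ p)
  have hml := hp U a m ha hm.symm
  obtain ⟨V, v, n, sqV, wV⟩ := exists_isPullback_over m j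
  have sqY : IsPullback ((yon S).map v) ((yon S).map n) (a ≫ p) ((yon S).map j) := by
    rw [← hm]
    have hVo : IsPullback v n m j := IsPullback.of_map_of_faithful (Over.forget S) sqV
    exact hVo.map (yon S)
  let l : (yon S).obj V ⟶ P := sq.lift ((yon S).map v ≫ a) ((yon S).map n)
    (by rw [Category.assoc, sqY.w])
  have sqp : IsPullback ((yon S).map v) l a q₁ := by
    refine IsPullback.of_bot (v₂₁ := q₂) (v₂₂ := p) ?_ (sq.lift_fst _ _ _).symm sq
    rw [sq.lift_snd]
    exact sqY
  have hl : RepWith @Etale l := (repWith_isStableUnderBaseChange _).of_isPullback sqp ha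
  obtain ⟨u, hu⟩ := surjective_ofPt has (Points.map q₁ z)
  obtain ⟨W, b, hb, hbs⟩ := hP.atlas
  obtain ⟨w, rfl⟩ := surjective_ofPt hbs z
  obtain ⟨W', g₁, g₂, sqW⟩ := exists_isPullback_yon hF.diag a (b ≫ q₁)
  obtain ⟨w', h1, h2⟩ := exists_pt_common_chart sqW u w (by rw [hu, Points.map_ofPt])
  obtain ⟨g, hg⟩ := (yon S).map_surjective (sqp.lift ((yon S).map g₁) ((yon S).map g₂ ≫ b)
    (by rw [Category.assoc, sqW.w]))
  have e1 : g ≫ v = g₁ := (yon S).map_injective (by rw [Functor.map_comp, hg, sqp.lift_fst])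
  have e2 : (yon S).map g ≫ l = (yon S).map g₂ ≫ b := by rw [hg, sqp.lift_snd]
  have hvu : v.left (g.left w') = u := by
    rw [← Scheme.Hom.comp_apply, ← Over.comp_left, e1, h1]
  have hzl : Points.ofPt l (g.left w') = Points.ofPt b w := by
    rw [← ofPt_comp, e2, ofPt_comp, h2]
  have key : FlatMor.localDim ↥V.left (g.left w') = FlatMor.localDim ↥U.left u := by
    rw [← hvu]
    exact localDim_bc_of_isPullback m.left j.left sqV _
  constructor
  · intro h
    refine ⟨V, l, g.left w', hl, hzl, ?_⟩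
    exact key.trans (forall_chart_of_hasAt hF (fun g hg a => invariant_localDim d g hg a) h ha hu)
  · intro h
    refine ⟨U, a, u, ha, hu, ?_⟩
    exact key.symm.trans (forall_chart_of_hasAt hP (fun g hg a => invariant_localDim d g hg a) h hl hzl)

/-- Homogeneity: every point has the local dimension of the unit. -/
theorem hasAt_localDim_unit {k : Type u} [Field k] {σ : Spec (CommRingCat.of k) ⟶ S} {R P : Sp S}
    (hR : IsAlgSpace R) {s t : R ⟶ (yon S).obj (Over.mk σ)} {e : (yon S).obj (Over.mk σ) ⟶ R}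
    (es : e ≫ s = 𝟙 _) (hs : LftTo s) {p₁ p₂ c : P ⟶ R} (sqst : IsPullback p₁ p₂ s t)
    (sqc : IsPullback c p₂ s s)
    (hunit : ∀ {T : Sp S} (α : T ⟶ R) (l : T ⟶ P), l ≫ p₁ = α ≫ t ≫ e → l ≫ p₂ = α → l ≫ c = α)
    (pt : ↥(Spec (CommRingCat.of k))) (x : Points R) (d : WithBot ℕ∞) :
    HasAt (LDim d) R x ↔ HasAt (LDim d) R (Points.ofPt e pt) := by
  obtain ⟨U, a, ha, has⟩ := hR.atlas
  obtain ⟨u, rfl⟩ := surjective_ofPt has x
  let σ' : Spec (CommRingCat.of (U.left.residueField u)) ⟶ S := U.left.fromSpecResidueField u ≫ U.hom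
  let T : Over S := Over.mk σ'
  let i : T ⟶ U := Over.homMk (U.left.fromSpecResidueField u) rfl
  let α : (yon S).obj T ⟶ R := (yon S).map i ≫ a
  obtain ⟨jt, hjt⟩ := (yon S).map_surjective (α ≫ t)
  obtain ⟨js, hjs⟩ := (yon S).map_surjective (α ≫ s)
  let Q := pullback s ((yon S).map jt)
  let β : Q ⟶ P := sqst.lift (pullback.fst _ _) (pullback.snd _ _ ≫ α)
    (pullback.condition.trans ((congrArg (pullback.snd s ((yon S).map jt) ≫ ·) hjt).trans
      (Category.assoc _ _ _).symm))
  have sqβ : IsPullback β (pullback.snd s ((yon S).map jt)) p₂ α := by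
    refine IsPullback.of_right (h₁₂ := p₁) (h₂₂ := t) ?_ (sqst.lift_snd _ _ _) sqst
    rw [sqst.lift_fst]
    convert IsPullback.of_hasPullback s ((yon S).map jt) using 1
    exact hjt.symm
  have sqs : IsPullback (β ≫ c) (pullback.snd s ((yon S).map jt)) s ((yon S).map js) := by
    rw [hjs]
    exact sqβ.paste_horiz sqc
  let o : ↥T.left := IsLocalRing.closedPoint (U.left.residueField u)
  let l : (yon S).obj T ⟶ Q := pullback.lift ((yon S).map jt ≫ e) (𝟙 _)
    (by rw [Category.assoc, es, Category.comp_id, Category.id_comp])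
  have h1 := hasAt_localDim_bc jt hR hs (IsPullback.of_hasPullback s ((yon S).map jt))
    (Points.ofPt l o) d
  have h2 := hasAt_localDim_bc js hR hs sqs (Points.ofPt l o) d
  have z1 : Points.map (pullback.fst s ((yon S).map jt)) (Points.ofPt l o) = Points.ofPt e pt := by
    rw [Points.map_ofPt, pullback.lift_fst, ofPt_comp]
    haveI : Subsingleton ↥(Over.mk σ).left := inferInstanceAs (Subsingleton (PrimeSpectrum k))
    exact congrArg (Points.ofPt e) (Subsingleton.elim _ _)
  have z2 : Points.map (β ≫ c) (Points.ofPt l o) = Points.ofPt a u := by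
    rw [Points.map_ofPt]
    have hlc : (l ≫ β) ≫ c = α := hunit α (l ≫ β)
      (by rw [Category.assoc, sqst.lift_fst, pullback.lift_fst, hjt, Category.assoc])
      (by rw [Category.assoc, sqst.lift_snd, pullback.lift_snd_assoc, Category.id_comp])
    rw [← Category.assoc, hlc, ofPt_comp]
    exact congrArg (Points.ofPt a) (Scheme.fromSpecResidueField_apply u o)
  rw [z1] at h1
  rw [z2] at h2
  exact h2.trans h1.symm

/-- A space with homogeneous local dimension has that dimension. -/
theorem hasAt_localDim_dim {k : Type u} [Field k] {σ : Spec (CommRingCat.of k) ⟶ S} {R P : Sp S}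
    (hR : IsAlgSpace R) {s t : R ⟶ (yon S).obj (Over.mk σ)} {e : (yon S).obj (Over.mk σ) ⟶ R}
    (es : e ≫ s = 𝟙 _) (hs : LftTo s) {p₁ p₂ c : P ⟶ R} (sqst : IsPullback p₁ p₂ s t)
    (sqc : IsPullback c p₂ s s)
    (hunit : ∀ {T : Sp S} (α : T ⟶ R) (l : T ⟶ P), l ≫ p₁ = α ≫ t ≫ e → l ≫ p₂ = α → l ≫ c = α)
    (x : Points R) : HasAt (LDim (dim R)) R x := by
  let pt : ↥(Spec (CommRingCat.of k)) := IsLocalRing.closedPoint k
  have : Nonempty (Points R) := ⟨x⟩
  obtain ⟨d, hd⟩ := exists_hasAt_localDim hR x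
  have h : ∀ y, HasAt (LDim d) R y := fun y =>
    (hasAt_localDim_unit hR es hs sqst sqc hunit pt y d).2
      ((hasAt_localDim_unit hR es hs sqst sqc hunit pt x d).1 hd)
  rwa [dim_eq_of_forall_hasAt hR h]

end Groth.Agent.SpPts86
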