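import Groth.Agent.SpPts86.FieldDim
import Groth.Prelude.Def_AlgSpGpd
import Mathlib.CategoryTheory.Monoidal.Cartesian.Grp

/-!
The shear squares of a group object over a base sheaf.
-/

universe u

set_option autoImplicit false
set_option backward.isDefEq.respectTransparency false

open CategoryTheory CategoryTheory.Limits AlgebraicGeometry MonoidalCategory CartesianMonoidalCategory MonObj
open AlgSp

namespace Groth.Agent.SpPts86

variable {S : Scheme.{u}} {B : Sp S} (G : Over B) [GrpObj G]

theorem isPullback_mul :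
    IsPullback (μ[G]).left (snd G G).left G.hom G.hom := by
  let φ : G ⊗ G ⟶ G ⊗ G := lift μ[G] (snd G G)
  have : IsIso φ := by
    refine ⟨lift (fst G G * (snd G G)⁻¹) (snd G G), ?_, ?_⟩
    · apply CartesianMonoidalCategory.hom_ext
      · simp [φ, GrpObj.comp_inv, MonObj.comp_mul, MonObj.mul_eq_mul, mul_assoc]
      · simp [φ]
    · apply CartesianMonoidalCategory.hom_ext
      · simp [φ, MonObj.comp_mul, MonObj.mul_eq_mul, mul_assoc]
      · simp [φ]
  have : IsIso φ.left := inferInstanceAs (IsIso ((Over.forget B).map φ))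
  have h : IsPullback (fst G G).left (snd G G).left G.hom G.hom := IsPullback.of_hasPullback G.hom G.hom
  refine h.of_iso (asIso φ.left).symm (Iso.refl _) (Iso.refl _) (Iso.refl _) ?_ ?_ (by simp) (by simp)
  · rw [Iso.symm_hom, asIso_inv, IsIso.eq_inv_comp, Iso.refl_hom, Category.comp_id]
    exact congrArg CommaMorphism.left (lift_fst (μ[G]) (snd G G))
  · rw [Iso.symm_hom, asIso_inv, IsIso.eq_inv_comp, Iso.refl_hom, Category.comp_id]
    exact congrArg CommaMorphism.left (lift_snd (μ[G]) (snd G G))

theorem unit_mul {T : Sp S} (α : T ⟶ G.left) (l : T ⟶ (G ⊗ G).left)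
    (h1 : l ≫ (fst G G).left = α ≫ G.hom ≫ (η[G]).left) (h2 : l ≫ (snd G G).left = α) :
    l ≫ (μ[G]).left = α := by
  let T' : Over B := Over.mk (α ≫ G.hom)
  let a : T' ⟶ G := Over.homMk α rfl
  let l' : T' ⟶ G ⊗ G := Over.homMk l (by
    rw [← Over.w (snd G G), ← Category.assoc, h2]; rfl)
  have e : l' = lift (1 : T' ⟶ G) a := by
    apply CartesianMonoidalCategory.hom_ext
    · rw [lift_fst, Hom.one_def]
      refine Over.OverMorphism.ext ?_
      show l ≫ (fst G G).left = (α ≫ G.hom) ≫ (η[G]).left
      rw [h1, Category.assoc]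
    · rw [lift_snd]
      exact Over.OverMorphism.ext h2
  have h3 : l' ≫ μ[G] = a := by
    rw [e, ← Hom.mul_def, _root_.one_mul]
  exact congrArg CommaMorphism.left h3

end Groth.Agent.SpPts86
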