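import Groth.Agent.SpPts86.FieldDim
import Groth.Agent.SpPts86.DiagProps
import Groth.Agent.SpPts86.GrpdTranslate
import Groth.Agent.SpPts86.GrpdSp
import Groth.Agent.Grpd80.DimStab
import Groth.Agent.Alg80.UnitsAlgebraic
import Groth.Agent.E4O.DimField
import Groth.Prelude.Def_AlgSpGpd

/-!
Groupoid spaces over a field: the dimension of the arrows is the dimension of the stabilizer.
-/

universe u

set_option autoImplicit false
set_option backward.isDefEq.respectTransparency false
set_option linter.style.haveILetI false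

open CategoryTheory CategoryTheory.Limits AlgebraicGeometry
open AlgSp Groth.Agent.SpFP87

namespace Groth.Agent.SpPts86

variable {S : Scheme.{u}}

theorem dim_le_of_lqf {A B : Scheme.{u}} (f : A ⟶ B) [LocallyQuasiFinite f] :
    topologicalKrullDim ↥A ≤ topologicalKrullDim ↥B := by
  rw [Grp57.topologicalKrullDim_eq_iSup_coheight, Grp57.topologicalKrullDim_eq_iSup_coheight]
  exact iSup_le fun a => le_trans (WithBot.coe_le_coe.2 (coheight_le_of_lqf f a))
    (le_iSup (fun z : ↥B => ((Order.coheight z : ℕ∞) : WithBot ℕ∞)) (f a))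

theorem dim_eq_of_surjective_chart {X : Sp S} (hX : IsAlgSpace X) {U : Over S}
    {a : (yon S).obj U ⟶ X} (ha : RepWith @Etale a) (has : RepWith @Surjective a) :
    dim X = topologicalKrullDim ↥U.left := by
  refine le_antisymm (iSup_le fun V => iSup₂_le fun b hb => ?_) (le_iSup_of_le U (le_iSup₂_of_le a ha le_rfl))
  obtain ⟨W, p, q, hp, hq, -, -, hqs, -⟩ := exists_common_chart hX ha hb
  have := hqs has
  have := hq
  have := SpFP87.etale_locallyQuasiFinite p.left hp
  exact (topologicalKrullDim_le_of_etale_surjective q.left).trans (dim_le_of_lqf p.left)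

section Algebra

/-- The image of a field in a domain of finite type lies in a subfield algebraic over the base. -/
theorem exists_subfield_factor {k A : Type u} [Field k] [CommRing A] [IsDomain A] [Algebra k A]
    [Algebra.FiniteType k A] (τ : k →+* A) :
    ∃ K' : Subalgebra k A, IsField K' ∧ ∃ τ' : k →+* K', ∀ c, (τ' c : A) = τ c := by
  let K' : Subalgebra k A := Algebra.adjoin k (Set.range τ)
  have hle : K' ≤ integralClosure k A := Algebra.adjoin_le fun x ⟨c, hc⟩ =>
    hc ▸ (Alg80.isAlgebraic_of_field_map (k := k) τ c).isIntegral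
  have : Algebra.IsIntegral k K' := ⟨fun x =>
    (isIntegral_algHom_iff K'.val Subtype.val_injective).1 (hle x.2)⟩
  exact ⟨K', isField_of_isIntegral_of_isField' (Field.toIsField k),
    τ.codRestrict K' (fun c => Algebra.subset_adjoin ⟨c, rfl⟩), fun c => rfl⟩

end Algebra

section Stabilizer

variable {B : Sp S} (G : GroupoidSp B) {k : Type u} [Field k] {σ : Spec (CommRingCat.of k) ⟶ S}
  (eU : G.U ≅ (yon S).obj (Over.mk σ))

theorem stabilizerι_condition : G.stabilizerι ≫ G.t = G.stabilizerι ≫ G.s := by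
  have h1 := congrArg (· ≫ pullback.fst G.pU G.pU) (pullback.condition (f := G.j) (g := G.diag))
  have h2 := congrArg (· ≫ pullback.snd G.pU G.pU) (pullback.condition (f := G.j) (g := G.diag))
  simp only [Category.assoc, GroupoidSp.j_fst, GroupoidSp.j_snd, GroupoidSp.diag, pullback.lift_fst,
    pullback.lift_snd, Category.comp_id] at h1 h2
  exact h1.trans h2.symm

theorem exists_stabilizer_lift {T : Sp S} (r : T ⟶ G.R) (h : r ≫ G.t = r ≫ G.s) :
    ∃ g : T ⟶ G.stabilizer, g ≫ G.stabilizerι = r :=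
  ⟨pullback.lift r (r ≫ G.t) (pullback.hom_ext
    (by simp [GroupoidSp.diag, GroupoidSp.j_fst])
    (by simp [GroupoidSp.diag, GroupoidSp.j_snd, h])), pullback.lift_fst _ _ _⟩

theorem mono_stabilizerι : Mono G.stabilizerι := ⟨fun {Z} x y h => by
  have hw : ∀ z : Z ⟶ G.stabilizer, z ≫ pullback.snd G.j G.diag = (z ≫ G.stabilizerι) ≫ G.t := fun z => by
    have h1 := congrArg (z ≫ · ≫ pullback.fst G.pU G.pU) (pullback.condition (f := G.j) (g := G.diag))
    simp only [Category.assoc, GroupoidSp.j_fst, GroupoidSp.diag, pullback.lift_fst, Category.comp_id] at h1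
    rw [Category.assoc]; exact h1.symm
  exact pullback.hom_ext h (by rw [hw, hw, h])⟩

theorem gcomp_inv_cancel {T : Sp S} (r β : T ⟶ G.R) (h : r ≫ G.s = (β ≫ G.i) ≫ G.t)
    (h' : gcomp G r (β ≫ G.i) h ≫ G.s = β ≫ G.t) :
    gcomp G (gcomp G r (β ≫ G.i) h) β h' = r := by
  simp only [gcomp]
  rw [G.assoc r (β ≫ G.i) β h (by rw [Category.assoc, G.i_s])]
  have e : pullback.lift (β ≫ G.i) β (by rw [Category.assoc, G.i_s]) ≫ G.c = r ≫ G.s ≫ G.e := by
    rw [G.i_comp, ← reassoc_of% (show r ≫ G.s = β ≫ G.s by rw [h, Category.assoc, G.i_t])]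
  simp only [e]
  exact G.comp_e r

include eU in
theorem dim_eq_stabilizer (hB : IsAlgSpace B) (hR : IsAlgSpace G.R)
    (hs : LocP @LocallyOfFiniteType G.s) : dim G.R = dim G.stabilizer := by
  have hU : IsAlgSpace G.U := SpFP87.isAlgSpace_of_representable eU.hom
    (repWith_isomorphisms_of_isIso eU.hom).rep (IsAlgSpace.yon_obj _)
  have hG : IsAlgSpace G.stabilizer := SpFP87.isAlgSpace_of_isPullback
    (IsPullback.of_hasPullback G.j G.diag) hR hU (SpFP87.isAlgSpace_pullback G.pU G.pU hU hU hB).diag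
  obtain ⟨U, a, ha, has⟩ := hR.atlas
  obtain ⟨mt, hmt⟩ := (yon S).map_surjective (a ≫ G.t ≫ eU.hom)
  obtain ⟨ms, hms⟩ := (yon S).map_surjective (a ≫ G.s ≫ eU.hom)
  have hsl := lftTo_of_locP hs eU
  have hmsl : LocallyOfFiniteType ms.left := hsl U a ms ha hms.symm
  have hu : ∀ {T : Sp S} (x y : T ⟶ G.U), x ≫ eU.hom = y ≫ eU.hom → x = y :=
    fun x y h => (cancel_mono eU.hom).1 h
  /- the chart of the stabilizer -/
  let E : Over S := Over.mk (equalizer.ι mt.left ms.left ≫ U.hom)
  let ιE : E ⟶ U := Over.homMk (equalizer.ι mt.left ms.left) rfl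
  have wE : ιE ≫ mt = ιE ≫ ms := Over.OverMorphism.ext (equalizer.condition mt.left ms.left)
  have hl : IsLimit (Fork.ofι ιE wE) := Fork.IsLimit.mk _
    (fun c => Over.homMk (equalizer.lift c.ι.left (by
      rw [← Over.comp_left, ← Over.comp_left, c.condition]))
      (by
        show equalizer.lift c.ι.left _ ≫ equalizer.ι mt.left ms.left ≫ U.hom = _
        rw [equalizer.lift_ι_assoc]
        exact Over.w c.ι))
    (fun c => Over.OverMorphism.ext (equalizer.lift_ι _ _))
    (fun c m hm => Over.OverMorphism.ext (equalizer.hom_ext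
      ((congrArg CommaMorphism.left hm).trans (equalizer.lift_ι _ _).symm)))
  have hyl := isLimitForkMapOfIsLimit (yon S) wE hl
  have hιE : ((yon S).map ιE ≫ a) ≫ G.t = ((yon S).map ιE ≫ a) ≫ G.s := hu _ _ (by
    simp only [Category.assoc]
    rw [← hmt, ← hms, ← Functor.map_comp, ← Functor.map_comp, wE])
  obtain ⟨γ, hγ⟩ := exists_stabilizer_lift G _ hιE
  have : Mono G.stabilizerι := mono_stabilizerι G
  have sqγ : IsPullback ((yon S).map ιE) γ a G.stabilizerι := by
    refine IsPullback.mk' hγ.symm (fun Z x y h1 _ => Fork.IsLimit.hom_ext hyl h1) fun Z x y w => ?_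
    have hx : x ≫ (yon S).map mt = x ≫ (yon S).map ms := by
      rw [hmt, hms, reassoc_of% w, reassoc_of% w, reassoc_of% (stabilizerι_condition G)]
    obtain ⟨l, h1⟩ := Fork.IsLimit.lift' hyl x hx
    refine ⟨l, h1, (cancel_mono G.stabilizerι).1 ?_⟩
    rw [Category.assoc, hγ, ← w, ← Category.assoc]
    exact congrArg (· ≫ a) h1
  have hγe : RepWith @Etale γ := (repWith_isStableUnderBaseChange _).of_isPullback sqγ ha
  have hγs : RepWith @Surjective γ := (repWith_isStableUnderBaseChange _).of_isPullback sqγ has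
  rw [dim_eq_of_surjective_chart hG hγe hγs]
  refine le_antisymm ?_ ?_
  swap
  · rw [dim_eq_of_surjective_chart hR ha has]
    exact (equalizer.ι mt.left ms.left).isEmbedding.isInducing.topologicalKrullDim_le
  /- a generic point -/
  let pt : ↥(Spec (CommRingCat.of k)) := IsLocalRing.closedPoint k
  obtain ⟨u₀, -⟩ := surjective_ofPt has (Points.ofPt (eU.inv ≫ G.e) pt)
  obtain ⟨η, -, hη⟩ := exists_codimZero_generalization u₀
  have hd : FlatMor.localDim ↥U.left η = dim G.R := by
    have h := hasAt_localDim_dim hR (s := G.s ≫ eU.hom) (t := G.t ≫ eU.hom) (e := eU.inv ≫ G.e)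
      (p₁ := pullback.fst G.s G.t) (p₂ := pullback.snd G.s G.t) (c := G.c)
      (by rw [Category.assoc, ← Category.assoc G.e, G.e_s, Category.id_comp, Iso.inv_hom_id])
      hsl
      ((IsPullback.of_hasPullback G.s G.t).of_iso (Iso.refl _) (Iso.refl _) (Iso.refl _) eU
        (by simp) (by simp) (by simp) (by simp))
      ((isPullback_comp G).of_iso (Iso.refl _) (Iso.refl _) (Iso.refl _) eU
        (by simp) (by simp) (by simp) (by simp))
      (fun {T} α l h1 h2 => by
        have w : (α ≫ G.t ≫ G.e) ≫ G.s = α ≫ G.t := by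
          rw [Category.assoc, Category.assoc, G.e_s, Category.comp_id]
        have : l = pullback.lift (α ≫ G.t ≫ G.e) α w := pullback.hom_ext
          (by rw [pullback.lift_fst, h1]; simp)
          (by rw [pullback.lift_snd, h2])
        rw [this]
        exact G.e_comp α) (Points.ofPt a η)
    exact forall_chart_of_hasAt hR (fun g hg a => invariant_localDim _ g hg a) h ha rfl
  obtain ⟨_, ⟨V, hV, rfl⟩, hηV, -⟩ :=
    U.left.isBasis_affineOpens.exists_subset_of_mem_open (Set.mem_univ η) isOpen_univ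
  replace hV : IsAffineOpen V := hV
  let σA : CommRingCat.of k ⟶ Γ(U.left, V) := Spec.preimage (hV.fromSpec ≫ ms.left)
  let τA : CommRingCat.of k ⟶ Γ(U.left, V) := Spec.preimage (hV.fromSpec ≫ mt.left)
  let : Algebra k Γ(U.left, V) := σA.hom.toAlgebra
  have : Algebra.FiniteType k Γ(U.left, V) := by
    rw [← RingHom.finiteType_algebraMap]
    have h : LocallyOfFiniteType (Spec.map σA) := by rw [Spec.map_preimage]; infer_instance
    exact (HasRingHomProperty.Spec_iff (P := @LocallyOfFiniteType)).mp h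
  let p : Ideal Γ(U.left, V) := (hV.primeIdealOf ⟨η, hηV⟩).asIdeal
  let A := Γ(U.left, V) ⧸ p
  let π : Γ(U.left, V) ⟶ CommRingCat.of A := CommRingCat.ofHom (Ideal.Quotient.mk p)
  let j : Spec (CommRingCat.of A) ⟶ U.left := Spec.map π ≫ hV.fromSpec
  have : IsClosedImmersion (Spec.map π) := IsClosedImmersion.spec_of_surjective _ Ideal.Quotient.mk_surjective
  have hdA : dim G.R = topologicalKrullDim (Spec (CommRingCat.of A)) := by
    have h1 : FlatMor.localDim (PrimeSpectrum Γ(U.left, V)) ⟨p, inferInstance⟩ = dim G.R := by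
      rw [← hd]
      exact (Grpd80.LocDim.localDim_isOpenEmbedding hV.fromSpec.isOpenEmbedding
        (hV.primeIdealOf ⟨η, hηV⟩)).trans
        (congrArg (FlatMor.localDim ↥U.left) (hV.fromSpec_primeIdealOf ⟨η, hηV⟩))
    have h2 : p.height = 0 := by
      let := TopCat.Presheaf.algebra_section_stalk U.left.presheaf (⟨η, hηV⟩ : V)
      have := hV.isLocalization_stalk ⟨η, hηV⟩
      have h := IsLocalization.AtPrime.ringKrullDim_eq_height p (U.left.presheaf.stalk η)
      rw [hη] at h
      exact (WithBot.coe_eq_zero.1 h.symm)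
    rw [← h1, CAlgH2.localDim_eq_dimAt k p, ← CAlgH2.height_add_trdegQuot_eq_dimAt k p, h2, zero_add]
    refine Eq.trans ?_ (PrimeSpectrum.topologicalKrullDim_eq_ringKrullDim A).symm
    rw [E4O.ringKrullDim_eq_trdeg k A]
    rfl
  obtain ⟨K', hK', τ', hτ'⟩ := exists_subfield_factor ((Ideal.Quotient.mk p).comp τA.hom)
  letI : Field K' := hK'.toField
  let fA : Spec (CommRingCat.of A) ⟶ Spec (CommRingCat.of K') :=
    Spec.map (CommRingCat.ofHom (algebraMap K' A))
  have : Algebra.FiniteType K' A := Algebra.FiniteType.of_restrictScalars_finiteType k K' A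
  have : LocallyOfFiniteType fA := by
    refine (HasRingHomProperty.Spec_iff (P := @LocallyOfFiniteType)).mpr ?_
    exact RingHom.finiteType_algebraMap.2 ‹_›
  let qs := Spec.map (CommRingCat.ofHom (algebraMap k K'))
  let qt := Spec.map (CommRingCat.ofHom τ')
  have hfs : j ≫ ms.left = fA ≫ qs := by
    simp only [j, fA, qs, Category.assoc, ← Spec.map_comp]
    rw [← Spec.map_preimage (hV.fromSpec ≫ ms.left), ← Spec.map_comp]
    exact congrArg Spec.map (CommRingCat.hom_ext (RingHom.ext fun c => rfl))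
  have hft : j ≫ mt.left = fA ≫ qt := by
    simp only [j, fA, qt, Category.assoc, ← Spec.map_comp]
    rw [← Spec.map_preimage (hV.fromSpec ≫ mt.left), ← Spec.map_comp]
    exact congrArg Spec.map (CommRingCat.hom_ext (RingHom.ext fun c => (hτ' c).symm))
  have hUhom : j ≫ U.hom = fA ≫ qs ≫ σ := by
    rw [← Over.w ms, reassoc_of% hfs]; rfl
  let L := FractionRing A
  let ψ : Spec (CommRingCat.of L) ⟶ Spec (CommRingCat.of A) :=
    Spec.map (CommRingCat.ofHom (algebraMap A L))
  let T : Over S := Over.mk (ψ ≫ j ≫ U.hom)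
  let i : T ⟶ U := Over.homMk (ψ ≫ j) (Category.assoc _ _ _)
  let α : (yon S).obj T ⟶ G.R := (yon S).map i ≫ a
  let Z : Over S := Over.mk (pullback.fst fA (ψ ≫ fA) ≫ j ≫ U.hom)
  let z₁ : Z ⟶ U := Over.homMk (pullback.fst fA (ψ ≫ fA) ≫ j) (Category.assoc _ _ _)
  let z₂ : Z ⟶ T := Over.homMk (pullback.snd fA (ψ ≫ fA)) (by
    show pullback.snd fA (ψ ≫ fA) ≫ ψ ≫ j ≫ U.hom = pullback.fst fA (ψ ≫ fA) ≫ j ≫ U.hom
    rw [hUhom, pullback.condition_assoc, Category.assoc])
  have hzs : z₁ ≫ ms = z₂ ≫ i ≫ ms := Over.OverMorphism.ext (by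
    show (pullback.fst fA (ψ ≫ fA) ≫ j) ≫ ms.left = pullback.snd fA (ψ ≫ fA) ≫ (ψ ≫ j) ≫ ms.left
    exact (Category.assoc _ j ms.left).trans ((congrArg (pullback.fst fA (ψ ≫ fA) ≫ ·) hfs).trans
      ((pullback.condition_assoc qs).trans ((congrArg (pullback.snd fA (ψ ≫ fA) ≫ ·)
        ((Category.assoc ψ fA qs).trans ((congrArg (ψ ≫ ·) hfs).symm.trans
          (Category.assoc ψ j ms.left).symm)))))))
  have hzt : z₁ ≫ mt = z₂ ≫ i ≫ mt := Over.OverMorphism.ext (by
    show (pullback.fst fA (ψ ≫ fA) ≫ j) ≫ mt.left = pullback.snd fA (ψ ≫ fA) ≫ (ψ ≫ j) ≫ mt.left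
    exact (Category.assoc _ j mt.left).trans ((congrArg (pullback.fst fA (ψ ≫ fA) ≫ ·) hft).trans
      ((pullback.condition_assoc qt).trans ((congrArg (pullback.snd fA (ψ ≫ fA) ≫ ·)
        ((Category.assoc ψ fA qt).trans ((congrArg (ψ ≫ ·) hft).symm.trans
          (Category.assoc ψ j mt.left).symm)))))))
  have hdZ : topologicalKrullDim ↥Z.left = topologicalKrullDim (Spec (CommRingCat.of A)) := by
    letI : Algebra K' L := ((algebraMap A L).comp (algebraMap K' A)).toAlgebra
    have e : ψ ≫ fA = Spec.map (CommRingCat.ofHom (algebraMap K' L)) := by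
      simp only [ψ, fA, ← Spec.map_comp]; rfl
    rw [← Grpd80.dim_bc_eq (L := L) fA]
    exact IsHomeomorph.topologicalKrullDim_eq _
      (pullback.congrHom rfl e).hom.homeomorph.isHomeomorph
  /- the translate -/
  let r : (yon S).obj Z ⟶ G.R := (yon S).map z₁ ≫ a
  let β : (yon S).obj Z ⟶ G.R := (yon S).map z₂ ≫ α
  have hrs : r ≫ G.s = β ≫ G.s := hu _ _ (by
    simp only [r, β, α, Category.assoc]
    rw [← hms, ← Functor.map_comp, ← Functor.map_comp, ← Functor.map_comp, hzs])
  have hrt : r ≫ G.t = β ≫ G.t := hu _ _ (by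
    simp only [r, β, α, Category.assoc]
    rw [← hmt, ← Functor.map_comp, ← Functor.map_comp, ← Functor.map_comp, hzt])
  have hri : r ≫ G.s = (β ≫ G.i) ≫ G.t :=
    hrs.trans ((congrArg (β ≫ ·) G.i_t).symm.trans (Category.assoc β G.i G.t).symm)
  let g := gcomp G r (β ≫ G.i) hri
  have hgs : g ≫ G.s = β ≫ G.t := (G.comp_s _ _ _).trans (by rw [Category.assoc, G.i_s])
  have hgt : g ≫ G.t = g ≫ G.s := (G.comp_t _ _ _).trans (hrt.trans hgs.symm)
  obtain ⟨gS, hgS⟩ := exists_stabilizer_lift G g hgt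
  obtain ⟨W, pW, qW, sqW⟩ := exists_isPullback_yon hG.diag gS γ
  have hpe : Etale pW.left :=
    (repWith_yon_map_iff _ _).1 ((repWith_isStableUnderBaseChange _).of_isPullback sqW.flip hγe)
  have hps : Surjective pW.left :=
    (repWith_yon_map_iff _ _).1 ((repWith_isStableUnderBaseChange _).of_isPullback sqW.flip hγs)
  rw [hdA, ← hdZ]
  refine (topologicalKrullDim_le_of_etale_surjective pW.left).trans ?_
  /- base changes to `T` -/
  obtain ⟨ET, vE, nE, sqE, wET⟩ := exists_isPullback_over (ιE ≫ ms) (i ≫ mt)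
  obtain ⟨UT, v, n, sqU, wU⟩ := exists_isPullback_over ms (i ≫ ms)
  have : LocallyOfFiniteType (ιE ≫ ms).left := by
    have : IsImmersion ιE.left := inferInstanceAs (IsImmersion (equalizer.ι mt.left ms.left))
    have : IsLocallyNoetherian (Over.mk σ).left :=
      inferInstanceAs (IsLocallyNoetherian (Spec (CommRingCat.of k)))
    have : IsLocallyNoetherian U.left := LocallyOfFiniteType.isLocallyNoetherian ms.left
    have : LocallyOfFiniteType ιE.left := inferInstance
    rw [Over.comp_left]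
    infer_instance
  have hdE : topologicalKrullDim ↥ET.left = topologicalKrullDim ↥E.left := by
    rw [← Grpd80.dim_pullback_point (Iso.refl (Spec (CommRingCat.of k))) (ιE ≫ ms).left (i ≫ mt).left]
    exact IsHomeomorph.topologicalKrullDim_eq _ sqE.isoPullback.hom.homeomorph.isHomeomorph
  rw [← hdE]
  let RT := pullback (G.s ≫ eU.hom) ((yon S).map (i ≫ ms))
  have hRT : IsAlgSpace RT := SpFP87.isAlgSpace_pullback _ _ hR (IsAlgSpace.yon_obj _) (IsAlgSpace.yon_obj _)
  have hUo : IsPullback v n ms (i ≫ ms) := IsPullback.of_map_of_faithful (Over.forget S) sqU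
  have hEo : IsPullback vE nE (ιE ≫ ms) (i ≫ mt) := IsPullback.of_map_of_faithful (Over.forget S) sqE
  have sqY : IsPullback ((yon S).map v) ((yon S).map n) (a ≫ G.s ≫ eU.hom) ((yon S).map (i ≫ ms)) := by
    rw [← hms]; exact hUo.map (yon S)
  let l : (yon S).obj UT ⟶ RT := pullback.lift ((yon S).map v ≫ a) ((yon S).map n)
    (by rw [Category.assoc, sqY.w])
  have sqp : IsPullback ((yon S).map v) l a (pullback.fst (G.s ≫ eU.hom) ((yon S).map (i ≫ ms))) := by
    refine IsPullback.of_bot (v₂₁ := pullback.snd _ _) (v₂₂ := G.s ≫ eU.hom) ?_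
      (pullback.lift_fst _ _ _).symm (IsPullback.of_hasPullback _ _)
    rw [pullback.lift_snd]
    exact sqY
  have hle : RepWith @Etale l := (repWith_isStableUnderBaseChange _).of_isPullback sqp ha
  have hg' : ((yon S).map vE ≫ (yon S).map ιE ≫ a) ≫ G.s = ((yon S).map nE ≫ α) ≫ G.t := hu _ _ (by
    simp only [α, Category.assoc]
    rw [← hms, ← hmt, ← Functor.map_comp, ← Functor.map_comp, ← Functor.map_comp, ← Functor.map_comp]
    exact congrArg (yon S).map hEo.w)
  let θ : (yon S).obj ET ⟶ RT := pullback.lift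
    (gcomp G ((yon S).map vE ≫ (yon S).map ιE ≫ a) ((yon S).map nE ≫ α) hg') ((yon S).map nE) (by
      rw [← Category.assoc, G.comp_s]
      simp only [α, Category.assoc, Functor.map_comp, hms])
  obtain ⟨W', g₁, g₂, sqW'⟩ := exists_isPullback_yon hRT.diag l θ
  have hg₂ : Etale g₂.left :=
    (repWith_yon_map_iff _ _).1 ((repWith_isStableUnderBaseChange _).of_isPullback sqW' hle)
  have wψ₀ : (qW ≫ ιE ≫ ms) = (pW ≫ z₂) ≫ i ≫ mt := (yon S).map_injective (by
    simp only [Functor.map_comp, Category.assoc, hms, hmt]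
    have h := congrArg (· ≫ G.stabilizerι ≫ G.s ≫ eU.hom) sqW.w
    simp only [Category.assoc, reassoc_of% hgS, reassoc_of% hγ, reassoc_of% hgs] at h
    simpa only [β, α, Category.assoc] using h.symm)
  let ψ₀ : W ⟶ ET := hEo.lift qW (pW ≫ z₂) wψ₀
  let e : Z ⟶ UT := hUo.lift z₁ z₂ hzs
  have wψ : (yon S).map (pW ≫ e) ≫ l = (yon S).map ψ₀ ≫ θ := by
    apply pullback.hom_ext
    · simp only [l, θ, Category.assoc, pullback.lift_fst]
      rw [← Category.assoc, ← Functor.map_comp, Category.assoc, hUo.lift_fst, Functor.map_comp,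
        Category.assoc, comp_gcomp]
      have e1 : (yon S).map ψ₀ ≫ (yon S).map vE ≫ (yon S).map ιE ≫ a = (yon S).map pW ≫ g := by
        rw [← Category.assoc ((yon S).map ψ₀), ← Functor.map_comp, hEo.lift_fst, ← hgS, ← hγ,
          ← Category.assoc, ← Category.assoc, sqW.w]
      have e2 : (yon S).map ψ₀ ≫ (yon S).map nE ≫ α = (yon S).map pW ≫ β := by
        rw [← Category.assoc, ← Functor.map_comp, hEo.lift_snd, Functor.map_comp, Category.assoc]
      refine Eq.trans ?_ ((comp_gcomp G _ g β hgs).trans (gcomp_congr G e1.symm e2.symm _))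
      rw [gcomp_inv_cancel G r β hri hgs]
    · simp only [l, θ, Category.assoc, pullback.lift_snd, ← Functor.map_comp]
      rw [hUo.lift_snd, hEo.lift_snd]
  obtain ⟨ψ', hψ'⟩ := (yon S).map_surjective (sqW'.lift ((yon S).map (pW ≫ e)) ((yon S).map ψ₀) wψ)
  have eψ1 : ψ' ≫ g₁ = pW ≫ e := (yon S).map_injective (by rw [Functor.map_comp, hψ', sqW'.lift_fst])
  have hee : LocallyQuasiFinite e.left := by
    have h1 : e.left ≫ v.left = pullback.fst fA (ψ ≫ fA) ≫ j := by
      rw [← Over.comp_left, hUo.lift_fst]; rfl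
    have h2 : e.left ≫ n.left = pullback.snd fA (ψ ≫ fA) := by
      rw [← Over.comp_left, hUo.lift_snd]; rfl
    have hm : Mono e.left := ⟨fun x y h => pullback.hom_ext
      ((cancel_mono j).1 (by rw [Category.assoc, Category.assoc, ← h1, reassoc_of% h]))
      (by rw [← h2, reassoc_of% h])⟩
    have : LocallyOfFiniteType (e.left ≫ n.left) := by rw [h2]; infer_instance
    exact mono_inf_lft_le_lqf _ ⟨hm, locallyOfFiniteType_of_comp e.left n.left⟩
  have := SpFP87.etale_locallyQuasiFinite pW.left hpe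
  have := SpFP87.etale_locallyQuasiFinite g₂.left hg₂
  have hψl : LocallyQuasiFinite ψ'.left := by
    have : LocallyQuasiFinite (ψ'.left ≫ g₁.left) := by
      rw [← Over.comp_left, eψ1, Over.comp_left]; infer_instance
    exact LocallyQuasiFinite.of_comp ψ'.left g₁.left
  exact (dim_le_of_lqf ψ'.left).trans (dim_le_of_lqf g₂.left)

end Stabilizer

end Groth.Agent.SpPts86
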