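import Groth.Agent.SpPts86.CovSigma
import Groth.Agent.SpPts86.QuotSp
import Mathlib.CategoryTheory.Extensive
import Mathlib.CategoryTheory.Sites.LeftExact

/-!
Coproducts of fppf sheaves: the coprojections are open and closed, disjoint, and jointly cover.
-/

universe u w

set_option autoImplicit false

open CategoryTheory CategoryTheory.Limits AlgebraicGeometry Opposite
open AlgSp Groth.Agent.SpFP87

namespace Groth.Agent.SpPts86

variable {S : Scheme.{u}}

/-- A covering sieve contains a flat, finitely presented piece through every point. -/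
theorem exists_pieces {T : Over S} {R : Sieve T} (hR : R ∈ J S T) :
    ∃ (V : ↥T.left → Over S) (c : ∀ t, V t ⟶ T), (∀ t, R (c t)) ∧
      (∀ t, Flat (c t).left ∧ LocallyOfFinitePresentation (c t).left) ∧
      ∀ t, t ∈ Set.range (c t).left := by
  have h' : Sieve.overEquiv T R ∈ Scheme.fppfTopology T.left :=
    (GrothendieckTopology.mem_over_iff _ _).1 hR
  have : Scheme.fppfPrecoverage.{u}.HasIsos := by
    unfold Scheme.fppfPrecoverage
    have : (@Flat ⊓ @LocallyOfFinitePresentation : MorphismProperty Scheme.{u}).ContainsIdentities :=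
      ⟨fun X => ⟨(inferInstance : Flat (𝟙 X)), (inferInstance : LocallyOfFinitePresentation (𝟙 X))⟩⟩
    have : (@Flat ⊓ @LocallyOfFinitePresentation : MorphismProperty Scheme.{u}).RespectsIso :=
      (MorphismProperty.IsStableUnderBaseChange.inf).respectsIso
    infer_instance
  rw [Precoverage.mem_toGrothendieck_iff_of_isStableUnderComposition] at h'
  obtain ⟨R', hR', hle⟩ := h'
  obtain ⟨(𝒰₀ : T.left.Cover (Scheme.precoverage (@Flat ⊓ @LocallyOfFinitePresentation))), rfl⟩ :=
    Precoverage.mem_iff_exists_zeroHypercover.1 hR'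
  choose i v hv using fun t : ↥T.left => 𝒰₀.exists_eq t
  exact ⟨fun t => Over.mk (𝒰₀.f (i t) ≫ T.hom), fun t => Over.homMk (𝒰₀.f (i t)) rfl,
    fun t => (Sieve.overEquiv_iff R (𝒰₀.f (i t))).1 (hle _ _ (Presieve.ofArrows.mk (i t))),
    fun t => 𝒰₀.map_prop (i t), fun t => ⟨v t, hv t⟩⟩

variable {ι : Type w} {F : ι → Sp S} {c : Cofan F}

theorem mono_cofan_inj (hc : IsColimit c) (i : ι) : Mono (c.inj i) := by
  classical
  let χ : c.pt ⟶ F i ⨿ ⊤_ (Sp S) := Cofan.IsColimit.desc hc fun j =>
    if h : j = i then eqToHom (by rw [h]) ≫ coprod.inl else terminal.from _ ≫ coprod.inr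
  have hχ : c.inj i ≫ χ = coprod.inl := by simp [χ]
  have : Mono (coprod.inl : F i ⟶ F i ⨿ ⊤_ (Sp S)) :=
    FinitaryExtensive.mono_inl_of_isColimit (c := BinaryCofan.mk _ coprod.inr) (coprodIsCoprod _ _)
  exact mono_of_mono_fac hχ

theorem isEmpty_of_hom_initial {Z : Over S} (f : (yon S).obj Z ⟶ ⊥_ (Sp S)) : IsEmpty ↥Z.left := by
  obtain ⟨φ, -⟩ := (yon S).map_surjective
    (f ≫ initial.to ((yon S).obj (Over.mk (Scheme.emptyTo S))))
  exact ⟨fun z => IsEmpty.false (α := ↥(∅ : Scheme.{u})) (φ.left z)⟩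

theorem isEmpty_of_inj_eq (hc : IsColimit c) {i j : ι} (hij : i ≠ j) {Z : Over S}
    (a : (yon S).obj Z ⟶ F i) (b : (yon S).obj Z ⟶ F j) (h : a ≫ c.inj i = b ≫ c.inj j) :
    IsEmpty ↥Z.left := by
  classical
  let χ : c.pt ⟶ F i ⨿ ⊤_ (Sp S) := Cofan.IsColimit.desc hc fun j =>
    if h : j = i then eqToHom (by rw [h]) ≫ coprod.inl else terminal.from _ ≫ coprod.inr
  have h₁ : c.inj i ≫ χ = coprod.inl := by simp [χ]
  have h₂ : c.inj j ≫ χ = terminal.from _ ≫ coprod.inr := by simp [χ, Ne.symm hij]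
  have e : a ≫ coprod.inl = (b ≫ terminal.from _) ≫ coprod.inr := by
    rw [Category.assoc, ← h₁, ← h₂, reassoc_of% h]
  exact isEmpty_of_hom_initial ((FinitaryExtensive.isPullback_initial_to_binaryCofan
    (coprodIsCoprod (F i) (⊤_ (Sp S)))).lift a (b ≫ terminal.from _) e)

/-- Every map into a coproduct lifts to the summands on a covering sieve. -/
theorem exists_inj_cover (hc : IsColimit c) {T : Over S} (g : (yon S).obj T ⟶ c.pt) :
    ∃ R ∈ J S T, ∀ (W : Over S) (f : W ⟶ T), R f →
      ∃ (i : ι) (l : (yon S).obj W ⟶ F i), l ≫ c.inj i = (yon S).map f ≫ g := by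
  let G : Subfunctor c.pt.obj :=
    { obj := fun U => {x | ∃ (i : ι) (y : (F i).obj.obj U), (c.inj i).hom.app U y = x}
      map := by
        rintro U V f _ ⟨i, y, rfl⟩
        exact ⟨i, (F i).obj.map f y, NatTrans.naturality_apply (c.inj i).hom f y⟩ }
  let I : Sp S := ⟨(G.sheafify (J S)).toFunctor, by
    rw [isSheaf_iff_isSheaf_of_type]
    apply Subfunctor.sheafify_isSheaf
    rw [← isSheaf_iff_isSheaf_of_type]
    exact c.pt.2⟩
  let inc : I ⟶ c.pt := ⟨(G.sheafify (J S)).ι⟩
  let lift : ∀ i, F i ⟶ I := fun i => ⟨Subfunctor.lift (c.inj i).hom (by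
    rintro U _ ⟨y, rfl⟩
    exact G.le_sheafify (J S) U ⟨i, y, rfl⟩)⟩
  have key : Cofan.IsColimit.desc hc lift ≫ inc = 𝟙 c.pt := Cofan.IsColimit.hom_ext hc _ _ fun i => by
    rw [← Category.assoc, Cofan.IsColimit.fac, Category.comp_id]
    rfl
  have hx : uE g ∈ (G.sheafify (J S)).obj (op T) := by
    have h1 : uE ((g ≫ Cofan.IsColimit.desc hc lift) ≫ inc) = uE g := by
      rw [Category.assoc, key, Category.comp_id]
    rw [← h1, GrothendieckTopology.uliftYonedaEquiv_comp]
    exact (uE (g ≫ Cofan.IsColimit.desc hc lift)).2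
  refine ⟨G.sieveOfSection (uE g), hx, fun W f hf => ?_⟩
  obtain ⟨i, y, hy⟩ := hf
  refine ⟨i, uE.symm y, uE.injective ?_⟩
  rw [GrothendieckTopology.uliftYonedaEquiv_comp, Equiv.apply_symm_apply,
    ← GrothendieckTopology.uliftYonedaEquiv_naturality]
  exact hy

/-- The members of a coproduct cut a scheme over it into open and closed pieces. -/
theorem exists_decomp (hc : IsColimit c) {T : Over S} (g : (yon S).obj T ⟶ c.pt) :
    ∃ (O : ι → T.left.Opens) (a : ∀ i, (yon S).obj (openOver T (O i)) ⟶ F i),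
      (∀ t : ↥T.left, ∃ i, t ∈ O i) ∧ (∀ i j, i ≠ j → Disjoint (O i : Set ↥T.left) (O j)) ∧
      ∀ i, IsPullback (a i) ((yon S).map (openIncl T (O i))) (c.inj i) g := by
  obtain ⟨R, hR, hl⟩ := exists_inj_cover hc g
  obtain ⟨V, f, hf, hfp, hcov⟩ := exists_pieces hR
  choose idx l hl using fun t => hl _ _ (hf t)
  have hopen : ∀ t, IsOpen (Set.range (f t).left) := fun t => by
    have := (hfp t).1
    have := (hfp t).2
    exact (f t).left.isOpenMap.isOpen_range
  have hdis : ∀ {Z : Over S} {i : ι} (x : (yon S).obj Z ⟶ F i) (φ : Z ⟶ T),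
      x ≫ c.inj i = (yon S).map φ ≫ g → ∀ (z : ↥Z.left) (t : ↥T.left),
        φ.left z ∈ Set.range (f t).left → idx t = i := by
    intro Z i x φ e z t ⟨v, hv⟩
    by_contra hne
    obtain ⟨w, -, -⟩ := Scheme.Pullback.exists_preimage_pullback v z hv
    let W : Over S := Over.mk (pullback.fst (f t).left φ.left ≫ (V t).hom)
    let p : W ⟶ V t := Over.homMk (pullback.fst (f t).left φ.left) rfl
    let q : W ⟶ Z := Over.homMk (pullback.snd (f t).left φ.left) (by
      change pullback.snd (f t).left φ.left ≫ Z.hom = pullback.fst (f t).left φ.left ≫ (V t).hom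
      rw [← Over.w φ, ← Over.w (f t), pullback.condition_assoc])
    have hpq : p ≫ f t = q ≫ φ := Over.OverMorphism.ext pullback.condition
    exact (isEmpty_of_inj_eq hc hne ((yon S).map p ≫ l t) ((yon S).map q ≫ x) (by
      rw [Category.assoc, Category.assoc, hl, e, ← Functor.map_comp_assoc, ← Functor.map_comp_assoc,
        hpq])).false w
  let O : ι → T.left.Opens := fun i =>
    ⟨⋃ t, ⋃ (_ : idx t = i), Set.range (f t).left, isOpen_iUnion fun t => isOpen_iUnion fun _ => hopen t⟩
  have hmem : ∀ {x : ↥T.left} {i : ι}, x ∈ O i ↔ ∃ t, idx t = i ∧ x ∈ Set.range (f t).left :=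
    fun {x i} => by
      change x ∈ ⋃ t, ⋃ (_ : idx t = i), Set.range (f t).left ↔ _
      simp only [Set.mem_iUnion, exists_prop]
  have hpiece : ∀ i, ∃ a : (yon S).obj (openOver T (O i)) ⟶ F i,
      a ≫ c.inj i = (yon S).map (openIncl T (O i)) ≫ g := fun i => by
    let A := {t : ↥T.left // idx t = i}
    let l' : ∀ t : A, (yon S).obj (V t) ⟶ F i := fun t => l t ≫ eqToHom (by rw [t.2])
    have hl' : ∀ t : A, l' t ≫ c.inj i = (yon S).map (f t) ≫ g := by
      rintro ⟨t, rfl⟩
      simp only [l', eqToHom_refl, Category.comp_id]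
      exact hl t
    obtain ⟨L, hL⟩ := sigma_glue (fun t : A => V t) l'
    let d : sigmaOver (fun t : A => V t) ⟶ T := sigmaOut fun t : A => f t
    have hLd : L ≫ c.inj i = (yon S).map d ≫ g := by
      refine open_cover_hom_ext (fun t : A => V t) (sigmaIn fun t : A => V t)
        (fun t => inferInstanceAs (IsOpenImmersion (Sigma.ι (fun t : A => (V t).left) t))) (fun x => ?_)
        fun t => ?_
      · obtain ⟨⟨j, v⟩, hv⟩ := (sigmaMk (fun t : A => (V t).left)).surjective x
        exact ⟨j, v, by rw [← hv, sigmaMk_mk]; rfl⟩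
      · rw [← Category.assoc, hL, hl', ← Functor.map_comp_assoc, sigmaIn_out]
    have hin : ∀ t : A, Set.range (f t).left ⊆ Set.range (O i).ι := fun t x hx => by
      rw [(O i).range_ι]
      exact hmem.2 ⟨t, t.2, hx⟩
    let e : ∀ t : A, V t ⟶ openOver T (O i) := fun t =>
      Over.homMk (IsOpenImmersion.lift (O i).ι (f t).left (hin t)) (by
        change IsOpenImmersion.lift (O i).ι (f t).left (hin t) ≫ (O i).ι ≫ T.hom = _
        rw [IsOpenImmersion.lift_fac_assoc, Over.w])
    have he : ∀ t : A, e t ≫ openIncl T (O i) = f t := fun t =>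
      Over.OverMorphism.ext (IsOpenImmersion.lift_fac _ _ _)
    have hsq : ∀ t : A, IsPullback (𝟙 (V t).left) (e t).left (f t).left (O i).ι := fun t =>
      IsPullback.of_isLimit (PullbackCone.IsLimit.mk
        (show 𝟙 _ ≫ (f t).left = (e t).left ≫ (O i).ι by
          rw [Category.id_comp]; exact (IsOpenImmersion.lift_fac _ _ _).symm)
        (fun c => c.fst) (fun c => by simp) (fun c => by
          rw [← cancel_mono (O i).ι, Category.assoc]
          exact (congrArg (c.fst ≫ ·) (IsOpenImmersion.lift_fac _ _ _)).trans c.condition)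
        (fun c m hm _ => by simpa using hm))
    have hde : fppfSurj (sigmaOut e).left := by
      refine fppfSurj_sigmaOut e (fun t => ⟨MorphismProperty.of_isPullback (P := @Flat) (hsq t) (hfp t).1,
        MorphismProperty.of_isPullback (P := @LocallyOfFinitePresentation) (hsq t) (hfp t).2⟩) fun x => ?_
      obtain ⟨t, ht, v, hv⟩ := hmem.1 x.2
      refine ⟨⟨t, ht⟩, v, (O i).ι.isOpenEmbedding.injective ?_⟩
      rw [← Scheme.Hom.comp_apply]
      change ((e ⟨t, ht⟩ ≫ openIncl T (O i)).left v) = _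
      rw [he]
      exact hv
    have hd : d = sigmaOut e ≫ openIncl T (O i) := by
      apply Over.OverMorphism.ext
      apply Sigma.hom_ext
      intro t
      change (sigmaIn (fun t : A => V t) t ≫ sigmaOut fun t : A => f t).left =
        (sigmaIn (fun t : A => V t) t ≫ sigmaOut e ≫ openIncl T (O i)).left
      rw [sigmaIn_out, ← Category.assoc, sigmaIn_out, he]
    have := mono_cofan_inj hc i
    obtain ⟨a, ha, -⟩ := cover_existsUnique_desc (sigmaOut e) hde L fun Z p₁ p₂ hp => by
      rw [← cancel_mono (c.inj i), Category.assoc, Category.assoc, hLd, hd, Functor.map_comp_assoc,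
        ← Functor.map_comp_assoc, hp, Functor.map_comp_assoc]
    refine ⟨a, cover_hom_ext (sigmaOut e) hde ?_⟩
    rw [← Category.assoc, ha, hLd, hd, Functor.map_comp_assoc]
  choose a ha using hpiece
  refine ⟨O, a, fun t => ⟨idx t, hmem.2 ⟨t, rfl, hcov t⟩⟩, fun i j hij => ?_, fun i => ?_⟩
  · rw [Set.disjoint_left]
    intro x hxi hxj
    obtain ⟨t, rfl, v, hv⟩ := hmem.1 hxi
    obtain ⟨t', rfl, hx⟩ := hmem.1 hxj
    exact hij (hdis (l t) (f t) (hl t) v t' (by rw [hv]; exact hx)).symm
  · have := mono_cofan_inj hc i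
    have hO : IsOpenImmersion (openIncl T (O i)).left := inferInstanceAs (IsOpenImmersion (O i).ι)
    have hj : RepWith @IsOpenImmersion ((yon S).map (openIncl T (O i))) :=
      (repWith_yon_map_iff _ _).2 hO
    have := mono_of_repWith_le isOpenImmersion_le_monomorphisms hj
    have key : ∀ {Z : Sp S} (x : Z ⟶ F i) (y : Z ⟶ (yon S).obj T), x ≫ c.inj i = y ≫ g →
        ∃ m : Z ⟶ (yon S).obj (openOver T (O i)), m ≫ (yon S).map (openIncl T (O i)) = y := by
      intro Z x y e
      refine exists_factor_of_forall_yon y fun A z => ?_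
      obtain ⟨φ, hφ⟩ := (yon S).map_surjective (z ≫ y)
      have hr : Set.range φ.left ⊆ Set.range (O i).ι := by
        rintro _ ⟨p, rfl⟩
        rw [(O i).range_ι]
        exact hmem.2 ⟨φ.left p, hdis (z ≫ x) φ (by rw [Category.assoc, e, hφ, Category.assoc]) p
          (φ.left p) (hcov _), hcov _⟩
      refine ⟨(yon S).map (Over.homMk (IsOpenImmersion.lift (O i).ι φ.left hr) (by
        change IsOpenImmersion.lift (O i).ι φ.left hr ≫ (O i).ι ≫ T.hom = _
        rw [IsOpenImmersion.lift_fac_assoc, Over.w])), ?_⟩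
      rw [← Functor.map_comp, ← hφ]
      exact congrArg (yon S).map (Over.OverMorphism.ext (IsOpenImmersion.lift_fac _ _ _))
    choose m hm using fun (s : PullbackCone (c.inj i) g) => key s.fst s.snd s.condition
    refine IsPullback.of_isLimit (PullbackCone.IsLimit.mk (ha i) m (fun s => ?_) hm
      (fun s n _ hn => by rw [← cancel_mono ((yon S).map (openIncl T (O i))), hm, hn]))
    rw [← cancel_mono (c.inj i), Category.assoc, ha, reassoc_of% (hm s), s.condition]

theorem repWith_cofan_inj (hc : IsColimit c) (i : ι) :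
    RepWith (@IsOpenImmersion ⊓ @IsClosedImmersion) (c.inj i) := by
  refine MorphismProperty.relative.of_exists fun T g => ?_
  obtain ⟨O, a, hcov, hdis, hsq⟩ := exists_decomp hc g
  refine ⟨_, a i, openIncl T (O i), hsq i, ⟨inferInstanceAs (IsOpenImmersion (O i).ι), ?_⟩⟩
  change IsClosedImmersion (O i).ι
  refine IsClosedImmersion.of_isPreimmersion _ ?_
  rw [(O i).range_ι, ← isOpen_compl_iff, isOpen_iff_forall_mem_open]
  intro t ht
  obtain ⟨j, hj⟩ := hcov t
  exact ⟨O j, fun x hx hxi => Set.disjoint_left.1 (hdis j i fun e => ht (e ▸ hj)) hx hxi, (O j).isOpen, hj⟩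

theorem repWith_openImmersion_cofan_inj (hc : IsColimit c) (i : ι) :
    RepWith @IsOpenImmersion (c.inj i) :=
  repWith_mono inf_le_left (repWith_cofan_inj hc i)

theorem exists_mem_range_cofan_inj (hc : IsColimit c) (x : Points c.pt) :
    ∃ i, x ∈ Set.range (Points.map (c.inj i)) := by
  obtain ⟨T, g, t, rfl, -⟩ := exists_ofPt_eq x
  obtain ⟨O, a, hcov, -, hsq⟩ := exists_decomp hc g
  obtain ⟨i, hi⟩ := hcov t
  exact ⟨i, _, map_ofPt_fst (hsq i) (⟨t, hi⟩ : ↥(openOver T (O i)).left)⟩

end Groth.Agent.SpPts86
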