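import Groth.Agent.SpPts86.QuotSpace
import Groth.Agent.SpPts86.QuotSp
import Groth.Agent.SpPts86.Coprod

/-!
Restriction of an equivalence relation along a flat map and the induced map of quotients.
-/

universe u

set_option autoImplicit false

open CategoryTheory CategoryTheory.Limits AlgebraicGeometry
open AlgSp Groth.Agent.SpFP87

namespace Groth.Agent.SpPts86

variable {S : Scheme.{u}} {R U R' U' : Over S} {s t : R ⟶ U} {g : U' ⟶ U} {s' t' : R' ⟶ U'} {r : R' ⟶ R}

theorem ov_lift_fst {A B C : Over S} (a : A ⟶ B) (b : A ⟶ C) : prod.lift a b ≫ prod.fst = a :=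
  prod.lift_fst a b

theorem ov_lift_snd {A B C : Over S} (a : A ⟶ B) (b : A ⟶ C) : prod.lift a b ≫ prod.snd = b :=
  prod.lift_snd a b

theorem ov_plift_fst {A B C D : Over S} {f : B ⟶ D} {g : C ⟶ D} (a : A ⟶ B) (b : A ⟶ C)
    (w : a ≫ f = b ≫ g) : pullback.lift a b w ≫ pullback.fst f g = a := pullback.lift_fst a b w

theorem ov_plift_snd {A B C D : Over S} {f : B ⟶ D} {g : C ⟶ D} (a : A ⟶ B) (b : A ⟶ C)
    (w : a ≫ f = b ≫ g) : pullback.lift a b w ≫ pullback.snd f g = b := pullback.lift_snd a b w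

theorem ov_plift_fst' {A B C D E : Over S} {f : B ⟶ D} {g : C ⟶ D} (a : A ⟶ B) (b : A ⟶ C)
    (w : a ≫ f = b ≫ g) (h : B ⟶ E) : pullback.lift a b w ≫ pullback.fst f g ≫ h = a ≫ h :=
  pullback.lift_fst_assoc a b w h

theorem ov_plift_snd' {A B C D E : Over S} {f : B ⟶ D} {g : C ⟶ D} (a : A ⟶ B) (b : A ⟶ C)
    (w : a ≫ f = b ≫ g) (h : C ⟶ E) : pullback.lift a b w ≫ pullback.snd f g ≫ h = b ≫ h :=
  pullback.lift_snd_assoc a b w h

theorem restrict_w (hsq : IsPullback (prod.lift t' s') r (prod.map g g) (prod.lift t s)) :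
    t' ≫ g = r ≫ t ∧ s' ≫ g = r ≫ s := by
  refine ⟨?_, ?_⟩
  · rw [← ov_lift_fst t' s', Category.assoc, ← prod.map_fst g g, ← Category.assoc, hsq.w,
      Category.assoc, ov_lift_fst]
  · rw [← ov_lift_snd t' s', Category.assoc, ← prod.map_snd g g, ← Category.assoc, hsq.w,
      Category.assoc, ov_lift_snd]

theorem restrict_exists (hsq : IsPullback (prod.lift t' s') r (prod.map g g) (prod.lift t s))
    {T : Over S} (a b : T ⟶ U') (ρ : T ⟶ R) (h1 : ρ ≫ t = a ≫ g) (h2 : ρ ≫ s = b ≫ g) :
    ∃ ρ' : T ⟶ R', ρ' ≫ t' = a ∧ ρ' ≫ s' = b ∧ ρ' ≫ r = ρ := by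
  have w : prod.lift a b ≫ prod.map g g = ρ ≫ prod.lift t s := by
    apply Limits.prod.hom_ext
    · rw [Category.assoc, prod.map_fst, ← Category.assoc, ov_lift_fst, Category.assoc, ov_lift_fst, h1]
    · rw [Category.assoc, prod.map_snd, ← Category.assoc, ov_lift_snd, Category.assoc, ov_lift_snd, h2]
  refine ⟨hsq.lift (prod.lift a b) ρ w, ?_, ?_, hsq.lift_snd _ _ _⟩
  · exact (congrArg (_ ≫ ·) (ov_lift_fst t' s')).symm.trans ((Category.assoc _ _ _).symm.trans
      ((congrArg (· ≫ prod.fst) (hsq.lift_fst _ _ _)).trans (ov_lift_fst a b)))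
  · exact (congrArg (_ ≫ ·) (ov_lift_snd t' s')).symm.trans ((Category.assoc _ _ _).symm.trans
      ((congrArg (· ≫ prod.snd) (hsq.lift_fst _ _ _)).trans (ov_lift_snd a b)))

theorem restrict_hom_ext (hsq : IsPullback (prod.lift t' s') r (prod.map g g) (prod.lift t s))
    {T : Over S} {x y : T ⟶ R'} (h1 : x ≫ t' = y ≫ t') (h2 : x ≫ s' = y ≫ s')
    (h3 : x ≫ r = y ≫ r) : x = y :=
  hsq.hom_ext (by apply Limits.prod.hom_ext <;> simp [h1, h2]) h3

theorem isEqvRel_restrict (hsq : IsPullback (prod.lift t' s') r (prod.map g g) (prod.lift t s))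
    (h : IsEqvRel s t) : IsEqvRel s' t' where
  injective T x y h1 h2 := restrict_hom_ext hsq h1 h2 (h.injective T _ _
    (by rw [Category.assoc, Category.assoc, ← (restrict_w hsq).1, reassoc_of% h1])
    (by rw [Category.assoc, Category.assoc, ← (restrict_w hsq).2, reassoc_of% h2]))
  equivalence T := by
    have key : ∀ a b : T ⟶ U', (∃ ρ : T ⟶ R', ρ ≫ t' = a ∧ ρ ≫ s' = b) ↔
        ∃ ρ : T ⟶ R, ρ ≫ t = a ≫ g ∧ ρ ≫ s = b ≫ g := fun a b => by
      constructor
      · rintro ⟨ρ, rfl, rfl⟩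
        exact ⟨ρ ≫ r, by rw [Category.assoc, Category.assoc, (restrict_w hsq).1],
          by rw [Category.assoc, Category.assoc, (restrict_w hsq).2]⟩
      · rintro ⟨ρ, h1, h2⟩
        obtain ⟨ρ', e1, e2, -⟩ := restrict_exists hsq a b ρ h1 h2
        exact ⟨ρ', e1, e2⟩
    simp only [key]
    exact ⟨fun a => (h.equivalence T).refl (a ≫ g), fun h' => (h.equivalence T).symm h',
      fun h' h'' => (h.equivalence T).trans h' h''⟩

theorem etale_restrict (hsq : IsPullback (prod.lift t' s') r (prod.map g g) (prod.lift t s))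
    [Etale g.left] [Etale s.left] [Etale t.left] : Etale s'.left ∧ Etale t'.left := by
  have main : ∀ (a b : R ⟶ U) (a' b' : R' ⟶ U'), Etale a.left → Etale b.left →
      a' ≫ g = r ≫ a → b' ≫ g = r ≫ b →
      (∀ {T : Over S} (x y : T ⟶ U') (ρ : T ⟶ R), ρ ≫ a = x ≫ g → ρ ≫ b = y ≫ g →
        ∃ ρ' : T ⟶ R', ρ' ≫ a' = x ∧ ρ' ≫ b' = y ∧ ρ' ≫ r = ρ) →
      (∀ {T : Over S} {x y : T ⟶ R'}, x ≫ a' = y ≫ a' → x ≫ b' = y ≫ b' → x ≫ r = y ≫ r → x = y) →
      Etale a'.left := by
    intro a b a' b' ha hb wa wb hex hext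
    let k : R' ⟶ pullback a g := pullback.lift r a' wa.symm
    have hk : IsPullback b' k g (pullback.fst a g ≫ b) := by
      refine IsPullback.mk' (by simp [k, wb, ov_plift_fst']) (fun Z φ φ' e1 e2 => hext ?_ e1 ?_) fun Z x y w => ?_
      · simpa [k, ov_plift_snd] using congrArg (· ≫ pullback.snd a g) e2
      · simpa [k, ov_plift_fst] using congrArg (· ≫ pullback.fst a g) e2
      · obtain ⟨ρ', e1, e2, e3⟩ := hex (y ≫ pullback.snd a g) x (y ≫ pullback.fst a g)
          (by rw [Category.assoc, Category.assoc, pullback.condition])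
          (by rw [Category.assoc, w])
        exact ⟨ρ', e2, pullback.hom_ext (by simp [k, e3, ov_plift_fst]) (by simp [k, e1, ov_plift_snd])⟩
    have h1 : Etale k.left :=
      MorphismProperty.of_isPullback (P := @Etale) (hk.map (Over.forget S)) ‹Etale g.left›
    have h2 : Etale (pullback.snd a g).left :=
      MorphismProperty.of_isPullback (P := @Etale)
        ((IsPullback.of_hasPullback a g).map (Over.forget S)) ha
    have e : a' = k ≫ pullback.snd a g := (pullback.lift_snd _ _ _).symm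
    rw [e, Over.comp_left]
    infer_instance
  exact ⟨main s t s' t' ‹_› ‹_› (restrict_w hsq).2 (restrict_w hsq).1
    (fun x y ρ h1 h2 => by
      obtain ⟨ρ', e1, e2, e3⟩ := restrict_exists hsq y x ρ h2 h1
      exact ⟨ρ', e2, e1, e3⟩) (fun h1 h2 h3 => restrict_hom_ext hsq h2 h1 h3),
    main t s t' s' ‹_› ‹_› (restrict_w hsq).1 (restrict_w hsq).2
      (fun x y ρ h1 h2 => restrict_exists hsq x y ρ h1 h2) (fun h1 h2 h3 => restrict_hom_ext hsq h1 h2 h3)⟩

theorem repMap_quotπ_eq (s t : R ⟶ U) (g : U' ⟶ U) :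
    (QuotSh.repIsoUliftYoneda Scheme.fppfPrecoverage U').inv ≫
        QuotSh.repMap Scheme.fppfPrecoverage g ≫ QuotSh.quotπ Scheme.fppfPrecoverage s t =
      (yon S).map g ≫ quotMap s t := by
  have e : (yon S).map g ≫ (QuotSh.repIsoUliftYoneda Scheme.fppfPrecoverage U).inv =
      (QuotSh.repIsoUliftYoneda Scheme.fppfPrecoverage U').inv ≫
        QuotSh.repMap Scheme.fppfPrecoverage g := by
    rw [Iso.eq_inv_comp, ← Category.assoc, Iso.comp_inv_eq]
    exact (Grpd80.repMap_comp_iso g).symm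
  rw [quotMap, ← Category.assoc ((yon S).map g), e, Category.assoc]

theorem repWith_openImmersion_quot_restrict
    (hsq : IsPullback (prod.lift t' s') r (prod.map g g) (prod.lift t s)) (hR : IsEqvRel s t)
    [Flat t.left] [LocallyOfFinitePresentation t.left] [Flat g.left] [LocallyOfFinitePresentation g.left]
    (φ : QuotSh.quot Scheme.fppfPrecoverage s' t' ⟶ QuotSh.quot Scheme.fppfPrecoverage s t)
    (hφ : quotMap s' t' ≫ φ = (yon S).map g ≫ quotMap s t) : RepWith @IsOpenImmersion φ := by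
  have hK := quotMap_kernelPair hR
  have hmono : Mono φ := mono_of_forall_yon fun T x y e => by
    obtain ⟨W₁, c₁, u, hc₁, hu⟩ := locLift_quotMap s' t' T x
    obtain ⟨W₂, c₂, v, hc₂, hv⟩ := locLift_quotMap s' t' T y
    obtain ⟨V, d, p, q, hd, hp, hq⟩ := exists_common_refinement hc₁ hc₂
    obtain ⟨u₀, hu₀⟩ := (yon S).map_surjective ((yon S).map p ≫ u)
    obtain ⟨v₀, hv₀⟩ := (yon S).map_surjective ((yon S).map q ≫ v)
    have hu' : (yon S).map u₀ ≫ quotMap s' t' = (yon S).map d ≫ x := by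
      rw [hu₀, Category.assoc, hu, ← Functor.map_comp_assoc, hp]
    have hv' : (yon S).map v₀ ≫ quotMap s' t' = (yon S).map d ≫ y := by
      rw [hv₀, Category.assoc, hv, ← Functor.map_comp_assoc, hq]
    have heq : (yon S).map (u₀ ≫ g) ≫ quotMap s t = (yon S).map (v₀ ≫ g) ≫ quotMap s t := by
      rw [Functor.map_comp, Functor.map_comp, Category.assoc, Category.assoc, ← hφ, ← Category.assoc, hu',
        ← Category.assoc ((yon S).map v₀), hv', Category.assoc, Category.assoc, e]
    obtain ⟨ρ, hρ⟩ := (yon S).map_surjective (hK.lift _ _ heq)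
    obtain ⟨ρ', e1, e2, -⟩ := restrict_exists hsq u₀ v₀ ρ
      ((yon S).map_injective (by rw [Functor.map_comp, hρ, hK.lift_fst]))
      ((yon S).map_injective (by rw [Functor.map_comp, hρ, hK.lift_snd]))
    refine cover_hom_ext d hd ?_
    rw [← hu', ← hv', ← e1, ← e2, Functor.map_comp, Functor.map_comp, Category.assoc,
      Category.assoc, quotMap_condition]
  refine MorphismProperty.relative.of_exists fun T γ => ?_
  obtain ⟨W, c, l, hc, hl⟩ := locLift_quotMap s t T γ
  obtain ⟨l₀, rfl⟩ := (yon S).map_surjective l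
  obtain ⟨_, _, _⟩ := (fppfSurj_iff _).1 hc
  let m : pullback s g ⟶ U := pullback.fst s g ≫ t
  let h : pullback l₀ m ⟶ T := pullback.fst l₀ m ≫ c
  have hh : Flat h.left ∧ LocallyOfFinitePresentation h.left := by
    have hP : ∀ {A B C : Over S} (a : A ⟶ C) (b : B ⟶ C), Flat b.left → LocallyOfFinitePresentation b.left →
        Flat (pullback.fst a b).left ∧ LocallyOfFinitePresentation (pullback.fst a b).left :=
      fun a b h1 h2 => ⟨MorphismProperty.of_isPullback (P := @Flat)
          ((IsPullback.of_hasPullback a b).map (Over.forget S)).flip h1,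
        MorphismProperty.of_isPullback (P := @LocallyOfFinitePresentation)
          ((IsPullback.of_hasPullback a b).map (Over.forget S)).flip h2⟩
    obtain ⟨h1, h2⟩ := hP s g ‹_› ‹_›
    have hm : Flat m.left ∧ LocallyOfFinitePresentation m.left := by
      simp only [m, Over.comp_left]; exact ⟨inferInstance, inferInstance⟩
    obtain ⟨h3, h4⟩ := hP l₀ m hm.1 hm.2
    simp only [h, Over.comp_left]; exact ⟨inferInstance, inferInstance⟩
  obtain ⟨_, _⟩ := hh
  let O : T.left.Opens := ⟨Set.range h.left, h.left.isOpenMap.isOpen_range⟩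
  have hOle : Set.range h.left ⊆ Set.range O.ι := by rw [O.range_ι]; exact subset_rfl
  let h' : pullback l₀ m ⟶ openOver T O := Over.homMk (IsOpenImmersion.lift O.ι h.left hOle) (by
    change IsOpenImmersion.lift O.ι h.left hOle ≫ O.ι ≫ T.hom = _
    rw [IsOpenImmersion.lift_fac_assoc, Over.w])
  have hh' : h' ≫ openIncl T O = h := Over.OverMorphism.ext (IsOpenImmersion.lift_fac _ _ _)
  have hcov : fppfSurj h'.left := by
    have hsqO : IsPullback (𝟙 (pullback l₀ m).left) h'.left h.left O.ι :=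
      IsPullback.of_isLimit (PullbackCone.IsLimit.mk
        (show 𝟙 _ ≫ h.left = h'.left ≫ O.ι by
          rw [Category.id_comp]; exact (IsOpenImmersion.lift_fac _ _ _).symm)
        (fun c => c.fst) (fun c => by simp) (fun c => by
          rw [← cancel_mono O.ι, Category.assoc]
          exact (congrArg (c.fst ≫ ·) (IsOpenImmersion.lift_fac _ _ _)).trans c.condition)
        (fun c k hk _ => by simpa using hk))
    refine (fppfSurj_iff _).2 ⟨⟨fun x => ?_⟩, MorphismProperty.of_isPullback (P := @Flat) hsqO ‹_›,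
      MorphismProperty.of_isPullback (P := @LocallyOfFinitePresentation) hsqO ‹_›⟩
    obtain ⟨v, hv⟩ := x.2
    refine ⟨v, O.ι.isOpenEmbedding.injective ?_⟩
    rw [← Scheme.Hom.comp_apply]
    exact (congrArg (fun q : pullback l₀ m ⟶ T => q.left v) hh').trans hv
  let lift' : (yon S).obj (pullback l₀ m) ⟶ QuotSh.quot Scheme.fppfPrecoverage s' t' :=
    (yon S).map (pullback.snd l₀ m ≫ pullback.snd s g) ≫ quotMap s' t'
  have hlift : lift' ≫ φ = (yon S).map h' ≫ (yon S).map (openIncl T O) ≫ γ := by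
    rw [← Functor.map_comp_assoc, hh']
    simp only [lift', h, Category.assoc, hφ, Functor.map_comp]
    rw [← hl, ← Functor.map_comp_assoc (yon S) (pullback.fst l₀ m), pullback.condition,
      ← Functor.map_comp_assoc (yon S) (pullback.snd s g), ← pullback.condition]
    simp only [m, Functor.map_comp, Category.assoc, quotMap_condition]
  obtain ⟨a, ha, -⟩ := cover_existsUnique_desc h' hcov lift' fun Z p₁ p₂ hp => by
    rw [← cancel_mono φ, Category.assoc ((yon S).map p₁), Category.assoc ((yon S).map p₂), hlift,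
      ← Category.assoc ((yon S).map p₁), ← Category.assoc ((yon S).map p₂), ← Functor.map_comp,
      ← Functor.map_comp, hp]
  have wa : a ≫ φ = (yon S).map (openIncl T O) ≫ γ := cover_hom_ext h' hcov (by
    rw [← Category.assoc, ha, hlift])
  have hO : IsOpenImmersion (openIncl T O).left := inferInstanceAs (IsOpenImmersion O.ι)
  have := mono_of_repWith_le isOpenImmersion_le_monomorphisms
    ((repWith_yon_map_iff @IsOpenImmersion (openIncl T O)).2 hO)
  have key : ∀ {Z : Sp S} (x : Z ⟶ QuotSh.quot Scheme.fppfPrecoverage s' t') (y : Z ⟶ (yon S).obj T),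
      x ≫ φ = y ≫ γ → ∃ n : Z ⟶ (yon S).obj (openOver T O), n ≫ (yon S).map (openIncl T O) = y := by
    intro Z x y e
    refine exists_factor_of_forall_yon y fun A z => ?_
    obtain ⟨α, hα⟩ := (yon S).map_surjective (z ≫ y)
    obtain ⟨A₁, c₁, u, hc₁, hu⟩ := locLift_quotMap s' t' A (z ≫ x)
    obtain ⟨u₀, rfl⟩ := (yon S).map_surjective u
    have hr : Set.range α.left ⊆ Set.range O.ι := by
      rw [O.range_ι]
      rintro _ ⟨p, rfl⟩
      obtain ⟨p₁, hp₁⟩ := ((fppfSurj_iff _).1 hc₁).1.surj p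
      have : Surjective c.left := ((fppfSurj_iff _).1 hc).1
      let sqA := (IsPullback.of_hasPullback (c₁ ≫ α) c).map (Over.forget S)
      have : Surjective (pullback.fst (c₁ ≫ α) c).left :=
        MorphismProperty.of_isPullback (P := @Surjective) sqA.flip ‹Surjective c.left›
      obtain ⟨p₂, hp₂⟩ := (pullback.fst (c₁ ≫ α) c).left.surjective p₁
      have heq : (yon S).map (pullback.snd (c₁ ≫ α) c ≫ l₀) ≫ quotMap s t =
          (yon S).map (pullback.fst (c₁ ≫ α) c ≫ u₀ ≫ g) ≫ quotMap s t := by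
        simp only [Functor.map_comp, Category.assoc, hl, ← hφ, reassoc_of% hu, e]
        rw [← Functor.map_comp_assoc, ← pullback.condition, Functor.map_comp, Category.assoc,
          Functor.map_comp, Category.assoc, hα, Category.assoc]
      obtain ⟨ρ, hρ⟩ := (yon S).map_surjective (hK.lift _ _ heq)
      have ρt : ρ ≫ t = pullback.snd (c₁ ≫ α) c ≫ l₀ :=
        (yon S).map_injective (by rw [Functor.map_comp, hρ, hK.lift_fst])
      have ρs : ρ ≫ s = pullback.fst (c₁ ≫ α) c ≫ u₀ ≫ g :=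
        (yon S).map_injective (by rw [Functor.map_comp, hρ, hK.lift_snd])
      let n : pullback (c₁ ≫ α) c ⟶ pullback l₀ m :=
        pullback.lift (pullback.snd (c₁ ≫ α) c) (pullback.lift ρ (pullback.fst (c₁ ≫ α) c ≫ u₀)
          (by rw [ρs, Category.assoc])) (by simp [m, ρt, ov_plift_fst'])
      have hn : n ≫ h = pullback.fst (c₁ ≫ α) c ≫ c₁ ≫ α := by
        simp [n, h, pullback.condition, ov_plift_fst']
      refine ⟨n.left p₂, ?_⟩
      rw [← Scheme.Hom.comp_apply, ← Over.comp_left, hn, Over.comp_left, Over.comp_left,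
        Scheme.Hom.comp_apply, Scheme.Hom.comp_apply, hp₂, hp₁]
    refine ⟨(yon S).map (Over.homMk (IsOpenImmersion.lift O.ι α.left hr) (by
      change IsOpenImmersion.lift O.ι α.left hr ≫ O.ι ≫ T.hom = _
      rw [IsOpenImmersion.lift_fac_assoc, Over.w])), ?_⟩
    rw [← Functor.map_comp, ← hα]
    exact congrArg (yon S).map (Over.OverMorphism.ext (IsOpenImmersion.lift_fac _ _ _))
  choose n hn using fun (σ : PullbackCone φ γ) => key σ.fst σ.snd σ.condition
  refine ⟨openOver T O, a, openIncl T O,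
    IsPullback.of_isLimit (PullbackCone.IsLimit.mk wa n (fun σ => ?_) hn
      (fun σ k _ hk => by rw [← cancel_mono ((yon S).map (openIncl T O)), hn, hk])), hO⟩
  rw [← cancel_mono φ, Category.assoc, wa, reassoc_of% (hn σ), σ.condition]

end Groth.Agent.SpPts86
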