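import Groth.Agent.SpPts86.QuotRestrict
import Groth.Agent.Grpd80.Basic

/-!
The quotient of the restriction of a groupoid scheme is open in the quotient of the groupoid.
-/

universe u

set_option autoImplicit false

open CategoryTheory CategoryTheory.Limits AlgebraicGeometry
open AlgSp Groth.Agent.SpFP87

namespace Groth.Agent.SpPts86

variable {S : Scheme.{u}} (G : Grpd.GroupoidScheme S)

abbrev gU : Over S := Over.mk G.pU
abbrev gR : Over S := Over.mk G.pR
abbrev gs : gR G ⟶ gU G := Over.homMk G.s G.s_over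
abbrev gt : gR G ⟶ gU G := Over.homMk G.t G.t_over

theorem isPreEqvRelSp_groupoid : IsPreEqvRelSp ((yon S).map (gs G)) ((yon S).map (gt G)) := fun T => by
  have key : ∀ a b : (yon S).obj T ⟶ (yon S).obj (gU G),
      (∃ r, r ≫ (yon S).map (gt G) = a ∧ r ≫ (yon S).map (gs G) = b) ↔
      ∃ r : T.left ⟶ G.R, r ≫ G.t = ((yon S).preimage a).left ∧ r ≫ G.s = ((yon S).preimage b).left := by
    intro a b
    constructor
    · rintro ⟨r, rfl, rfl⟩
      obtain ⟨r, rfl⟩ := (yon S).map_surjective r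
      refine ⟨r.left, ?_, ?_⟩ <;> rw [← Functor.map_comp, Functor.preimage_map] <;> rfl
    · rintro ⟨r, h1, h2⟩
      let rO : T ⟶ gR G := Over.homMk r (by
        change r ≫ G.pR = _
        rw [← G.t_over, ← Category.assoc, h1]
        exact Over.w ((yon S).preimage a))
      refine ⟨(yon S).map rO, ?_, ?_⟩
      · rw [← Functor.map_comp, show rO ≫ gt G = (yon S).preimage a from Over.OverMorphism.ext h1,
          Functor.map_preimage]
      · rw [← Functor.map_comp, show rO ≫ gs G = (yon S).preimage b from Over.OverMorphism.ext h2,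
          Functor.map_preimage]
  simp only [key]
  refine ⟨fun a => ⟨((yon S).preimage a).left ≫ G.e, ?_, ?_⟩, ?_, ?_⟩
  · rw [Category.assoc, G.e_t]; exact Category.comp_id _
  · rw [Category.assoc, G.e_s]; exact Category.comp_id _
  · rintro a b ⟨r, h1, h2⟩
    exact ⟨r ≫ G.i, by rw [Category.assoc, G.i_t, h2], by rw [Category.assoc, G.i_s, h1]⟩
  · rintro a b c ⟨r, h1, h2⟩ ⟨r', h1', h2'⟩
    exact ⟨Grpd80.mul G r r' (h2.trans h1'.symm), by rw [Grpd80.mul_t, h1], by rw [Grpd80.mul_s, h2']⟩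

theorem quotSp_iso_quot {R U : Over S} (s t : R ⟶ U) :
    ∃ e : quotSp ((yon S).map s) ((yon S).map t) ≅ QuotSh.quot Scheme.fppfPrecoverage s t,
      quotSpπ ((yon S).map s) ((yon S).map t) ≫ e.hom = quotMap s t := by
  have := epi_quotMap s t
  let d := quotSpDesc (quotMap s t) (quotMap_condition s t).symm
  have hd : quotSpπ ((yon S).map s) ((yon S).map t) ≫ d = quotMap s t := quotSpπ_desc _ _ _ _
  let iU := QuotSh.repIsoUliftYoneda Scheme.fppfPrecoverage U
  let d' : QuotSh.quot Scheme.fppfPrecoverage s t ⟶ quotSp ((yon S).map s) ((yon S).map t) :=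
    coequalizer.desc (iU.hom ≫ quotSpπ ((yon S).map s) ((yon S).map t)) (by
      rw [← Category.assoc, ← Category.assoc, Grpd80.repMap_comp_iso, Grpd80.repMap_comp_iso,
        Category.assoc, Category.assoc]
      exact congrArg _ (quotSp_condition ((yon S).map s) ((yon S).map t)))
  have hd' : quotMap s t ≫ d' = quotSpπ ((yon S).map s) ((yon S).map t) := by
    rw [quotMap, Category.assoc,
      show QuotSh.quotπ Scheme.fppfPrecoverage s t ≫ d' =
        iU.hom ≫ quotSpπ ((yon S).map s) ((yon S).map t) from coequalizer.π_desc _ _,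
      Iso.inv_hom_id_assoc]
  have : Epi (quotSpπ ((yon S).map s) ((yon S).map t)) := coequalizer.π_epi
  exact ⟨⟨d, d', by rw [← cancel_epi (quotSpπ ((yon S).map s) ((yon S).map t)), ← Category.assoc, hd, hd',
      Category.comp_id],
    by rw [← cancel_epi (quotMap s t), ← Category.assoc, hd', hd, Category.comp_id]⟩, hd⟩

theorem range_saturated {U' : Scheme.{u}} (g : U' ⟶ G.U) (y : ↥G.R) :
    G.t y ∈ Set.range (pullback.snd g G.t ≫ G.s) ↔ G.s y ∈ Set.range (pullback.snd g G.t ≫ G.s) := by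
  suffices h : ∀ z : ↥G.R, G.t z ∈ Set.range (pullback.snd g G.t ≫ G.s) →
      G.s z ∈ Set.range (pullback.snd g G.t ≫ G.s) by
    refine ⟨h y, fun hy => ?_⟩
    have := h (G.i y) (by rw [← Scheme.Hom.comp_apply, G.i_t]; exact hy)
    rwa [← Scheme.Hom.comp_apply, G.i_s] at this
  rintro z ⟨w, hw⟩
  obtain ⟨q, -, hq⟩ := Scheme.Pullback.exists_preimage_pullback (f := pullback.snd g G.t ≫ G.s) (g := G.t) w z hw
  let m := Grpd80.mul G (pullback.fst (pullback.snd g G.t ≫ G.s) G.t ≫ pullback.snd g G.t)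
    (pullback.snd (pullback.snd g G.t ≫ G.s) G.t) (by rw [Category.assoc]; exact pullback.condition)
  let n : pullback (pullback.snd g G.t ≫ G.s) G.t ⟶ pullback g G.t :=
    pullback.lift (pullback.fst _ _ ≫ pullback.fst g G.t) m (by
      rw [Category.assoc, pullback.condition, Grpd80.mul_t, Category.assoc])
  refine ⟨n q, ?_⟩
  rw [← Scheme.Hom.comp_apply, pullback.lift_snd_assoc, Grpd80.mul_s, Scheme.Hom.comp_apply, hq]

theorem isPullback_prod_yon {R U R' U' : Over S} {s t : R ⟶ U} {g : U' ⟶ U} {s' t' : R' ⟶ U'}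
    {r : R' ⟶ R} (hsq : IsPullback (prod.lift t' s') r (prod.map g g) (prod.lift t s)) :
    IsPullback (prod.lift ((yon S).map t') ((yon S).map s')) ((yon S).map r)
      (prod.map ((yon S).map g) ((yon S).map g)) (prod.lift ((yon S).map t) ((yon S).map s)) := by
  obtain ⟨wt, ws⟩ := restrict_w hsq
  refine IsPullback.mk' (Limits.prod.hom_ext ?_ ?_) (fun Z φ φ' e1 e2 => sp_hom_ext fun T z => ?_) fun Z a b w => ?_
  · simp only [Category.assoc, prod.map_fst, prod.lift_fst, prod.lift_fst_assoc, ← Functor.map_comp, wt]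
  · simp only [Category.assoc, prod.map_snd, prod.lift_snd, prod.lift_snd_assoc, ← Functor.map_comp, ws]
  · obtain ⟨x, hx⟩ := (yon S).map_surjective (z ≫ φ)
    obtain ⟨y, hy⟩ := (yon S).map_surjective (z ≫ φ')
    rw [← hx, ← hy]
    congr 1
    refine restrict_hom_ext hsq ?_ ?_ ?_ <;> apply (yon S).map_injective <;>
      rw [Functor.map_comp, Functor.map_comp, hx, hy, Category.assoc, Category.assoc]
    · simpa only [Category.assoc, prod.lift_fst] using congrArg (z ≫ · ≫ prod.fst) e1
    · simpa only [Category.assoc, prod.lift_snd] using congrArg (z ≫ · ≫ prod.snd) e1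
    · exact congrArg (z ≫ ·) e2
  · have w1 : (a ≫ prod.fst) ≫ (yon S).map g = b ≫ (yon S).map t := by
      simpa only [Category.assoc, prod.map_fst, prod.lift_fst] using congrArg (· ≫ prod.fst) w
    have w2 : (a ≫ prod.snd) ≫ (yon S).map g = b ≫ (yon S).map s := by
      simpa only [Category.assoc, prod.map_snd, prod.lift_snd] using congrArg (· ≫ prod.snd) w
    have : Mono (prod.lift (prod.lift ((yon S).map t') ((yon S).map s')) ((yon S).map r)) :=
      mono_of_forall_yon fun T x y e => by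
        obtain ⟨x, rfl⟩ := (yon S).map_surjective x
        obtain ⟨y, rfl⟩ := (yon S).map_surjective y
        congr 1
        refine restrict_hom_ext hsq ?_ ?_ ?_ <;> apply (yon S).map_injective <;>
          rw [Functor.map_comp, Functor.map_comp]
        · simpa only [Category.assoc, prod.lift_fst, prod.lift_fst_assoc] using congrArg (· ≫ prod.fst ≫ prod.fst) e
        · simpa only [Category.assoc, prod.lift_snd, prod.lift_fst, prod.lift_fst_assoc] using
            congrArg (· ≫ prod.fst ≫ prod.snd) e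
        · simpa only [Category.assoc, prod.lift_snd] using congrArg (· ≫ prod.snd) e
    obtain ⟨l, hl⟩ := exists_factor_of_forall_yon
      (j := prod.lift (prod.lift ((yon S).map t') ((yon S).map s')) ((yon S).map r)) (prod.lift a b) fun T z => by
      obtain ⟨a₀, ha₀⟩ := (yon S).map_surjective (z ≫ a ≫ prod.fst)
      obtain ⟨b₀, hb₀⟩ := (yon S).map_surjective (z ≫ a ≫ prod.snd)
      obtain ⟨ρ, hρ⟩ := (yon S).map_surjective (z ≫ b)
      obtain ⟨ρ', h1, h2, h3⟩ := restrict_exists hsq a₀ b₀ ρ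
        ((yon S).map_injective (by simp only [Functor.map_comp, hρ, ha₀, Category.assoc] at w1 ⊢; rw [w1]))
        ((yon S).map_injective (by simp only [Functor.map_comp, hρ, hb₀, Category.assoc] at w2 ⊢; rw [w2]))
      refine ⟨(yon S).map ρ', ?_⟩
      apply Limits.prod.hom_ext
      · apply Limits.prod.hom_ext
        · simp only [Category.assoc, prod.lift_fst, prod.lift_fst_assoc, ← Functor.map_comp, h1, ha₀]
        · simp only [Category.assoc, prod.lift_snd, prod.lift_fst, prod.lift_fst_assoc, ← Functor.map_comp, h2, hb₀]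
      · simp only [Category.assoc, prod.lift_snd, ← Functor.map_comp, h3, hρ]
    exact ⟨l, by simpa only [Category.assoc, prod.lift_fst] using congrArg (· ≫ prod.fst) hl,
      by simpa only [Category.assoc, prod.lift_snd] using congrArg (· ≫ prod.snd) hl⟩

theorem repWith_openImmersion_grpd_restrict {U' : Scheme.{u}} (g : U' ⟶ G.U) (W : G.U.Opens)
    (hW : (W : Set ↥G.U) = Set.range ⇑(pullback.snd g G.t ≫ G.s))
    (hlift : pullback g G.t ⟶ ↑W) (hh : hlift ≫ W.ι = pullback.snd g G.t ≫ G.s)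
    (hsurj : Sheaf.IsLocallySurjective ((yon S).map
      (Over.homMk hlift ((Category.assoc _ _ _).symm.trans (congrArg (· ≫ G.pU) hh)) :
        Over.mk ((pullback.snd g G.t ≫ G.s) ≫ G.pU) ⟶ Over.mk (W.ι ≫ G.pU))))
    {R' : Over S} {s' t' : R' ⟶ Over.mk (g ≫ G.pU)} {r : R' ⟶ gR G}
    (hsq : IsPullback (prod.lift t' s') r
      (prod.map (Over.homMk g rfl : Over.mk (g ≫ G.pU) ⟶ gU G) (Over.homMk g rfl : Over.mk (g ≫ G.pU) ⟶ gU G))
      (prod.lift (gt G) (gs G)))
    (ψ : QuotSh.quot Scheme.fppfPrecoverage s' t' ⟶ QuotSh.quot Scheme.fppfPrecoverage (gs G) (gt G))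
    (hψ : quotMap s' t' ≫ ψ =
      (yon S).map (Over.homMk g rfl : Over.mk (g ≫ G.pU) ⟶ gU G) ≫ quotMap (gs G) (gt G)) :
    RepWith @IsOpenImmersion ψ := by
  have hpre := isPreEqvRelSp_groupoid G
  obtain ⟨e', he'⟩ := quotSp_iso_quot s' t'
  obtain ⟨e, he⟩ := quotSp_iso_quot (gs G) (gt G)
  let gO : Over.mk (g ≫ G.pU) ⟶ gU G := Over.homMk g rfl
  have hmono : Mono ψ := by
    have h1 : Mono (e'.hom ≫ ψ ≫ e.inv) := mono_quot_restrict hpre (isPullback_prod_yon hsq) _ (by
      rw [reassoc_of% he']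
      exact ((reassoc_of% hψ) e.inv).trans (congrArg _ ((congrArg (· ≫ e.inv) he).symm.trans
        ((Category.assoc _ _ _).trans ((congrArg _ e.hom_inv_id).trans (Category.comp_id _))))))
    have : Mono ((e'.inv ≫ (e'.hom ≫ ψ ≫ e.inv)) ≫ e.hom) := inferInstance
    simpa using this
  have hrel : ∀ {T : Over S} (a b : T ⟶ gU G), (yon S).map a ≫ quotMap (gs G) (gt G) =
      (yon S).map b ≫ quotMap (gs G) (gt G) →
      ∃ (T' : Over S) (c : T' ⟶ T) (ρ : T' ⟶ gR G), fppfSurj c.left ∧ ρ ≫ gt G = c ≫ a ∧ ρ ≫ gs G = c ≫ b := by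
    intro T a b h
    rw [← he, ← Category.assoc, ← Category.assoc, cancel_mono] at h
    obtain ⟨T', c, ρ, hc, h1, h2⟩ := locRel_of_quot_eq hpre _ _ h
    obtain ⟨ρ, rfl⟩ := (yon S).map_surjective ρ
    exact ⟨T', c, ρ, hc, (yon S).map_injective (by simpa only [Functor.map_comp] using h1),
      (yon S).map_injective (by simpa only [Functor.map_comp] using h2)⟩
  have hsat : ∀ {T : Over S} (a b : T ⟶ gU G), (yon S).map a ≫ quotMap (gs G) (gt G) =
      (yon S).map b ≫ quotMap (gs G) (gt G) → ∀ p : ↥T.left, a.left p ∈ W → b.left p ∈ W := by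
    intro T a b h p hp
    obtain ⟨T', c, ρ, hc, h1, h2⟩ := hrel a b h
    obtain ⟨p', rfl⟩ := ((fppfSurj_iff _).1 hc).1.surj p
    have e1 : ρ.left ≫ G.t = c.left ≫ a.left := congrArg CommaMorphism.left h1
    have e2 : ρ.left ≫ G.s = c.left ≫ b.left := congrArg CommaMorphism.left h2
    have hWm : ∀ x, x ∈ W ↔ x ∈ Set.range ⇑(pullback.snd g G.t ≫ G.s) := fun x => by rw [← hW]; rfl
    rw [← Scheme.Hom.comp_apply, ← e1, Scheme.Hom.comp_apply, hWm, range_saturated, ← hWm] at hp
    rw [← Scheme.Hom.comp_apply, ← e2, Scheme.Hom.comp_apply]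
    exact hp
  have hU'W : ∀ u : ↥U', g u ∈ W := fun u => by
    rw [← SetLike.mem_coe, hW]
    obtain ⟨w, -, hw⟩ := Scheme.Pullback.exists_preimage_pullback (f := g) (g := G.t) u (G.e (g u))
      (by rw [← Scheme.Hom.comp_apply G.e, G.e_t]; rfl)
    refine ⟨w, ?_⟩
    rw [Scheme.Hom.comp_apply, hw, ← Scheme.Hom.comp_apply, G.e_s]
    rfl
  refine MorphismProperty.relative.of_exists fun T γ => ?_
  obtain ⟨V, c, l, hc, hl⟩ := locLift_quotMap (gs G) (gt G) T γ
  obtain ⟨l, rfl⟩ := (yon S).map_surjective l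
  obtain ⟨_, _, _⟩ := (fppfSurj_iff _).1 hc
  let O : T.left.Opens := ⟨c.left '' (l.left ⁻¹' (W : Set ↥G.U)), c.left.isOpenMap _ (W.2.preimage l.left.continuous)⟩
  have hOc : ∀ v : ↥V.left, c.left v ∈ O ↔ l.left v ∈ W := by
    refine fun v => ⟨?_, fun hv => ⟨v, hv, rfl⟩⟩
    rintro ⟨v', hv', hvv⟩
    obtain ⟨q, hq1, hq2⟩ := Scheme.exists_preimage_of_isPullback
      ((IsPullback.of_hasPullback c c).map (Over.forget S)) v' v hvv
    have h := hsat (pullback.fst c c ≫ l) (pullback.snd c c ≫ l) (by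
      simp only [Functor.map_comp, Category.assoc, hl]
      rw [← Functor.map_comp_assoc, ← Functor.map_comp_assoc, pullback.condition]) q
    have e1 : (pullback.fst c c).left q = v' := hq1
    have e2 : (pullback.snd c c).left q = v := hq2
    rw [Over.comp_left, Scheme.Hom.comp_apply, Over.comp_left, Scheme.Hom.comp_apply, e1, e2] at h
    exact h hv'
  have sqV := IsPullback.of_hasPullback c (openIncl T O)
  let V₀ := pullback c (openIncl T O)
  have hV₀ : fppfSurj (pullback.snd c (openIncl T O)).left :=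
    MorphismProperty.of_isPullback (P := fppfSurj) (sqV.map (Over.forget S)) hc
  have hVr : Set.range (pullback.fst c (openIncl T O) ≫ l).left ⊆ Set.range W.ι := by
    rintro _ ⟨v, rfl⟩
    rw [W.range_ι, Over.comp_left, Scheme.Hom.comp_apply]
    refine (hOc _).1 ?_
    rw [← Scheme.Hom.comp_apply, ← Over.comp_left, pullback.condition, Over.comp_left, Scheme.Hom.comp_apply]
    exact ((pullback.snd c (openIncl T O)).left v).2
  let lW : V₀ ⟶ Over.mk (W.ι ≫ G.pU) :=
    Over.homMk (IsOpenImmersion.lift W.ι (pullback.fst c (openIncl T O) ≫ l).left hVr) (by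
      change IsOpenImmersion.lift W.ι _ hVr ≫ W.ι ≫ G.pU = _
      rw [IsOpenImmersion.lift_fac_assoc]
      exact Over.w (pullback.fst c (openIncl T O) ≫ l))
  have hll := locLift_of_covLift (covLift_of_isLocallySurjective ((yon S).map
    (Over.homMk hlift ((Category.assoc _ _ _).symm.trans (congrArg (· ≫ G.pU) hh)) :
      Over.mk ((pullback.snd g G.t ≫ G.s) ≫ G.pU) ⟶ Over.mk (W.ι ≫ G.pU))))
  obtain ⟨V₁, c₁, m, hc₁, hm⟩ := hll V₀ ((yon S).map lW)
  obtain ⟨m, rfl⟩ := (yon S).map_surjective m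
  have hm' : m.left ≫ hlift = c₁.left ≫ lW.left := by
    rw [← Functor.map_comp, ← Functor.map_comp] at hm
    exact congrArg CommaMorphism.left ((yon S).map_injective hm)
  let ρ : V₁ ⟶ gR G := Over.homMk (m.left ≫ pullback.snd g G.t) (by
    change (m.left ≫ pullback.snd g G.t) ≫ G.pR = _
    have hm0 : m.left ≫ (pullback.snd g G.t ≫ G.s) ≫ G.pU = V₁.hom := Over.w m
    rw [← hm0]
    simp only [Category.assoc, G.s_over])
  let u₁ : V₁ ⟶ Over.mk (g ≫ G.pU) := Over.homMk (m.left ≫ pullback.fst g G.t) (by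
    change (m.left ≫ pullback.fst g G.t) ≫ g ≫ G.pU = _
    have hm0 : m.left ≫ (pullback.snd g G.t ≫ G.s) ≫ G.pU = V₁.hom := Over.w m
    rw [← hm0, Category.assoc, ← Category.assoc (pullback.fst g G.t), pullback.condition]
    simp only [Category.assoc, G.t_over, G.s_over])
  have hρt : ρ ≫ gt G = u₁ ≫ gO := Over.OverMorphism.ext (by
    change (m.left ≫ pullback.snd g G.t) ≫ G.t = (m.left ≫ pullback.fst g G.t) ≫ g
    simp only [Category.assoc, pullback.condition])
  have hρs : ρ ≫ gs G = c₁ ≫ pullback.fst c (openIncl T O) ≫ l := Over.OverMorphism.ext (by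
    change (m.left ≫ pullback.snd g G.t) ≫ G.s = c₁.left ≫ (pullback.fst c (openIncl T O) ≫ l).left
    exact (Category.assoc _ _ _).trans ((congrArg (m.left ≫ ·) hh.symm).trans ((Category.assoc _ _ _).symm.trans
      ((congrArg (· ≫ W.ι) hm').trans ((Category.assoc _ _ _).trans
        (congrArg (c₁.left ≫ ·) (IsOpenImmersion.lift_fac _ _ _)))))))
  let d := c₁ ≫ pullback.snd c (openIncl T O)
  have hd : fppfSurj d.left := fppfSurj_comp hc₁ hV₀
  let γ' := (yon S).map (openIncl T O) ≫ γ
  have hlocal : ((yon S).map u₁ ≫ quotMap s' t') ≫ ψ = (yon S).map d ≫ γ' := by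
    rw [Category.assoc, hψ, ← Functor.map_comp_assoc]
    change (yon S).map (u₁ ≫ gO) ≫ _ = _
    rw [← hρt, Functor.map_comp, Category.assoc, quotMap_condition, ← Functor.map_comp_assoc, hρs]
    simp only [γ', d, Functor.map_comp, Category.assoc, hl]
    rw [← Functor.map_comp_assoc (yon S) (pullback.fst c (openIncl T O)), pullback.condition,
      Functor.map_comp_assoc]
  obtain ⟨a, ha, -⟩ := cover_existsUnique_desc d hd ((yon S).map u₁ ≫ quotMap s' t') fun Z p₁ p₂ hp => by
    rw [← cancel_mono ψ, Category.assoc ((yon S).map p₁), Category.assoc ((yon S).map p₂), hlocal,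
      ← Category.assoc ((yon S).map p₁), ← Category.assoc ((yon S).map p₂), ← Functor.map_comp,
      ← Functor.map_comp, hp]
  have wa : a ≫ ψ = γ' := cover_hom_ext d hd (by rw [← Category.assoc, ha, hlocal])
  have hO : IsOpenImmersion (openIncl T O).left := inferInstanceAs (IsOpenImmersion O.ι)
  have := mono_of_repWith_le isOpenImmersion_le_monomorphisms
    ((repWith_yon_map_iff @IsOpenImmersion (openIncl T O)).2 hO)
  have key : ∀ {Z : Sp S} (x : Z ⟶ QuotSh.quot Scheme.fppfPrecoverage s' t') (y : Z ⟶ (yon S).obj T),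
      x ≫ ψ = y ≫ γ → ∃ n : Z ⟶ (yon S).obj (openOver T O), n ≫ (yon S).map (openIncl T O) = y := by
    intro Z x y hxy
    refine exists_factor_of_forall_yon y fun A z => ?_
    obtain ⟨α, hα⟩ := (yon S).map_surjective (z ≫ y)
    obtain ⟨A₁, c₂, u, hc₂, hu⟩ := locLift_quotMap s' t' A (z ≫ x)
    obtain ⟨u, rfl⟩ := (yon S).map_surjective u
    have hr : Set.range α.left ⊆ Set.range O.ι := by
      rw [O.range_ι]
      rintro _ ⟨p, rfl⟩
      obtain ⟨p₁, hp₁⟩ := ((fppfSurj_iff _).1 hc₂).1.surj p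
      obtain ⟨v, hv⟩ := c.left.surjective (α.left p)
      obtain ⟨q, hq1, hq2⟩ := Scheme.exists_preimage_of_isPullback
        ((IsPullback.of_hasPullback (c₂ ≫ α) c).map (Over.forget S)) p₁ v (by
          change (c₂ ≫ α).left p₁ = c.left v
          rw [Over.comp_left, Scheme.Hom.comp_apply, hp₁, hv])
      have h := hsat (pullback.fst (c₂ ≫ α) c ≫ u ≫ gO) (pullback.snd (c₂ ≫ α) c ≫ l) (by
        have e1 : (yon S).map u ≫ (yon S).map gO ≫ quotMap (gs G) (gt G) =
            (yon S).map c₂ ≫ (yon S).map α ≫ γ := by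
          rw [hα, ← hψ, ← Category.assoc, hu, Category.assoc, Category.assoc, hxy, Category.assoc]
        simp only [Functor.map_comp, Category.assoc, hl, e1]
        rw [← Functor.map_comp_assoc (yon S) (pullback.snd (c₂ ≫ α) c), ← pullback.condition]
        simp only [Functor.map_comp, Category.assoc]) q (by
        rw [Over.comp_left, Scheme.Hom.comp_apply]
        exact hU'W _)
      have e2 : (pullback.snd (c₂ ≫ α) c).left q = v := hq2
      rw [Over.comp_left, Scheme.Hom.comp_apply, e2] at h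
      rw [← hv]
      exact (hOc v).2 h
    refine ⟨(yon S).map (Over.homMk (IsOpenImmersion.lift O.ι α.left hr) (by
      change IsOpenImmersion.lift O.ι α.left hr ≫ O.ι ≫ T.hom = _
      rw [IsOpenImmersion.lift_fac_assoc, Over.w])), ?_⟩
    rw [← Functor.map_comp, ← hα]
    exact congrArg (yon S).map (Over.OverMorphism.ext (IsOpenImmersion.lift_fac _ _ _))
  choose n hn using fun (σ : PullbackCone ψ γ) => key σ.fst σ.snd σ.condition
  refine ⟨openOver T O, a, openIncl T O,
    IsPullback.of_isLimit (PullbackCone.IsLimit.mk wa n (fun σ => ?_) hn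
      (fun σ k _ hk => by rw [← cancel_mono ((yon S).map (openIncl T O)), hn, hk])), hO⟩
  rw [← cancel_mono ψ, Category.assoc, wa]
  change n σ ≫ (yon S).map (openIncl T O) ≫ γ = _
  rw [reassoc_of% (hn σ), σ.condition]

end Groth.Agent.SpPts86
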