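import Mathlib.FieldTheory.IsAlgClosed.Classification
import Mathlib.FieldTheory.IsAlgClosed.AlgebraicClosure

/-!
Automorphisms of large algebraically closed fields.
-/

universe u

set_option autoImplicit false

open Cardinal

namespace Groth.Agent.SpPts86

theorem card_transcendenceBasis {R K ι : Type u} [CommRing R] [Nontrivial R] [Field K] [Algebra R K] [IsAlgClosed K]
    {v : ι → K} (hv : IsTranscendenceBasis R v) (h : max #R ℵ₀ < #K) : #K = #ι := by
  refine le_antisymm ?_ (mk_le_of_injective hv.1.injective)
  have h1 := IsAlgClosed.cardinal_le_max_transcendence_basis' v hv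
  by_contra hc
  push Not at hc
  refine absurd h1 (not_le.2 (max_lt (max_lt (lt_of_le_of_lt (le_max_left _ _) h) hc) ?_))
  exact lt_of_le_of_lt (le_max_right _ _) h

/-- Two big algebraically closed extensions of the same cardinality are isomorphic over the base. -/
theorem exists_ringEquiv_over {R K L : Type u} [Field R] [Field K] [Field L] [Algebra R K] [Algebra R L]
    [IsAlgClosed K] [IsAlgClosed L] (h : max #R ℵ₀ < #K) (hKL : #K = #L) :
    ∃ τ : K ≃+* L, ∀ r, τ (algebraMap R K r) = algebraMap R L r := by
  obtain ⟨s, hs⟩ := exists_isTranscendenceBasis R K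
  obtain ⟨t, ht⟩ := exists_isTranscendenceBasis R L
  obtain ⟨e⟩ : Nonempty (s ≃ t) := Cardinal.eq.1 <| by
    rw [← card_transcendenceBasis hs h, ← card_transcendenceBasis ht (hKL ▸ h), hKL]
  letI := IsAlgClosed.isAlgClosure_of_transcendence_basis _ hs
  letI := IsAlgClosed.isAlgClosure_of_transcendence_basis _ ht
  let f : Algebra.adjoin R (Set.range ((↑) : s → K)) ≃ₐ[R] Algebra.adjoin R (Set.range ((↑) : t → L)) :=
    hs.1.aevalEquiv.symm.trans ((MvPolynomial.renameEquiv R e).trans ht.1.aevalEquiv)
  refine ⟨IsAlgClosure.equivOfEquiv K L f.toRingEquiv, fun r => ?_⟩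
  have h1 := IsAlgClosure.equivOfEquiv_algebraMap (L := K) (M := L) f.toRingEquiv (algebraMap R _ r)
  refine h1.trans ?_
  rw [show f.toRingEquiv (algebraMap R _ r) = algebraMap R _ r from f.commutes r]
  rfl

/-- Every field extends to a big algebraically closed field. -/
theorem exists_big_field (k F : Type u) [Field k] [Field F] :
    ∃ (Ω : Type u) (_ : Field Ω) (_ : F →+* Ω), IsAlgClosed Ω ∧ max #k ℵ₀ < #Ω := by
  let ι := Set (k ⊕ ULift.{u} ℕ)
  let P := FractionRing (MvPolynomial ι F)
  refine ⟨AlgebraicClosure P, inferInstance, (algebraMap P _).comp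
    ((algebraMap (MvPolynomial ι F) P).comp (MvPolynomial.C (σ := ι))), inferInstance, ?_⟩
  have hinj : Function.Injective fun i : ι => algebraMap P (AlgebraicClosure P)
      (algebraMap (MvPolynomial ι F) P (MvPolynomial.X i)) :=
    ((algebraMap P (AlgebraicClosure P)).injective.comp (IsFractionRing.injective (MvPolynomial ι F) P)).comp
      MvPolynomial.X_injective
  refine lt_of_lt_of_le ?_ (mk_le_of_injective hinj)
  rw [mk_set]
  refine lt_of_le_of_lt ?_ (cantor _)
  refine max_le (mk_le_of_injective Sum.inl_injective) ?_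
  exact le_trans (le_of_eq (by simp)) (mk_le_of_injective (Sum.inr_injective (α := k) (β := ULift.{u} ℕ)))

end Groth.Agent.SpPts86
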