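import Groth.Agent.SpPts86.FieldRestrict
import Groth.Agent.SpPts86.BigField

/-!
Points of groupoids over fields become automorphism-valued after a big field extension.
-/

universe u

set_option autoImplicit false
set_option backward.isDefEq.respectTransparency false
set_option linter.style.haveILetI false

open CategoryTheory CategoryTheory.Limits AlgebraicGeometry
open AlgSp Groth.Agent.SpFP87

namespace Groth.Agent.SpPts86

variable {S : Scheme.{u}}

theorem exists_auto {k Ω : Type u} [Field k] [Field Ω] [IsAlgClosed Ω] (a b : k →+* Ω)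
    (h : max (Cardinal.mk k) Cardinal.aleph0 < Cardinal.mk Ω) :
    ∃ τ : Ω ≃+* Ω, ∀ r, τ (a r) = b r :=
  @exists_ringEquiv_over k Ω Ω _ _ _ a.toAlgebra b.toAlgebra _ _ h rfl

theorem exists_algClosed_restrict {B : Sp S} (G : GroupoidSp B) {k : Type u} [Field k]
    (σ : Spec (CommRingCat.of k) ⟶ S) (eU : G.U ≅ (yon S).obj (Over.mk σ)) (r : Points G.R) :
    ∃ (k' : Type u) (_ : Field k') (_ : Algebra k k'), IsAlgClosed k' ∧
      ∀ (G' : GroupoidSp B) (φ : GroupoidSp.Hom G' G), φ.IsRestriction →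
        ∀ (eU' : G'.U ≅ (yon S).obj (Over.mk (Spec.map (CommRingCat.ofHom (algebraMap k k')) ≫ σ))),
          φ.fU = eU'.hom ≫ (yon S).map (Over.homMk (Spec.map (CommRingCat.ofHom (algebraMap k k'))) rfl :
            Over.mk (Spec.map (CommRingCat.ofHom (algebraMap k k')) ≫ σ) ⟶ Over.mk σ) ≫ eU.inv →
          ∃ r' : G'.U ⟶ G'.R, (∀ x : Points G'.U, Points.map (r' ≫ φ.fR) x = r) ∧
            IsIso (r' ≫ G'.s) ∧ IsIso (r' ≫ G'.t) := by
  obtain ⟨p, rfl⟩ := Points.mk_surjective r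
  obtain ⟨γs, hγs⟩ := (yon S).map_surjective (p.toHom ≫ G.s ≫ eU.hom)
  obtain ⟨γt, hγt⟩ := (yon S).map_surjective (p.toHom ≫ G.t ≫ eU.hom)
  obtain ⟨ιs, hιs⟩ := Spec.map_surjective (R := CommRingCat.of k) (S := CommRingCat.of p.K) γs.left
  obtain ⟨ιt, hιt⟩ := Spec.map_surjective (R := CommRingCat.of k) (S := CommRingCat.of p.K) γt.left
  obtain ⟨Ω, iΩ, i, hΩ, hbig⟩ := exists_big_field k p.K
  letI : Algebra k Ω := (i.comp ιs.hom).toAlgebra
  obtain ⟨τ, hτ⟩ := exists_auto (i.comp ιs.hom) (i.comp ιt.hom) hbig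
  refine ⟨Ω, iΩ, inferInstance, hΩ, fun G' φ hφ eU' hfU => ?_⟩
  let K' : Over S := Over.mk (Spec.map (CommRingCat.ofHom (algebraMap k Ω)) ≫ σ)
  let c : K' ⟶ Over.mk σ := Over.homMk (Spec.map (CommRingCat.ofHom (algebraMap k Ω))) rfl
  have hs : Spec.map (CommRingCat.ofHom (algebraMap k Ω)) = Spec.map (CommRingCat.ofHom i) ≫ γs.left := by
    rw [← hιs, ← Spec.map_comp]
    rfl
  have ht : Spec.map (CommRingCat.ofHom τ.toRingHom) ≫ Spec.map (CommRingCat.ofHom (algebraMap k Ω)) =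
      Spec.map (CommRingCat.ofHom i) ≫ γt.left := by
    rw [← hιt, ← Spec.map_comp, ← Spec.map_comp]
    exact congrArg Spec.map (CommRingCat.hom_ext (RingHom.ext hτ))
  let ρ : K' ⟶ p.pt := Over.homMk (Spec.map (CommRingCat.ofHom i)) (by
    show _ = Spec.map _ ≫ σ
    rw [hs, Category.assoc]
    exact congrArg (Spec.map (CommRingCat.ofHom i) ≫ ·) (Over.w γs).symm)
  let ut : K' ⟶ K' := Over.homMk (Spec.map (CommRingCat.ofHom τ.toRingHom)) (by
    show Spec.map _ ≫ Spec.map _ ≫ σ = Spec.map _ ≫ σ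
    rw [reassoc_of% ht, hs, Category.assoc]
    exact congrArg (Spec.map (CommRingCat.ofHom i) ≫ ·) ((Over.w γt).trans (Over.w γs).symm))
  haveI : IsIso ut := by
    haveI : IsIso (CommRingCat.ofHom τ.toRingHom) := (RingEquiv.toCommRingCatIso τ).isIso_hom
    haveI : IsIso ((Over.forget S).map ut) :=
      inferInstanceAs (IsIso (Spec.map (CommRingCat.ofHom τ.toRingHom)))
    exact isIso_of_reflects_iso ut (Over.forget S)
  have ec_s : c = ρ ≫ γs := Over.OverMorphism.ext hs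
  have ec_t : ut ≫ c = ρ ≫ γt := Over.OverMorphism.ext ht
  let b : G'.U ⟶ G.R := eU'.hom ≫ (yon S).map ρ ≫ p.toHom
  let a : G'.U ⟶ G'.U := eU'.hom ≫ (yon S).map ut ≫ eU'.inv
  have hbs : b ≫ G.s = φ.fU := by
    rw [hfU, ← cancel_mono eU.hom]
    simp only [b, Category.assoc, Iso.inv_hom_id, Category.comp_id, ← hγs, ← Functor.map_comp, ← ec_s]
    rfl
  have hbt : b ≫ G.t = a ≫ φ.fU := by
    rw [hfU, ← cancel_mono eU.hom]
    simp only [a, b, Category.assoc, Iso.inv_hom_id_assoc, Iso.inv_hom_id, Category.comp_id, ← hγt,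
      ← Functor.map_comp, ← ec_t]
    rfl
  obtain ⟨r', h1, h2⟩ := IsPullback.exists_lift (isPullback_of_restriction φ hφ) (prod.lift a (𝟙 _)) b (by
    apply Limits.prod.hom_ext
    · simp [hbt]
    · simp [hbs])
  have h3 := congrArg (· ≫ prod.fst) h1
  have h4 := congrArg (· ≫ prod.snd) h1
  simp only [Category.assoc, prod.lift_fst, prod.lift_snd] at h3 h4
  refine ⟨r', fun x => ?_, h4 ▸ inferInstance, h3 ▸ inferInstanceAs (IsIso (eU'.hom ≫ (yon S).map ut ≫ eU'.inv))⟩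
  rw [h2]
  show Points.map (eU'.hom ≫ (yon S).map ρ ≫ p.toHom) x = _
  rw [Points.map_comp, Points.map_comp]
  obtain ⟨y, hy⟩ : ∃ y, Points.ofScheme p.pt y = Points.map ((yon S).map ρ) (Points.map eU'.hom x) :=
    (Points.schemeHomeo p.pt).surjective _
  rw [← hy, ← Points.ofPt_eq_map_ofScheme]
  exact (Points.ofPt_toHom p y)

end Groth.Agent.SpPts86
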