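import Groth.Agent.SpPts86.Subspace
import Groth.Agent.SpPts86.MonoField
import Groth.Prelude.Def_AlgSpDec
import Groth.Prelude.Def_AlgSpCov
import Mathlib.AlgebraicGeometry.Morphisms.QuasiCompact

/-!
Decency is Zariski local.
-/

universe u

set_option autoImplicit false

open CategoryTheory CategoryTheory.Limits AlgebraicGeometry
open AlgSp

namespace Groth.Agent.SpPts86

variable {S : Scheme.{u}} {F : Sp S}

/-- Monomorphic field-valued points with the same image differ by an isomorphism. -/
theorem exists_iso_of_mono_fieldPt {p q : FieldPt F} [Mono p.toHom] [Mono q.toHom]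
    (hp : Representable p.toHom) (h : Points.mk p = Points.mk q) :
    ∃ e : q.pt ≅ p.pt, (yon S).map e.hom ≫ p.toHom = q.toHom := by
  obtain ⟨V, snd, fst, sq⟩ := hp q.toHom
  obtain ⟨ψ, rfl⟩ := (yon S).map_surjective fst
  obtain ⟨v, -, -⟩ := exists_pt_of_isPullback' sq (IsLocalRing.closedPoint p.K)
    (IsLocalRing.closedPoint q.K) ((Points.ofPt_toHom p _).trans (h.trans (Points.ofPt_toHom q _).symm))
  have : Nonempty ↥V.left := ⟨v⟩
  have : Mono ((yon S).map snd) :=
    MorphismProperty.of_isPullback (P := MorphismProperty.monomorphisms (Sp S)) sq ‹Mono p.toHom›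
  have : Mono ((yon S).map ψ) :=
    MorphismProperty.of_isPullback (P := MorphismProperty.monomorphisms (Sp S)) sq.flip ‹Mono q.toHom›
  have : Mono snd := (yon S).mono_of_mono_map (f := snd) ‹_›
  have : Mono ψ := (yon S).mono_of_mono_map (f := ψ) ‹_›
  have : Mono snd.left := inferInstanceAs (Mono ((Over.forget S).map snd))
  have : Mono ψ.left := inferInstanceAs (Mono ((Over.forget S).map ψ))
  have : IsIso snd.left := isIso_of_mono_spec_field (L := q.K) snd.left
  have : IsIso ψ.left := isIso_of_mono_spec_field (L := p.K) ψ.left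
  have : IsIso ((Over.forget S).map snd) := inferInstanceAs (IsIso snd.left)
  have : IsIso ((Over.forget S).map ψ) := inferInstanceAs (IsIso ψ.left)
  have : IsIso snd := isIso_of_reflects_iso snd (Over.forget S)
  have : IsIso ψ := isIso_of_reflects_iso ψ (Over.forget S)
  exact ⟨(asIso snd).symm ≪≫ asIso ψ, by
    rw [← cancel_epi ((yon S).map snd), ← Category.assoc, ← Functor.map_comp]
    simp [sq.w]⟩

theorem isDecent_of_isZarCover {ι : Type u} {Fi : ι → Sp S} {j : ∀ i, Fi i ⟶ F}
    (hj : IsZarCover Fi j) (hd : ∀ i, IsDecent (Fi i)) : IsDecent F := by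
  have hm : ∀ i, Mono (j i) := fun i =>
    mono_of_repWith_le isOpenImmersion_le_monomorphisms (hj.1 i)
  intro x
  obtain ⟨i, x', rfl⟩ := hj.2 x
  obtain ⟨p, rfl, hpm, hpq⟩ := hd i x'
  refine ⟨p.map (j i), rfl, by rw [FieldPt.toHom_map]; exact @mono_comp _ _ _ _ _ _ hpm _ (hm i), ?_⟩
  have hrep : Representable (p.map (j i)).toHom := by
    rw [FieldPt.toHom_map]
    exact MorphismProperty.comp_mem _ _ _ hpq.1 (hj.1 i).1
  have hmono : Mono (p.map (j i)).toHom := by rw [FieldPt.toHom_map]; exact @mono_comp _ _ _ _ _ _ hpm _ (hm i)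
  refine ⟨hrep, fun U V g fst snd sq => ?_⟩
  let O : ι → U.left.Opens := fun k =>
    ⟨Points.ofPt g ⁻¹' Set.range (Points.map (j k)),
      (isOpen_range_map (hj.1 k)).preimage (Points.continuous_ofPt g)⟩
  have hO : iSup O = ⊤ := top_le_iff.1 fun t _ => by
    obtain ⟨k, hk⟩ := hj.2 (Points.ofPt g t)
    exact TopologicalSpace.Opens.mem_iSup.2 ⟨k, hk⟩
  refine IsZariskiLocalAtTarget.of_iSup_eq_top O hO fun k => ?_
  by_cases hk : Points.map (j i) (Points.mk p) ∈ Set.range (Points.map (j k))
  · obtain ⟨y, hy⟩ := hk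
    obtain ⟨q, rfl, hqm, hqq⟩ := hd k y
    have hqm' : Mono (q.map (j k)).toHom := by rw [FieldPt.toHom_map]; exact @mono_comp _ _ _ _ _ _ hqm _ (hm k)
    obtain ⟨e, he⟩ := exists_iso_of_mono_fieldPt (p := p.map (j i)) (q := q.map (j k)) hrep
      ((Points.map_mk _ _).symm.trans hy.symm)
    let T : Over S := Over.mk ((O k).ι ≫ U.hom)
    let ι' : T ⟶ U := Over.homMk (O k).ι rfl
    obtain ⟨g', hg'⟩ := exists_factor_of_range_subset (hj.1 k) ((yon S).map ι' ≫ g) (by
      rintro _ ⟨z, rfl⟩
      obtain ⟨t, rfl⟩ := (Points.schemeHomeo T).surjective z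
      have ht : Points.ofPt g ((O k).ι t) ∈ Set.range (Points.map (j k)) := t.2
      change Points.ofPt g (ι'.left t) ∈ Set.range (Points.map (j k)) at ht
      rw [← ofPt_comp ι' g t, Points.ofPt_eq_map_ofScheme] at ht
      exact ht)
    have := hm k
    obtain ⟨W, snd', fst', sq'⟩ := hqq.1 g'
    have hqc : QuasiCompact snd'.left := hqq.2 g' fst' snd' sq'
    have sq2 : IsPullback (fst' ≫ (yon S).map e.hom) ((yon S).map snd') (p.map (j i)).toHom
        ((yon S).map ι' ≫ g) := by
      have w : fst' ≫ q.toHom ≫ j k = (yon S).map snd' ≫ g' ≫ j k := by rw [← Category.assoc, sq'.w, Category.assoc]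
      have h1 : IsPullback fst' ((yon S).map snd') (q.toHom ≫ j k) (g' ≫ j k) :=
        ⟨⟨w⟩, ⟨PullbackCone.isLimitOfCompMono q.toHom g' (j k) _ sq'.isLimit⟩⟩
      rw [hg'] at h1
      refine IsPullback.of_iso h1 (Iso.refl _) ((yon S).mapIso e) (Iso.refl _) (Iso.refl _) (by simp) (by simp)
        ?_ (by simp)
      simp only [Iso.refl_hom, Category.comp_id, Functor.mapIso_hom]
      exact ((FieldPt.toHom_map (j k) q).symm.trans he.symm)
    obtain ⟨ψ, hψ⟩ := (yon S).map_surjective (sq.lift (fst' ≫ (yon S).map e.hom) ((yon S).map (snd' ≫ ι'))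
      (by rw [sq2.w, Functor.map_comp, Category.assoc]))
    have sqT : IsPullback ((yon S).map ψ) ((yon S).map snd') ((yon S).map snd) ((yon S).map ι') :=
      IsPullback.of_right (by rw [hψ, sq.lift_fst]; exact sq2)
        (by rw [hψ, sq.lift_snd, Functor.map_comp]) sq
    have sqS : IsPullback ψ.left snd'.left snd.left (O k).ι :=
      (IsPullback.of_map_of_faithful (yon S) sqT).map (Over.forget S)
    have sqR := (isPullback_morphismRestrict snd.left (O k)).flip
    change QuasiCompact (snd.left ∣_ O k)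
    rw [← sqR.isoIsPullback_hom_snd _ _ sqS,
      MorphismProperty.cancel_left_of_respectsIso (P := @QuasiCompact)]
    exact hqc
  · have : IsEmpty ↥(snd.left ⁻¹ᵁ O k).toScheme := ⟨fun v => hk (by
      have h1 : Points.ofPt g (snd.left v.1) ∈ Set.range (Points.map (j k)) := v.2
      rw [← map_ofPt_fst sq v.1] at h1
      obtain ⟨y, hy⟩ := h1
      refine ⟨y, hy.trans ?_⟩
      obtain ⟨ψ, rfl⟩ := (yon S).map_surjective fst
      rw [ofPt_yon_map, ← Points.ofPt_eq_map_ofScheme]
      exact Points.ofPt_toHom (p.map (j i)) _)⟩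
    refine (quasiCompact_iff _).2 fun W _ _ => ?_
    exact Set.Subsingleton.isCompact fun x => isEmptyElim (α := ↥(snd.left ⁻¹ᵁ O k).toScheme) x

end Groth.Agent.SpPts86
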