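import Mathlib.AlgebraicGeometry.Noetherian
import Groth.Prelude.Def_AlgSp4
import Groth.Agent.SpPts86.Compact

/-!
Points of locally Noetherian algebraic spaces are locally Noetherian spaces.
-/

universe u

set_option autoImplicit false

open CategoryTheory AlgebraicGeometry TopologicalSpace
open AlgSp

namespace Groth.Agent.SpPts86

variable {S : Scheme.{u}} {F : Sp S}

theorem exists_noetherian_nhd (h : IsLocNoethSp F) (x : Points F) :
    ∃ W : Set (Points F), IsOpen W ∧ x ∈ W ∧ NoetherianSpace ↥W := by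
  obtain ⟨U, p, hp, hps, hU⟩ := h
  obtain ⟨t, rfl⟩ := surjective_ofPt hps x
  obtain ⟨V, hV, htV, -⟩ := exists_isAffineOpen_mem_and_subset (x := t) (U := ⊤) trivial
  have : IsNoetherianRing Γ(U.left, V) := IsLocallyNoetherian.component_noetherian ⟨V, hV⟩
  have : NoetherianSpace ↥V := noetherianSpace_of_isAffineOpen V hV
  refine ⟨Points.ofPt p '' (V : Set ↥U.left), isOpenMap_ofPt hp _ V.2, ⟨t, htV, rfl⟩, ?_⟩
  have := NoetherianSpace.range (fun v : ↥V => Points.ofPt p v.1)
    ((Points.continuous_ofPt p).comp continuous_subtype_val)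
  rwa [Set.image_eq_range]

theorem noetherianSpace_points (h : IsLocNoethSp F) [CompactSpace (Points F)] :
    NoetherianSpace (Points F) := by
  choose W hWo hxW hW using fun x => exists_noetherian_nhd h x
  obtain ⟨s, hs⟩ := isCompact_univ.elim_finite_subcover W hWo fun x _ =>
    Set.mem_iUnion.2 ⟨x, hxW x⟩
  have : ∀ x : s, NoetherianSpace ↥(W x) := fun x => hW x
  rw [← noetherian_univ_iff]
  have e : (⋃ x : s, W x) = Set.univ := Set.eq_univ_iff_forall.2 fun y => by
    obtain ⟨x, hx, hy⟩ := Set.mem_iUnion₂.1 (hs (Set.mem_univ y))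
    exact Set.mem_iUnion.2 ⟨⟨x, hx⟩, hy⟩
  rw [← e]
  exact NoetherianSpace.iUnion _

end Groth.Agent.SpPts86
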