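import Groth.Agent.SpFP87.PointScheme
import Groth.Agent.SpFP87.PointSpace
import Groth.Agent.SpFP87.FieldQuot
import Groth.Agent.SpPts86.DecentFib
import Groth.Agent.SpPts86.EtaleMor
import Groth.Agent.SpPts86.ZarGlue
import Groth.Agent.SpPts86.Subspace

/-!
Spaces etale over, or covered by, the spectrum of a field.
-/

universe u

set_option autoImplicit false

open CategoryTheory CategoryTheory.Limits AlgebraicGeometry
open AlgSp Groth.Agent.SpFP87

namespace Groth.Agent.SpPts86

variable {S : Scheme.{u}} {X : Sp S}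

theorem exists_iso_field_of_etale_point (hX : IsAlgSpace X) (hd : IsDecent X) {k : Type u} [Field k]
    {str : Spec (CommRingCat.of k) ⟶ S} {p : (yon S).obj (Over.mk str) ⟶ X}
    (hp : RepWith @Etale p) (hs : RepWith @Surjective p) :
    ∃ (k' : Type u) (_ : Field k') (str' : Spec (CommRingCat.of k') ⟶ S)
      (e : (yon S).obj (Over.mk str') ≅ X) (c : Over.mk str ⟶ Over.mk str'),
      (yon S).map c ≫ e.hom = p ∧ IsFinite c.left ∧ Etale c.left := by
  have : IsReduced (Over.mk str).left := inferInstanceAs (IsReduced (Spec (CommRingCat.of k)))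
  have hr : IsReducedSp X := ⟨Over.mk str, p, hp, hs, inferInstance⟩
  have : Nonempty (Points X) := ⟨Points.ofPt p (IsLocalRing.closedPoint k)⟩
  have : Subsingleton (Points X) := ⟨fun x y => by
    obtain ⟨a, rfl⟩ := surjective_ofPt hs x
    obtain ⟨b, rfl⟩ := surjective_ofPt hs y
    rw [Subsingleton.elim (α := PrimeSpectrum k) a b]⟩
  obtain ⟨k', _, str', ⟨e⟩⟩ := exists_iso_field_of_singleton hX hd hr
  obtain ⟨c, hc⟩ := (yon S).map_surjective (p ≫ e.inv)
  have he : Etale c.left := by
    refine (repWith_yon_map_iff (@Etale : MorphismProperty Scheme.{u}) c).1 ?_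
    rw [hc]
    exact (MorphismProperty.cancel_right_of_respectsIso (RepWith (@Etale : MorphismProperty Scheme.{u})) p e.inv).2 hp
  have : IsAffine (Over.mk str').left := inferInstanceAs (IsAffine (Spec _))
  have : IsLocallyArtinian (Over.mk str').left := inferInstanceAs (IsLocallyArtinian (Spec (CommRingCat.of k')))
  have : CompactSpace ↥(Over.mk str).left := inferInstanceAs (CompactSpace (PrimeSpectrum k))
  exact ⟨k', inferInstance, str', e, c, by rw [hc, Category.assoc, e.inv_hom_id, Category.comp_id],
    isFinite_of_etale_compact c.left, he⟩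

theorem isRepresentable_of_etale_over_field (hX : IsAlgSpace X) {k : Type u} [Field k]
    {str : Spec (CommRingCat.of k) ⟶ S} (f : X ⟶ (yon S).obj (Over.mk str)) (hf : IsEtaleMor f) :
    ∃ U : Over S, Nonempty ((yon S).obj U ≅ X) := by
  have hd : IsDecent X := SpPts86.isDecent_of_isEtaleMor hX (IsAlgSpace.yon_obj _) hf (SpFP87.isDecent_yon _)
  have hopen : ∀ x : Points X, IsOpen ({x} : Set (Points X)) := fun x => by
    obtain ⟨U, a, ha, has⟩ := hX.atlas
    obtain ⟨u, rfl⟩ := surjective_ofPt has x
    obtain ⟨c, hc⟩ := (yon S).map_surjective (a ≫ f)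
    have hce : Etale c.left := (repWith_yon_map_iff (@Etale : MorphismProperty Scheme.{u}) c).1 (hc ▸ hf a ha)
    have : Etale (show U.left ⟶ Spec (CommRingCat.of k) from c.left) := hce
    obtain ⟨_, _⟩ := isLocallyArtinian_of_etale (show U.left ⟶ Spec (CommRingCat.of k) from c.left)
    rw [← Set.image_singleton]
    exact isOpenMap_ofPt ha _ (isOpen_discrete _)
  have hpc : ∀ x : Points X, ∃ T : Over S, Nonempty ((yon S).obj T ≅ restrictSheaf X {x}) := fun x => by
    have hX' := isAlgSpace_restrictSheaf hX (hopen x)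
    have : Mono (restrictι X {x}) := inferInstance
    have hr := range_map_restrictι (F := X) (hopen x)
    obtain ⟨y, -⟩ : x ∈ Set.range (Points.map (restrictι X {x})) := hr.ge rfl
    have : Nonempty (Points (restrictSheaf X {x})) := ⟨y⟩
    have : Subsingleton (Points (restrictSheaf X {x})) := ⟨fun a b => injective_map_of_mono (restrictι X {x})
      ((hr.le ⟨a, rfl⟩ : _ = x).trans (hr.le ⟨b, rfl⟩ : _ = x).symm)⟩
    have hd' : IsDecent (restrictSheaf X {x}) := SpPts86.isDecent_of_isEtaleMor hX' hX
      (isEtaleMor_of_repWith_etale (repWith_mono (fun _ _ g (_ : IsOpenImmersion g) => (inferInstance : Etale g))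
        (repWith_restrictι (hopen x)))) hd
    have := isRepresentable_of_singleton hX' hd'
    exact ⟨_, ⟨isoOfRepresentableBy (restrictSheaf X {x}).obj.representableBy⟩⟩
  choose T e using hpc
  obtain ⟨U, a, -, has⟩ := hX.atlas
  refine exists_iso_of_open_cover (ι := ↥U.left) (fun u => T (Points.ofPt a u))
    (fun u => (e (Points.ofPt a u)).some.hom ≫ restrictι X ({Points.ofPt a u} : Set (Points X))) (fun u => ?_)
    fun x => ?_
  · exact (MorphismProperty.cancel_left_of_respectsIso (RepWith (@IsOpenImmersion : MorphismProperty Scheme.{u}))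
      _ _).2 (repWith_restrictι (hopen _))
  · obtain ⟨u, rfl⟩ := surjective_ofPt has x
    obtain ⟨y, hy⟩ : Points.ofPt a u ∈ Set.range (Points.map (restrictι X {Points.ofPt a u})) :=
      (range_map_restrictι (hopen _)).ge rfl
    obtain ⟨z, hz⟩ := (Points.schemeHomeo (T (Points.ofPt a u))).surjective
      (Points.map (e (Points.ofPt a u)).some.inv y)
    refine ⟨u, z, ?_⟩
    rw [Points.ofPt_eq_map_ofScheme, show Points.ofScheme (T (Points.ofPt a u)) z = _ from hz]
    refine Eq.trans ?_ hy
    rw [← Points.map_comp, Iso.inv_hom_id_assoc]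

end Groth.Agent.SpPts86
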