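import Groth.Prelude.Def_AlgSpOX3
import Groth.Agent.SpPts86.GeomLift
import Groth.Agent.SpPts86.Charts

/-!
Etale neighbourhoods of geometric points form a cofiltered category.
-/

universe u

set_option autoImplicit false
set_option backward.isDefEq.respectTransparency false

open CategoryTheory CategoryTheory.Limits AlgebraicGeometry
open AlgSp Groth.Agent.SpFP87

namespace Groth.Agent.SpPts86

variable {S : Scheme.{u}} {X : Sp S} (p : FieldPt X)

theorem exists_lift_cover (hp : p.IsGeometric) {U V : Over S} (c : U ⟶ V) [Etale c.left]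
    (v : p.pt ⟶ V) (w : ↥U.left) (hw : c.left w = v.left (IsLocalRing.closedPoint p.K)) :
    ∃ l : p.pt ⟶ U, l ≫ c = v := by
  let q : FieldPt ((yon S).obj V) := ⟨p.K, p.str, ULift.up v⟩
  have hq : q.toHom = (yon S).map v := by
    apply (J S).uliftYonedaEquiv.injective
    rw [FieldPt.uliftYonedaEquiv_toHom, GrothendieckTopology.uliftYonedaEquiv_uliftYoneda_map]
  have hpt : Points.ofPt ((yon S).map c) w = Points.mk q := by
    rw [← Points.ofPt_toHom q (IsLocalRing.closedPoint p.K), hq, ofPt_yon_map]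
    refine Eq.trans ?_ (ofPt_yon_map v (IsLocalRing.closedPoint p.K : ↥p.pt.left)).symm
    rw [hw]
  obtain ⟨l, hl, -⟩ := exists_lift_of_etale ((repWith_yon_map_iff _ c).2 inferInstance) q hp w hpt
  exact ⟨l, (yon S).map_injective (by rw [Functor.map_comp]; exact hl.trans hq)⟩

theorem isCofiltered_etNbhd_of_isGeometric (hX : IsAlgSpace X) (hp : p.IsGeometric) :
    IsCofiltered (EtNbhd p) := by
  have : Nonempty (EtNbhd p) := by
    obtain ⟨T, a, ha, has⟩ := hX.atlas
    obtain ⟨t, ht⟩ := surjective_ofPt has (Points.mk p)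
    obtain ⟨l, hl, -⟩ := exists_lift_of_etale ha p hp t ht
    exact ⟨⟨EtOver.mk a ha, ⟨l, hl⟩⟩⟩
  have : IsCofilteredOrEmpty (EtNbhd p) := by
    constructor
    · rintro ⟨E, u⟩ ⟨E', u'⟩
      obtain ⟨W, f, g, -, -, sq, -, -, hW⟩ := exists_common_chart hX E.property E'.property
      obtain ⟨l, hl1, hl2⟩ : ∃ l : p.pt ⟶ W, l ≫ f = u.1 ∧ l ≫ g = u'.1 := by
        obtain ⟨l, hl⟩ := (yon S).map_surjective
          (sq.lift ((yon S).map u.1) ((yon S).map u'.1) (u.2.trans u'.2.symm))
        refine ⟨l, (yon S).map_injective ?_, (yon S).map_injective ?_⟩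
        · rw [Functor.map_comp, hl, sq.lift_fst]
        · rw [Functor.map_comp, hl, sq.lift_snd]
      let EW : EtOver X := EtOver.mk _ hW
      refine ⟨⟨EW, l, ?_⟩, ⟨EtOver.homMk (E := EW) f rfl, Subtype.ext hl1⟩,
        ⟨EtOver.homMk (E := EW) g sq.w.symm, Subtype.ext hl2⟩, trivial⟩
      change (yon S).map l ≫ (yon S).map f ≫ E.obj.hom = p.toHom
      rw [← Category.assoc, ← Functor.map_comp, hl1]
      exact u.2
    · rintro ⟨E, u⟩ ⟨E', u'⟩ ⟨f, hf⟩ ⟨g, hg⟩
      have hf1 : u.1 ≫ f.hom.left = u'.1 := congrArg Subtype.val hf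
      have hg1 : u.1 ≫ g.hom.left = u'.1 := congrArg Subtype.val hg
      obtain ⟨W, π₁, π₂, hπ, -, sq, -, -, -⟩ := exists_common_chart hX E'.property E'.property
      obtain ⟨δ, hδ⟩ := (yon S).map_surjective (sq.lift (𝟙 _) (𝟙 _) rfl)
      obtain ⟨m, hm⟩ := (yon S).map_surjective
        (sq.lift ((yon S).map f.hom.left) ((yon S).map g.hom.left)
          ((EtOver.w f).trans (EtOver.w g).symm))
      have δ1 : δ ≫ π₁ = 𝟙 _ := (yon S).map_injective (by
        rw [Functor.map_comp, hδ, sq.lift_fst, CategoryTheory.Functor.map_id])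
      have δ2 : δ ≫ π₂ = 𝟙 _ := (yon S).map_injective (by
        rw [Functor.map_comp, hδ, sq.lift_snd, CategoryTheory.Functor.map_id])
      have m1 : m ≫ π₁ = f.hom.left := (yon S).map_injective (by
        rw [Functor.map_comp, hm, sq.lift_fst])
      have m2 : m ≫ π₂ = g.hom.left := (yon S).map_injective (by
        rw [Functor.map_comp, hm, sq.lift_snd])
      have hδe : Etale δ.left := by
        refine MorphismProperty.HasOfPostcompProperty.of_postcomp (W := @Etale) δ.left π₁.left hπ ?_
        rw [← Over.comp_left, δ1, Over.id_left]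
        infer_instance
      have hι : Etale (pullback.fst m δ).left :=
        MorphismProperty.of_isPullback (P := @Etale)
          ((IsPullback.of_hasPullback m δ).map (Over.forget S)).flip hδe
      have hlm : u.1 ≫ m = u'.1 ≫ δ := by
        apply (yon S).map_injective
        apply sq.hom_ext <;> rw [← Functor.map_comp, ← Functor.map_comp] <;> congr 1 <;>
          simp [Category.assoc, m1, m2, δ1, δ2, hf1, hg1]
      let EE : EtOver X := EtOver.mk ((yon S).map (pullback.fst m δ) ≫ E.obj.hom)
        ((repWith_isMultiplicative (S := S) @Etale).comp_mem _ _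
          ((repWith_yon_map_iff _ _).2 hι) E.property)
      refine ⟨⟨EE, pullback.lift u.1 u'.1 hlm, ?_⟩,
        ⟨EtOver.homMk (E := EE) (pullback.fst m δ) rfl, Subtype.ext (pullback.lift_fst _ _ _)⟩, ?_⟩
      · change (yon S).map (pullback.lift u.1 u'.1 hlm) ≫ (yon S).map (pullback.fst m δ) ≫ _ = _
        rw [← Category.assoc, ← Functor.map_comp, pullback.lift_fst]
        exact u.2
      · apply Subtype.ext
        apply EtOver.hom_ext
        change pullback.fst m δ ≫ f.hom.left = pullback.fst m δ ≫ g.hom.left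
        rw [← m1, ← m2, pullback.condition_assoc, pullback.condition_assoc, δ1, δ2]
  constructor

end Groth.Agent.SpPts86
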