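import Groth.Agent.SpPts86.EtNbhd
import Mathlib.AlgebraicGeometry.Sites.EtalePoint
import Mathlib.CategoryTheory.Sites.Point.Skyscraper
import Mathlib.FieldTheory.IsAlgClosed.AlgebraicClosure

/-!
Geometric points are points of the small etale site of an algebraic space.
-/

universe u

set_option autoImplicit false
set_option backward.isDefEq.respectTransparency false

open CategoryTheory CategoryTheory.Limits AlgebraicGeometry Opposite
open AlgSp Groth.Agent.SpFP87

namespace Groth.Agent.SpPts86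

variable {S : Scheme.{u}} {X : Sp S} (p : FieldPt X)

theorem initiallySmall_etNbhd (hX : IsAlgSpace X) (hp : p.IsGeometric) :
    InitiallySmall.{u} (EtNbhd p) := by
  have : IsCofiltered (EtNbhd p) := isCofiltered_etNbhd_of_isGeometric p hX hp
  obtain ⟨U, a, ha, has⟩ := hX.atlas
  obtain ⟨t, ht⟩ := surjective_ofPt has (Points.mk p)
  obtain ⟨l₀, hl₀, -⟩ := exists_lift_of_etale ha p hp t ht
  let Φ : Scheme.AffineEtale U.left ⥤ EtOver X := Scheme.AffineEtale.Spec U.left ⋙ EtOver.ofChart a ha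
  refine initiallySmall_of_essentiallySmall_weakly_initial_objectProperty
    (CategoryTheory.Functor.Elements.precomp Φ (FieldPt.liftsTo p)).essImage (fun N => ?_)
  let N₀ : EtNbhd p := ⟨EtOver.mk a ha, ⟨l₀, hl₀⟩⟩
  let M := IsCofiltered.min N₀ N
  let g₀ : M.1 ⟶ EtOver.mk a ha := (IsCofiltered.minToLeft N₀ N).1
  let g : M.1.obj.left ⟶ U := g₀.hom.left
  have hg : Etale g.left := EtOver.etale_left g₀
  let x : ↥M.1.obj.left.left := M.2.1.left (IsLocalRing.closedPoint p.K)
  obtain ⟨R, j, hj, hx, -⟩ := Scheme.exists_affine_mem_range_and_range_subset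
    (U := (⊤ : M.1.obj.left.left.Opens)) (x := x) trivial
  have : Etale (j ≫ g.left) := inferInstance
  let y : Spec (CommRingCat.of p.K) ⟶ Spec R := IsOpenImmersion.lift j M.2.1.left (by
    rintro _ ⟨z, rfl⟩
    have hz : z = IsLocalRing.closedPoint p.K := Subsingleton.elim (α := PrimeSpectrum p.K) _ _
    exact hz ▸ hx)
  have hy : y ≫ j = M.2.1.left := IsOpenImmersion.lift_fac _ _ _
  let A : Scheme.AffineEtale U.left := Scheme.AffineEtale.mk (j ≫ g.left)
  let E := Φ.obj A
  have hgM : (yon S).map g ≫ a = M.1.obj.hom := EtOver.w g₀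
  let jE : E.obj.left ⟶ M.1.obj.left := Over.homMk j (by
    show j ≫ M.1.obj.left.hom = (j ≫ g.left) ≫ U.hom
    rw [Category.assoc, Over.w g])
  have hjE : jE ≫ g = EtOver.homOfEtale ((Scheme.AffineEtale.Spec U.left).obj A) :=
    Over.OverMorphism.ext rfl
  let yE : p.pt ⟶ E.obj.left := Over.homMk y (by
    show y ≫ (j ≫ g.left) ≫ U.hom = p.str
    rw [Category.assoc, Over.w g, ← Category.assoc, hy]
    exact Over.w M.2.1)
  have hyE : yE ≫ jE = M.2.1 := Over.OverMorphism.ext hy
  have hyj : (yon S).map yE ≫ E.obj.hom = p.toHom := by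
    show (yon S).map yE ≫ (yon S).map (EtOver.homOfEtale _) ≫ a = p.toHom
    rw [← hjE, Functor.map_comp, Category.assoc, hgM, ← Category.assoc, ← Functor.map_comp, hyE]
    exact M.2.2
  let K : (Φ ⋙ FieldPt.liftsTo p).Elements := ⟨A, ⟨yE, hyj⟩⟩
  refine ⟨_, ⟨K, ⟨Iso.refl _⟩⟩, ⟨?_ ≫ IsCofiltered.minToRight N₀ N⟩⟩
  refine ⟨EtOver.homMk jE ?_, Subtype.ext hyE⟩
  show (yon S).map jE ≫ M.1.obj.hom = (yon S).map (EtOver.homOfEtale _) ≫ a
  rw [← hgM, ← hjE, Functor.map_comp, Category.assoc]

/-- The fibre functor of a geometric point, as a point of the small etale site. -/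
noncomputable def etPoint (hX : IsAlgSpace X) (hp : p.IsGeometric) :
    GrothendieckTopology.Point.{u} (etTop X) where
  fiber := FieldPt.liftsTo p
  isCofiltered := isCofiltered_etNbhd_of_isGeometric p hX hp
  initiallySmall := initiallySmall_etNbhd p hX hp
  jointly_surjective {E} R hR x := by
    obtain ⟨R₀, hR₀, hle⟩ := Precoverage.mem_toGrothendieck_iff_of_isStableUnderComposition.1 hR
    obtain ⟨ι, Z, π, rfl⟩ := Presieve.exists_eq_ofArrows R₀
    obtain ⟨i, w, hw⟩ := (ofArrows_mem_etPre_iff Z π).1 hR₀ (x.1.left (IsLocalRing.closedPoint p.K))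
    have := EtOver.etale_left (π i)
    obtain ⟨l, hl⟩ := exists_lift_cover p hp (π i).hom.left x.1 w hw
    refine ⟨Z i, π i, hle _ _ ⟨i⟩, ⟨l, ?_⟩, Subtype.ext hl⟩
    rw [← EtOver.w (π i), ← Category.assoc, ← Functor.map_comp, hl]
    exact x.2

/-- Every point of an object of the small etale site underlies a lift of a geometric point. -/
theorem exists_geometric_lift (E : EtOver X) (v : ↥E.obj.left.left) :
    ∃ (p : FieldPt X) (l : (FieldPt.liftsTo p).obj E), p.IsGeometric ∧
      l.1.left (IsLocalRing.closedPoint p.K) = v ∧ Points.mk p = Points.ofPt E.obj.hom v := by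
  let T := E.obj.left
  let K := AlgebraicClosure (T.left.residueField v)
  let e : Spec (CommRingCat.of K) ⟶ T.left :=
    Spec.map (CommRingCat.ofHom (algebraMap (T.left.residueField v) K)) ≫ T.left.fromSpecResidueField v
  let str : Spec (CommRingCat.of K) ⟶ S := e ≫ T.hom
  let l : Over.mk str ⟶ T := Over.homMk e rfl
  let p : FieldPt X := ⟨K, str, (J S).uliftYonedaEquiv ((yon S).map l ≫ E.obj.hom)⟩
  have hl : p.toHom = (yon S).map l ≫ E.obj.hom := (J S).uliftYonedaEquiv.injective
    (FieldPt.uliftYonedaEquiv_toHom p)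
  have hv : l.left (IsLocalRing.closedPoint K) = v := by
    show (Spec.map (CommRingCat.ofHom (algebraMap (T.left.residueField v) K)) ≫
      T.left.fromSpecResidueField v) _ = v
    rw [Scheme.Hom.comp_apply]
    exact Scheme.fromSpecResidueField_apply _ _
  refine ⟨p, ⟨l, hl.symm⟩, (inferInstance : IsAlgClosed K), hv, ?_⟩
  rw [← Points.ofPt_toHom p (IsLocalRing.closedPoint K), hl, ofPt_comp]
  exact congrArg _ hv

theorem exists_geometric_point (hX : IsAlgSpace X) (x : Points X) :
    ∃ p : FieldPt X, p.IsGeometric ∧ Points.mk p = x := by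
  obtain ⟨U, a, ha, has⟩ := hX.atlas
  obtain ⟨t, rfl⟩ := surjective_ofPt has x
  obtain ⟨p, l, hp, -, h⟩ := exists_geometric_lift (EtOver.mk a ha) t
  exact ⟨p, hp, h⟩

theorem mk_eq_of_lift {E : EtOver X} (l : (FieldPt.liftsTo p).obj E) :
    Points.mk p = Points.ofPt E.obj.hom (l.1.left (IsLocalRing.closedPoint p.K)) := by
  rw [← ofPt_comp, l.2]
  exact (Points.ofPt_toHom p _).symm

end Groth.Agent.SpPts86

namespace Groth.Agent.SpPts86

instance ab5OfSize_type_succ : AB5OfSize.{u, u} (Type (u + 1)) :=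
  AB5OfSize_of_univLE.{u, u, u + 1, u + 1} _

instance ab5OfSize_ab_succ : AB5OfSize.{u, u} AddCommGrpCat.{u + 1} :=
  AB5OfSize_of_univLE.{u, u, u + 1, u + 1} _

instance preservesFilteredColimitsOfSize_forget_ab_succ :
    PreservesFilteredColimitsOfSize.{u, u} (forget AddCommGrpCat.{u + 1}) :=
  preservesFilteredColimitsOfSize_shrink.{u, u + 1, u, u + 1} _

instance preservesFilteredColimitsOfSize_forget_commRing_succ :
    PreservesFilteredColimitsOfSize.{u, u} (forget CommRingCat.{u + 1}) :=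
  preservesFilteredColimitsOfSize_shrink.{u, u + 1, u, u + 1} _

instance hasColimitsOfSize_commRing_succ : HasColimitsOfSize.{u, u} CommRingCat.{u + 1} :=
  hasColimitsOfSizeShrink.{u, u, u + 1, u + 1} _

end Groth.Agent.SpPts86
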