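import Groth.Agent.SpPts86.EtPoint
import Mathlib.CategoryTheory.Sites.EpiMono
import Mathlib.Algebra.Homology.ShortComplex.Ab
import Mathlib.Algebra.Homology.ShortComplex.PreservesHomology
import Mathlib.CategoryTheory.Limits.Preserves.Shapes.AbelianImages

/-!
The geometric points detect injectivity, surjectivity and exactness on the small etale site.
-/

universe w' v' u' u

set_option autoImplicit false
set_option backward.isDefEq.respectTransparency false

open CategoryTheory CategoryTheory.Limits AlgebraicGeometry Opposite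
open AlgSp Groth.Agent.SpFP87

namespace Groth.Agent.SpPts86

variable {S : Scheme.{u}} {X : Sp S}

/-- A sieve reaching every point is covering. -/
theorem mem_etTop_of_forall {E : EtOver X} (R : Sieve E)
    (h : ∀ v : ↥E.obj.left.left, ∃ (V : EtOver X) (g : V ⟶ E), R g ∧ v ∈ Set.range g.hom.left.left) :
    R ∈ etTop X E := by
  choose V g hg hv using h
  refine GrothendieckTopology.superset_covering _ ?_ (ofArrows_mem_etTop V g fun v => ⟨v, hv v⟩)
  rw [Sieve.generate_le_iff]
  rintro _ _ ⟨v⟩
  exact hg v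

/-- Two sections that agree near every point are equal. -/
theorem eq_of_locally_eq {A : Type u'} [Category.{v'} A] {FA : A → A → Type*} {CA : A → Type (u + 1)}
    [∀ M N, FunLike (FA M N) (CA M) (CA N)] [ConcreteCategory.{u + 1} A FA]
    [(etTop X).HasSheafCompose (forget A)] (F : EtSh X A) {E : EtOver X}
    (s t : ToType (F.obj.obj (op E)))
    (h : ∀ v : ↥E.obj.left.left, ∃ (V : EtOver X) (g : V ⟶ E),
      F.obj.map g.op s = F.obj.map g.op t ∧ v ∈ Set.range g.hom.left.left) : s = t := by
  have hsh := (isSheaf_iff_isSheaf_of_type _ _).1 ((sheafCompose (etTop X) (forget A)).obj F).property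
  let R : Sieve E := ⟨fun V g => F.obj.map g.op s = F.obj.map g.op t, fun {V W g} e k => by
    simp only [op_comp, Functor.map_comp, ConcreteCategory.comp_apply, e]⟩
  exact (hsh.isSeparated R (mem_etTop_of_forall R h)).ext fun _ g hg => hg

/-- A neighbourhood of the image point carries a lift. -/
theorem exists_lift_of_mem_range {p : FieldPt X} (hp : p.IsGeometric) {E V : EtOver X} (g : V ⟶ E)
    (l : (FieldPt.liftsTo p).obj E) (h : l.1.left (IsLocalRing.closedPoint p.K) ∈ Set.range g.hom.left.left) :
    ∃ l' : (FieldPt.liftsTo p).obj V, (FieldPt.liftsTo p).map g l' = l := by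
  obtain ⟨w, hw⟩ := h
  have := EtOver.etale_left g
  obtain ⟨m, hm⟩ := exists_lift_cover p hp g.hom.left l.1 w hw
  refine ⟨⟨m, ?_⟩, Subtype.ext hm⟩
  rw [← EtOver.w g, ← Category.assoc, ← Functor.map_comp, hm]
  exact l.2

theorem mem_range_of_lift {p : FieldPt X} {E V : EtOver X} {g : V ⟶ E} {l : (FieldPt.liftsTo p).obj E}
    {l' : (FieldPt.liftsTo p).obj V} (h : (FieldPt.liftsTo p).map g l' = l) :
    l.1.left (IsLocalRing.closedPoint p.K) ∈ Set.range g.hom.left.left := by
  subst h
  exact ⟨l'.1.left (IsLocalRing.closedPoint p.K), rfl⟩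

/-- Two germs agree iff the sections agree near the image point. -/
theorem germ_eq_iff {A : Type u'} [Category.{v'} A] {FA : A → A → Type*} {CA : A → Type (u + 1)}
    [∀ M N, FunLike (FA M N) (CA M) (CA N)] [ConcreteCategory.{u + 1} A FA]
    [HasColimitsOfSize.{u, u} A] [PreservesFilteredColimitsOfSize.{u, u} (forget A)]
    {p : FieldPt X} (hX : IsAlgSpace X) (hp : p.IsGeometric) (P : (EtOver X)ᵒᵖ ⥤ A) {E : EtOver X}
    (l : (FieldPt.liftsTo p).obj E) (s t : ToType (P.obj (op E))) :
    (etPoint p hX hp).toPresheafFiber E l P s = (etPoint p hX hp).toPresheafFiber E l P t ↔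
      ∃ (V : EtOver X) (g : V ⟶ E), P.map g.op s = P.map g.op t ∧
        l.1.left (IsLocalRing.closedPoint p.K) ∈ Set.range g.hom.left.left := by
  rw [GrothendieckTopology.Point.toPresheafFiber_eq_iff']
  constructor
  · rintro ⟨V, g, y, hy, e⟩
    exact ⟨V, g, e, mem_range_of_lift (p := p) hy⟩
  · rintro ⟨V, g, e, h⟩
    obtain ⟨y, hy⟩ := exists_lift_of_mem_range hp g l h
    exact ⟨V, g, y, hy, e⟩

section Criteria

variable {A : Type u'} [Category.{v'} A] {FA : A → A → Type*} {CA : A → Type (u + 1)}
  [∀ M N, FunLike (FA M N) (CA M) (CA N)] [ConcreteCategory.{u + 1} A FA]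
  [HasColimitsOfSize.{u, u} A] [PreservesFilteredColimitsOfSize.{u, u} (forget A)]

/-- Injective on all stalks implies injective on all sections. -/
theorem app_injective_of_stalks [(etTop X).HasSheafCompose (forget A)] (hX : IsAlgSpace X) {F G : EtSh X A}
    (a : F ⟶ G)
    (h : ∀ (p : FieldPt X) (hp : p.IsGeometric), Function.Injective ((etPoint p hX hp).sheafFiber.map a))
    (E : EtOver X) : Function.Injective (a.hom.app (op E)) := by
  intro s t e
  refine eq_of_locally_eq F s t fun v => ?_
  obtain ⟨p, l, hp, hv, -⟩ := exists_geometric_lift E v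
  subst hv
  refine (germ_eq_iff hX hp F.obj l s t).1 (h p hp ?_)
  show (etPoint p hX hp).presheafFiber.map a.hom _ = (etPoint p hX hp).presheafFiber.map a.hom _
  rw [GrothendieckTopology.Point.toPresheafFiber_naturality_apply,
    GrothendieckTopology.Point.toPresheafFiber_naturality_apply, e]

/-- Surjective on all stalks implies locally surjective. -/
theorem isLocallySurjective_of_stalks (hX : IsAlgSpace X) {P Q : (EtOver X)ᵒᵖ ⥤ A} (a : P ⟶ Q)
    (h : ∀ (p : FieldPt X) (hp : p.IsGeometric), Function.Surjective ((etPoint p hX hp).presheafFiber.map a)) :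
    Presheaf.IsLocallySurjective (etTop X) a := by
  refine ⟨fun {E} s => mem_etTop_of_forall _ fun v => ?_⟩
  obtain ⟨p, l, hp, hv, -⟩ := exists_geometric_lift E v
  subst hv
  obtain ⟨z, hz⟩ := h p hp ((etPoint p hX hp).toPresheafFiber E l Q s)
  obtain ⟨V, (m : (FieldPt.liftsTo p).obj V), w, rfl⟩ := (etPoint p hX hp).toPresheafFiber_jointly_surjective z
  rw [GrothendieckTopology.Point.toPresheafFiber_naturality_apply] at hz
  let Φ := etPoint p hX hp
  let N : Φ.fiber.Elements := ⟨V, m⟩
  let M : Φ.fiber.Elements := ⟨E, l⟩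
  let f₁ : (IsCofiltered.min N M).1 ⟶ V := (IsCofiltered.minToLeft N M).1
  let f₂ : (IsCofiltered.min N M).1 ⟶ E := (IsCofiltered.minToRight N M).1
  have h₁ : Φ.fiber.map f₁ (IsCofiltered.min N M).2 = m := (IsCofiltered.minToLeft N M).2
  have h₂ : Φ.fiber.map f₂ (IsCofiltered.min N M).2 = l := (IsCofiltered.minToRight N M).2
  have e : Φ.toPresheafFiber _ (IsCofiltered.min N M).2 Q (Q.map f₁.op (a.app _ w)) =
      Φ.toPresheafFiber _ (IsCofiltered.min N M).2 Q (Q.map f₂.op s) := by
    rw [GrothendieckTopology.Point.toPresheafFiber_w_apply,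
      GrothendieckTopology.Point.toPresheafFiber_w_apply, h₁, h₂]
    exact hz
  obtain ⟨W, g, k, hk, e'⟩ := (Φ.toPresheafFiber_eq_iff' _ _ _ _).1 e
  refine ⟨W, g ≫ f₂, ⟨P.map (g ≫ f₁).op w, ?_⟩, mem_range_of_lift (p := p) (l' := k) ?_⟩
  · rw [op_comp, op_comp, Functor.map_comp, Functor.map_comp, ConcreteCategory.comp_apply,
      ConcreteCategory.comp_apply, NatTrans.naturality_apply, NatTrans.naturality_apply]
    exact e'
  · show Φ.fiber.map (g ≫ f₂) k = l
    rw [Functor.map_comp, ConcreteCategory.comp_apply, hk, h₂]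

end Criteria

/-- An abelian sheaf with vanishing stalks at all geometric points vanishes. -/
theorem isZero_of_stalks (hX : IsAlgSpace X) (F : AbEt X)
    (h : ∀ (p : FieldPt X) (hp : p.IsGeometric), IsZero ((etPoint p hX hp).sheafFiber.obj F)) : IsZero F := by
  rw [IsZero.iff_id_eq_zero]
  apply Sheaf.hom_ext
  ext E s
  refine eq_of_locally_eq F _ _ fun v => ?_
  obtain ⟨p, l, hp, hv, -⟩ := exists_geometric_lift E.unop v
  subst hv
  have := AddCommGrpCat.subsingleton_of_isZero (h p hp)
  exact (germ_eq_iff hX hp F.obj l _ _).1 (@Subsingleton.elim _ this _ _)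

/-- Exactness of abelian sheaves is detected by geometric points. -/
theorem exact_iff_stalks (hX : IsAlgSpace X) (C : ShortComplex (AbEt X)) :
    C.Exact ↔ ∀ (p : FieldPt X) (hp : p.IsGeometric), (C.map (etPoint p hX hp).sheafFiber).Exact := by
  refine ⟨fun h p hp => h.map _, fun h => ?_⟩
  rw [C.exact_iff_isZero_homology]
  refine isZero_of_stalks hX _ fun p hp => ?_
  exact (((ShortComplex.exact_iff_isZero_homology _).1 (h p hp))).of_iso (C.mapHomologyIso _).symm

end Groth.Agent.SpPts86
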