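import Groth.Agent.SpPts86.EtLocalRingX
import Groth.Agent.Henz21.Unique
import Groth.Agent.Hensel20.HenzProps
import Groth.Agent.SpPts86.Noeth

/-!
Ring theoretic properties of the etale local ring read on a chart.
-/

universe v u

set_option autoImplicit false
set_option backward.isDefEq.respectTransparency false

open CategoryTheory CategoryTheory.Limits AlgebraicGeometry IsLocalRing
open AlgSp Groth.Agent.SpFP87

namespace Groth.Agent.SpPts86

theorem isSepClosed_of_equiv' {k : Type u} {k' : Type v} [Field k] [Field k'] (e : k ≃+* k')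
    (h : IsSepClosed k) : IsSepClosed k' := by
  refine IsSepClosed.of_exists_root k' fun P hm hirr hsep => ?_
  obtain ⟨x, hx⟩ := IsSepClosed.exists_root (P.map e.symm.toRingHom)
    (by rw [Polynomial.degree_map]; exact (Polynomial.degree_pos_of_irreducible hirr).ne')
    hsep.map
  refine ⟨e x, ?_⟩
  rw [Polynomial.IsRoot, Polynomial.eval_map] at hx
  have h := congrArg e hx
  rw [map_zero, show e (Polynomial.eval₂ e.symm.toRingHom x P) = e.toRingHom _ from rfl,
    Polynomial.hom_eval₂, show e.toRingHom.comp e.symm.toRingHom = RingHom.id k' from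
      RingHom.ext fun y => e.apply_symm_apply y] at h
  exact h

theorem isStrictlyHenselian_of_ringEquiv {R : Type u} {R' : Type v} [CommRing R] [CommRing R'] (e : R ≃+* R')
    (h : EtCoh.IsStrictlyHenselianLocalRing R) : EtCoh.IsStrictlyHenselianLocalRing R' := by
  obtain ⟨hH, hs⟩ := h
  have : IsLocalRing R' := e.isLocalRing
  have hm : ∀ r, e r ∈ maximalIdeal R' ↔ r ∈ maximalIdeal R := fun r => by
    simp only [mem_maximalIdeal, mem_nonunits_iff, MulEquiv.isUnit_map]
  have hH' : HenselianLocalRing R' := ⟨fun f hf a₀ h0 h1 => by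
    obtain ⟨f, rfl⟩ := Polynomial.map_surjective e.toRingHom e.surjective f
    obtain ⟨a₀, rfl⟩ := e.surjective a₀
    have hmon : f.Monic := Polynomial.monic_of_injective e.injective hf
    obtain ⟨a, ha, hβ⟩ := hH.is_henselian f hmon a₀
      ((hm _).1 (by rw [show e a₀ = e.toRingHom a₀ from rfl, Polynomial.eval_map_apply] at h0; exact h0))
      (by
        rw [Polynomial.derivative_map, show e a₀ = e.toRingHom a₀ from rfl, Polynomial.eval_map_apply] at h1
        exact (MulEquiv.isUnit_map e).1 h1)
    refine ⟨e a, ?_, ?_⟩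
    · rw [Polynomial.IsRoot, show e a = e.toRingHom a from rfl, Polynomial.eval_map_apply, ha.eq_zero, map_zero]
    · rw [← map_sub]
      exact (hm _).2 hβ⟩
  exact ⟨hH', isSepClosed_of_equiv' (ResidueField.mapEquiv e) hs⟩

variable {S : Scheme.{u}} {X : Sp S}

/-- The properties of the etale local ring used below, on a chart. -/
theorem oEtStalk_props (hX : IsAlgSpace X) {p : FieldPt X} (hp : p.IsGeometric) {U : Over S}
    {a : (yon S).obj U ⟶ X} (ha : RepWith @Etale a) (u : ↥U.left) (hu : Points.ofPt a u = Points.mk p) :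
    ringKrullDim ↥(OEtStalk p) = ringKrullDim ↥(U.left.presheaf.stalk u) ∧
      (_root_.IsReduced ↥(OEtStalk p) ↔ _root_.IsReduced ↥(U.left.presheaf.stalk u)) ∧
      (IsNoetherianRing ↥(U.left.presheaf.stalk u) → IsNoetherianRing ↥(OEtStalk p)) ∧
      (IsRegularLocalRing ↥(OEtStalk p) ↔ IsRegularLocalRing ↥(U.left.presheaf.stalk u)) := by
  have : IsSepClosed p.K := @IsSepClosed.of_isAlgClosed p.K _ hp
  obtain ⟨R, _, _, _, _, hR, -, ⟨θ⟩⟩ := exists_strictHenselization_ringEquiv hX hp ha u hu
  let e := Henz21.strictHenselizationEquiv (R := U.left.presheaf.stalk u) R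
  refine ⟨(ringKrullDim_eq_of_ringEquiv θ).symm.trans (Hensel20.ringKrullDim_eq_of_equiv e), ?_, ?_, ?_⟩
  · rw [← Hensel20.isReduced_iff_of_equiv e]
    exact ⟨fun _ => isReduced_of_injective θ θ.injective, fun _ => isReduced_of_injective θ.symm θ.symm.injective⟩
  · intro h
    have := (Hensel20.isNoetherianRing_iff_of_equiv e).1 h
    exact isNoetherianRing_of_ringEquiv R θ
  · constructor
    · intro h
      have : IsRegularLocalRing R := IsRegularLocalRing.of_ringEquiv θ.symm
      have := (Hensel20.isNoetherianRing_iff_of_equiv e).2 inferInstance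
      exact (Hensel20.isRegular_iff_of_equiv e).1 inferInstance
    · intro h
      have := (Hensel20.isRegular_iff_of_equiv e).2 h
      exact IsRegularLocalRing.of_ringEquiv θ

theorem isStrictlyHenselian_oEtStalk (hX : IsAlgSpace X) {p : FieldPt X} (hp : p.IsGeometric) :
    EtCoh.IsStrictlyHenselianLocalRing ↥(OEtStalk p) := by
  have : IsSepClosed p.K := @IsSepClosed.of_isAlgClosed p.K _ hp
  obtain ⟨U, a, ha, has⟩ := hX.atlas
  obtain ⟨u, hu⟩ := surjective_ofPt has (Points.mk p)
  obtain ⟨R, _, _, _, _, -, h, ⟨θ⟩⟩ := exists_strictHenselization_ringEquiv hX hp ha u hu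
  exact isStrictlyHenselian_of_ringEquiv θ h

/-- A property of the local rings of charts which is read off on the etale local ring. -/
theorem hasAt_iff_oEtStalk (hX : IsAlgSpace X) {Q : ∀ (U : Scheme.{u}), ↥U → Prop}
    {p : FieldPt X} {P : Prop}
    (h : ∀ (U : Over S) (a : (yon S).obj U ⟶ X) (u : ↥U.left), RepWith @Etale a →
      Points.ofPt a u = Points.mk p → (Q U.left u ↔ P)) :
    HasAt Q X (Points.mk p) ↔ P := by
  constructor
  · rintro ⟨U, a, u, ha, hu, hQ⟩
    exact (h U a u ha hu).1 hQ
  · intro hP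
    obtain ⟨U, a, ha, has⟩ := hX.atlas
    obtain ⟨u, hu⟩ := surjective_ofPt has (Points.mk p)
    exact ⟨U, a, u, ha, hu, (h U a u ha hu).2 hP⟩

end Groth.Agent.SpPts86
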