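import Groth.Agent.SpPts86.EtStalkProps
import Groth.Agent.Henz21.FaithfullyFlat
import Groth.Prelude.Def_CAlgX
import Groth.Prelude.Def_CAlg2
import Groth.Agent.Brnch26.Local
import Groth.Agent.Brnch26.Emb

/-!
Unibranchness read on the etale local ring.
-/

universe v w u

set_option autoImplicit false
set_option backward.isDefEq.respectTransparency false

open CategoryTheory CategoryTheory.Limits AlgebraicGeometry IsLocalRing Opposite
open AlgSp Groth.Agent.SpFP87

namespace Groth.Agent.SpPts86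

theorem ump_iff_nilradical {A : Type v} [CommRing A] :
    CAlgX.HasUniqueMinimalPrime A ↔ (nilradical A).IsPrime := by
  constructor
  · rintro ⟨q, hq, hu⟩
    have : nilradical A = q := by
      show (⊥ : Ideal A).radical = q
      rw [← Ideal.sInf_minimalPrimes,
        show (⊥ : Ideal A).minimalPrimes = {q} from Set.eq_singleton_iff_unique_mem.2 ⟨hq, hu⟩, sInf_singleton]
    exact this ▸ Ideal.minimalPrimes_isPrime hq
  · intro h
    have hle : ∀ q : Ideal A, q.IsPrime → nilradical A ≤ q := fun q hq => nilradical_le_prime q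
    refine ⟨nilradical A, ⟨⟨h, bot_le⟩, fun q hq _ => hle q hq.1⟩, fun q hq => ?_⟩
    exact le_antisymm (hq.2 ⟨h, bot_le⟩ (hle q hq.1.1)) (hle q hq.1.1)

theorem isPrime_nilradical_of_injective {A : Type v} {B : Type w} [CommRing A] [CommRing B] (f : A →+* B)
    (hf : Function.Injective f) (h : (nilradical B).IsPrime) : (nilradical A).IsPrime := by
  have e : (nilradical B).comap f = nilradical A := by
    ext a
    simp only [Ideal.mem_comap, mem_nilradical]
    exact IsNilpotent.map_iff hf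
  exact e ▸ Ideal.IsPrime.comap f

variable {S : Scheme.{u}} {X : Sp S}

theorem exists_restrict {p : FieldPt X} (hX : IsAlgSpace X) (hp : p.IsGeometric) {E : EtOver X}
    (l : (FieldPt.liftsTo p).obj E) (s : Γ(E.obj.left.left, ⊤)) (n : ℕ)
    (h : E.obj.left.left.presheaf.germ ⊤ (l.1.left (closedPoint p.K)) trivial (s ^ n) = 0) :
    IsNilpotent ((etPoint p hX hp).toPresheafFiber E l (OEt X).obj (ULift.up s)) := by
  obtain ⟨(O : E.obj.left.left.Opens), hxO, i₁, i₂, e⟩ := E.obj.left.left.presheaf.germ_eq (l.1.left (closedPoint p.K))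
    (U := (⊤ : E.obj.left.left.Opens)) (V := (⊤ : E.obj.left.left.Opens)) trivial trivial (s ^ n) 0
    (by rw [h, map_zero])
  let U₁ : Over S := Over.mk (O.ι ≫ E.obj.left.hom)
  let j : U₁ ⟶ E.obj.left := Over.homMk O.ι rfl
  let V : EtOver X := EtOver.mk ((yon S).map j ≫ E.obj.hom)
    ((repWith_isMultiplicative (S := S) @Etale).comp_mem _ _
      ((repWith_yon_map_iff _ _).2 (inferInstanceAs (Etale O.ι))) E.property)
  let g : V ⟶ E := EtOver.homMk j rfl
  refine ⟨n, ?_⟩
  rw [← map_pow, ← map_zero ((etPoint p hX hp).toPresheafFiber E l (OEt X).obj).hom]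
  refine (germ_eq_iff hX hp (OEt X).obj l _ 0).2 ⟨V, g, ?_, (⟨_, hxO⟩ : O.toScheme), rfl⟩
  refine (OEt_map g _).trans (Eq.trans (ULift.ext _ _ ?_) (OEt_map g _).symm)
  show O.ι.appTop (s ^ n) = O.ι.appTop (0 : Γ(E.obj.left.left, ⊤))
  have hO : E.obj.left.left.presheaf.map (homOfLE (le_top : O ≤ ⊤)).op (s ^ n) = 0 := by
    rw [map_zero] at e
    exact e
  rw [map_zero, Scheme.Opens.ι_appTop]
  have : E.obj.left.left.presheaf.map (homOfLE (le_top : O.ι ''ᵁ ⊤ ≤ ⊤)).op (s ^ n) = 0 := by
    have h' := congrArg (E.obj.left.left.presheaf.map (homOfLE (show O.ι ''ᵁ ⊤ ≤ O by simp)).op) hO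
    rw [map_zero, ← ConcreteCategory.comp_apply, ← Functor.map_comp] at h'
    exact h'
  exact this

/-- If all local rings of charts over a point have prime nilradical, so has the etale local ring. -/
theorem isPrime_nilradical_oEtStalk (hX : IsAlgSpace X) {p : FieldPt X} (hp : p.IsGeometric)
    (h : ∀ (U : Over S) (a : (yon S).obj U ⟶ X) (u : ↥U.left), RepWith @Etale a →
      Points.ofPt a u = Points.mk p → (nilradical ↥(U.left.presheaf.stalk u)).IsPrime) :
    (nilradical ↥(OEtStalk p)).IsPrime := by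
  have : IsLocalRing ↥(OEtStalk p) := (isStrictlyHenselian_oEtStalk hX hp).1.toIsLocalRing
  refine Ideal.isPrime_iff.2 ⟨fun e => ?_, fun {a b} hab => ?_⟩
  · exact one_ne_zero (IsReduced.eq_zero (R := ↥(OEtStalk p) ⧸ maximalIdeal ↥(OEtStalk p)) 1
      ((mem_nilradical.1 (e ▸ Submodule.mem_top : (1 : ↥(OEtStalk p)) ∈ nilradical _)).map (Ideal.Quotient.mk _)))
  let Φ := etPoint p hX hp
  obtain ⟨E, (l : (FieldPt.liftsTo p).obj E), ⟨s⟩, ⟨t⟩, rfl, rfl⟩ :=
    Φ.toPresheafFiber_jointly_surjective₂ (P := (OEt X).obj) a b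
  obtain ⟨n, hn⟩ := mem_nilradical.1 hab
  let φ := (Φ.toPresheafFiber E l (OEt X).obj).hom
  have hn' : φ ((ULift.up s * ULift.up t) ^ n) = φ 0 :=
    ((map_pow φ _ n).trans (congrArg (· ^ n) (map_mul φ _ _))).trans (hn.trans (map_zero φ).symm)
  obtain ⟨V, g, e, hl⟩ := (germ_eq_iff hX hp (OEt X).obj l _ 0).1 hn'
  obtain ⟨m, hm⟩ := exists_lift_of_mem_range hp g l hl
  have hw : ∀ r : Γ(E.obj.left.left, ⊤), Φ.toPresheafFiber E l (OEt X).obj (ULift.up r) =
      Φ.toPresheafFiber V m (OEt X).obj (ULift.up (g.hom.left.left.appTop r)) := fun r => by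
    rw [← hm]
    refine (Φ.toPresheafFiber_w_apply g m (OEt X).obj _).symm.trans (congrArg _ ?_)
    exact OEt_map g _
  have e' : g.hom.left.left.appTop ((s * t) ^ n) = 0 := by
    have := congrArg ULift.down e
    rw [map_zero] at this
    exact this
  rw [map_pow, map_mul] at e'
  rw [mem_nilradical, mem_nilradical, hw, hw]
  let x := m.1.left (closedPoint p.K)
  have hP := h V.obj.left V.obj.hom x V.property (mk_eq_of_lift p m).symm
  have hst := hP.mem_or_mem (x := V.obj.left.left.presheaf.germ ⊤ x trivial (g.hom.left.left.appTop s))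
    (y := V.obj.left.left.presheaf.germ ⊤ x trivial (g.hom.left.left.appTop t)) (by
      rw [mem_nilradical, ← map_mul]
      exact ⟨n, by rw [← map_pow, e', map_zero]⟩)
  rcases hst with h' | h' <;> obtain ⟨k, hk⟩ := mem_nilradical.1 h' <;> rw [← map_pow] at hk
  · exact Or.inl (exists_restrict hX hp m _ k hk)
  · exact Or.inr (exists_restrict hX hp m _ k hk)

/-- Unique minimality on the etale local ring is geometric unibranchness on charts. -/
theorem geomUnibranch_iff_oEtStalk (hX : IsAlgSpace X) {p : FieldPt X} (hp : p.IsGeometric) {U : Over S}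
    {a : (yon S).obj U ⟶ X} (ha : RepWith @Etale a) (u : ↥U.left) (hu : Points.ofPt a u = Points.mk p) :
    (CAlg2.IsGeomUnibranch ↥(U.left.presheaf.stalk u) ↔ (nilradical ↥(OEtStalk p)).IsPrime) ∧
      ((nilradical ↥(OEtStalk p)).IsPrime → (nilradical ↥(U.left.presheaf.stalk u)).IsPrime) := by
  have : IsSepClosed p.K := @IsSepClosed.of_isAlgClosed p.K _ hp
  obtain ⟨R, _, _, _, _, hR, -, ⟨θ⟩⟩ := exists_strictHenselization_ringEquiv hX hp ha u hu
  have hθ : (nilradical ↥(OEtStalk p)).IsPrime ↔ (nilradical R).IsPrime :=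
    ⟨isPrime_nilradical_of_injective θ.toRingHom θ.injective,
      isPrime_nilradical_of_injective θ.symm.toRingHom θ.symm.injective⟩
  have h2 : CAlg2.IsGeomUnibranch ↥(U.left.presheaf.stalk u) ↔ CAlgX.HasUniqueMinimalPrime R := by
    rw [← Brnch26.isGeomUnibranch_iff,
      ← Brnch26.card_minimalPrimes_of_isStrictHenselization (A := ↥(U.left.presheaf.stalk u)) R,
      ENat.card_eq_one_iff_unique]
    constructor
    · rintro ⟨i⟩
      exact ⟨i.default.1, i.default.2, fun q hq => congrArg Subtype.val (i.uniq ⟨q, hq⟩)⟩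
    · rintro ⟨q, hq, hq'⟩
      exact ⟨{ default := ⟨q, hq⟩, uniq := fun r => Subtype.ext (hq' _ r.2) }⟩
  refine ⟨h2.trans (ump_iff_nilradical.trans hθ.symm), fun h => ?_⟩
  have := Henz21.strictHenselization_faithfullyFlat (R := ↥(U.left.presheaf.stalk u)) R
  exact isPrime_nilradical_of_injective _
    (FaithfulSMul.algebraMap_injective ↥(U.left.presheaf.stalk u) R) (hθ.1 h)

end Groth.Agent.SpPts86
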