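import Groth.Agent.SpPts86.EtTopPoint

/-!
A point of the small etale topos has the stalk functor of a geometric point.
-/

universe w v' u' u

set_option autoImplicit false
set_option backward.isDefEq.respectTransparency false
set_option linter.style.haveILetI false

open CategoryTheory CategoryTheory.Limits AlgebraicGeometry Opposite
open AlgSp Groth.Agent.SpFP87

namespace Groth.Agent.SpPts86

/-- Isomorphic set valued functors have equivalent categories of elements. -/
noncomputable def elementsEquivalence {C : Type*} [Category C] {F G : C ⥤ Type w} (e : F ≅ G) :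
    F.Elements ≌ G.Elements :=
  CategoryTheory.Equivalence.mk (CategoryOfElements.map e.hom) (CategoryOfElements.map e.inv)
    (NatIso.ofComponents (fun x => CategoryOfElements.isoMk _ _ (Iso.refl _)
      (by
        show F.map (𝟙 x.1) x.2 = e.inv.app x.1 (e.hom.app x.1 x.2)
        simp)) (fun {x y} f => by ext; simp))
    (NatIso.ofComponents (fun x => CategoryOfElements.isoMk _ _ (Iso.refl _)
      (by
        show G.map (𝟙 x.1) (e.hom.app x.1 (e.inv.app x.1 x.2)) = x.2
        simp)) (fun {x y} f => by ext; simp))

variable {S : Scheme.{u}} {X : Sp S}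

theorem exists_geometric_point_iso (P : GrothendieckTopology.Point.{u} (etTop X)) :
    ∃ p : FieldPt X, p.IsGeometric ∧
      Nonempty (P.sheafFiber (A := Type (u + 1)) ≅ stalkEtFunctor (Type (u + 1)) p) := by
  haveI : Nonempty P.fiber.Elements := IsCofiltered.nonempty
  let M₀ : P.fiber.Elements := Classical.arbitrary _
  obtain ⟨p, l₀, hp, hl, -⟩ := exists_geometric_lift M₀.1 (supp P M₀.2)
  obtain ⟨σ, hσ⟩ := exists_sections_etTop P l₀ hp hl
  obtain ⟨e⟩ := nonempty_fiber_iso P σ hσ
  let E := elementsEquivalence e
  haveI : E.functor.op.IsEquivalence := inferInstance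
  refine ⟨p, hp, ⟨Functor.isoWhiskerLeft (sheafToPresheaf (etTop X) (Type (u + 1))) ?_⟩⟩
  exact Functor.isoWhiskerLeft ((Functor.whiskeringLeft _ _ _).obj (EtNbhd.toEtOver p).op)
    (Functor.Final.colimIso E.functor.op)

end Groth.Agent.SpPts86
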