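import Groth.Agent.SpPts86.EtRestrict

/-!
The localisation of the small etale site at a chart.
-/

universe u

set_option autoImplicit false
set_option backward.isDefEq.respectTransparency false
set_option linter.style.haveILetI false

open CategoryTheory CategoryTheory.Limits AlgebraicGeometry Opposite
open AlgSp Groth.Agent.SpFP87

namespace Groth.Agent.SpPts86

variable {S : Scheme.{u}} {X : Sp S} {U : Over S} {p : (yon S).obj U ⟶ X} (hp : RepWith @Etale p)

theorem overToChart_w {o o' : Over (EtOver.mk p hp)} (g : o ⟶ o') :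
    (yon S).map g.left.hom.left ≫ (yon S).map o'.hom.hom.left = (yon S).map o.hom.hom.left := by
  have e : g.left.hom.left ≫ o'.hom.hom.left = o.hom.hom.left :=
    congrArg (fun k : o.left ⟶ EtOver.mk p hp => k.hom.left) (Over.w g)
  exact ((yon S).map_comp g.left.hom.left o'.hom.hom.left).symm.trans (congrArg ((yon S).map ·) e)

/-- The comparison functor. -/
noncomputable def overToChart : Over (EtOver.mk p hp) ⥤ EtOver ((yon S).obj U) where
  obj o := EtOver.mk ((yon S).map o.hom.hom.left) ((repWith_yon_map_iff _ _).2 (EtOver.etale_left o.hom))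
  map {o o'} g := EtOver.homMk g.left.hom.left (overToChart_w hp g)
  map_id _ := EtOver.hom_ext _ _ rfl
  map_comp _ _ := EtOver.hom_ext _ _ rfl

theorem exists_overToChart_preimage {o : Over (EtOver.mk p hp)} {V : EtOver ((yon S).obj U)}
    (g : V ⟶ (overToChart hp).obj o) :
    ∃ (o' : Over (EtOver.mk p hp)) (g' : o' ⟶ o) (k : (overToChart hp).obj o' ⟶ V),
      k ≫ g = (overToChart hp).map g' ∧ Function.Surjective k.hom.left.left := by
  haveI : Etale g.hom.left.left := EtOver.etale_left g
  let W : EtOver X := EtOver.mk ((yon S).map g.hom.left ≫ o.left.obj.hom) (repWith_etale_comp g.hom.left o.left.property)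
  let g₀ : W ⟶ o.left := EtOver.homMk g.hom.left rfl
  refine ⟨Over.mk (g₀ ≫ o.hom), Over.homMk g₀ rfl, EtOver.homMk (𝟙 V.obj.left) ?_,
    EtOver.hom_ext _ _ (Category.id_comp _), fun v => ⟨v, rfl⟩⟩
  show (yon S).map (𝟙 V.obj.left) ≫ V.obj.hom = (yon S).map (g.hom.left ≫ o.hom.hom.left)
  rw [CategoryTheory.Functor.map_id, Category.id_comp, ← EtOver.w g, Functor.map_comp]
  rfl

instance overToChart_faithful : (overToChart hp).Faithful :=
  ⟨fun {o o'} a b e => Over.OverMorphism.ext (EtOver.hom_ext _ _
    (congrArg (fun k : (overToChart hp).obj o ⟶ (overToChart hp).obj o' => k.hom.left) e))⟩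

instance overToChart_full : (overToChart hp).Full :=
  ⟨fun {o o'} g => by
    have hg : g.hom.left ≫ o'.hom.hom.left = o.hom.hom.left := (yon S).map_injective (by
      rw [Functor.map_comp]; exact EtOver.w g)
    refine ⟨Over.homMk (EtOver.homMk g.hom.left ?_) (EtOver.hom_ext _ _ hg), EtOver.hom_ext _ _ rfl⟩
    show (yon S).map g.hom.left ≫ o'.left.obj.hom = o.left.obj.hom
    rw [← EtOver.w o'.hom, ← EtOver.w o.hom, ← Category.assoc, ← Functor.map_comp, hg]⟩

instance overToChart_essSurj : (overToChart hp).EssSurj :=
  ⟨fun V => by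
    obtain ⟨v, hv⟩ := (yon S).map_surjective V.obj.hom
    let o : Over (EtOver.mk p hp) := Over.mk (Y := (postComp hp).obj V)
      (EtOver.homMk v (by show (yon S).map v ≫ p = V.obj.hom ≫ p; rw [hv]))
    exact ⟨o, ⟨{ hom := EtOver.homMk (E := (overToChart hp).obj o) (E' := V) (𝟙 V.obj.left)
                    ((yon_map_id_comp V.obj.hom).trans hv.symm)
                 inv := EtOver.homMk (E := V) (E' := (overToChart hp).obj o) (𝟙 V.obj.left)
                    ((yon_map_id_comp ((yon S).map v)).trans hv)
                 hom_inv_id := EtOver.hom_ext _ _ (Category.id_comp _)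
                 inv_hom_id := EtOver.hom_ext _ _ (Category.id_comp _) }⟩⟩⟩

instance overToChart_isEquivalence : (overToChart hp).IsEquivalence := { }

instance overToChart_isCocontinuous :
    (overToChart hp).IsCocontinuous ((etTop X).over (EtOver.mk p hp)) (etTop ((yon S).obj U)) where
  cover_lift {o R} hR := by
    rw [GrothendieckTopology.mem_over_iff]
    refine mem_etTop_of_forall _ fun v => ?_
    obtain ⟨V, g, hg, hv⟩ := exists_mem_range_of_mem_etTop hR v
    obtain ⟨o', g', k, hk, hks⟩ := exists_overToChart_preimage hp g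
    refine ⟨o'.left, g'.left, ?_, ?_⟩
    · refine (Sieve.overEquiv_iff _ _).2 ?_
      have e : Over.mk (g'.left ≫ o.hom) = o' := by rw [Over.w g']; rfl
      have key : ∀ (o'' : Over (EtOver.mk p hp)) (g'' : o'' ⟶ o) (_ : o'' = o') (_ : HEq g''.left g'.left),
          R ((overToChart hp).map g'') := by
        rintro o'' g'' rfl h2
        have : g'' = g' := Over.OverMorphism.ext (eq_of_heq h2)
        rw [this, ← hk]
        exact R.downward_closed hg k
      exact key _ (Over.homMk (U := Over.mk (g'.left ≫ o.hom)) g'.left rfl) e HEq.rfl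
    · obtain ⟨w, rfl⟩ := hv
      obtain ⟨w', rfl⟩ := hks w
      exact ⟨w', congrArg (fun m : (overToChart hp).obj o' ⟶ (overToChart hp).obj o => m.hom.left.left w') hk.symm⟩

theorem coverPreserving_overToChart :
    CoverPreserving ((etTop X).over (EtOver.mk p hp)) (etTop ((yon S).obj U)) (overToChart hp) where
  cover_preserve {o R} hR := mem_etTop_of_forall _ fun v => by
    rw [GrothendieckTopology.mem_over_iff] at hR
    obtain ⟨W, g, hg, hv⟩ := exists_mem_range_of_mem_etTop hR v
    exact ⟨_, _, Presieve.image_mem_functorPushforward _ _ ((Sieve.overEquiv_iff _ _).1 hg), hv⟩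

instance overToChart_preservesOneHypercovers :
    Functor.PreservesOneHypercovers.{u + 1} (overToChart hp) ((etTop X).over (EtOver.mk p hp)) (etTop ((yon S).obj U)) :=
  Functor.PreservesOneHypercovers.of_coverPreserving (coverPreserving_overToChart hp)

instance overToChart_isContinuous :
    (overToChart hp).IsContinuous ((etTop X).over (EtOver.mk p hp)) (etTop ((yon S).obj U)) := inferInstance

/-- The structure sheaves agree. -/
noncomputable def overToChartRingHom :
    (OEtRing X).over (EtOver.mk p hp) ⟶
      ((overToChart hp).sheafPushforwardContinuous RingCat.{u + 1} ((etTop X).over (EtOver.mk p hp))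
        (etTop ((yon S).obj U))).obj (OEtRing ((yon S).obj U)) :=
  ObjectProperty.homMk
    { app := fun o => 𝟙 (((OEtRing X).over (EtOver.mk p hp)).obj.obj o)
      naturality := fun _ _ _ => rfl }

instance isIso_overToChartRingHom : IsIso (overToChartRingHom hp) := by
  haveI : ∀ o, IsIso ((overToChartRingHom hp).hom.app o) := fun o =>
    inferInstanceAs (IsIso (𝟙 (((OEtRing X).over (EtOver.mk p hp)).obj.obj o)))
  haveI : IsIso (overToChartRingHom hp).hom := NatIso.isIso_of_isIso_app _
  haveI : IsIso ((sheafToPresheaf ((etTop X).over (EtOver.mk p hp)) RingCat.{u + 1}).map (overToChartRingHom hp)) :=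
    inferInstanceAs (IsIso (overToChartRingHom hp).hom)
  exact isIso_of_reflects_iso (overToChartRingHom hp) (sheafToPresheaf ((etTop X).over (EtOver.mk p hp)) RingCat.{u + 1})

/-- The comparison with forgetting. -/
noncomputable def overToChartCompIso : Over.forget (EtOver.mk p hp) ≅ overToChart hp ⋙ postComp hp :=
  NatIso.ofComponents
    (fun o =>
      { hom := EtOver.homMk (E := o.left) (E' := (postComp hp).obj ((overToChart hp).obj o)) (𝟙 o.left.obj.left)
          ((yon_map_id_comp _).trans (EtOver.w o.hom))
        inv := EtOver.homMk (E := (postComp hp).obj ((overToChart hp).obj o)) (E' := o.left) (𝟙 o.left.obj.left)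
          ((yon_map_id_comp _).trans (EtOver.w o.hom).symm)
        hom_inv_id := EtOver.hom_ext _ _ (Category.id_comp _)
        inv_hom_id := EtOver.hom_ext _ _ (Category.id_comp _) })
    (fun {o o'} g => EtOver.hom_ext _ _ ((Category.comp_id _).trans (Category.id_comp _).symm))

/-- The restriction to a chart computes the localisation at it. -/
noncomputable def restrOverIso (M : ModEt X) :
    (SheafOfModules.pushforward (overToChartRingHom hp)).obj ((restrModEt hp).obj M) ≅ M.over (EtOver.mk p hp) :=
  haveI : (overToChart hp ⋙ postComp hp).IsContinuous ((etTop X).over (EtOver.mk p hp)) (etTop X) :=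
    Functor.isContinuous_comp _ _ _ (etTop ((yon S).obj U)) _
  (SheafOfModules.pushforwardComp (overToChartRingHom hp) (postCompRingHom hp) ≪≫
    SheafOfModules.pushforwardCongr₂ _ (overToChartCompIso hp) (by
      apply Sheaf.hom_ext
      refine NatTrans.ext (funext fun o => ?_)
      show (𝟙 ((OEtRing X).obj.obj (op o.unop.left)) ≫ 𝟙 _) ≫
        (BigSite.ORing Scheme.etalePrecoverage S).obj.map (𝟙 o.unop.left.obj.left).op = 𝟙 _
      refine (congrArg (_ ≫ ·) ((BigSite.ORing Scheme.etalePrecoverage S).obj.map_id _)).trans ?_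
      exact (Category.comp_id _).trans (Category.id_comp _))).app M

theorem isQuasicoherent_over_of_restrModEt {M : ModEt X} (hM : ((restrModEt hp).obj M).IsQuasicoherent) :
    (M.over (EtOver.mk p hp)).IsQuasicoherent := by
  haveI := hM
  haveI : (overToChart hp).IsLeftAdjoint := inferInstance
  have h : ((SheafOfModules.pushforward (overToChartRingHom hp)).obj ((restrModEt hp).obj M)).IsQuasicoherent :=
    SheafOfModules.isQuasicoherent_pushforward_of_isLeftAdjoint (overToChart hp) (overToChartRingHom hp) (Iso.refl _)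
  exact (SheafOfModules.isQuasicoherent ((OEtRing X).over (EtOver.mk p hp))).prop_of_iso (restrOverIso hp M) h

theorem coversTop_chart (hs : RepWith @Surjective p) :
    (etTop X).CoversTop (fun _ : PUnit.{u + 2} => EtOver.mk p hp) := fun E => mem_etTop_of_forall _ fun v => by
  let Pr := EtOver.prodObj E (EtOver.mk p hp)
  obtain ⟨W, t, u', sq⟩ := hs.rep E.obj.hom
  obtain ⟨u, hu⟩ := (yon S).map_surjective u'
  haveI : Surjective t.left := hs.property _ _ _ sq
  haveI : Etale t.left := hp.property _ _ _ sq
  obtain ⟨w, hw⟩ := t.left.surjective v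
  let E' : EtOver X := EtOver.mk ((yon S).map t ≫ E.obj.hom) (repWith_etale_comp t E.property)
  refine ⟨E', EtOver.homMk t rfl, ⟨PUnit.unit, ⟨EtOver.homMk u ?_⟩⟩, ⟨w, hw⟩⟩
  show (yon S).map u ≫ p = (yon S).map t ≫ E.obj.hom
  rw [hu]
  exact sq.w

theorem isQuasicoherent_of_pullModEt_chart (hrep : Representable p)
    [(SheafOfModules.pushforward.{u + 1} (bcRingHom hrep)).IsRightAdjoint] (hs : RepWith @Surjective p)
    {M : ModEt X} (hM : ((pullModEt hrep).obj M).IsQuasicoherent) (hp : RepWith @Etale p) : M.IsQuasicoherent := by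
  have h : ((restrModEt hp).obj M).IsQuasicoherent :=
    (SheafOfModules.isQuasicoherent (OEtRing ((yon S).obj U))).prop_of_iso ((pullModEtIso hp hrep).app M) hM
  have hX : (etTop X).CoversTop (fun _ : PUnit.{u + 2} => EtOver.mk p hp) := coversTop_chart hp hs
  exact @SheafOfModules.IsQuasicoherent.of_coversTop _ _ _ _ _ _ _ _ M _ _ hX
    (fun _ => isQuasicoherent_over_of_restrModEt hp h)

end Groth.Agent.SpPts86
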