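import Groth.Agent.SpPts86.QuotFinite
import Groth.Agent.Grpd80.QuotSheaf
import Groth.Agent.ConstQuot97.OrbitOpen
import Groth.Prelude.Def_AlgGrp
import Groth.Prelude.Def_Mor2

/-!
Schemes as quotients by free actions of finite locally free group schemes.
-/

universe u

set_option autoImplicit false

open CategoryTheory CategoryTheory.Limits AlgebraicGeometry MonoidalCategory CartesianMonoidalCategory MonObj
open AlgSp Groth.Agent.SpFP87

namespace Groth.Agent.SpPts86

variable {S : Scheme.{u}}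

set_option backward.isDefEq.respectTransparency.types false in
theorem exists_quot_of_finLocFree_orbit {R U : Over S} {s t : R ⟶ U} (h : IsEqvRel s t)
    [IsFinite s.left] [Flat s.left] [LocallyOfFinitePresentation s.left]
    (hb : ∀ x : ↥U.left, ∃ V : U.left.Opens, IsAffineOpen V ∧ ∀ r : ↥R.left, s.left r = x → t.left r ∈ V) :
    ∃ (M : Over S) (m : U ⟶ M), IsPullback t s m m ∧ fppfSurj m.left := by
  obtain ⟨G, eU, eR, hs, ht, hmono⟩ := exists_groupoid h
  obtain ⟨GU, GR, pU, pR, Gs, Gt, e, i, c, h1, h2, h3, h4, h5, h6, h7, h8, h9, h10, h11, h12, h13⟩ := G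
  change GU = U.left at eU
  change GR = R.left at eR
  subst eU eR
  change HEq Gs s.left at hs
  change HEq Gt t.left at ht
  obtain rfl := eq_of_heq hs
  obtain rfl := eq_of_heq ht
  let G : Grpd.GroupoidScheme S :=
    ⟨_, _, pU, pR, s.left, t.left, e, i, c, h1, h2, h3, h4, h5, h6, h7, h8, h9, h10, h11, h12, h13⟩
  have : IsFinite G.s := inferInstanceAs (IsFinite s.left)
  have : Flat G.s := inferInstanceAs (Flat s.left)
  have : LocallyOfFinitePresentation G.s := inferInstanceAs (LocallyOfFinitePresentation s.left)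
  obtain ⟨Y, p, hp⟩ := Grpd80.exists_niceQuot G hb
  obtain ⟨sqp, hpf, hpfl, hpfp⟩ := hp.mono hmono
  have hU' : t.left ≫ U.hom = s.left ≫ U.hom := (Over.w t).trans (Over.w s).symm
  obtain ⟨φ, hφ, -⟩ := hp.desc (T := S) (show G.U ⟶ S from U.hom) hU'
  let M : Over S := Over.mk φ
  exact ⟨M, Over.homMk p hφ,
    IsPullback.of_map (Over.forget S) (Over.OverMorphism.ext sqp.w) sqp,
    (fppfSurj_iff _).2 ⟨hp.surj, hpfl, hpfp⟩⟩

variable {G X : Over S} [GrpObj G] (a : AlgGrp.Action G X)

theorem grpAct_one {Z : Over S} (x : Z ⟶ X) : lift (1 : Z ⟶ G) x ≫ a.act = x := by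
  have e : lift (1 : Z ⟶ G) x = lift (toUnit Z) x ≫ η[G] ▷ X := by
    apply CartesianMonoidalCategory.hom_ext <;> simp [Hom.one_def]
  rw [e, Category.assoc, a.one_act]
  simp

theorem grpAct_mul {Z : Over S} (g h : Z ⟶ G) (x : Z ⟶ X) :
    lift (g * h) x ≫ a.act = lift g (lift h x ≫ a.act) ≫ a.act := by
  have e : lift (g * h) x = lift (lift g h) x ≫ μ[G] ▷ X := by
    apply CartesianMonoidalCategory.hom_ext <;> simp [Hom.mul_def]
  rw [e, Category.assoc, a.mul_act, ← Category.assoc, ← Category.assoc]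
  congr 1
  rw [Category.assoc]
  apply CartesianMonoidalCategory.hom_ext <;> simp

/-- A free action gives an equivalence relation. -/
theorem isEqvRel_action
    (hfree : ∀ (T : Over S) (g : T ⟶ G) (x : T ⟶ X), lift g x ≫ a.act = x → g = toUnit T ≫ η[G]) :
    IsEqvRel (snd G X) a.act where
  injective T r r' h1 h2 := by
    have l1 : r = lift (r ≫ fst G X) (r ≫ snd G X) := by
      apply CartesianMonoidalCategory.hom_ext <;> simp
    have l2 : r' = lift (r' ≫ fst G X) (r ≫ snd G X) := by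
      rw [h2]; apply CartesianMonoidalCategory.hom_ext <;> simp
    rw [l1, l2] at h1
    have key := hfree _ ((r' ≫ fst G X)⁻¹ * (r ≫ fst G X)) (r ≫ snd G X) (by
      rw [grpAct_mul, h1, ← grpAct_mul, inv_mul_cancel, grpAct_one])
    have : r ≫ fst G X = r' ≫ fst G X := (inv_mul_eq_one.1 (key.trans Hom.one_def.symm)).symm
    rw [l1, l2, this]
  equivalence T := by
    have key : ∀ u v : T ⟶ X, (∃ r : T ⟶ G ⊗ X, r ≫ a.act = u ∧ r ≫ snd G X = v) ↔
        ∃ g : T ⟶ G, lift g v ≫ a.act = u := fun u v => by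
      refine ⟨?_, fun ⟨g, e⟩ => ⟨lift g v, e, lift_snd g v⟩⟩
      rintro ⟨r, h1, h2⟩
      refine ⟨r ≫ fst G X, ?_⟩
      rw [show lift (r ≫ fst G X) v = r by
        apply CartesianMonoidalCategory.hom_ext <;> simp [h2], h1]
    simp only [key]
    refine ⟨fun u => ⟨1, grpAct_one a u⟩, ?_, ?_⟩
    · rintro u v ⟨g, e⟩
      exact ⟨g⁻¹, by rw [← e, ← grpAct_mul, inv_mul_cancel, grpAct_one]⟩
    · rintro u v w ⟨g, e⟩ ⟨g', e'⟩
      exact ⟨g * g', by rw [grpAct_mul, e', e]⟩

/-- Orbits lie in affine opens in the three standard cases. -/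
theorem orbit_affine [IsFinite (snd G X).left]
    (h3 : IsAffineHom X.hom ∨ (∃ (R : CommRingCat.{u}) (i : X.left ⟶ Spec R), IsOpenImmersion i) ∨
      UniversallyInjective G.hom) (x : ↥X.left) :
    ∃ V : X.left.Opens, IsAffineOpen V ∧ ∀ r : ↥(G ⊗ X).left, (snd G X).left r = x → a.act.left r ∈ V := by
  have hw : ∀ r, X.hom (a.act.left r) = X.hom ((snd G X).left r) := fun r => by
    rw [← Scheme.Hom.comp_apply, ← Scheme.Hom.comp_apply, Over.w, Over.w]
  rcases h3 with h | ⟨R, i, hi⟩ | h
  · obtain ⟨_, ⟨V, hV, rfl⟩, hxV, -⟩ :=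
      S.isBasis_affineOpens.exists_subset_of_mem_open (Set.mem_univ (X.hom x)) isOpen_univ
    exact ⟨X.hom ⁻¹ᵁ V, hV.preimage X.hom, fun r hr => show X.hom (a.act.left r) ∈ V by
      rw [hw, hr]; exact hxV⟩
  · obtain ⟨V, hV, hsub⟩ := ConstQuot97.exists_affineOpen_of_finite i
      ((IsFinite.finite_preimage_singleton (snd G X).left x).image a.act.left)
    exact ⟨V, hV, fun r hr => hsub ⟨r, hr, rfl⟩⟩
  · obtain ⟨_, ⟨V, hV, rfl⟩, hxV, -⟩ :=
      X.left.isBasis_affineOpens.exists_subset_of_mem_open (Set.mem_univ x) isOpen_univ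
    have : UniversallyInjective (snd G X).left :=
      MorphismProperty.of_isPullback (P := @UniversallyInjective)
        (show IsPullback (fst G X).left (snd G X).left G.hom X.hom from IsPullback.of_hasPullback G.hom X.hom) h
    let e : X ⟶ G ⊗ X := lift 1 (𝟙 X)
    refine ⟨V, hV, fun r hr => ?_⟩
    have h1 : (snd G X).left (e.left x) = x := by
      rw [← Scheme.Hom.comp_apply, ← Over.comp_left, lift_snd]; rfl
    have h2 : a.act.left (e.left x) = x := by
      rw [← Scheme.Hom.comp_apply, ← Over.comp_left, grpAct_one]; rfl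
    rw [(snd G X).left.injective (hr.trans h1.symm), h2]
    exact hxV

theorem exists_quotient_scheme (hG : Mor2.IsFinLocFree G.hom)
    (hfree : ∀ (T : Over S) (g : T ⟶ G) (x : T ⟶ X), lift g x ≫ a.act = x → g = toUnit T ≫ η[G])
    (h3 : IsAffineHom X.hom ∨ (∃ (R : CommRingCat.{u}) (i : X.left ⟶ Spec R), IsOpenImmersion i) ∨
      UniversallyInjective G.hom) :
    ∃ (M : Over S) (q : X ⟶ M), QuotSh.IsQuotient Scheme.fppfPrecoverage (snd G X) a.act q ∧
      IsPullback a.act.left (snd G X).left q.left q.left ∧ fppfSurj q.left := by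
  obtain ⟨h1, h2, h3'⟩ := hG
  have sq : IsPullback (fst G X).left (snd G X).left G.hom X.hom :=
    IsPullback.of_hasPullback G.hom X.hom
  have : IsFinite (snd G X).left := MorphismProperty.of_isPullback (P := @IsFinite) sq h1
  have : Flat (snd G X).left := MorphismProperty.of_isPullback (P := @Flat) sq h2
  have : LocallyOfFinitePresentation (snd G X).left :=
    MorphismProperty.of_isPullback (P := @LocallyOfFinitePresentation) sq h3'
  obtain ⟨M, q, sqM, hq⟩ := exists_quot_of_finLocFree_orbit (isEqvRel_action a hfree) (orbit_affine a h3)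
  exact ⟨M, q, Grpd80.isQuotient_fppf _ _ q sqM hq, sqM.map (Over.forget S), hq⟩

end Groth.Agent.SpPts86
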