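import Groth.Agent.SpPts86.ModPresentation
import Groth.Agent.SpPts86.EtRestrict

/-!
Inverse image along representable morphisms preserves quasi-coherence.
-/

universe u

set_option autoImplicit false
set_option backward.isDefEq.respectTransparency false
set_option linter.style.haveILetI false

open CategoryTheory CategoryTheory.Limits AlgebraicGeometry Opposite
open AlgSp Groth.Agent.SpFP87

namespace Groth.Agent.SpPts86

variable {S : Scheme.{u}} {X Y : Sp S} {f : X ⟶ Y} (hf : Representable f)

/-- The image of a product. -/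
noncomputable def bcProdIsLimit (E V : EtOver Y) :
    IsLimit (BinaryFan.mk ((EtOver.bc hf).map (EtOver.prodFst E V)) ((EtOver.bc hf).map (EtOver.prodSnd E V))) := by
  let a : ∀ {Z : EtOver X} (W : EtOver Y) (g : Z ⟶ (EtOver.bc hf).obj W), (yon S).map (g.hom.left ≫ hf.snd W.obj.hom) ≫ W.obj.hom = Z.obj.hom ≫ f :=
    fun W g => by
      rw [Functor.map_comp, Category.assoc, ← hf.w, ← Category.assoc]
      exact congrArg (· ≫ f) (EtOver.w g)
  let l : ∀ {Z : EtOver X} (g₁ : Z ⟶ (EtOver.bc hf).obj E) (g₂ : Z ⟶ (EtOver.bc hf).obj V),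
      Z.obj.left ⟶ (EtOver.prodObj E V).obj.left := fun g₁ g₂ =>
    V.property.1.lift' (g₂.hom.left ≫ hf.snd V.obj.hom) (g₁.hom.left ≫ hf.snd E.obj.hom)
      ((a V g₂).trans (a E g₁).symm)
  have hl1 : ∀ {Z : EtOver X} (g₁ : Z ⟶ (EtOver.bc hf).obj E) (g₂ : Z ⟶ (EtOver.bc hf).obj V),
      l g₁ g₂ ≫ (EtOver.prodFst E V).hom.left = g₁.hom.left ≫ hf.snd E.obj.hom := fun _ _ =>
    Functor.relativelyRepresentable.lift'_snd _ _ _ _
  have hl2 : ∀ {Z : EtOver X} (g₁ : Z ⟶ (EtOver.bc hf).obj E) (g₂ : Z ⟶ (EtOver.bc hf).obj V),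
      l g₁ g₂ ≫ (EtOver.prodSnd E V).hom.left = g₂.hom.left ≫ hf.snd V.obj.hom := fun _ _ =>
    Functor.relativelyRepresentable.lift'_fst _ _ _ _
  refine BinaryFan.isLimitMk (fun s => EtOver.homMk (hf.lift s.pt.obj.hom (l s.fst s.snd) ?_) (hf.lift_fst _ _ _))
    (fun s => bc_hom_ext hf ?_) (fun s => bc_hom_ext hf ?_) (fun s m h₁ h₂ => bc_hom_ext hf ?_)
  · rw [← EtOver.w (EtOver.prodFst E V), ← Category.assoc, ← Functor.map_comp, hl1]
    exact (a E s.fst).symm
  · show (hf.lift s.pt.obj.hom (l s.fst s.snd) _ ≫ (EtOver.bcMap hf (EtOver.prodFst E V)).hom.left) ≫ _ = _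
    rw [Category.assoc, EtOver.bcMap_snd, ← Category.assoc, hf.lift_snd, hl1]
  · show (hf.lift s.pt.obj.hom (l s.fst s.snd) _ ≫ (EtOver.bcMap hf (EtOver.prodSnd E V)).hom.left) ≫ _ = _
    rw [Category.assoc, EtOver.bcMap_snd, ← Category.assoc, hf.lift_snd, hl2]
  · refine Eq.trans ?_ (hf.lift_snd _ _ _).symm
    refine Functor.relativelyRepresentable.hom_ext' _ ?_ ?_
    · refine Eq.trans ?_ (hl2 s.fst s.snd).symm
      rw [← h₂]
      show (m.hom.left ≫ _) ≫ _ = (m.hom.left ≫ (EtOver.bcMap hf (EtOver.prodSnd E V)).hom.left) ≫ _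
      rw [Category.assoc, Category.assoc, EtOver.bcMap_snd]
      rfl
    · refine Eq.trans ?_ (hl1 s.fst s.snd).symm
      rw [← h₁]
      show (m.hom.left ≫ _) ≫ _ = (m.hom.left ≫ (EtOver.bcMap hf (EtOver.prodFst E V)).hom.left) ≫ _
      rw [Category.assoc, Category.assoc, EtOver.bcMap_snd]
      rfl

instance preservesLimit_pair_bc (E V : EtOver Y) : PreservesLimit (pair E V) (EtOver.bc hf) :=
  preservesLimit_of_preserves_limit_cone (EtOver.prodIsLimit E V)
    ((isLimitMapConeBinaryFanEquiv _ _ _).symm (bcProdIsLimit hf E V))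

/-- Base change commutes with multiplying by an object. -/
noncomputable def starBcIso (E : EtOver Y) :
    Over.star E ⋙ Over.post (EtOver.bc hf) ≅ EtOver.bc hf ⋙ Over.star ((EtOver.bc hf).obj E) :=
  NatIso.ofComponents
    (fun V => Over.isoMk (PreservesLimitPair.iso (EtOver.bc hf) E V) (by
      have h1 : ((Over.star E).obj V).hom = (Limits.prod.fst : E ⨯ V ⟶ E) := by simp
      have h2 : ((Over.star ((EtOver.bc hf).obj E)).obj ((EtOver.bc hf).obj V)).hom =
          (Limits.prod.fst : (EtOver.bc hf).obj E ⨯ (EtOver.bc hf).obj V ⟶ (EtOver.bc hf).obj E) := by simp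
      show prodComparison (EtOver.bc hf) E V ≫ ((Over.star _).obj _).hom = (EtOver.bc hf).map ((Over.star E).obj V).hom
      rw [h1, h2, prodComparison_fst]))
    (fun {V V'} g => Over.OverMorphism.ext (by
      simp [prodComparison, prod.lift_map, ← Functor.map_comp]))

instance preservesOneHypercovers_bc :
    Functor.PreservesOneHypercovers.{u + 1} (EtOver.bc hf) (etTop Y) (etTop X) :=
  Functor.PreservesOneHypercovers.of_coverPreserving
    ⟨fun {E R} hR => mem_etTop_of_forall _ fun w => by
      obtain ⟨V, g, hg, e, he⟩ := exists_mem_range_of_mem_etTop hR ((hf.snd E.obj.hom).left w)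
      obtain ⟨w', hw', -⟩ := Scheme.exists_preimage_of_isPullback (EtOver.isPullback_bcMap_left hf g) w e he.symm
      exact ⟨_, (EtOver.bc hf).map g, Presieve.image_mem_functorPushforward _ _ hg, w', hw'⟩⟩

instance bc_overPost_isContinuous (E : EtOver Y) :
    (Over.post (X := E) (EtOver.bc hf)).IsContinuous ((etTop Y).over E) ((etTop X).over ((EtOver.bc hf).obj E)) :=
  inferInstance

/-- The comparison of structure sheaves over an object. -/
noncomputable def bcOverRingHom (E : EtOver Y) :
    (OEtRing Y).over E ⟶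
      ((Over.post (X := E) (EtOver.bc hf)).sheafPushforwardContinuous RingCat.{u + 1} ((etTop Y).over E)
        ((etTop X).over ((EtOver.bc hf).obj E))).obj ((OEtRing X).over ((EtOver.bc hf).obj E)) :=
  ((Over.forget E).sheafPushforwardContinuous RingCat.{u + 1} ((etTop Y).over E) (etTop Y)).map (bcRingHom hf)

/-- Restricting the direct image is the direct image of the restriction, for pushing forward from an object. -/
noncomputable def pushforwardOverBcIso (E : EtOver Y) :
    SheafOfModules.pushforward.{u + 1} (SheafOfModules.pushforwardOver (R := OEtRing X) ((EtOver.bc hf).obj E)) ⋙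
        pushModEt hf ≅
      SheafOfModules.pushforward.{u + 1} (F := Over.post (X := E) (EtOver.bc hf))
          (R := (OEtRing X).over ((EtOver.bc hf).obj E)) (S := (OEtRing Y).over E) (bcOverRingHom hf E) ⋙
        SheafOfModules.pushforward.{u + 1} (SheafOfModules.pushforwardOver (R := OEtRing Y) E) :=
  haveI : (EtOver.bc hf ⋙ Over.star ((EtOver.bc hf).obj E)).IsContinuous (etTop Y) ((etTop X).over ((EtOver.bc hf).obj E)) :=
    Functor.isContinuous_comp _ _ _ (etTop X) _
  haveI : (Over.star E ⋙ Over.post (EtOver.bc hf)).IsContinuous (etTop Y) ((etTop X).over ((EtOver.bc hf).obj E)) :=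
    Functor.isContinuous_comp _ _ _ ((etTop Y).over E) _
  SheafOfModules.pushforwardComp (bcRingHom hf) _ ≪≫
    SheafOfModules.pushforwardCongr₂ _ (starBcIso hf E) (by
      apply Sheaf.hom_ext
      refine NatTrans.ext (funext fun V => ?_)
      show ((BigSite.ORing Scheme.etalePrecoverage S).obj.map (hf.snd V.unop.obj.hom).op ≫
          (BigSite.ORing Scheme.etalePrecoverage S).obj.map (Limits.prod.snd (X := (EtOver.bc hf).obj E)
            (Y := (EtOver.bc hf).obj V.unop)).hom.left.op) ≫
          (BigSite.ORing Scheme.etalePrecoverage S).obj.map (prodComparison (EtOver.bc hf) E V.unop).hom.left.op =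
        (BigSite.ORing Scheme.etalePrecoverage S).obj.map (Limits.prod.snd (X := E) (Y := V.unop)).hom.left.op ≫
          (BigSite.ORing Scheme.etalePrecoverage S).obj.map (hf.snd (E ⨯ V.unop).obj.hom).op
      rw [← Functor.map_comp, ← Functor.map_comp, ← Functor.map_comp, ← op_comp, ← op_comp, ← op_comp]
      refine congrArg (fun k => (BigSite.ORing Scheme.etalePrecoverage S).obj.map (Quiver.Hom.op k)) ?_
      refine Eq.trans ?_ (EtOver.bcMap_snd hf _)
      rw [← Category.assoc]
      refine congrArg (· ≫ hf.snd V.unop.obj.hom) ?_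
      exact congrArg (fun k : (EtOver.bc hf).obj (E ⨯ V.unop) ⟶ (EtOver.bc hf).obj V.unop => k.hom.left)
        (prodComparison_snd (EtOver.bc hf) (A := E) (B := V.unop))) ≪≫
    (SheafOfModules.pushforwardComp _ _).symm

theorem nonempty_presentation_over_pullModEt
    [(SheafOfModules.pushforward.{u + 1} (bcRingHom hf)).IsRightAdjoint] (G : ModEt Y) (E : EtOver Y)
    (P : (G.over E).Presentation) :
    Nonempty (((pullModEt hf).obj G).over ((EtOver.bc hf).obj E)).Presentation := by
  haveI : (Over.post (X := E) (EtOver.bc hf)).Final := final_overPost _ _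
  let adjX := SheafOfModules.overPushforwardOverAdj.{u + 1} (R := OEtRing X) ((EtOver.bc hf).obj E)
  let adjY := SheafOfModules.overPushforwardOverAdj.{u + 1} (R := OEtRing Y) E
  let Q := pushforwardOverBcIso hf E
  let L := (pullPushAdjModEt hf).comp adjX
  refine nonempty_presentation_of_corepresentable (bcOverRingHom hf E) P
    { homEquiv := fun {N} => (L.homEquiv G N).trans ((Iso.homCongr (Iso.refl G) (Q.app N)).trans
        (adjY.homEquiv G _).symm)
      homEquiv_comp := fun {N N'} g a => ?_ }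
  show (adjY.homEquiv G _).symm (𝟙 G ≫ L.homEquiv G N' (a ≫ g) ≫ Q.hom.app N') =
    (adjY.homEquiv G _).symm (𝟙 G ≫ L.homEquiv G N a ≫ Q.hom.app N) ≫ _
  rw [Category.id_comp, Category.id_comp, L.homEquiv_naturality_right, Category.assoc, Q.hom.naturality,
    ← Category.assoc, ← adjY.homEquiv_naturality_right_symm]
  rfl

theorem coversTop_bc (hY : IsAlgSpace Y) {I : Type*} {E : I → EtOver Y} (hE : (etTop Y).CoversTop E) :
    (etTop X).CoversTop (fun i => (EtOver.bc hf).obj (E i)) := fun V => mem_etTop_of_forall _ fun v => by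
  obtain ⟨U, a, ha, has⟩ := hY.atlas
  obtain ⟨x, hx⟩ := surjective_ofPt has (Points.ofPt (V.obj.hom ≫ f) v)
  obtain ⟨W, g, ⟨i, ⟨l⟩⟩, w, hw⟩ := exists_mem_range_of_mem_etTop (hE (EtOver.mk a ha)) x
  obtain ⟨V', t, m', sq⟩ := (E i).property.rep (V.obj.hom ≫ f)
  obtain ⟨m, rfl⟩ := (yon S).map_surjective m'
  haveI : Etale t.left := (E i).property.property _ _ _ sq
  have hp : Points.ofPt (E i).obj.hom (l.hom.left.left w) = Points.ofPt (V.obj.hom ≫ f) v := by
    rw [← ofPt_comp, EtOver.w l, ← hx, ← hw]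
    exact (congrArg (fun k => Points.ofPt k w) (EtOver.w g).symm).trans (ofPt_comp g.hom.left _ w)
  obtain ⟨v', -, hv'⟩ := exists_pt_of_isPullback' sq (l.hom.left.left w) v hp
  let V'' : EtOver X := EtOver.mk ((yon S).map t ≫ V.obj.hom) (repWith_etale_comp t V.property)
  refine ⟨V'', EtOver.homMk t rfl, ⟨i, ⟨EtOver.homMk (hf.lift V''.obj.hom m ?_) (hf.lift_fst _ _ _)⟩⟩, v', hv'⟩
  show ((yon S).map t ≫ V.obj.hom) ≫ f = _
  rw [Category.assoc]
  exact sq.w.symm

theorem isQuasicoherent_pullModEt_of_representable (hY : IsAlgSpace Y)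
    [(SheafOfModules.pushforward.{u + 1} (bcRingHom hf)).IsRightAdjoint] {G : ModEt Y} (hG : G.IsQuasicoherent) :
    ((pullModEt hf).obj G).IsQuasicoherent := by
  obtain ⟨⟨q⟩⟩ := hG
  refine SheafOfModules.QuasicoherentData.isQuasicoherent (M := (pullModEt hf).obj G) ?_
  exact
    { I := q.I
      X := fun i => (EtOver.bc hf).obj (q.X i)
      coversTop := coversTop_bc hf hY q.coversTop
      presentation := fun i => (nonempty_presentation_over_pullModEt hf G (q.X i) (q.presentation i)).some }

end Groth.Agent.SpPts86
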