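import Groth.Agent.SpVal61.Lift
import Groth.Agent.SpPts86.ValDesc

/-!
In the existence part of the valuative criterion finite separable extensions suffice.
-/

universe u

set_option autoImplicit false
set_option backward.isDefEq.respectTransparency false
set_option linter.style.haveILetI false

open CategoryTheory CategoryTheory.Limits AlgebraicGeometry Topology IsLocalRing
open AlgSp Groth.Agent.SpFP87

namespace Groth.Agent.SpPts86

variable {S : Scheme.{u}} {X Y : Sp S}

theorem exists_finSep_of_existVC (hX : IsAlgSpace X) (hY : IsAlgSpace Y) {f : X ⟶ Y}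
    (hf : ExistVC f) (sq : ValSq f) :
    ∃ (K' : Type u) (_ : Field K') (W : ValuationSubring K') (φ : sq.A →+* W) (ψ : sq.K →+* K')
      (hcm : (algebraMap W K').comp φ = ψ.comp (algebraMap sq.A sq.K)) (hl : IsLocalHom φ),
      (letI := ψ.toAlgebra; Module.Finite sq.K K' ∧ Algebra.IsSeparable sq.K K') ∧
      ({ A' := W, K' := K', φ := φ, ψ := ψ, comm := hcm, isLocalHom := hl } : sq.DomExt).HasLift := by
  obtain ⟨e, le, hl1, hl2⟩ := hf sq
  have sqP := IsPullback.of_hasPullback f sq.bot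
  let P := pullback f sq.bot
  let pX : P ⟶ X := pullback.fst f sq.bot
  let pA : P ⟶ (yon S).obj sq.ptA := pullback.snd f sq.bot
  have hP : IsAlgSpace P := isAlgSpace_of_isPullback sqP hX (IsAlgSpace.yon_obj _) hY.diag
  let σ : (yon S).obj sq.ptK ⟶ P := pullback.lift sq.top ((yon S).map sq.j) sq.comm
  have hσX : σ ≫ pX = sq.top := pullback.lift_fst _ _ _
  have hσA : σ ≫ pA = (yon S).map sq.j := pullback.lift_snd _ _ _
  obtain ⟨c₀, -⟩ : ∃ c₀ : ↥sq.ptK.left, c₀ = IsLocalRing.closedPoint sq.K := ⟨_, rfl⟩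
  obtain ⟨cA, hcA⟩ : ∃ cA : ↥sq.ptA.left, cA = IsLocalRing.closedPoint sq.A := ⟨_, rfl⟩
  let cₑ : e.ptA' ⟶ sq.ptA := Over.homMk (Spec.map (CommRingCat.ofHom e.φ)) rfl
  let j' : e.ptK' ⟶ e.ptA' := Over.homMk (Spec.map (CommRingCat.ofHom (algebraMap e.A' e.K'))) rfl
  let dK : e.ptK' ⟶ sq.ptK := domExtK e
  change (yon S).map j' ≫ le = (yon S).map dK ≫ sq.top at hl1
  change le ≫ f = (yon S).map cₑ ≫ sq.bot at hl2
  have hjd : j' ≫ cₑ = dK ≫ sq.j := Over.OverMorphism.ext (by
    change Spec.map _ ≫ Spec.map _ = Spec.map _ ≫ Spec.map _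
    rw [← Spec.map_comp, ← Spec.map_comp, ← CommRingCat.ofHom_comp, ← CommRingCat.ofHom_comp, e.comm])
  let l' : (yon S).obj e.ptA' ⟶ P := pullback.lift le ((yon S).map cₑ) hl2
  have hl'X : l' ≫ pX = le := pullback.lift_fst _ _ _
  have hl'A : l' ≫ pA = (yon S).map cₑ := pullback.lift_snd _ _ _
  have hjl : (yon S).map j' ≫ l' = (yon S).map dK ≫ σ := by
    apply sqP.hom_ext
    · show ((yon S).map j' ≫ l') ≫ pX = ((yon S).map dK ≫ σ) ≫ pX
      rw [Category.assoc, Category.assoc, hl'X, hσX, hl1]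
    · show ((yon S).map j' ≫ l') ≫ pA = ((yon S).map dK ≫ σ) ≫ pA
      rw [Category.assoc, Category.assoc, hl'A, hσA, ← Functor.map_comp, ← Functor.map_comp, hjd]
  obtain ⟨ce, hce⟩ : ∃ ce : ↥e.ptA'.left, ce = IsLocalRing.closedPoint e.A' := ⟨_, rfl⟩
  obtain ⟨ck, -⟩ : ∃ ck : ↥e.ptK'.left, ck = IsLocalRing.closedPoint e.K' := ⟨_, rfl⟩
  have hzA : Points.map pA (Points.ofPt l' ce) = Points.ofScheme sq.ptA cA := by
    rw [Points.map_ofPt, hl'A, ofPt_yon_map]
    congr 1
    rw [hcA, hce]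
    exact @IsLocalRing.comap_closedPoint _ _ _ _ _ _ _ e.isLocalHom
  obtain ⟨U, π, hπ, hπs⟩ := hP.atlas
  obtain ⟨b, hb⟩ := surjective_ofPt hπs (Points.ofPt l' ce)
  rw [← hb] at hzA
  obtain ⟨R', t', s', sqR'⟩ := exists_isPullback_yon hP.diag π l'
  have : Etale s'.left := (repWith_yon_map_iff _ _).1
    ((repWith_isStableUnderBaseChange _).of_isPullback sqR' hπ)
  obtain ⟨r, hr1, hr2⟩ := exists_pt_of_isPullback' sqR' b ce hb
  have hsp : j'.left ck ⤳ s'.left r := by
    rw [hr2, hce]
    exact IsLocalRing.specializes_closedPoint _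
  obtain ⟨r', hr', hr's⟩ := Flat.generalizingMap s'.left hsp
  let a : ↥U.left := t'.left r'
  have hab : a ⤳ b := hr1 ▸ hr'.map t'.left.continuous
  have hax : Points.ofPt π a = Points.ofPt σ c₀ := by
    rw [← ofPt_comp t' π r', sqR'.w, ofPt_comp, hr's, ← ofPt_comp j' l', hjl, ofPt_comp]
    exact congrArg (Points.ofPt σ) (Subsingleton.elim (α := PrimeSpectrum sq.K) _ _)
  obtain ⟨c, hcπ⟩ := (yon S).map_surjective (π ≫ pA)
  obtain ⟨R, t, s, sqR⟩ := exists_isPullback_yon hP.diag π σ
  have het : Etale s.left := (repWith_yon_map_iff _ _).1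
    ((repWith_isStableUnderBaseChange _).of_isPullback sqR hπ)
  obtain ⟨w, hw, -⟩ := exists_pt_of_isPullback' sqR a c₀ hax
  have hR : t ≫ c = s ≫ sq.j := (yon S).map_injective (by
    rw [Functor.map_comp, Functor.map_comp, hcπ, ← Category.assoc, sqR.w, Category.assoc, hσA])
  let s' : R.left ⟶ Spec (CommRingCat.of sq.K) := s.left
  have : Etale s' := het
  let ψ : CommRingCat.of sq.K ⟶ R.left.residueField w :=
    Spec.preimage (R.left.fromSpecResidueField w ≫ s')
  have hψ : Spec.map ψ = R.left.fromSpecResidueField w ≫ s' := Spec.map_preimage _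
  let g : Spec (R.left.residueField w) ⟶ U.left := R.left.fromSpecResidueField w ≫ t.left
  have hg : g (IsLocalRing.closedPoint (R.left.residueField w)) = a := by
    show t.left (R.left.fromSpecResidueField w _) = a
    rw [Scheme.fromSpecResidueField_apply, hw]
  have hgb : g (IsLocalRing.closedPoint (R.left.residueField w)) ⤳ b := by rw [hg]; exact hab
  let f₀ : U.left.presheaf.stalk b ⟶ R.left.residueField w :=
    U.left.presheaf.stalkSpecializes hgb ≫ Scheme.stalkClosedPointTo g
  obtain ⟨W, hW, hWloc⟩ := exists_factor_valuationRing f₀.hom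
  let st : U.left.presheaf.stalk b ⟶ CommRingCat.of W := CommRingCat.ofHom (f₀.hom.codRestrict _ hW)
  let inc : CommRingCat.of W ⟶ R.left.residueField w := CommRingCat.ofHom (algebraMap W (R.left.residueField w))
  have hinc : st ≫ inc = f₀ := rfl
  let lU : Spec (CommRingCat.of W) ⟶ U.left := Spec.map st ≫ U.left.fromSpecStalk b
  have hlU : Spec.map inc ≫ lU = g := by
    rw [← Spec.map_comp_assoc, hinc, Spec.map_comp, Category.assoc,
      Scheme.SpecMap_stalkSpecializes_fromSpecStalk, Scheme.Spec_stalkClosedPointTo_fromSpecStalk]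
  have hlUb : lU (IsLocalRing.closedPoint W) = b := by
    show U.left.fromSpecStalk b (Spec.map st (IsLocalRing.closedPoint W)) = b
    rw [show Spec.map st (IsLocalRing.closedPoint W) = IsLocalRing.closedPoint (U.left.presheaf.stalk b) from
      @IsLocalRing.comap_closedPoint _ _ _ _ _ _ _ hWloc]
    exact Scheme.fromSpecStalk_closedPoint
  let φ : CommRingCat.of sq.A ⟶ CommRingCat.of W := Spec.preimage (lU ≫ c.left)
  have hφ : Spec.map φ = lU ≫ c.left := Spec.map_preimage _
  have hjl : sq.j.left = Spec.map (CommRingCat.ofHom (algebraMap sq.A sq.K)) := rfl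
  have hRl : t.left ≫ c.left = s.left ≫ sq.j.left := by
    rw [← Over.comp_left, hR, Over.comp_left]
  have hcm : φ ≫ inc = CommRingCat.ofHom (algebraMap sq.A sq.K) ≫ ψ := by
    apply Spec.map_injective
    rw [Spec.map_comp, Spec.map_comp, hφ, hψ, reassoc_of% hlU]
    show R.left.fromSpecResidueField w ≫ t.left ≫ c.left = _
    rw [hRl]
    exact (Category.assoc _ _ _).symm
  have hφloc : IsLocalHom φ.hom := by
    have hb : c.left b = cA := by
      apply (Points.schemeHomeo sq.ptA).injective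
      show Points.ofScheme sq.ptA (c.left b) = Points.ofScheme sq.ptA cA
      rw [← ofPt_yon_map c b, hcπ, ← Points.map_ofPt, hzA]
    have h1 : (Spec.map φ) (IsLocalRing.closedPoint W) = IsLocalRing.closedPoint sq.A := by
      rw [hφ, Scheme.Hom.comp_apply, hlUb, ← hcA]
      exact hb
    exact ((IsLocalRing.local_hom_TFAE φ.hom).out 0 4).2 (congrArg PrimeSpectrum.asIdeal h1)
  refine ⟨R.left.residueField w, inferInstance, W, φ.hom, ψ.hom, congrArg CommRingCat.Hom.hom hcm, hφloc,
    SpVal61.finite_separable_of_etale s' w ψ hψ, ?_⟩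
  let e : sq.DomExt :=
    { A' := W, K' := R.left.residueField w, φ := φ.hom, ψ := ψ.hom,
      comm := congrArg CommRingCat.Hom.hom hcm, isLocalHom := hφloc }
  let l₀ : e.ptA' ⟶ U := Over.homMk lU (by
    show lU ≫ U.hom = Spec.map φ ≫ sq.str
    rw [hφ, Category.assoc]
    exact congrArg (lU ≫ ·) (Over.w c).symm)
  let r₀ : e.ptK' ⟶ R := Over.homMk (R.left.fromSpecResidueField w) (by
    show R.left.fromSpecResidueField w ≫ R.hom =
      Spec.map inc ≫ Spec.map φ ≫ sq.str
    rw [← Spec.map_comp_assoc, hcm, Spec.map_comp_assoc, hψ, Category.assoc]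
    exact congrArg (R.left.fromSpecResidueField w ≫ ·) (Over.w s).symm)
  refine ⟨(yon S).map l₀ ≫ π ≫ pX, ?_, ?_⟩
  · have h1 : (Over.homMk (Spec.map inc) rfl : e.ptK' ⟶ e.ptA') ≫ l₀ = r₀ ≫ t :=
      Over.OverMorphism.ext hlU
    refine ((Category.assoc _ _ _).symm.trans
      (congrArg (· ≫ π ≫ pX) (((yon S).map_comp _ _).symm.trans
        ((congrArg (yon S).map h1).trans ((yon S).map_comp _ _))))).trans ?_
    rw [Category.assoc, reassoc_of% sqR.w, hσX, ← Category.assoc]
    refine congrArg (· ≫ sq.top) (((yon S).map_comp _ _).symm.trans (congrArg (yon S).map ?_))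
    exact Over.OverMorphism.ext hψ.symm
  · have h2 : l₀ ≫ c = (Over.homMk (Spec.map φ) rfl : e.ptA' ⟶ sq.ptA) :=
      Over.OverMorphism.ext hφ.symm
    rw [Category.assoc, Category.assoc, show pX ≫ f = pA ≫ sq.bot from sqP.w, ← Category.assoc π,
      ← hcπ, ← Category.assoc, ← Functor.map_comp, h2]
    rfl

end Groth.Agent.SpPts86
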