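import Groth.Agent.S13834
import Groth.Agent.SpPts86.Codim
import Groth.Agent.SpPts86.QCMor
import Groth.Agent.SpFP87.DecentDim
import Groth.Agent.Norm57.GenPoints

/-!
Locally finitely many irreducible components.
-/

universe u

set_option autoImplicit false

open CategoryTheory CategoryTheory.Limits AlgebraicGeometry
open AlgSp Groth.Agent.SpFP87

namespace Groth.Agent.SpPts86

/-- Finitely many components pass to surjective images. -/
theorem finite_irreducibleComponents_of_surjective {A B : Type*} [TopologicalSpace A] [TopologicalSpace B]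
    {f : A → B} (hf : Continuous f) (hs : Function.Surjective f) (h : (irreducibleComponents A).Finite) :
    (irreducibleComponents B).Finite := by
  classical
  let 𝒯 : Set (Set B) := (fun T => closure (f '' T)) '' irreducibleComponents A
  have h𝒯 : 𝒯.Finite := h.image _
  refine h𝒯.subset fun Z hZ => ?_
  have hsub : Z ⊆ ⋃₀ ↑h𝒯.toFinset := fun z _ => by
    obtain ⟨a, rfl⟩ := hs z
    exact ⟨_, h𝒯.mem_toFinset.2 ⟨_, irreducibleComponent_mem_irreducibleComponents a, rfl⟩,
      subset_closure ⟨a, mem_irreducibleComponent, rfl⟩⟩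
  obtain ⟨T', hT', hZT⟩ := isIrreducible_iff_sUnion_isClosed.1 hZ.1 h𝒯.toFinset
    (fun T hT => by obtain ⟨T₀, -, rfl⟩ := h𝒯.mem_toFinset.1 hT; exact isClosed_closure) hsub
  obtain ⟨T, hT, rfl⟩ := h𝒯.mem_toFinset.1 hT'
  exact ⟨T, hT, subset_antisymm (hZ.2 (hT.1.image f hf.continuousOn).closure hZT) hZT⟩

/-- Every compact open has finitely many irreducible components. -/
def LocFinComp (U : Scheme.{u}) : Prop :=
  ∀ W : U.Opens, IsCompact (W : Set ↥U) → (irreducibleComponents ↥W).Finite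

theorem LocFinComp.of_flat {Y X : Scheme.{u}} (f : Y ⟶ X) [Flat f] [LocallyOfFiniteType f]
    (hX : LocFinComp X) : LocFinComp Y := by
  intro V hV
  have hx : ∀ y : Y, y ∈ V → ∃ (U : X.Opens) (W : Y.Opens), IsAffineOpen U ∧ IsAffineOpen W ∧
      y ∈ W ∧ W ≤ f ⁻¹ᵁ U ∧ W ≤ V := by
    intro y hy
    obtain ⟨_, ⟨U, hU, rfl⟩, hyU, -⟩ := X.isBasis_affineOpens.exists_subset_of_mem_open
      (Set.mem_univ (f y)) isOpen_univ
    obtain ⟨_, ⟨W, hW, rfl⟩, hyW, hle⟩ := Y.isBasis_affineOpens.exists_subset_of_mem_open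
      (show y ∈ ((f ⁻¹ᵁ U ⊓ V : Y.Opens) : Set Y) from ⟨hyU, hy⟩) (f ⁻¹ᵁ U ⊓ V).2
    exact ⟨U, W, hU, hW, hyW, fun z hz => (hle hz).1, fun z hz => (hle hz).2⟩
  choose U W hU hW hmem hWU hWV using hx
  obtain ⟨t, ht⟩ := hV.elim_finite_subcover (fun y : V => ((W y.1 y.2 : Y.Opens) : Set Y))
    (fun y => (W y.1 y.2).2) fun y hy => Set.mem_iUnion.mpr ⟨⟨y, hy⟩, hmem y hy⟩
  refine S13834.finite_irreducibleComponents_of_cover
    (fun i : t => (Subtype.val : V → Y) ⁻¹' (W i.1.1 i.1.2 : Set Y))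
    (fun i => (W i.1.1 i.1.2).2.preimage continuous_subtype_val) (fun x => ?_) fun i => ?_
  · obtain ⟨i, hi, hxi⟩ := Set.mem_iUnion₂.mp (ht x.2)
    exact ⟨⟨i, hi⟩, hxi⟩
  · have hflat := HasRingHomProperty.appLE @Flat f inferInstance ⟨_, hU i.1.1 i.1.2⟩
      ⟨_, hW i.1.1 i.1.2⟩ (hWU i.1.1 i.1.2)
    have hft := HasRingHomProperty.appLE @LocallyOfFiniteType f inferInstance
      ⟨_, hU i.1.1 i.1.2⟩ ⟨_, hW i.1.1 i.1.2⟩ (hWU i.1.1 i.1.2)
    algebraize [(f.appLE (U i.1.1 i.1.2) (W i.1.1 i.1.2) (hWU i.1.1 i.1.2)).hom]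
    have hfin := (S13834.finite_minimalPrimes_Γ (hW i.1.1 i.1.2)).mp
      (S13834.finite_minimalPrimes_of_flat Γ(X, U i.1.1 i.1.2) _
        ((S13834.finite_minimalPrimes_Γ (hU i.1.1 i.1.2)).mpr (hX _ (hU i.1.1 i.1.2).isCompact)))
    exact S13834.finite_irreducibleComponents_of_equiv
      { toFun := fun z => ⟨z.1.1, z.2⟩
        invFun := fun z => ⟨⟨z.1, hWV i.1.1 i.1.2 z.2⟩, z.2⟩
        left_inv := fun z => rfl
        right_inv := fun z => rfl
        continuous_toFun := (continuous_subtype_val.comp continuous_subtype_val).subtype_mk _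
        continuous_invFun := (continuous_subtype_val.subtype_mk _).subtype_mk _ } hfin

theorem LocFinComp.of_surjective {A B : Scheme.{u}} (f : A ⟶ B) [Etale f] [Surjective f]
    (hA : LocFinComp A) : LocFinComp B := by
  intro W hW
  obtain ⟨s, hs⟩ := hW.elim_finite_subcover
    (fun U : {U : A.affineOpens // U.1 ≤ f ⁻¹ᵁ W} => f '' ((U.1.1 : A.Opens) : Set ↥A))
    (fun U => f.isOpenMap _ U.1.1.2) fun w hw => by
      obtain ⟨a, rfl⟩ := f.surjective w
      obtain ⟨U, hU, haU, hle⟩ := exists_isAffineOpen_mem_and_subset (x := a) (U := f ⁻¹ᵁ W) hw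
      exact Set.mem_iUnion.2 ⟨⟨⟨U, hU⟩, hle⟩, a, haU, rfl⟩
  let W' : A.Opens := ⨆ U : s, U.1.1.1
  have hW' : IsCompact (W' : Set ↥A) := by
    rw [TopologicalSpace.Opens.coe_iSup]
    exact isCompact_iUnion fun U : s => U.1.1.2.isCompact
  have hm : ∀ x ∈ W', f x ∈ W := fun x hx => by
    obtain ⟨U, hU⟩ := TopologicalSpace.Opens.mem_iSup.1 hx
    exact U.1.2 hU
  refine finite_irreducibleComponents_of_surjective (f := fun x : W' => (⟨f x.1, hm x.1 x.2⟩ : W))
    ((f.continuous.comp continuous_subtype_val).subtype_mk _) (fun w => ?_) (hA W' hW')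
  obtain ⟨U, hU, a, ha, e⟩ := Set.mem_iUnion₂.1 (hs w.2)
  exact ⟨⟨a, TopologicalSpace.Opens.mem_iSup.2 ⟨⟨U, hU⟩, ha⟩⟩, Subtype.ext e⟩

theorem LocFinComp.finite_top {U : Scheme.{u}} [CompactSpace ↥U] (h : LocFinComp U) :
    (irreducibleComponents ↥U).Finite :=
  S13834.finite_irreducibleComponents_of_equiv (Homeomorph.Set.univ ↥U).symm
    (h ⊤ isCompact_univ)

theorem finite_irreducibleComponents_of_finite_max {U : Scheme.{u}}
    (h : {u : ↥U | Norm57.IsMax' u}.Finite) : (irreducibleComponents ↥U).Finite := by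
  refine (h.image fun x => closure ({x} : Set ↥U)).subset fun Z hZ => ?_
  obtain ⟨z, hz⟩ := QuasiSober.sober hZ.1 (isClosed_of_mem_irreducibleComponents Z hZ)
  exact ⟨z, Norm57.isMax'_iff.2 (by rw [hz.def]; exact hZ), hz.def⟩

theorem finite_max_of_finite_irreducibleComponents {U : Scheme.{u}}
    (h : (irreducibleComponents ↥U).Finite) : {u : ↥U | Norm57.IsMax' u}.Finite :=
  Set.Finite.of_finite_image (f := fun x => closure ({x} : Set ↥U))
    (h.subset fun _ ⟨_, hx, e⟩ => e ▸ Norm57.isMax'_iff.mp hx)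
    fun a ha b _ e => (ha b (specializes_iff_closure_subset.mpr e.le)).symm

variable {S : Scheme.{u}} {X : Sp S}

theorem locFinComp_chart (hX : IsAlgSpace X) (h : EtaleLocally LocFinComp X) {U : Over S}
    {a : (yon S).obj U ⟶ X} (ha : RepWith @Etale a) : LocFinComp U.left := by
  obtain ⟨V, b, hb, hbs, hV⟩ := h
  obtain ⟨W, p, q, hp, hq, -, -, hqs, -⟩ := exists_common_chart hX hb ha
  have := hp
  have := hq
  have := hqs hbs
  exact (hV.of_flat p.left).of_surjective q.left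

theorem finite_codimZero_points {Y : Sp S} (hY : IsAlgSpace Y) {U : Over S} {p : (yon S).obj U ⟶ Y}
    (hp : RepWith @Etale p) (hps : RepWith @Surjective p) (h : (irreducibleComponents ↥U.left).Finite) :
    {y : Points Y | HasAt (fun U u => ringKrullDim ↥(U.presheaf.stalk u) = 0) Y y}.Finite := by
  refine ((finite_max_of_finite_irreducibleComponents h).image (Points.ofPt p)).subset fun y hy => ?_
  obtain ⟨u, rfl⟩ := surjective_ofPt hps y
  exact ⟨u, (SpFP87.dim_stalk_eq_zero_iff u).1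
    (forall_chart_of_hasAt hY (fun g hg t => invariant_stalkDim 0 g hg t) hy hp rfl), rfl⟩

end Groth.Agent.SpPts86
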