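import Groth.Agent.SpPts86.RefinedVal
import Groth.Agent.SpFP87.LocPRep

/-!
The refined valuative criterion over an algebraic space.
-/

universe u

set_option autoImplicit false
set_option backward.isDefEq.respectTransparency false
set_option linter.style.haveILetI false

open CategoryTheory CategoryTheory.Limits AlgebraicGeometry Topology IsLocalRing
open AlgSp Groth.Agent.SpFP87

namespace Groth.Agent.SpPts86

variable {S : Scheme.{u}} {U X Y : Sp S}

theorem hasUniq_of_valSqMap {P Z : Sp S} {f : X ⟶ Y} {g : Z ⟶ Y} {fst : P ⟶ X} {f' : P ⟶ Z}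
    (sq : IsPullback fst f' f g) (q : ValSq f') (h : (valSqMap q fst g sq.w).HasUniq) : q.HasUniq := by
  intro l l' h1 h2 h3 h4
  apply sq.hom_ext
  · refine h _ _ ?_ ?_ ?_ ?_
    · exact (Category.assoc _ _ _).symm.trans (congrArg (· ≫ fst) h1)
    · rw [Category.assoc, sq.w, ← Category.assoc, h2]
      rfl
    · exact (Category.assoc _ _ _).symm.trans (congrArg (· ≫ fst) h3)
    · rw [Category.assoc, sq.w, ← Category.assoc, h4]
      rfl
  · rw [h2, h4]

theorem hasLiftExt_of_valSqMap {P Z : Sp S} {f : X ⟶ Y} {g : Z ⟶ Y} {fst : P ⟶ X} {f' : P ⟶ Z}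
    (sq : IsPullback fst f' f g) (q : ValSq f') (h : (valSqMap q fst g sq.w).HasLiftExt) :
    q.HasLiftExt := by
  obtain ⟨⟨A', K', φ, ψ, hc, hloc⟩, l, hl1, hl2⟩ := h
  let e : q.DomExt := { A' := A', K' := K', φ := φ, ψ := ψ, comm := hc, isLocalHom := hloc }
  refine ⟨e, sq.lift l ((yon S).map (Over.homMk (Spec.map (CommRingCat.ofHom e.φ)) rfl :
      e.ptA' ⟶ q.ptA) ≫ q.bot) (by rw [Category.assoc]; exact hl2), ?_, sq.lift_snd _ _ _⟩
  apply sq.hom_ext
  · rw [Category.assoc, sq.lift_fst, Category.assoc]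
    exact hl1
  · rw [Category.assoc, sq.lift_snd, Category.assoc, q.comm, ← Category.assoc, ← Category.assoc,
      ← Functor.map_comp, ← Functor.map_comp]
    congr 2
    refine Over.OverMorphism.ext ?_
    change Spec.map _ ≫ Spec.map _ = Spec.map _ ≫ Spec.map _
    rw [← Spec.map_comp, ← Spec.map_comp, ← CommRingCat.ofHom_comp, ← CommRingCat.ofHom_comp, e.comm]

theorem exists_fraction_lift {A K A' K' : Type u} [CommRing A] [Field K] [Algebra A K] [IsFractionRing A K]
    [CommRing A'] [IsDomain A] [Field K'] [Algebra A' K'] [IsFractionRing A' K'] (φ : A →+* A') (h : Function.Injective φ) :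
    ∃ ψ : K →+* K', ψ.comp (algebraMap A K) = (algebraMap A' K').comp φ := by
  have hA : Function.Injective ((algebraMap A' K').comp φ) := (IsFractionRing.injective A' K').comp h
  exact ⟨IsFractionRing.lift hA, RingHom.ext (IsFractionRing.lift_algebraMap hA)⟩

theorem denseRange_baseChange_etale {P Q : Sp S} {h : U ⟶ X} (hd : DenseRange (Points.map h))
    {p : P ⟶ X} (hp : RepWith @Etale p) {q₁ : Q ⟶ U} {q₂ : Q ⟶ P} (sq : IsPullback q₁ q₂ h p) :
    DenseRange (Points.map q₂) := by
  intro y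
  have h1 : Points.map p ⁻¹' Set.range (Points.map h) = Set.range (Points.map q₂) := by
    rw [← Set.image_univ, preimage_map_image sq, Set.preimage_univ, Set.image_univ]
  rw [← h1]
  exact (isOpenMap_map_of_repWith (repWith_mono (fun _ _ g hg => by
    haveI : Etale g := hg; infer_instance) hp)).preimage_closure_subset_closure_preimage (hd _)

theorem exists_lift_valSqMap {P Z : Sp S} {f : X ⟶ Y} {g : Z ⟶ Y} {fst : P ⟶ X} {f' : P ⟶ Z}
    (sq : IsPullback fst f' f g) (h : U ⟶ X) (q : ValSq f')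
    (hq : ∃ t : (yon S).obj q.ptK ⟶ pullback h fst, t ≫ pullback.snd h fst = q.top) :
    ∃ t : (yon S).obj (valSqMap q fst g sq.w).ptK ⟶ U, t ≫ h = (valSqMap q fst g sq.w).top := by
  obtain ⟨t', ht'⟩ := hq
  refine ⟨t' ≫ pullback.fst h fst, ?_⟩
  show _ = q.top ≫ fst
  rw [Category.assoc, pullback.condition, ← Category.assoc, ht']

/-- The existence part is etale local on the target. -/
theorem existVC_of_charts (hX : IsAlgSpace X) (hY : IsAlgSpace Y) {f : X ⟶ Y}
    (H : ∀ y : Points Y, ∃ (T : Over S) (t : (yon S).obj T ⟶ Y) (v : ↥T.left),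
      RepWith @Etale t ∧ Points.ofPt t v = y ∧ ExistVC (pullback.snd f t)) : ExistVC f := by
  intro sq
  obtain ⟨T, t, v, ht, hvt, hE⟩ := H (Points.ofPt sq.bot (IsLocalRing.closedPoint sq.A))
  have htf : LocP @Flat t := locP_of_repWith (IsAlgSpace.yon_obj T).diag hY
    (repWith_mono (fun _ _ g hg => by haveI : Etale g := hg; infer_instance) ht)
  obtain ⟨A', iA, iD, iV, φ, hφi, hφl, l₀, hl₀⟩ :=
    exists_lift_valuationRing_of_flat (IsAlgSpace.yon_obj T) hY htf sq.A sq.str sq.bot
      ⟨Points.ofScheme T v, by rw [← Points.ofPt_eq_map_ofScheme]; exact hvt⟩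
  obtain ⟨K', iK, iAK, iFK⟩ : ∃ (K' : Type u) (_ : Field K') (_ : Algebra A' K'), IsFractionRing A' K' :=
    ⟨FractionRing A', inferInstance, inferInstance, inferInstance⟩
  obtain ⟨ψ, hψ⟩ : ∃ ψ : sq.K →+* K', ψ.comp (algebraMap sq.A sq.K) = (algebraMap A' K').comp φ :=
    exists_fraction_lift (A := sq.A) (K := sq.K) φ hφi
  let e₁ : sq.DomExt := { A' := A', K' := K', φ := φ, ψ := ψ, comm := hψ.symm, isLocalHom := hφl }
  let P := pullback f t
  have sqP := IsPullback.of_hasPullback f t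
  let pX : P ⟶ X := pullback.fst f t
  let f' : P ⟶ (yon S).obj T := pullback.snd f t
  have hP : IsAlgSpace P := SpFP87.isAlgSpace_of_isPullback sqP hX (IsAlgSpace.yon_obj T) hY.diag
  let c₁ : e₁.ptA' ⟶ sq.ptA := Over.homMk (Spec.map (CommRingCat.ofHom φ)) rfl
  let j₁ : e₁.ptK' ⟶ e₁.ptA' := Over.homMk (Spec.map (CommRingCat.ofHom (algebraMap A' K'))) rfl
  change l₀ ≫ t = (yon S).map c₁ ≫ sq.bot at hl₀
  have hjd : j₁ ≫ c₁ = domExtK e₁ ≫ sq.j := Over.OverMorphism.ext (by
    change Spec.map _ ≫ Spec.map _ = Spec.map _ ≫ Spec.map _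
    rw [← Spec.map_comp, ← Spec.map_comp, ← CommRingCat.ofHom_comp, ← CommRingCat.ofHom_comp, e₁.comm])
  have hw : ((yon S).map (domExtK e₁) ≫ sq.top) ≫ f = ((yon S).map j₁ ≫ l₀) ≫ t := by
    rw [Category.assoc, sq.comm, Category.assoc, hl₀, ← Category.assoc, ← Category.assoc,
      ← Functor.map_comp, ← Functor.map_comp, hjd]
  let q : ValSq f' :=
    { A := A', K := K', str := Spec.map (CommRingCat.ofHom φ) ≫ sq.str
      top := sqP.lift ((yon S).map (domExtK e₁) ≫ sq.top) ((yon S).map j₁ ≫ l₀) hw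
      bot := l₀
      comm := sqP.lift_snd _ _ _ }
  obtain ⟨e, l, hl1, hl2⟩ := hE q
  change (yon S).map _ ≫ l = (yon S).map (domExtK e) ≫ q.top at hl1
  let e₃ : sq.DomExt :=
    { A' := e.A', K' := e.K', φ := e.φ.comp φ, ψ := e.ψ.comp ψ
      comm := by rw [← RingHom.comp_assoc, e.comm, RingHom.comp_assoc, ← hψ, RingHom.comp_assoc]
      isLocalHom := by
        haveI := e.isLocalHom
        haveI := hφl
        exact RingHom.isLocalHom_comp _ _ }
  let o : e₃.ptA' ⟶ e.ptA' := Over.homMk (𝟙 _) (by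
    show 𝟙 _ ≫ Spec.map _ ≫ Spec.map _ ≫ sq.str = Spec.map _ ≫ sq.str
    rw [Category.id_comp, ← Spec.map_comp_assoc]
    rfl)
  let oK : e₃.ptK' ⟶ e.ptK' := Over.homMk (𝟙 _) (by
    show 𝟙 _ ≫ Spec.map _ ≫ Spec.map _ ≫ Spec.map _ ≫ sq.str = Spec.map _ ≫ Spec.map _ ≫ sq.str
    rw [Category.id_comp, ← Spec.map_comp_assoc (CommRingCat.ofHom φ)]
    rfl)
  refine ⟨e₃, (yon S).map o ≫ l ≫ pX, ?_, ?_⟩
  · show _ = (yon S).map (domExtK e₃) ≫ sq.top
    have e1 : (Over.homMk (Spec.map (CommRingCat.ofHom (algebraMap e₃.A' e₃.K'))) rfl :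
        e₃.ptK' ⟶ e₃.ptA') ≫ o =
        oK ≫ (Over.homMk (Spec.map (CommRingCat.ofHom (algebraMap e.A' e.K'))) rfl : e.ptK' ⟶ e.ptA') :=
      Over.OverMorphism.ext (by
        show Spec.map _ ≫ 𝟙 _ = 𝟙 _ ≫ Spec.map _
        rw [Category.comp_id, Category.id_comp])
    have e2 : oK ≫ domExtK e ≫ domExtK e₁ = domExtK e₃ := Over.OverMorphism.ext (by
      show 𝟙 _ ≫ Spec.map _ ≫ Spec.map _ = Spec.map _
      rw [Category.id_comp, ← Spec.map_comp]
      rfl)
    refine ((Category.assoc _ _ _).symm.trans (congrArg (· ≫ l ≫ pX) (((yon S).map_comp _ _).symm.trans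
      ((congrArg (yon S).map e1).trans ((yon S).map_comp _ _))))).trans ?_
    rw [Category.assoc, reassoc_of% hl1]
    show _ ≫ _ ≫ sqP.lift _ _ _ ≫ pX = _
    rw [sqP.lift_fst, ← e2, Functor.map_comp, Functor.map_comp]
    simp only [Category.assoc]
  · rw [Category.assoc, Category.assoc, sqP.w, ← Category.assoc l, hl2]
    show _ ≫ ((yon S).map _ ≫ l₀) ≫ t = _
    rw [Category.assoc, hl₀, ← Category.assoc, ← Category.assoc, ← Functor.map_comp,
      ← Functor.map_comp]
    congr 2
    refine Over.OverMorphism.ext ?_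
    show (𝟙 _ ≫ Spec.map _) ≫ Spec.map _ = Spec.map _
    rw [Category.id_comp, ← Spec.map_comp]
    rfl

/-- Valuative squares through a dense quasi-compact `U ⟶ X` give the existence part. -/
theorem existVC_of_refined (hX : IsAlgSpace X) (hY : IsAlgSpace Y) {f : X ⟶ Y} {h : U ⟶ X}
    (hh : IsQuasiCompactMor h) (hd : DenseRange (Points.map h))
    (hv : ∀ sq : ValSq f, (∃ t : (yon S).obj sq.ptK ⟶ U, t ≫ h = sq.top) →
      sq.HasUniq ∧ sq.HasLiftExt) : ExistVC f := by
  refine existVC_of_charts hX hY fun y => ?_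
  obtain ⟨T, t, v, hT, ht, hvt⟩ := exists_affine_chart_pt hY y
  haveI := hT
  refine ⟨T, t, v, ht, hvt, ?_⟩
  have sqP := IsPullback.of_hasPullback f t
  have hP : IsAlgSpace (pullback f t) :=
    SpFP87.isAlgSpace_of_isPullback sqP hX (IsAlgSpace.yon_obj T) hY.diag
  have hpe : RepWith @Etale (pullback.fst f t) :=
    (repWith_isStableUnderBaseChange _).of_isPullback sqP.flip ht
  refine existVC_affine_of_refined hP (h := pullback.snd h (pullback.fst f t))
    (isQuasiCompactMor_baseChange hh (IsPullback.of_hasPullback h _))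
    (denseRange_baseChange_etale hd hpe (IsPullback.of_hasPullback h _)) fun q hq => ?_
  obtain ⟨h1, h2⟩ := hv (valSqMap q (pullback.fst f t) t sqP.w) (exists_lift_valSqMap sqP h q hq)
  exact ⟨hasUniq_of_valSqMap sqP q h1, hasLiftExt_of_valSqMap sqP q h2⟩

/-- The refined valuative criterion. -/
theorem refined_valuative (hX : IsAlgSpace X) (hY : IsAlgSpace Y) {f : X ⟶ Y} {h : U ⟶ X}
    (hf : IsQuasiCompactMor f) (hh : IsQuasiCompactMor h) (hd : DenseRange (Points.map h))
    (hv : ∀ sq : ValSq f, (∃ t : (yon S).obj sq.ptK ⟶ U, t ≫ h = sq.top) →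
      sq.HasUniq ∧ sq.HasLiftExt) :
    IsUnivClosedMor f ∧ (IsQuasiSeparatedMor f → IsSeparatedMor f) := by
  refine ⟨isUnivClosedMor_of_existVC hf (existVC_of_refined hX hY hh hd hv), fun hqs => ?_⟩
  have hP : IsAlgSpace (pullback f f) :=
    SpFP87.isAlgSpace_of_isPullback (IsPullback.of_hasPullback f f) hX hX hY.diag
  haveI : Mono (pullback.diagonal f) := inferInstance
  refine isSeparatedMor_of_diag_univClosed hX hY (isUnivClosedMor_of_existVC
    (isQuasiCompactMor_of_repWith hP hqs) (existVC_of_refined hX hP hh hd fun q hq => ⟨?_, ?_⟩))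
  · intro l l' _ h2 _ h4
    exact (cancel_mono (pullback.diagonal f)).1 (h2.trans h4.symm)
  · have h1 := congrArg (· ≫ pullback.fst f f) q.comm
    have h2 := congrArg (· ≫ pullback.snd f f) q.comm
    simp only [Category.assoc, pullback.diagonal_fst, pullback.diagonal_snd, Category.comp_id] at h1 h2
    let q' : ValSq f :=
      { A := q.A, K := q.K, str := q.str, top := q.top, bot := q.bot ≫ pullback.fst f f ≫ f,
        comm := by rw [h1]; simp only [Category.assoc] }
    have e : q.bot ≫ pullback.fst f f = q.bot ≫ pullback.snd f f := by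
      refine (hv q' hq).1 _ _ h1.symm (Category.assoc _ _ _) h2.symm ?_
      rw [Category.assoc, ← pullback.condition]
    let e₀ : q.DomExt :=
      { A' := q.A, K' := q.K, φ := RingHom.id _, ψ := RingHom.id _
        comm := by rw [RingHom.comp_id, RingHom.id_comp]
        isLocalHom := ⟨fun a ha => ha⟩ }
    have hlift : q.bot ≫ pullback.fst f f ≫ pullback.diagonal f = q.bot := by
      apply pullback.hom_ext
      · simp only [Category.assoc, pullback.diagonal_fst, Category.comp_id]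
      · simp only [Category.assoc, pullback.diagonal_snd, Category.comp_id]
        exact e
    let c₀ : e₀.ptA' ⟶ q.ptA := Over.homMk (Spec.map (CommRingCat.ofHom e₀.φ)) rfl
    refine ⟨e₀, (yon S).map c₀ ≫ q.bot ≫ pullback.fst f f, ?_, ?_⟩
    · show _ = (yon S).map (domExtK e₀) ≫ q.top
      rw [h1, ← Category.assoc, ← Category.assoc ((yon S).map (domExtK e₀)), ← Functor.map_comp,
        ← Functor.map_comp]
      congr 2
      refine Over.OverMorphism.ext ?_
      show Spec.map _ ≫ Spec.map _ = Spec.map _ ≫ Spec.map _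
      rw [← Spec.map_comp, ← Spec.map_comp]
      rfl
    · show _ = (yon S).map c₀ ≫ q.bot
      rw [Category.assoc, Category.assoc, hlift]

end Groth.Agent.SpPts86
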