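import Groth.Agent.SpPts86.EtPushLift
import Groth.Agent.SpPts86.EtStalk
import Groth.Agent.SpPts86.UnivInj
import Groth.Agent.SpFP87.Basic
import Groth.Agent.SpPts86.Subspace
import Groth.Prelude.Def_AlgSpOX2
import Mathlib.CategoryTheory.Sites.DenseSubsite.Basic
import Mathlib.AlgebraicGeometry.Morphisms.FlatMono

/-!
Direct images along integral universally injective morphisms on small etale sites.
-/

universe u

set_option autoImplicit false
set_option backward.isDefEq.respectTransparency false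
set_option linter.style.haveILetI false

open CategoryTheory CategoryTheory.Limits AlgebraicGeometry Opposite
open AlgSp Groth.Agent.SpFP87

namespace Groth.Agent.SpPts86

variable {S : Scheme.{u}} {Y X : Sp S} {f : Y ⟶ X}

/-- Integral and universally injective. -/
abbrev intUI : MorphismProperty Scheme.{u} := @IsIntegralHom ⊓ @UniversallyInjective

theorem intUI_snd (h : RepWith intUI f) (E : EtOver X) : intUI (h.1.snd E.obj.hom).left :=
  h.property _ _ _ (h.1.isPullback E.obj.hom)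

theorem isEmbedding_of_intUI {A B : Scheme.{u}} {s : A ⟶ B} (h : intUI s) : Topology.IsClosedEmbedding s := by
  haveI : IsIntegralHom s := h.1
  haveI : UniversallyInjective s := h.2
  exact Topology.IsClosedEmbedding.of_continuous_injective_isClosedMap s.continuous s.injective s.isClosedMap

/-- Every object of the site of the source is locally the image of one of the target. -/
theorem exists_bc_map_mem_range (h : RepWith intUI f) (hX : IsAlgSpace X) (V : EtOver Y) (v : ↥V.obj.left.left) :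
    ∃ (E : EtOver X) (g : (EtOver.bc h.1).obj E ⟶ V), v ∈ Set.range g.hom.left.left := by
  obtain ⟨U, a, ha, has⟩ := hX.atlas
  obtain ⟨V', t, u', sq'⟩ := ha.rep (V.obj.hom ≫ f)
  obtain ⟨u, rfl⟩ := (yon S).map_surjective u'
  haveI : Etale t.left := ha.property _ _ _ sq'
  haveI : Surjective t.left := has.property _ _ _ sq'
  obtain ⟨v', rfl⟩ := t.left.surjective v
  let YU := h.1.pullback a
  let s : YU ⟶ U := h.1.snd a
  let r : V' ⟶ YU := h.1.lift ((yon S).map t ≫ V.obj.hom) u (by rw [Category.assoc, sq'.w])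
  have hr1 : (yon S).map r ≫ h.1.fst a = (yon S).map t ≫ V.obj.hom := h.1.lift_fst _ _ _
  have hr2 : r ≫ s = u := h.1.lift_snd _ _ _
  haveI : Etale r.left := by
    have sqr : IsPullback ((yon S).map r) ((yon S).map t) (h.1.fst a) V.obj.hom := by
      refine IsPullback.of_right ?_ hr1 (h.1.isPullback a).flip
      rw [← Functor.map_comp, hr2]
      exact sq'
    exact V.property.property _ _ _ sqr.flip
  obtain ⟨hs1, hs2⟩ : intUI s.left := h.property _ _ _ (h.1.isPullback a)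
  haveI := hs1; haveI := hs2
  obtain ⟨V₀, q, P, k, a₀, hq, hk, hx, hP⟩ := exists_etale_lift_integral_ui s.left r.left v'
  haveI := hk
  let E0 : Over S := Over.mk (q ≫ U.hom)
  let qS : E0 ⟶ U := Over.homMk q rfl
  haveI : Etale qS.left := hq
  let E : EtOver X := EtOver.mk ((yon S).map qS ≫ a) (repWith_etale_comp qS ha)
  let P0 : Over S := Over.mk (k ≫ V'.hom)
  let kS : P0 ⟶ V' := Over.homMk k rfl
  let aS : P0 ⟶ E0 := Over.homMk a₀ (by
    show a₀ ≫ q ≫ U.hom = k ≫ V'.hom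
    rw [← Category.assoc, hP.w, Category.assoc, Category.assoc, Over.w s, Over.w r])
  have hsq : IsPullback aS (kS ≫ r) qS s :=
    IsPullback.of_map (Over.forget S) (Over.OverMorphism.ext hP.w) hP
  have hsq' : IsPullback ((yon S).map (kS ≫ r) ≫ h.1.fst a) ((yon S).map aS) f E.obj.hom :=
    (hsq.flip.map (yon S)).paste_horiz (h.1.isPullback a)
  let e := (h.1.isPullback E.obj.hom).isoIsPullback _ _ hsq'
  obtain ⟨θ, hθ⟩ := (yon S).map_surjective e.hom
  have hθ' : (yon S).map θ ≫ (yon S).map (kS ≫ r) ≫ h.1.fst a = h.1.fst E.obj.hom := by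
    rw [hθ]; exact IsPullback.isoIsPullback_hom_fst _ _ _ _
  refine ⟨E, EtOver.homMk (θ ≫ kS ≫ t) ?_, ?_⟩
  · show (yon S).map (θ ≫ kS ≫ t) ≫ V.obj.hom = h.1.fst E.obj.hom
    rw [← hθ', Functor.map_comp, Functor.map_comp, Functor.map_comp, Category.assoc, Category.assoc, Category.assoc, hr1]
  · obtain ⟨p, hp⟩ := hx
    haveI : IsIso ((yon S).map θ) := hθ ▸ inferInstance
    haveI : IsIso θ := isIso_of_fully_faithful (yon S) θ
    obtain ⟨z, hz⟩ : ∃ z, θ.left z = p := ⟨(inv θ).left p, by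
      rw [← Scheme.Hom.comp_apply, ← Over.comp_left, IsIso.inv_hom_id]; rfl⟩
    refine ⟨z, ?_⟩
    show t.left (kS.left (θ.left z)) = t.left v'
    rw [hz, ← hp]
    rfl

theorem isCoverDense_bc (h : RepWith intUI f) (hX : IsAlgSpace X) :
    (EtOver.bc h.1).IsCoverDense (etTop Y) :=
  ⟨fun V => mem_etTop_of_forall _ fun v => by
    obtain ⟨E, g, hv⟩ := exists_bc_map_mem_range h hX V v
    exact ⟨_, g, ⟨⟨E, 𝟙 _, g, Category.id_comp _⟩⟩, hv⟩⟩

theorem exists_imageSieve_mem_range (h : RepWith intUI f) {E E' : EtOver X}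
    (φ : (EtOver.bc h.1).obj E ⟶ (EtOver.bc h.1).obj E') (w : ↥((EtOver.bc h.1).obj E).obj.left.left) :
    ∃ (E'' : EtOver X) (j : E'' ⟶ E) (l : E'' ⟶ E'),
      (EtOver.bc h.1).map l = (EtOver.bc h.1).map j ≫ φ ∧
        w ∈ Set.range ((EtOver.bc h.1).map j).hom.left.left := by
  let F := EtOver.bc h.1
  let Pr := EtOver.prodObj E E'
  let π₁ : Pr ⟶ E := EtOver.prodFst E E'
  let π₂ : Pr ⟶ E' := EtOver.prodSnd E E'
  -- the graph
  let γ : (F.obj E).obj.left ⟶ Pr.obj.left :=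
    E'.property.1.lift' (φ.hom.left ≫ h.1.snd E'.obj.hom) (h.1.snd E.obj.hom) (by
      rw [Functor.map_comp, Category.assoc, ← h.1.w, ← h.1.w, ← Category.assoc]
      exact congrArg (· ≫ f) (EtOver.w φ))
  have hγ₁ : γ ≫ π₁.hom.left = h.1.snd E.obj.hom := Functor.relativelyRepresentable.lift'_snd _ _ _ _
  have hγ₂ : γ ≫ π₂.hom.left = φ.hom.left ≫ h.1.snd E'.obj.hom :=
    Functor.relativelyRepresentable.lift'_fst _ _ _ _
  let Γ₀ : (F.obj E).obj.left ⟶ (F.obj Pr).obj.left := h.1.lift (h.1.fst E.obj.hom) γ (by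
    rw [h.1.w, ← EtOver.w π₁, ← Category.assoc, ← Functor.map_comp, hγ₁])
  let Γ : F.obj E ⟶ F.obj Pr := EtOver.homMk Γ₀ (h.1.lift_fst _ _ _)
  have hΓ₁ : Γ ≫ F.map π₁ = 𝟙 _ := EtOver.hom_ext _ _ (by
    refine h.1.hom_ext ?_ ?_
    · show (yon S).map (Γ₀ ≫ (EtOver.bcMap h.1 π₁).hom.left) ≫ _ = (yon S).map (𝟙 _) ≫ _
      rw [Functor.map_comp, Category.assoc, EtOver.map_bcMap_fst, h.1.lift_fst, CategoryTheory.Functor.map_id,
        Category.id_comp]
    · show (Γ₀ ≫ (EtOver.bcMap h.1 π₁).hom.left) ≫ _ = 𝟙 _ ≫ _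
      rw [Category.assoc, EtOver.bcMap_snd, ← Category.assoc, h.1.lift_snd, hγ₁, Category.id_comp])
  have hΓ₂ : Γ ≫ F.map π₂ = φ := EtOver.hom_ext _ _ (by
    refine h.1.hom_ext ?_ ?_
    · show (yon S).map (Γ₀ ≫ (EtOver.bcMap h.1 π₂).hom.left) ≫ _ = _
      rw [Functor.map_comp, Category.assoc, EtOver.map_bcMap_fst, h.1.lift_fst]
      exact (EtOver.w φ).symm
    · show (Γ₀ ≫ (EtOver.bcMap h.1 π₂).hom.left) ≫ _ = _
      rw [Category.assoc, EtOver.bcMap_snd, ← Category.assoc, h.1.lift_snd, hγ₂])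
  haveI : Etale Γ₀.left := EtOver.etale_left Γ
  haveI : Mono Γ₀.left := by
    have e : Γ₀.left ≫ (F.map π₁).hom.left.left = 𝟙 _ := congrArg (fun g => g.hom.left.left) hΓ₁
    exact SplitMono.mono ⟨_, e⟩
  haveI : IsOpenImmersion Γ₀.left := IsOpenImmersion.of_flat_of_mono Γ₀.left
  have hemb := isEmbedding_of_intUI (intUI_snd h Pr)
  obtain ⟨O, hO, hOr⟩ := hemb.toIsEmbedding.isInducing.isOpen_iff.1 Γ₀.left.isOpenEmbedding.isOpen_range
  let O' : Pr.obj.left.left.Opens := ⟨O, hO⟩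
  let c : Over.mk (O'.ι ≫ Pr.obj.left.hom) ⟶ Pr.obj.left := Over.homMk O'.ι rfl
  haveI : Etale c.left := inferInstanceAs (Etale O'.ι)
  let E'' : EtOver X := EtOver.mk ((yon S).map c ≫ Pr.obj.hom) (repWith_etale_comp c Pr.property)
  let g₀ : E'' ⟶ Pr := EtOver.homMk c rfl
  have hsqz := EtOver.isPullback_bcMap_left h.1 g₀
  have hrange : Set.range (F.map g₀).hom.left.left ⊆ Set.range Γ₀.left := by
    rintro _ ⟨z, rfl⟩
    rw [← hOr]
    have e : (h.1.snd Pr.obj.hom).left ((EtOver.bcMap h.1 g₀).hom.left.left z) =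
        O'.ι ((h.1.snd E''.obj.hom).left z) :=
      congrArg (fun g : (F.obj E'').obj.left.left ⟶ Pr.obj.left.left => g z) hsqz.w
    show (h.1.snd Pr.obj.hom).left ((EtOver.bcMap h.1 g₀).hom.left.left z) ∈ O
    rw [e]
    exact ((h.1.snd E''.obj.hom).left z).2
  let k₀ : (F.obj E'').obj.left ⟶ (F.obj E).obj.left :=
    Over.homMk (IsOpenImmersion.lift Γ₀.left (F.map g₀).hom.left.left hrange) (by
      rw [← Over.w Γ₀, IsOpenImmersion.lift_fac_assoc]
      exact Over.w (F.map g₀).hom.left)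
  have hk₀ : k₀ ≫ Γ₀ = (F.map g₀).hom.left := Over.OverMorphism.ext (IsOpenImmersion.lift_fac _ _ _)
  let kk : F.obj E'' ⟶ F.obj E := EtOver.homMk k₀ (by
    rw [← EtOver.w Γ, ← Category.assoc, ← Functor.map_comp]
    show (yon S).map (k₀ ≫ Γ₀) ≫ _ = _
    rw [hk₀, EtOver.w (F.map g₀)])
  have hkk : kk ≫ Γ = F.map g₀ := EtOver.hom_ext _ _ hk₀
  have hj : F.map (g₀ ≫ π₁) = kk := by rw [F.map_comp, ← hkk, Category.assoc, hΓ₁, Category.comp_id]
  refine ⟨E'', g₀ ≫ π₁, g₀ ≫ π₂, ?_, ?_⟩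
  · rw [hj, F.map_comp, ← hkk, Category.assoc, hΓ₂]
  · have hw : (h.1.snd Pr.obj.hom).left (Γ₀.left w) ∈ O := hOr.ge ⟨w, rfl⟩
    obtain ⟨z, hz, -⟩ := Scheme.exists_preimage_of_isPullback hsqz (Γ₀.left w) ⟨_, hw⟩ rfl
    refine ⟨z, ?_⟩
    rw [hj]
    refine Γ₀.left.isOpenEmbedding.injective ?_
    rw [← hz]
    exact congrArg (fun g : (F.obj E'').obj.left ⟶ (F.obj Pr).obj.left => g.left z) hk₀

theorem isLocallyFull_bc (h : RepWith intUI f) : (EtOver.bc h.1).IsLocallyFull (etTop Y) :=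
  ⟨fun {E E'} φ => mem_etTop_of_forall _ fun w => by
    obtain ⟨E'', j, l, hl, hw⟩ := exists_imageSieve_mem_range h φ w
    exact ⟨_, (EtOver.bc h.1).map j, Presieve.image_mem_functorPushforward _ _ ⟨l, hl⟩, hw⟩⟩

end Groth.Agent.SpPts86

namespace Groth.Agent.SpPts86

open AlgSp

variable {S : Scheme.{u}} {Y X : Sp S} {f : Y ⟶ X}

theorem pushEt_full_faithful (hf : Representable f) (h : RepWith intUI f) (hX : IsAlgSpace X)
    (A : Type*) [Category A] :
    (pushEt hf A).Full ∧ (pushEt hf A).Faithful := by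
  haveI : (EtOver.bc hf).IsCoverDense (etTop Y) := isCoverDense_bc h hX
  haveI : (EtOver.bc hf).IsLocallyFull (etTop Y) := isLocallyFull_bc h
  exact ⟨inferInstance, inferInstance⟩

theorem repWith_intUI_of_closedImm (h : RepWith @IsClosedImmersion f) : RepWith intUI f :=
  repWith_mono (fun _ _ g (hg : IsClosedImmersion g) =>
    (⟨inferInstance, inferInstance⟩ : IsIntegralHom g ∧ UniversallyInjective g)) h

theorem repWith_intUI (hi : RepWith @IsIntegralHom f) (hu : IsUnivInjectiveMor f) : RepWith intUI f :=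
  ⟨hi.1, fun _ _ g a b c => ⟨hi.property g a b c, ((repWith_universallyInjective_iff hi.rep).2 hu).property g a b c⟩⟩

end Groth.Agent.SpPts86
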