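import Groth.Agent.SpPts86.HasAtMorInv
import Groth.Agent.SpPts86.Compact
import Groth.Agent.SpPts86.AffineCharts
import Groth.Agent.CAlg4.FibreDimCompact
import Groth.Agent.Desc59.EtaleDim

/-!
The locus of bounded relative dimension is retrocompact.
-/

universe u

set_option autoImplicit false
set_option backward.isDefEq.respectTransparency false
set_option linter.style.haveILetI false

open CategoryTheory CategoryTheory.Limits AlgebraicGeometry Topology
open AlgSp Groth.Agent.SpFP87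

namespace Groth.Agent.SpPts86

theorem isCompact_fibreDimAt_le {U V : Scheme.{u}} [IsAffine U] [IsAffine V] (h : U ⟶ V)
    [LocallyOfFinitePresentation h] (n : ℕ) :
    IsCompact {u : ↥U | FlatMor.fibreDimAt h u ≤ (n : WithBot ℕ∞)} := by
  let φ := h.appTop
  have hφ : φ.hom.FinitePresentation :=
    (HasRingHomProperty.iff_of_isAffine (P := @LocallyOfFinitePresentation)).1 ‹_›
  letI := φ.hom.toAlgebra
  haveI : Algebra.FinitePresentation Γ(V, ⊤) Γ(U, ⊤) := hφ
  have hstr : RelGCI94.str (R := Γ(V, ⊤)) Γ(U, ⊤) = Spec.map φ := rfl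
  have hc := CAlg4.FibreDimCompact.isCompact_U Γ(V, ⊤) Γ(U, ⊤) n
  have hU : CAlg4.FibreDimCompact.U Γ(V, ⊤) Γ(U, ⊤) n =
      {q : PrimeSpectrum Γ(U, ⊤) | FlatMor.fibreDimAt (RelGCI94.str (R := Γ(V, ⊤)) Γ(U, ⊤)) q ≤ (n : WithBot ℕ∞)} := by
    ext q
    refine ⟨fun hq => ?_, fun hq => ?_⟩
    · obtain ⟨Q, hQ⟩ := CAlg4.FibreDimCompact.exists_point Γ(V, ⊤) Γ(U, ⊤) q
      exact (CAlg4.FibreDimCompact.localDim_eq_fibreDimAt _ _ q Q hQ).ge.trans (hq Q hQ)
    · intro Q hQ
      exact (CAlg4.FibreDimCompact.localDim_eq_fibreDimAt _ _ q Q hQ).le.trans hq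
  have e : {u : ↥U | FlatMor.fibreDimAt h u ≤ (n : WithBot ℕ∞)} =
      U.isoSpec.hom.homeomorph ⁻¹' CAlg4.FibreDimCompact.U Γ(V, ⊤) Γ(U, ⊤) n := by
    ext u
    rw [hU, hstr]
    show _ ↔ FlatMor.fibreDimAt (Spec.map φ) (U.isoSpec.hom u) ≤ _
    rw [Desc59.EtaleDim.fibreDimAt_eq (Spec.map φ) h U.isoSpec.hom V.isoSpec.hom
      (Scheme.toSpecΓ_naturality h) u]
    rfl
  rw [e]
  exact U.isoSpec.hom.homeomorph.isCompact_preimage.2 hc

variable {S : Scheme.{u}} {X Y : Sp S}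

theorem isCompact_inter_fibreDim (hX : IsAlgSpace X) (hY : IsAlgSpace Y) {f : X ⟶ Y}
    (hf : LocP @LocallyOfFinitePresentation f) (n : ℕ) {V : Set (Points X)} (hV : IsOpen V) (hVc : IsCompact V) :
    IsCompact (V ∩ {x : Points X | HasAtMor (fun _ _ h u => FlatMor.fibreDimAt h u ≤ (n : WithBot ℕ∞)) f x}) := by
  have key : ∀ x ∈ V, ∃ O : Set (Points X), IsOpen O ∧ x ∈ O ∧ O ⊆ V ∧
      IsCompact (O ∩ {x : Points X | HasAtMor (fun _ _ h u => FlatMor.fibreDimAt h u ≤ (n : WithBot ℕ∞)) f x}) := by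
    intro x hx
    obtain ⟨U, V', a, b, h, u, ha, hb, w, hu⟩ := exists_diagram_through hX hY f x
    obtain ⟨B, hB, huB, -⟩ := exists_isAffineOpen_mem_and_subset (x := h.left u) (U := ⊤) trivial
    obtain ⟨W, hW, huW, hWle⟩ := exists_isAffineOpen_mem_and_subset (x := u)
      (U := h.left ⁻¹ᵁ B ⊓ ⟨_, hV.preimage (Points.continuous_ofPt a)⟩)
      ⟨huB, show Points.ofPt a u ∈ V from hu ▸ hx⟩
    haveI := hf a b h ha hb w
    haveI : IsAffine W.toScheme := hW
    haveI : IsAffine B.toScheme := hB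
    let Wo : Over S := Over.mk (W.ι ≫ U.hom)
    let Bo : Over S := Over.mk (B.ι ≫ V'.hom)
    let i : Wo ⟶ U := Over.homMk W.ι rfl
    let j : Bo ⟶ V' := Over.homMk B.ι rfl
    let g₀ : W.toScheme ⟶ B.toScheme := h.left.resLE B W fun z hz => (hWle hz).1
    let g : Wo ⟶ Bo := Over.homMk g₀ (by
      show g₀ ≫ B.ι ≫ V'.hom = W.ι ≫ U.hom
      rw [← Category.assoc, Scheme.Hom.resLE_comp_ι, Category.assoc, Over.w h])
    have hgw : i ≫ h = g ≫ j := Over.OverMorphism.ext (Scheme.Hom.resLE_comp_ι _ _).symm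
    haveI : LocallyOfFinitePresentation g₀ := by
      have : LocallyOfFinitePresentation (W.ι ≫ h.left) := inferInstance
      rw [← Scheme.Hom.resLE_comp_ι h.left (U := B) (V := W) (fun z hz => (hWle hz).1)] at this
      exact EtLoc.of_comp_etale (P := @LocallyOfFinitePresentation) g₀ B.ι inferInstance this
    haveI : Etale i.left := inferInstanceAs (Etale W.ι)
    haveI : Etale j.left := inferInstanceAs (Etale B.ι)
    have hai : RepWith @Etale ((yon S).map i ≫ a) := repWith_etale_comp i ha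
    have hbj : RepWith @Etale ((yon S).map j ≫ b) := repWith_etale_comp j hb
    have w' : ((yon S).map i ≫ a) ≫ f = (yon S).map g ≫ (yon S).map j ≫ b := by
      rw [Category.assoc, w, ← Functor.map_comp_assoc, hgw, Functor.map_comp_assoc]
    refine ⟨Set.range (Points.ofPt ((yon S).map i ≫ a)), (isOpenMap_ofPt hai).isOpen_range,
      ⟨⟨u, huW⟩, (ofPt_comp _ _ _).trans hu⟩, ?_, ?_⟩
    · rintro - ⟨z, rfl⟩
      rw [ofPt_comp]
      exact (hWle z.2).2
    · rw [← Set.image_preimage_eq_range_inter]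
      refine IsCompact.image ?_ (Points.continuous_ofPt _)
      have : Points.ofPt ((yon S).map i ≫ a) ⁻¹'
          {x : Points X | HasAtMor (fun _ _ h u => FlatMor.fibreDimAt h u ≤ (n : WithBot ℕ∞)) f x} =
          {z : ↥Wo.left | FlatMor.fibreDimAt g.left z ≤ (n : WithBot ℕ∞)} := by
        ext z
        exact ⟨fun hz => forall_diagram_of_hasAtMor hX hY (etInv_fibreDim (· ≤ (n : WithBot ℕ∞)))
            (show HasAtMor (fun _ _ h u => FlatMor.fibreDimAt h u ≤ (n : WithBot ℕ∞)) f _ from hz) hai hbj w' rfl,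
          fun hz => ⟨Wo, Bo, _, _, g, z, hai, hbj, w', rfl, hz⟩⟩
      rw [this]
      haveI : IsAffine Wo.left := hW
      haveI : IsAffine Bo.left := hB
      haveI : LocallyOfFinitePresentation g.left := ‹LocallyOfFinitePresentation g₀›
      exact isCompact_fibreDimAt_le g.left n
  choose! O hO hxO hOV hOc using key
  obtain ⟨t, htV, hcov⟩ := hVc.elim_nhds_subcover O fun x hx => (hO x hx).mem_nhds (hxO x hx)
  have e : V ∩ {x : Points X | HasAtMor (fun _ _ h u => FlatMor.fibreDimAt h u ≤ (n : WithBot ℕ∞)) f x} =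
      ⋃ x ∈ (t : Set (Points X)), O x ∩
        {x : Points X | HasAtMor (fun _ _ h u => FlatMor.fibreDimAt h u ≤ (n : WithBot ℕ∞)) f x} := by
    refine Set.Subset.antisymm (fun y hy => ?_) fun y hy => ?_
    · obtain ⟨x, hx, hyx⟩ := Set.mem_iUnion₂.1 (hcov hy.1)
      exact Set.mem_iUnion₂.2 ⟨x, hx, hyx, hy.2⟩
    · obtain ⟨x, hx, hyx, hy2⟩ := Set.mem_iUnion₂.1 hy
      exact ⟨hOV x (htV x hx) hyx, hy2⟩
  rw [e]
  exact t.finite_toSet.isCompact_biUnion fun x hx => hOc x (htV x hx)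

end Groth.Agent.SpPts86
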