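import Groth.Agent.SpPts86.HasAtMorBC
import Groth.Agent.SpPts86.LocPNear
import Groth.Agent.Unr55.PointDesc
import Groth.Agent.Hens22.EtaleNearPoint

/-!
The unramified locus and base change.
-/

universe u

set_option autoImplicit false

open CategoryTheory CategoryTheory.Limits AlgebraicGeometry
open scoped TensorProduct
open AlgSp Groth.Agent.SpFP87

namespace Groth.Agent.SpPts86

set_option backward.isDefEq.respectTransparency.types false in
/-- Unramifiedness at a point descends along a base change. -/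
theorem formallyUnramified_stalkMap_fst {X Y Y' : Scheme.{u}} (f : X ⟶ Y) [LocallyOfFiniteType f]
    (g : Y' ⟶ Y) (z : ↥(pullback f g))
    (h : ((pullback.snd f g).stalkMap z).hom.FormallyUnramified) :
    (f.stalkMap (pullback.fst f g z)).hom.FormallyUnramified := by
  obtain ⟨V, hV, U, hU, e, q, hq⟩ := Unr55.exists_chart_at f (pullback.fst f g z)
  have hzU : pullback.fst f g z ∈ U := hq ▸ hU.range_fromSpec.le (Set.mem_range_self q)
  have hzV : g (pullback.snd f g z) ∈ V := by
    rw [← Scheme.Hom.comp_apply, ← pullback.condition, Scheme.Hom.comp_apply]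
    exact e hzU
  obtain ⟨W, hW, hzW, hWV⟩ :=
    exists_isAffineOpen_mem_and_subset (U := g ⁻¹ᵁ V) (x := pullback.snd f g z) hzV
  let e' : W ≤ g ⁻¹ᵁ V := hWV
  let : Algebra Γ(Y, V) Γ(Y', W) := (g.appLE V W e').hom.toAlgebra
  let : Algebra Γ(Y, V) Γ(X, U) := (f.appLE V U e).hom.toAlgebra
  have : Algebra.FiniteType Γ(Y, V) Γ(X, U) := (HasRingHomProperty.appLE
    @LocallyOfFiniteType f inferInstance ⟨V, hV⟩ ⟨U, hU⟩ e :)
  obtain ⟨j, _, hj1, hj2, hjr⟩ := Unr55.exists_chart f g hV hU e Γ(Y', W) rfl hW.fromSpec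
    (hV.SpecMap_appLE_fromSpec g hW e').symm
  obtain ⟨Q, hQz⟩ : z ∈ Set.range j := by
    rw [hjr]
    exact ⟨hzU, hW.range_fromSpec.ge hzW⟩
  let T := Γ(Y', W) ⊗[Γ(Y, V)] Γ(X, U)
  have hQq : hU.fromSpec ⟨Q.asIdeal.comap (Algebra.TensorProduct.includeRight (R := Γ(Y, V))
      (A := Γ(Y', W)) (B := Γ(X, U))).toRingHom, inferInstance⟩ = pullback.fst f g z := by
    rw [← hQz, ← Scheme.Hom.comp_apply, hj1, Scheme.Hom.comp_apply]
    rfl
  have hP := RingHom.FormallyUnramified.respectsIso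
  have h' : Algebra.IsUnramifiedAt Γ(Y', W) Q.asIdeal := by
    rw [← hQz, Unr55.stalkMap_iff_of_square hP (pullback.snd f g)
      (Spec.map (CommRingCat.ofHom (algebraMap Γ(Y', W) T))) j hW.fromSpec hj2 Q] at h
    exact (Unr55.localRingHom_formallyUnramified_iff Q.asIdeal).mp
      ((hP.arrow_mk_iso_iff (Scheme.arrowStalkMapSpecIso _ Q)).mp h)
  rw [← hQq]
  exact (Unr55.formallyUnramified_stalkMap_iff_chart f hV hU e _).mpr
    (Unr55.isUnramifiedAt_of_baseChange Q.asIdeal h')

theorem nearPt_unramified_iff_stalkMap {U V : Scheme.{u}} (h : U ⟶ V) [LocallyOfFiniteType h] (u : U) :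
    (∃ W : U.Opens, u ∈ W ∧ LocallyOfFiniteType (W.ι ≫ h) ∧ FormallyUnramified (W.ι ≫ h)) ↔
      (h.stalkMap u).hom.FormallyUnramified := by
  constructor
  · rintro ⟨W, hu, _, _⟩
    exact Hens22.stalkMap_of_restrict h RingHom.FormallyUnramified.respectsIso W ⟨u, hu⟩
      (FormallyUnramified.stalkMap (W.ι ≫ h) _)
  · intro hs
    obtain ⟨W, hu, hW⟩ := Hens22.exists_formallyUnramified_of_stalkMap h u hs
    exact ⟨W, hu, inferInstance, hW⟩

theorem nearPt_unramified_baseChange_iff {A B C D : Scheme.{u}} (p : A ⟶ B) (q : A ⟶ C) (f : B ⟶ D)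
    (g : C ⟶ D) (sq : IsPullback p q f g) (hf : LocallyOfFiniteType f) (a : A) :
    (∃ W : A.Opens, a ∈ W ∧ LocallyOfFiniteType (W.ι ≫ q) ∧ FormallyUnramified (W.ι ≫ q)) ↔
      (∃ W : B.Opens, p a ∈ W ∧ LocallyOfFiniteType (W.ι ≫ f) ∧ FormallyUnramified (W.ι ≫ f)) := by
  have : LocallyOfFiniteType q := MorphismProperty.of_isPullback sq hf
  constructor
  · intro hq
    rw [nearPt_unramified_iff_stalkMap] at hq ⊢
    let e := sq.isoPullback
    have hpa : pullback.fst f g (e.hom a) = p a := by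
      rw [← Scheme.Hom.comp_apply, IsPullback.isoPullback_hom_fst]
    rw [← hpa]
    refine formallyUnramified_stalkMap_fst f g _ ?_
    have h0 := Unr55.stalkMap_iff_of_square RingHom.FormallyUnramified.respectsIso
      (pullback.snd f g) q e.hom (𝟙 C) (by rw [Category.comp_id, IsPullback.isoPullback_hom_snd]) a
    exact h0.2 hq
  · rintro ⟨W, hW, _, _⟩
    refine ⟨p ⁻¹ᵁ W, hW, inferInstance, ?_⟩
    exact MorphismProperty.of_isPullback ((isPullback_morphismRestrict p W).paste_vert sq) inferInstance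

end Groth.Agent.SpPts86
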