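import Groth.Agent.SpPts86.HasAtMorInv
import Groth.Agent.S9359
import Groth.Agent.S9367
import Groth.Agent.S9699
import Groth.Agent.E4O.FibreComp
import Groth.Agent.SpFP87.NoethDesc

/-!
The dimension at a point along a flat morphism of locally Noetherian algebraic spaces.
-/

universe u

set_option autoImplicit false

open CategoryTheory CategoryTheory.Limits AlgebraicGeometry

namespace Groth.Agent.SpPts86

theorem hasRelDim_of_fibreDimAt {U V : Scheme.{u}} (h : U ⟶ V) [LocallyOfFiniteType h] (d : ℕ)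
    (hd : ∀ u, FlatMor.fibreDimAt h u = (d : WithBot ℕ∞)) : Cyc.HasRelDim h d := by
  intro y T hT
  obtain ⟨z, -, hmax, hdim⟩ := E4O.exists_of_mem_irreducibleComponents_fiber h hT
  rw [hdim, ← E4O.fibreDimAt_eq_fdeg hmax, hd]

theorem localDim_eq_of_smooth {U V : Scheme.{u}} [IsLocallyNoetherian V] (h : U ⟶ V) [Smooth h] (u : U) :
    FlatMor.localDim ↥U u = FlatMor.localDim ↥V (h u) + FlatMor.fibreDimAt h u := by
  have hc := S9367.result h (S9699.result h)
  let W : U.Opens := ⟨_, hc.isOpen_fiber (FlatMor.fibreDimAt h u)⟩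
  obtain ⟨z, -, -, hz, -, -⟩ := E4O.exists_fibreDimAt_eq h u
  have : IsLocallyNoetherian U := LocallyOfFiniteType.isLocallyNoetherian h
  have : IsLocallyNoetherian W.toScheme := isLocallyNoetherian_of_isOpenImmersion W.ι
  let w : W.toScheme := ⟨u, rfl⟩
  have hd : ∀ t, FlatMor.fibreDimAt (W.ι ≫ h) t = ((E4O.fdeg h z : ℕ) : WithBot ℕ∞) := fun t => by
    rw [← hz, ← (t.2 : FlatMor.fibreDimAt h t.1 = FlatMor.fibreDimAt h u)]
    exact (Desc59.EtaleDim.fibreDimAt_eq h (W.ι ≫ h) W.ι (𝟙 V) (Category.comp_id _) t).symm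
  have e := S9359.result (W.ι ≫ h) (E4O.fdeg h z) (hasRelDim_of_fibreDimAt _ _ hd) w
  rw [Desc59.EtaleDim.localDim_eq W.ι w] at e
  rw [hz]
  exact e

end Groth.Agent.SpPts86
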