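import Groth.Agent.SpPts86.ResTrdeg
import Groth.Agent.VarGal.LocalDim

/-!
The local dimension of a fibre in terms of its local ring and the residual degree.
-/

universe u

set_option autoImplicit false

open CategoryTheory CategoryTheory.Limits AlgebraicGeometry

namespace Groth.Agent.SpPts86

/-- The local dimension of a fibre is the dimension of its local ring plus the residual degree. -/
theorem fibreDimAt_eq_stalk_add {U V : Scheme.{u}} (h : U ⟶ V) [LocallyOfFiniteType h] (u : U) :
    FlatMor.fibreDimAt h u =
      ringKrullDim ((h.fiber (h u)).presheaf.stalk (h.asFiber u)) + ((E4O.fdeg h u : ℕ) : WithBot ℕ∞) := by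
  let g : h.fiber (h u) ⟶ Spec (CommRingCat.of (V.residueField (h u) : Type u)) :=
    h.fiberToSpecResidueField (h u)
  have : LocallyOfFiniteType g := inferInstanceAs (LocallyOfFiniteType (pullback.snd _ _))
  have h1 : E4O.fdeg h u = WC97.tdegN g (h.asFiber u) := by
    have := (E4O.dim_closure_fiber h (h u) (h.asFiber u)).symm.trans
      (WC97.topologicalKrullDim_closure g (h.asFiber u))
    rw [Scheme.Hom.fiberι_asFiber] at this
    exact_mod_cast this
  rw [FlatMor.fibreDimAt, VarGal.localDim_eq_tdegN_add g, h1, add_comm]

end Groth.Agent.SpPts86
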