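import Mathlib.AlgebraicGeometry.Morphisms.QuasiFinite
import Mathlib.AlgebraicGeometry.Morphisms.FormallyUnramified
import Mathlib.AlgebraicGeometry.Morphisms.FiniteType
import Mathlib.RingTheory.Unramified.LocalStructure

/-!
Unramified morphisms are locally quasi-finite.
-/

universe u

open CategoryTheory AlgebraicGeometry

namespace Groth.Agent.SpPts86

theorem lqf_of_unramified {U V : Scheme.{u}} (h : U ⟶ V) [LocallyOfFiniteType h] [FormallyUnramified h] :
    LocallyQuasiFinite h := by
  constructor
  intro A hA B hB e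
  have h1 : (h.appLE A B e).hom.FormallyUnramified :=
    HasRingHomProperty.appLE @FormallyUnramified h inferInstance ⟨A, hA⟩ ⟨B, hB⟩ e
  have h2 : (h.appLE A B e).hom.FiniteType :=
    HasRingHomProperty.appLE @LocallyOfFiniteType h inferInstance ⟨A, hA⟩ ⟨B, hB⟩ e
  let := (h.appLE A B e).hom.toAlgebra
  have : Algebra.FormallyUnramified Γ(V, A) Γ(U, B) := h1
  have : Algebra.FiniteType Γ(V, A) Γ(U, B) := h2
  exact RingHom.quasiFinite_algebraMap.mpr inferInstance

end Groth.Agent.SpPts86
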