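import Groth.Agent.SpPts86.ResTrdeg
import Groth.Agent.SpPts86.Codim
import Groth.Agent.SpFP87.NoethDesc
import Groth.Agent.SpFP87.DecentDim
import Groth.Agent.Dim57.Formula

/-!
The dimension inequality for algebraic spaces.
-/

universe u

set_option autoImplicit false

open CategoryTheory CategoryTheory.Limits AlgebraicGeometry
open AlgSp Groth.Agent.SpFP87

namespace Groth.Agent.SpPts86

theorem stalk_dim_add_le_of_bound {S : Scheme.{u}} {X Y : Sp S} (hX : IsAlgSpace X) (hY : IsAlgSpace Y)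
    {f : X ⟶ Y} (hYn : IsLocNoethSp Y) (hf : LocP @LocallyOfFiniteType f) {x : Points X} {E : Cardinal.{u}}
    (hE : ∀ ξ : Points X, ξ ⤳ x → HasAt (fun U u => ringKrullDim ↥(U.presheaf.stalk u) = 0) X ξ →
      ∀ s : Cardinal.{u}, HasAtMor (fun _ _ h u => Dual3.resTrdeg h u = s) f ξ → s ≤ E)
    {U V : Over S} {a : (yon S).obj U ⟶ X} {b : (yon S).obj V ⟶ Y} {h : U ⟶ V} {u : ↥U.left}
    (ha : RepWith @Etale a) (hb : RepWith @Etale b) (w : a ≫ f = (yon S).map h ≫ b)
    (hu : Points.ofPt a u = x) :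
    ringKrullDim ↥(U.left.presheaf.stalk u) +
        ((Cardinal.toENat (Dual3.resTrdeg h.left u) : ℕ∞) : WithBot ℕ∞) ≤
      ringKrullDim ↥(V.left.presheaf.stalk (h.left u)) + ((Cardinal.toENat E : ℕ∞) : WithBot ℕ∞) := by
  have := hf a b h ha hb w
  have := isLocallyNoetherian_chart hY hYn hb
  rw [resTrdeg_eq_fdeg, Cardinal.toENat_nat]
  by_cases hE' : E < Cardinal.aleph0
  · obtain ⟨n, rfl⟩ := Cardinal.lt_aleph0.1 hE'
    rw [Cardinal.toENat_nat]
    refine Dim57.stalk_dim_add_le h.left u n fun ξ hξ hs => ?_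
    have hsp : Points.ofPt a ξ ⤳ x := hu ▸ hs.map (Points.continuous_ofPt a)
    have h0 := hE _ hsp ⟨U, a, ξ, ha, rfl, (SpFP87.dim_stalk_eq_zero_iff ξ).2 hξ⟩
      (E4O.fdeg h.left ξ : Cardinal.{u}) ⟨U, V, a, b, h, ξ, ha, hb, w, rfl, resTrdeg_eq_fdeg h.left ξ⟩
    exact_mod_cast h0
  · rw [Cardinal.toENat_eq_top.2 (not_lt.1 hE')]
    have hne : (0 : WithBot ℕ∞) ≤ ringKrullDim ↥(V.left.presheaf.stalk (h.left u)) :=
      ringKrullDim_nonneg_of_nontrivial
    cases e : ringKrullDim ↥(V.left.presheaf.stalk (h.left u)) with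
    | bot => rw [e] at hne; simp at hne
    | coe c =>
      rw [← WithBot.coe_add, add_top]
      exact le_top.trans le_rfl

end Groth.Agent.SpPts86
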