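import Groth.Agent.SpPts86.Coprod
import Groth.Prelude.Def_AlgSp3
import Mathlib.AlgebraicGeometry.Morphisms.Finite

/-!
Finite disjoint unions of spaces finite over a space are finite over it.
-/

universe u

set_option autoImplicit false

open CategoryTheory CategoryTheory.Limits AlgebraicGeometry Opposite
open AlgSp Groth.Agent.SpFP87

namespace Groth.Agent.SpPts86

variable {S : Scheme.{u}} {Y : Sp S}

theorem isFinite_of_disjoint_cover {κ : Type u} [Finite κ] {X : κ → Scheme.{u}} {W T : Scheme.{u}}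
    [IsAffine T] [∀ i, IsAffine (X i)] {f : ∀ i, X i ⟶ W} (hc : IsColimit (Cofan.mk W f))
    (p : W ⟶ T) (hp : ∀ i, IsFinite (f i ≫ p)) : IsAffine W ∧ IsFinite p := by
  let R : κ → CommRingCat.{u} := fun i => Γ(X i, ⊤)
  let e : W ≅ Spec (.of (Π i, R i)) :=
    hc.coconePointUniqueUpToIso (coproductIsCoproduct X) ≪≫
      Sigma.mapIso (fun i => (X i).isoSpec) ≪≫ asIso (sigmaSpec R)
  refine ⟨.of_isIso e.hom, ?_⟩
  let φ : ∀ i, Γ(T, ⊤) ⟶ R i := fun i => (f i ≫ p).appTop
  let ψ : Γ(T, ⊤) ⟶ CommRingCat.of (Π i, R i) := CommRingCat.ofHom (RingHom.pi fun i => (φ i).hom)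
  have hψ : IsFinite (Spec.map ψ) := by
    rw [IsFinite.SpecMap_iff]
    letI : ∀ i, Algebra Γ(T, ⊤) (R i) := fun i => (φ i).hom.toAlgebra
    have hm : ∀ i, Module.Finite Γ(T, ⊤) (R i) := fun i => by
      have := hp i
      exact ((HasAffineProperty.iff_of_isAffine (P := @IsFinite)).1 this).2
    exact (Module.Finite.pi : Module.Finite Γ(T, ⊤) (Π i, R i))
  have key : p = e.hom ≫ Spec.map ψ ≫ T.isoSpec.inv := Cofan.IsColimit.hom_ext hc _ _ fun i => by
    change f i ≫ p = f i ≫ e.hom ≫ _
    have h1 : f i ≫ e.hom = (X i).isoSpec.hom ≫ Spec.map (CommRingCat.ofHom (Pi.evalRingHom _ i)) := by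
      have h0 : f i ≫ (hc.coconePointUniqueUpToIso (coproductIsCoproduct X)).hom = Sigma.ι X i :=
        hc.comp_coconePointUniqueUpToIso_hom (coproductIsCoproduct X) ⟨i⟩
      simp only [e, Iso.trans_hom, asIso_hom]
      rw [reassoc_of% h0]
      simp
      exact ι_sigmaSpec R i
    rw [reassoc_of% h1, ← Spec.map_comp_assoc]
    have h2 : ψ ≫ CommRingCat.ofHom (Pi.evalRingHom _ i) = φ i := rfl
    rw [h2, Scheme.isoSpec_hom_naturality_assoc, Iso.hom_inv_id, Category.comp_id]
  rw [key]
  infer_instance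

theorem isFiniteMor_cofan {n : ℕ} {X : Fin n → Sp S} {c : Cofan X} (hc : IsColimit c) {d : c.pt ⟶ Y}
    {g : ∀ i, X i ⟶ Y} (hd : ∀ i, c.inj i ≫ d = g i) (hg : ∀ i, IsFiniteMor (g i)) :
    IsFiniteMor d := by
  intro T hT γ
  choose W s p sq hW hs using fun i => hg i hT γ
  have sqP := IsPullback.of_hasPullback d γ
  let k : ∀ i, (yon S).obj (W i) ⟶ pullback d γ := fun i =>
    sqP.lift (p i ≫ c.inj i) ((yon S).map (s i)) (by rw [Category.assoc, hd, (sq i).w])
  have hk : ∀ i, IsPullback (p i) (k i) (c.inj i) (pullback.fst d γ) := fun i =>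
    IsPullback.of_bot (by rw [sqP.lift_snd, hd]; exact sq i) (sqP.lift_fst _ _ _).symm sqP
  have hkO : ∀ i, RepWith @IsOpenImmersion (k i) := fun i =>
    (repWith_isStableUnderBaseChange _).of_isPullback (hk i) (repWith_openImmersion_cofan_inj hc i)
  let κ := ULift.{u} (Fin n)
  obtain ⟨Z, ⟨e⟩⟩ := exists_iso_of_open_cover (ι := κ) (fun j => W j.down) (fun j => k j.down)
    (fun j => hkO j.down) (fun x => by
      obtain ⟨i, y, hy⟩ := exists_mem_range_cofan_inj hc (Points.map (pullback.fst d γ) x)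
      obtain ⟨z, -, hz⟩ := exists_of_isPullback (hk i) y x hy
      obtain ⟨w, rfl⟩ := (Points.schemeHomeo (W i)).surjective z
      exact ⟨⟨i⟩, w, by rw [Points.ofPt_eq_map_ofScheme]; exact hz⟩)
  choose f hf using fun i => (yon S).map_surjective (k i ≫ e.inv)
  obtain ⟨q, hq⟩ := (yon S).map_surjective (e.hom ≫ pullback.snd d γ)
  have hfO : ∀ j : κ, IsOpenImmersion (f j.down).left := fun j =>
    (repWith_yon_map_iff (@IsOpenImmersion : MorphismProperty Scheme.{u}) _).1 (by
      rw [hf, MorphismProperty.cancel_right_of_respectsIso (RepWith @IsOpenImmersion)]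
      exact hkO _)
  have hfq : ∀ i, f i ≫ q = s i := fun i => (yon S).map_injective (by
    rw [Functor.map_comp, hf, hq, Category.assoc, Iso.inv_hom_id_assoc, sqP.lift_snd])
  have hfc : ∀ i, (yon S).map (f i) ≫ e.hom ≫ pullback.fst d γ = p i ≫ c.inj i := fun i => by
    rw [hf, Category.assoc, Iso.inv_hom_id_assoc, sqP.lift_fst]
  have hcol : Nonempty (IsColimit (Cofan.mk Z.left fun j : κ => (f j.down).left)) := by
    refine nonempty_isColimit_cofanMk_of _ ?_ ?_
    · rw [eq_top_iff]
      intro z _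
      obtain ⟨i, y, hy⟩ := exists_mem_range_cofan_inj hc
        (Points.map (pullback.fst d γ) (Points.map e.hom (Points.schemeHomeo Z z)))
      obtain ⟨z', -, hz⟩ := exists_of_isPullback (hk i) y _ hy
      obtain ⟨w, rfl⟩ := (Points.schemeHomeo (W i)).surjective z'
      refine TopologicalSpace.Opens.mem_iSup.2 ⟨⟨i⟩, w, (Points.schemeHomeo Z).injective ?_⟩
      change Points.schemeHomeo Z ((f i).left w) = _
      rw [← Points.map_yon_map_apply, hf, Points.map_comp, hz, ← Points.map_comp, Iso.hom_inv_id,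
        Points.map_id]
    · rintro ⟨i⟩ ⟨j⟩ hij
      change Disjoint (f i).left.opensRange (f j).left.opensRange
      rw [disjoint_iff, TopologicalSpace.Opens.ext_iff]
      refine Set.eq_empty_of_forall_notMem ?_
      rintro z ⟨⟨a, ha⟩, ⟨b, hb⟩⟩
      obtain ⟨w, -, -⟩ := Scheme.Pullback.exists_preimage_pullback a b (ha.trans hb.symm)
      let V : Over S := Over.mk (pullback.fst (f i).left (f j).left ≫ (W i).hom)
      let v₁ : V ⟶ W i := Over.homMk (pullback.fst (f i).left (f j).left) rfl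
      let v₂ : V ⟶ W j := Over.homMk (pullback.snd (f i).left (f j).left) (by
        change pullback.snd (f i).left (f j).left ≫ (W j).hom =
          pullback.fst (f i).left (f j).left ≫ (W i).hom
        rw [← Over.w (f i), ← Over.w (f j), pullback.condition_assoc])
      have hv : v₁ ≫ f i = v₂ ≫ f j := Over.OverMorphism.ext pullback.condition
      exact (isEmpty_of_inj_eq hc (fun h => hij (by rw [h])) ((yon S).map v₁ ≫ p i)
        ((yon S).map v₂ ≫ p j) (by
          rw [Category.assoc, Category.assoc, ← hfc, ← hfc, ← Functor.map_comp_assoc,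
            ← Functor.map_comp_assoc, hv])).false w
  have : ∀ j : κ, IsAffine (W j.down).left := fun j => hW j.down
  obtain ⟨hA, hF⟩ := isFinite_of_disjoint_cover (X := fun j : κ => (W j.down).left) hcol.some q.left
    fun j => by rw [← Over.comp_left, hfq]; exact hs j.down
  exact ⟨Z, q, e.hom ≫ pullback.fst d γ, IsPullback.of_iso sqP e.symm (Iso.refl _) (Iso.refl _)
    (Iso.refl _) (by simp) (by simp [hq]) (by simp) (by simp), hA, hF⟩

end Groth.Agent.SpPts86
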