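import Groth.Agent.SpPts86.EtPush
import Mathlib.CategoryTheory.Sites.DenseSubsite.SheafEquiv
import Mathlib.CategoryTheory.Sites.DenseSubsite.InducedTopology

/-!
The essential image of the direct image along an integral universally injective morphism.
-/

universe v' u' u

set_option autoImplicit false
set_option backward.isDefEq.respectTransparency false
set_option linter.style.haveILetI false

open CategoryTheory CategoryTheory.Limits AlgebraicGeometry Opposite
open AlgSp Groth.Agent.SpFP87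

namespace Groth.Agent.SpPts86

variable {S : Scheme.{u}} {Y X : Sp S} {f : Y ⟶ X}

/-- An object whose image avoids the image of `f`. -/
def AvoidsRange (f : Y ⟶ X) (E : EtOver X) : Prop :=
  Disjoint (Set.range (Points.map E.obj.hom)) (Set.range (Points.map f))

theorem AvoidsRange.of_hom {E E' : EtOver X} (g : E' ⟶ E) (h : AvoidsRange f E) : AvoidsRange f E' := by
  refine h.mono_left ?_
  rintro _ ⟨x, rfl⟩
  rw [← EtOver.w g, Points.map_comp]
  exact ⟨_, rfl⟩

theorem isEmpty_bc_of_avoidsRange (hf : Representable f) {E : EtOver X} (h : AvoidsRange f E) :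
    IsEmpty ↥((EtOver.bc hf).obj E).obj.left.left := ⟨fun w => by
  refine Set.disjoint_left.1 h ⟨Points.map ((yon S).map (hf.snd E.obj.hom)) (Points.ofScheme _ w), rfl⟩ ?_
  rw [← Points.map_comp, ← hf.w, Points.map_comp]
  exact ⟨_, rfl⟩⟩

theorem bot_mem_of_isEmpty {V : EtOver Y} (h : IsEmpty ↥V.obj.left.left) : ⊥ ∈ etTop Y V :=
  mem_etTop_of_forall _ fun v => (h.false v).elim

theorem exists_mem_range_of_mem_etTop {V : EtOver Y} {R : Sieve V} (hR : R ∈ etTop Y V) (v : ↥V.obj.left.left) :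
    ∃ (W : EtOver Y) (g : W ⟶ V), R g ∧ v ∈ Set.range g.hom.left.left := by
  obtain ⟨R₀, hR₀, hle⟩ := Precoverage.mem_toGrothendieck_iff_of_isStableUnderComposition.1 hR
  obtain ⟨ι, Z, π, rfl⟩ := Presieve.exists_eq_ofArrows R₀
  obtain ⟨i, hi⟩ := (ofArrows_mem_etPre_iff Z π).1 hR₀ v
  exact ⟨Z i, π i, hle _ _ ⟨i⟩, hi⟩

/-- The open part of an object outside the closed image. -/
theorem exists_avoidsRange_nhd (h : RepWith intUI f) (E : EtOver X) (v : ↥E.obj.left.left)
    (hv : v ∉ Set.range (h.1.snd E.obj.hom).left) :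
    ∃ (E' : EtOver X) (g : E' ⟶ E), AvoidsRange f E' ∧ v ∈ Set.range g.hom.left.left := by
  let O : E.obj.left.left.Opens :=
    ⟨(Set.range (h.1.snd E.obj.hom).left)ᶜ, (isEmbedding_of_intUI (intUI_snd h E)).isClosed_range.isOpen_compl⟩
  let c : Over.mk (O.ι ≫ E.obj.left.hom) ⟶ E.obj.left := Over.homMk O.ι rfl
  haveI : Etale c.left := inferInstanceAs (Etale O.ι)
  refine ⟨EtOver.mk ((yon S).map c ≫ E.obj.hom) (repWith_etale_comp c E.property), EtOver.homMk c rfl,
    ?_, ⟨⟨v, hv⟩, rfl⟩⟩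
  refine Set.disjoint_left.2 ?_
  intro q hq hq'
  obtain ⟨z, rfl⟩ := (range_map_yon _).subset hq
  obtain ⟨y, hy⟩ := hq'
  obtain ⟨w, -, hw⟩ := exists_pt_of_isPullback (h.1.isPullback E.obj.hom) y (c.left z)
    (hy.trans (ofPt_comp c E.obj.hom z))
  exact z.2 ⟨w, hw⟩

theorem isLocallyFaithful_bc (h : RepWith intUI f) : (EtOver.bc h.1).IsLocallyFaithful (etTop Y) :=
  ⟨fun {E E'} l₁ l₂ e => mem_etTop_of_forall _ fun w => by
    let Pr := EtOver.prodObj E' E'
    let π₁ : Pr ⟶ E' := EtOver.prodFst E' E'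
    let π₂ : Pr ⟶ E' := EtOver.prodSnd E' E'
    have hP := EtOver.prodIsLimit E' E'
    let Δ : E' ⟶ Pr := (BinaryFan.IsLimit.lift' hP (𝟙 E') (𝟙 E')).1
    have hΔ₁ : Δ ≫ π₁ = 𝟙 E' := (BinaryFan.IsLimit.lift' hP (𝟙 E') (𝟙 E')).2.1
    have hΔ₂ : Δ ≫ π₂ = 𝟙 E' := (BinaryFan.IsLimit.lift' hP (𝟙 E') (𝟙 E')).2.2
    let m : E ⟶ Pr := (BinaryFan.IsLimit.lift' hP l₁ l₂).1
    have hm₁ : m ≫ π₁ = l₁ := (BinaryFan.IsLimit.lift' hP l₁ l₂).2.1
    have hm₂ : m ≫ π₂ = l₂ := (BinaryFan.IsLimit.lift' hP l₁ l₂).2.2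
    let F := EtOver.bc h.1
    let sE := h.1.snd E.obj.hom
    have key : sE ≫ m.hom.left = sE ≫ (l₁ ≫ Δ).hom.left := by
      have hs : ∀ (g : E ⟶ Pr), (F.map g).hom.left ≫ h.1.snd Pr.obj.hom = sE ≫ g.hom.left :=
        fun g => EtOver.bcMap_snd h.1 g
      have hd : ∀ (g g' : E ⟶ E') (q : F.map g = F.map g'), sE ≫ g.hom.left = sE ≫ g'.hom.left := fun g g' q => by
        rw [← EtOver.bcMap_snd h.1 g, ← EtOver.bcMap_snd h.1 g']
        exact congrArg (fun k : F.obj E ⟶ F.obj E' => k.hom.left ≫ h.1.snd E'.obj.hom) q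
      refine Functor.relativelyRepresentable.hom_ext' _ ?_ ?_
      · show (sE ≫ m.hom.left) ≫ π₂.hom.left = (sE ≫ (l₁ ≫ Δ).hom.left) ≫ π₂.hom.left
        rw [Category.assoc, Category.assoc]
        show sE ≫ (m ≫ π₂).hom.left = sE ≫ ((l₁ ≫ Δ) ≫ π₂).hom.left
        rw [hm₂, Category.assoc, hΔ₂, Category.comp_id]
        exact (hd _ _ e).symm
      · show (sE ≫ m.hom.left) ≫ π₁.hom.left = (sE ≫ (l₁ ≫ Δ).hom.left) ≫ π₁.hom.left
        rw [Category.assoc, Category.assoc]
        show sE ≫ (m ≫ π₁).hom.left = sE ≫ ((l₁ ≫ Δ) ≫ π₁).hom.left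
        rw [hm₁, Category.assoc, hΔ₁, Category.comp_id]
    let E'' := EtOver.pullbackObj m Δ
    let j : E'' ⟶ E := EtOver.pullbackFst m Δ
    have hj : j ≫ l₁ = j ≫ l₂ := by
      rw [← hm₁, ← hm₂, ← Category.assoc, ← Category.assoc, EtOver.pullback_condition, Category.assoc,
        Category.assoc, hΔ₁, hΔ₂]
    have hv : m.hom.left.left (sE.left w) = Δ.hom.left.left (l₁.hom.left.left (sE.left w)) :=
      congrArg (fun k : (F.obj E).obj.left ⟶ Pr.obj.left => k.left w) key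
    obtain ⟨z, hz, -⟩ := Scheme.exists_preimage_of_isPullback
      ((IsPullback.of_hasPullback m.hom.left Δ.hom.left).map (Over.forget S)) (sE.left w) _ hv
    obtain ⟨z', hz', -⟩ := Scheme.exists_preimage_of_isPullback (EtOver.isPullback_bcMap_left h.1 j) w z hz.symm
    exact ⟨_, F.map j, Presieve.image_mem_functorPushforward _ _ hj, ⟨z', hz'⟩⟩⟩

section

variable {A : Type u'} [Category.{v'} A]

/-- Terminal values on objects avoiding the image: a sheaf for the topology induced from the source. -/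
theorem isSheaf_restricted (h : RepWith intUI f) [(EtOver.bc h.1).IsCoverDense (etTop Y)]
    [(EtOver.bc h.1).IsLocallyFull (etTop Y)] [(EtOver.bc h.1).IsLocallyFaithful (etTop Y)] (G : EtSh X A)
    (hG : ∀ E, AvoidsRange f E → Nonempty (IsTerminal (G.obj.obj (op E)))) :
    Presheaf.IsSheaf ((EtOver.bc h.1).restrictedTopology (etTop Y)) G.obj := by
  intro Z E R hR x hx
  rw [Functor.mem_restrictedTopology_iff] at hR
  let R' : Sieve E :=
    { arrows := fun V g => R g ∨ AvoidsRange f V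
      downward_closed := fun {V W g} hg k => hg.elim (fun h' => Or.inl (R.downward_closed h' k))
        (fun h' => Or.inr (h'.of_hom k)) }
  have hR' : R' ∈ etTop X E := mem_etTop_of_forall _ fun v => by
    by_cases hv : v ∈ Set.range (h.1.snd E.obj.hom).left
    · obtain ⟨w, rfl⟩ := hv
      obtain ⟨W, k, ⟨E₁, g, t, hg, rfl⟩, z, hz⟩ := exists_mem_range_of_mem_etTop hR w
      refine ⟨E₁, g, Or.inl hg, (h.1.snd E₁.obj.hom).left (t.hom.left.left z), ?_⟩
      rw [← hz]
      exact (congrArg (fun k : ((EtOver.bc h.1).obj E₁).obj.left ⟶ E.obj.left => k.left (t.hom.left.left z))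
        (EtOver.bcMap_snd h.1 g)).symm
    · obtain ⟨E', g, h1, h2⟩ := exists_avoidsRange_nhd h E v hv
      exact ⟨E', g, Or.inr h1, h2⟩
  classical
  let x' : Presieve.FamilyOfElements (G.obj ⋙ coyoneda.obj (op Z)) R'.arrows := fun V g hg =>
    if h' : R g then x g h' else (hG V (hg.resolve_left h')).some.from Z
  have hx' : x'.Compatible := by
    intro V₁ V₂ W k₁ k₂ g₁ g₂ h₁ h₂ e
    by_cases hW : AvoidsRange f W
    · exact (hG W hW).some.hom_ext _ _
    · have r₁ : R g₁ := h₁.resolve_right fun h' => hW (h'.of_hom k₁)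
      have r₂ : R g₂ := h₂.resolve_right fun h' => hW (h'.of_hom k₂)
      simp only [x', dif_pos r₁, dif_pos r₂]
      exact hx k₁ k₂ r₁ r₂ e
  obtain ⟨t, ht, htu⟩ := G.property Z R' hR' x' hx'
  refine ⟨t, fun V g hg => (ht g (Or.inl hg)).trans (dif_pos hg), fun s hs => htu s fun V g hg => ?_⟩
  by_cases hg' : R g
  · exact (hs g hg').trans (dif_pos hg').symm
  · exact (hG V (hg.resolve_left hg')).some.hom_ext _ _

theorem mem_essImage_pushEt (hf : Representable f) (h : RepWith intUI f) (hX : IsAlgSpace X)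
    [∀ V : (EtOver Y)ᵒᵖ, HasLimitsOfShape (StructuredArrow V (EtOver.bc hf).op) A] (G : EtSh X A)
    (hG : ∀ E, AvoidsRange f E → Nonempty (IsTerminal (G.obj.obj (op E)))) :
    (pushEt hf A).essImage G := by
  haveI : (EtOver.bc h.1).IsCoverDense (etTop Y) := isCoverDense_bc h hX
  haveI : (EtOver.bc h.1).IsLocallyFull (etTop Y) := isLocallyFull_bc h
  haveI : (EtOver.bc h.1).IsLocallyFaithful (etTop Y) := isLocallyFaithful_bc h
  let J' := (EtOver.bc h.1).restrictedTopology (etTop Y)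
  let G' : Sheaf J' A := ⟨G.obj, isSheaf_restricted h G hG⟩
  let P := (EtOver.bc h.1).sheafPushforwardContinuous A J' (etTop Y)
  let e : P.obj (P.objPreimage G') ≅ G' := P.objObjPreimageIso G'
  exact ⟨P.objPreimage G', ⟨(fullyFaithfulSheafToPresheaf _ _).preimageIso ((sheafToPresheaf J' A).mapIso e)⟩⟩

theorem isTerminal_pushEt (hf : Representable f) (F : EtSh Y A) {E : EtOver X} (hE : AvoidsRange f E) :
    Nonempty (IsTerminal (((pushEt hf A).obj F).obj.obj (op E))) :=
  ⟨Sheaf.isTerminalOfBotCover F _ (bot_mem_of_isEmpty (isEmpty_bc_of_avoidsRange hf hE))⟩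

theorem essImage_pushEt_iff (hf : Representable f) (h : RepWith intUI f) (hX : IsAlgSpace X)
    [∀ V : (EtOver Y)ᵒᵖ, HasLimitsOfShape (StructuredArrow V (EtOver.bc hf).op) A] (G : EtSh X A) :
    (pushEt hf A).essImage G ↔ ∀ E, AvoidsRange f E → Nonempty (IsTerminal (G.obj.obj (op E))) := by
  refine ⟨?_, mem_essImage_pushEt hf h hX G⟩
  rintro ⟨F, ⟨e⟩⟩ E hE
  obtain ⟨t⟩ := isTerminal_pushEt hf F hE
  exact ⟨t.ofIso (((sheafToPresheaf _ _).mapIso e).app (op E))⟩

end

end Groth.Agent.SpPts86
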