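import Groth.Agent.SpPts86.HasAtMorBC
import Groth.Agent.SpPts86.FibreStalkDim
import Groth.Agent.E4O.BaseChangeDim

/-!
Fibre local rings and base change.
-/

universe u

set_option autoImplicit false

open CategoryTheory CategoryTheory.Limits AlgebraicGeometry Topology
open AlgSp Groth.Agent.SpFP87

namespace Groth.Agent.SpPts86

variable {S : Scheme.{u}} {X Y X' Y' : Sp S}

/-- One-sided version of `hasAtMor_baseChange_iff`. -/
theorem hasAtMor_baseChange_of (P : MorphismProperty Scheme.{u}) [EtLoc P]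
    {Q : ∀ (U V : Scheme.{u}), (U ⟶ V) → ↥U → Prop} (hQ : EtInv Q)
    (hbc : ∀ {A B C D : Scheme.{u}} (p : A ⟶ B) (q : A ⟶ C) (f : B ⟶ D) (g : C ⟶ D),
      IsPullback p q f g → P f → ∀ a : A, Q B D f (p a) → Q A C q a)
    {fst : X' ⟶ X} {snd : X' ⟶ Y'} {f : X ⟶ Y} {g : Y' ⟶ Y} (sq : IsPullback fst snd f g)
    (hX : IsAlgSpace X) (hY : IsAlgSpace Y) (hY' : IsAlgSpace Y') (hf : LocP P f) (x' : Points X')
    (H : HasAtMor Q f (Points.map fst x')) : HasAtMor Q snd x' := by
  obtain ⟨V, b, hb, hbs⟩ := hY.atlas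
  obtain ⟨U, a, h, ha, has, w⟩ := exists_compatible_chart f hX hY.diag hb hbs
  obtain ⟨V', b', k, hb', hbs', w'⟩ := exists_compatible_chart g hY' hY.diag hb hbs
  have hX' := isAlgSpace_of_isPullback sq hX hY' hY.diag
  obtain ⟨W, r, s, c, hc, sqW, hc1, hc2⟩ := exists_chart_of_isPullback sq hY.diag
    (@Etale ⊓ @Surjective) a b' ((repWith_inf_iff a).2 ⟨ha, has⟩) ((repWith_inf_iff b').2 ⟨hb', hbs'⟩)
  obtain ⟨hc, hcs⟩ := (repWith_inf_iff c).1 hc
  obtain ⟨V₂, r₂, s₂, sqV⟩ := exists_isPullback_yon hY.diag b b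
  obtain ⟨A, α, β, sqA⟩ := exists_isPullback_yon (IsAlgSpace.yon_obj V).diag
    ((yon S).map h) ((yon S).map r₂)
  have hsA := isPullback_left_of_yon sqA
  have hs₂ : Etale s₂.left := etale_snd_of_isPullback sqV hb
  have hβ : P β.left := P.of_isPullback (sq := hsA) (hf a b h ha hb w)
  have hA : IsPullback ((yon S).map α) ((yon S).map (β ≫ s₂)) (a ≫ f) b := by
    rw [w, Functor.map_comp]
    exact IsPullback.paste_vert sqA sqV
  let n : W ⟶ A := (yon S).preimage (hA.lift ((yon S).map r) ((yon S).map (s ≫ k))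
    (by rw [sqW.w, Functor.map_comp, Category.assoc, w']))
  have hn1 : n ≫ α = r := (yon S).map_injective (by
    rw [Functor.map_comp, Functor.map_preimage, hA.lift_fst])
  have hn : IsPullback ((yon S).map n) ((yon S).map s) ((yon S).map (β ≫ s₂)) ((yon S).map k) := by
    refine IsPullback.of_right (h₁₂ := (yon S).map α) (v₁₃ := a ≫ f) (h₂₂ := b) ?_ ?_ hA
    · rw [Functor.map_preimage, hA.lift_fst, ← w']; exact sqW
    · rw [Functor.map_preimage, hA.lift_snd, Functor.map_comp]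
  obtain ⟨z, rfl⟩ := surjective_ofPt hcs x'
  have hx : Points.ofPt a (r.left z) = Points.map fst (Points.ofPt c z) := by
    rw [Points.map_ofPt, hc1, ofPt_comp]
  refine ⟨W, V', c, b', s, z, hc, hb', hc2, rfl, ?_⟩
  refine hbc n.left s.left (β ≫ s₂).left k.left (isPullback_left_of_yon hn)
    (by rw [Over.comp_left]; exact P.comp_mem _ _ hβ (EtLoc.of_etale _ hs₂)) z ?_
  have e := hQ (β ≫ s₂).left β.left (𝟙 A.left) s₂.left inferInstance hs₂
    (by rw [Category.id_comp, Over.comp_left]) (n.left z)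
  replace e : Q A.left V.left (β ≫ s₂).left (n.left z) ↔ Q A.left V₂.left β.left (n.left z) := e
  refine e.2 (hbc α.left β.left h.left r₂.left hsA (hf a b h ha hb w) (n.left z) ?_)
  rw [← Scheme.Hom.comp_apply, ← Over.comp_left, hn1]
  exact forall_diagram_of_hasAtMor hX hY hQ H ha hb w hx

end Groth.Agent.SpPts86

namespace Groth.Agent.SpPts86

variable {S : Scheme.{u}} {X Y X' Y' : Sp S}

theorem resTrdeg_le_of_isPullback {A B C D : Scheme.{u}} (p : A ⟶ B) (q : A ⟶ C) (f : B ⟶ D) (g : C ⟶ D)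
    (sq : IsPullback p q f g) (hf : LocallyOfFiniteType f) (a : A) :
    Dual3.resTrdeg q a ≤ Dual3.resTrdeg f (p a) := by
  have : LocallyOfFiniteType q := MorphismProperty.of_isPullback sq hf
  rw [resTrdeg_eq_fdeg, resTrdeg_eq_fdeg, Nat.cast_le]
  exact E4O.fdeg_le_of_isPullback sq a

/-- The value of the fibre dimension from the local ring of the fibre and the residual degree. -/
theorem hasAtMor_fibreDim_of_stalk (hX : IsAlgSpace X) (hY : IsAlgSpace Y) {f : X ⟶ Y}
    (hf : LocP @LocallyOfFiniteType f) {x : Points X} {e : WithBot ℕ∞} {r : Cardinal.{u}}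
    (he : HasAtMor (fun _ _ h u => ringKrullDim ↥((h.fiber (h u)).presheaf.stalk (h.asFiber u)) = e) f x)
    (hr : HasAtMor (fun _ _ h u => Dual3.resTrdeg h u = r) f x) :
    HasAtMor (fun _ _ h u => FlatMor.fibreDimAt h u = e + ((Cardinal.toENat r : ℕ∞) : WithBot ℕ∞)) f x ∧
      ∃ n : ℕ, r = n := by
  obtain ⟨U, V, a, b, h, u, ha, hb, w, hu, he⟩ := he
  have := hf a b h ha hb w
  have hr' := forall_diagram_of_hasAtMor hX hY (etInv_resTrdeg (· = r)) hr ha hb w hu
  rw [resTrdeg_eq_fdeg] at hr'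
  refine ⟨⟨U, V, a, b, h, u, ha, hb, w, hu, ?_⟩, _, hr'.symm⟩
  show FlatMor.fibreDimAt h.left u = _
  rw [fibreDimAt_eq_stalk_add, he, ← hr', Cardinal.toENat_nat]
  rfl

theorem exists_baseChange_point {fst : X' ⟶ X} {snd : X' ⟶ Y'} {f : X ⟶ Y} {g : Y' ⟶ Y}
    (sq : IsPullback fst snd f g) (hY : IsAlgSpace Y) (hf : LocP @LocallyOfFiniteType f)
    {U V V' : Over S} {a : (yon S).obj U ⟶ X} {b : (yon S).obj V ⟶ Y} {b' : (yon S).obj V' ⟶ Y'} {h : U ⟶ V}
    {k : V' ⟶ V} (ha : RepWith @Etale a) (hb : RepWith @Etale b) (hb' : RepWith @Etale b')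
    (w : a ≫ f = (yon S).map h ≫ b) (w' : b' ≫ g = (yon S).map k ≫ b) (u : ↥U.left) (v' : ↥V'.left)
    (hv : h.left u = k.left v') :
    ∃ (W : Over S) (c : (yon S).obj W ⟶ X') (s : W ⟶ V') (z : ↥W.left), RepWith @Etale c ∧
      c ≫ snd = (yon S).map s ≫ b' ∧ Points.map fst (Points.ofPt c z) = Points.ofPt a u ∧
      s.left z = v' ∧ E4O.fdeg s.left z = E4O.fdeg h.left u := by
  obtain ⟨W, r, s, c, hc, sqW, hc1, hc2⟩ := exists_chart_of_isPullback sq hY.diag @Etale a b' ha hb'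
  obtain ⟨V₂, r₂, s₂, sqV⟩ := exists_isPullback_yon hY.diag b b
  obtain ⟨A, α, β, sqA⟩ := exists_isPullback_yon (IsAlgSpace.yon_obj V).diag
    ((yon S).map h) ((yon S).map r₂)
  have hsA := isPullback_left_of_yon sqA
  have hr₂ : Etale r₂.left := etale_snd_of_isPullback sqV.flip hb
  have hs₂ : Etale s₂.left := etale_snd_of_isPullback sqV hb
  have : LocallyOfFiniteType h.left := hf a b h ha hb w
  have : LocallyOfFiniteType β.left := MorphismProperty.of_isPullback hsA ‹_›
  have hα : Etale α.left := MorphismProperty.of_isPullback hsA.flip hr₂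
  have hA : IsPullback ((yon S).map α) ((yon S).map (β ≫ s₂)) (a ≫ f) b := by
    rw [w, Functor.map_comp]
    exact IsPullback.paste_vert sqA sqV
  let a₀ : U ⟶ A := (yon S).preimage (hA.lift (𝟙 _) ((yon S).map h) (by rw [Category.id_comp, w]))
  have ha₀ : a₀ ≫ α = 𝟙 U := (yon S).map_injective (by
    rw [Functor.map_comp, Functor.map_preimage, hA.lift_fst, CategoryTheory.Functor.map_id])
  have ha₀' : a₀ ≫ β ≫ s₂ = h := (yon S).map_injective (by
    rw [Functor.map_comp, Functor.map_preimage, hA.lift_snd])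
  let n : W ⟶ A := (yon S).preimage (hA.lift ((yon S).map r) ((yon S).map (s ≫ k))
    (by rw [sqW.w, Functor.map_comp, Category.assoc, w']))
  have hn1 : n ≫ α = r := (yon S).map_injective (by
    rw [Functor.map_comp, Functor.map_preimage, hA.lift_fst])
  have hn : IsPullback ((yon S).map n) ((yon S).map s) ((yon S).map (β ≫ s₂)) ((yon S).map k) := by
    refine IsPullback.of_right (h₁₂ := (yon S).map α) (v₁₃ := a ≫ f) (h₂₂ := b) ?_ ?_ hA
    · rw [Functor.map_preimage, hA.lift_fst, ← w']; exact sqW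
    · rw [Functor.map_preimage, hA.lift_snd, Functor.map_comp]
  have : Etale s₂.left := hs₂
  have : LocallyOfFiniteType (β ≫ s₂).left := by rw [Over.comp_left]; infer_instance
  obtain ⟨z, hz1, hz2, hz3⟩ := E4O.exists_fdeg_eq_of_isPullback (isPullback_left_of_yon hn) (a₀.left u) v' (by
    rw [← Scheme.Hom.comp_apply, ← Over.comp_left, ha₀', hv])
  refine ⟨W, c, s, z, hc, hc2, ?_, hz2, hz3.trans ?_⟩
  · rw [Points.map_ofPt, hc1, ofPt_comp, ← hn1, Over.comp_left, Scheme.Hom.comp_apply, hz1,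
      ← Scheme.Hom.comp_apply, ← Over.comp_left, ha₀]
    rfl
  · have := hα
    have := hr₂
    have e1 := Desc59.EtaleDim.trdeg_eq (β ≫ s₂).left β.left (𝟙 A.left) s₂.left
      (by rw [Category.id_comp, Over.comp_left]) (a₀.left u)
    have e2 := Desc59.EtaleDim.trdeg_eq h.left β.left α.left r₂.left hsA.w.symm (a₀.left u)
    have e1' : Dual3.resTrdeg (β ≫ s₂).left (a₀.left u) = Dual3.resTrdeg β.left (a₀.left u) := e1
    have e2' : Dual3.resTrdeg h.left (α.left (a₀.left u)) = Dual3.resTrdeg β.left (a₀.left u) := e2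
    rw [← Scheme.Hom.comp_apply, ← Over.comp_left, ha₀, ← e1', resTrdeg_eq_fdeg, resTrdeg_eq_fdeg,
      Nat.cast_inj] at e2'
    exact e2'.symm

end Groth.Agent.SpPts86
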