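import Groth.Agent.Fin57.GenericFinite
import Mathlib.AlgebraicGeometry.Morphisms.Etale
import Mathlib.AlgebraicGeometry.Morphisms.UniversallyOpen
import Mathlib.AlgebraicGeometry.PullbackCarrier
import Mathlib.AlgebraicGeometry.IdealSheaf.Subscheme

/-!
A separated etale morphism with finite fibres to a Noetherian affine scheme is quasi-compact.
-/

universe u

set_option autoImplicit false

open CategoryTheory CategoryTheory.Limits AlgebraicGeometry Topology TopologicalSpace

namespace Groth.Agent.SpPts86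

/-- The preimage of some neighbourhood of a generic point is compact. -/
theorem exists_compact_preimage_nhd {R U : Scheme.{u}} [IsAffine U] [IsNoetherian U] (q : R ⟶ U)
    [LocallyOfFiniteType q] [Flat q] [IsSeparated q] {η : U} (hη : Norm57.IsMax' η)
    (hfin : (q ⁻¹' {η}).Finite) :
    ∃ D : U.Opens, η ∈ D ∧ IsCompact (q ⁻¹' (D : Set U)) := by
  have : Finite (q ⁻¹' {η} : Set R) := hfin.to_subtype
  have hV : ∀ r : (q ⁻¹' {η} : Set R), ∃ V : R.Opens, IsAffineOpen V ∧ r.1 ∈ V := fun r => by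
    obtain ⟨V, hV, hr, -⟩ := exists_isAffineOpen_mem_and_subset (x := r.1) (U := ⊤) trivial
    exact ⟨V, hV, hr⟩
  choose V hV hrV using hV
  have hD : ∀ r, ∃ D : U.Opens, η ∈ D ∧ IsFinite (((V r).ι ≫ q) ∣_ D) := fun r => by
    have : IsAffine (V r).toScheme := hV r
    have hfin' : (((V r).ι ≫ q) ⁻¹' {η}).Finite :=
      (hfin.preimage (V r).ι.injective.injOn).subset fun v hv => hv
    obtain ⟨D, -, hηD, -, -, hf⟩ := Fin57.exists_isFinite_restrict ((V r).ι ≫ q) hη hfin'
      (isAffineOpen_top U) trivial (isAffineOpen_top (V r).toScheme) le_top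
      (fun _ _ => trivial)
    exact ⟨D, hηD, hf⟩
  choose D hηD hf using hD
  have hcomp := NoetherianSpace.finite_irreducibleComponents (α := U)
  let K : Set U := ⋃₀ {C ∈ irreducibleComponents U | C ≠ closure {η}}
  have hK : IsClosed K := by
    simp only [K, Set.sUnion_eq_biUnion]
    exact (hcomp.subset fun C hC => hC.1).isClosed_biUnion fun C hC =>
      isClosed_of_mem_irreducibleComponents C hC.1
  have hηK : η ∉ K := by
    rintro ⟨C, ⟨hC, hne⟩, hηC⟩
    have hsub : closure {η} ⊆ C :=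
      closure_minimal (Set.singleton_subset_iff.2 hηC) (isClosed_of_mem_irreducibleComponents C hC)
    exact hne (subset_antisymm ((Norm57.isMax'_iff.1 hη).2 hC.1 hsub) hsub)
  let D₀ : U.Opens := ⟨(⋂ r, (D r : Set U)) ∩ Kᶜ,
    (isOpen_iInter_of_finite fun r => (D r).2).inter hK.isOpen_compl⟩
  refine ⟨D₀, ⟨Set.mem_iInter.2 hηD, hηK⟩, ?_⟩
  have hsub : q ⁻¹' (D₀ : Set U) ⊆ ⋃ r, (V r : Set R) := by
    intro z hz
    obtain ⟨C, hC, hzC⟩ := exists_mem_irreducibleComponents_subset_of_isIrreducible ({q z} : Set U)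
      isIrreducible_singleton
    have hCη : C = closure {η} := by
      by_contra hne
      exact hz.2 ⟨C, ⟨hC, hne⟩, hzC rfl⟩
    have hmz : η ⤳ q z := specializes_iff_mem_closure.2 (hCη ▸ hzC rfl)
    obtain ⟨w, hw, hwη⟩ := Flat.generalizingMap q hmz
    let r : (q ⁻¹' {η} : Set R) := ⟨w, hwη⟩
    refine Set.mem_iUnion.2 ⟨r, ?_⟩
    let j : (((V r).ι ≫ q) ⁻¹ᵁ D r).toScheme ⟶ (q ⁻¹ᵁ D r).toScheme :=
      IsOpenImmersion.lift (q ⁻¹ᵁ D r).ι ((((V r).ι ≫ q) ⁻¹ᵁ D r).ι ≫ (V r).ι)
        (by rintro _ ⟨t, rfl⟩; exact ⟨⟨_, t.2⟩, rfl⟩)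
    have hj : j ≫ (q ∣_ D r) = ((V r).ι ≫ q) ∣_ D r := by
      rw [← cancel_mono (D r).ι, Category.assoc, morphismRestrict_ι, morphismRestrict_ι,
        IsOpenImmersion.lift_fac_assoc, Category.assoc]
    have : IsSeparated (q ∣_ D r) := IsZariskiLocalAtTarget.restrict ‹_› _
    have : IsFinite (j ≫ (q ∣_ D r)) := hj ▸ hf r
    have : IsProper j := IsProper.of_comp j (q ∣_ D r)
    have hzD : q z ∈ D r := Set.mem_iInter.1 hz.1 r
    have hwD : q w ∈ D r := hwη.symm ▸ hηD r
    have hjw : j ⟨⟨w, hrV r⟩, hwD⟩ = ⟨w, hwD⟩ := by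
      refine (q ⁻¹ᵁ D r).ι.injective ?_
      rw [← Scheme.Hom.comp_apply, IsOpenImmersion.lift_fac]
      rfl
    have hsp : (⟨w, hwD⟩ : (q ⁻¹ᵁ D r).toScheme) ⤳ ⟨z, hzD⟩ :=
      (q ⁻¹ᵁ D r).ι.isEmbedding.isInducing.specializes_iff.1 hw
    obtain ⟨t, ht⟩ := hsp.mem_closed j.isClosedMap.isClosed_range ⟨_, hjw⟩
    have := congrArg (q ⁻¹ᵁ D r).ι ht
    rw [← Scheme.Hom.comp_apply, IsOpenImmersion.lift_fac, Scheme.Hom.comp_apply] at this
    exact (show (V r).ι ((((V r).ι ≫ q) ⁻¹ᵁ D r).ι t) = z from this) ▸ (t.1).2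
  have hN : ∀ r, IsCompact ((V r : Set R) ∩ q ⁻¹' (D₀ : Set U)) := fun r => by
    have : IsAffine (V r).toScheme := hV r
    have : IsNoetherian (V r).toScheme := by
      have : IsLocallyNoetherian (V r).toScheme := LocallyOfFiniteType.isLocallyNoetherian ((V r).ι ≫ q)
      exact ⟨⟩
    have := (NoetherianSpace.isCompact ((V r).ι ⁻¹' (q ⁻¹' (D₀ : Set U)))).image (V r).ι.continuous
    rwa [Set.image_preimage_eq_inter_range, Scheme.Opens.range_ι, Set.inter_comm] at this
  have e : q ⁻¹' (D₀ : Set U) = ⋃ r, ((V r : Set R) ∩ q ⁻¹' (D₀ : Set U)) := by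
    rw [← Set.iUnion_inter, Set.inter_eq_right.2 hsub]
  rw [e]
  exact isCompact_iUnion hN

/-- A separated etale morphism with finite fibres to a Noetherian affine scheme has compact source. -/
theorem compactSpace_of_etale_finite_fibres {R U : Scheme.{u}} [IsAffine U] [IsNoetherian U] (q : R ⟶ U)
    [Etale q] [IsSeparated q] (hfin : ∀ v : U, (q ⁻¹' {v}).Finite) : CompactSpace R := by
  suffices ∀ C : Closeds U, IsCompact (q ⁻¹' (C : Set U)) by
    exact ⟨by simpa using this ⊤⟩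
  intro C
  induction C using (wellFounded_lt (α := Closeds U)).induction with
  | _ C IH => ?_
  rcases (C : Set U).eq_empty_or_nonempty with hC | ⟨c, hc⟩
  · rw [hC, Set.preimage_empty]; exact isCompact_empty
  let I := Scheme.IdealSheafData.vanishingIdeal C
  have hI : Set.range I.subschemeι = (C : Set U) := by rw [I.range_subschemeι]; rfl
  have : IsAffine I.subscheme := isAffine_of_isAffineHom I.subschemeι
  have : IsLocallyNoetherian I.subscheme := LocallyOfFiniteType.isLocallyNoetherian I.subschemeι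
  have : IsNoetherian I.subscheme := ⟨⟩
  let P := pullback q I.subschemeι
  let fst : P ⟶ R := pullback.fst q I.subschemeι
  let snd : P ⟶ I.subscheme := pullback.snd q I.subschemeι
  have hsq : ∀ z : P, I.subschemeι (snd z) = q (fst z) := fun z => by
    rw [← Scheme.Hom.comp_apply, ← pullback.condition, Scheme.Hom.comp_apply]
  obtain ⟨c₀, -⟩ : c ∈ Set.range I.subschemeι := hI.ge hc
  obtain ⟨Z, hZ, -⟩ := exists_mem_irreducibleComponents_subset_of_isIrreducible ({c₀} : Set I.subscheme)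
    isIrreducible_singleton
  obtain ⟨η, hη⟩ := QuasiSober.sober hZ.1 (isClosed_of_mem_irreducibleComponents Z hZ)
  have hfin' : (snd ⁻¹' {η}).Finite :=
    ((hfin (I.subschemeι η)).preimage fst.isEmbedding.injective.injOn).subset fun z (hz : snd z = η) =>
      show q (fst z) = _ by rw [← hsq, hz]
  obtain ⟨D, hηD, hD⟩ := exists_compact_preimage_nhd snd (Norm57.isMax'_iff.2 (hη.def.symm ▸ hZ)) hfin'
  let C' : Closeds U := ⟨I.subschemeι '' (D : Set I.subscheme)ᶜ,
    I.subschemeι.isClosedMap _ D.2.isClosed_compl⟩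
  have hlt : C' < C := by
    refine lt_of_le_of_ne ?_ fun e => ?_
    · exact (Set.image_subset_range _ _).trans hI.le
    · have h1 : I.subschemeι η ∈ (C' : Set U) := by rw [e]; exact hI.le ⟨η, rfl⟩
      obtain ⟨t, ht, hte⟩ := h1
      exact ht (I.subschemeι.isEmbedding.injective hte ▸ hηD)
  have e : q ⁻¹' (C : Set U) = fst '' (snd ⁻¹' (D : Set I.subscheme)) ∪ q ⁻¹' (C' : Set U) := by
    refine subset_antisymm (fun z hz => ?_) (Set.union_subset ?_ (Set.preimage_mono hlt.le))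
    · obtain ⟨t, ht⟩ := hI.ge hz
      obtain ⟨w, hw1, hw2⟩ := Scheme.Pullback.exists_preimage_pullback z t ht.symm
      by_cases htD : t ∈ D
      · exact Or.inl ⟨w, by show snd w ∈ D; rw [show snd w = t from hw2]; exact htD, hw1⟩
      · exact Or.inr ⟨t, htD, ht⟩
    · rintro _ ⟨w, -, rfl⟩
      exact hI.le ⟨snd w, hsq w⟩
  rw [e]
  exact (hD.image fst.continuous).union (IH C' hlt)

end Groth.Agent.SpPts86
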