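import Groth.Agent.SpPts86.DiagCrit
import Groth.Agent.SpPts86.DecentFib
import Groth.Agent.SpPts86.EtaleQC
import Groth.Agent.SpPts86.DiagAbs
import Groth.Agent.SpPts86.DiagDesc
import Groth.Agent.SpFP87.NoethDesc

/-!
A decent locally Noetherian space is quasi-separated.
-/

universe u

set_option autoImplicit false

open CategoryTheory CategoryTheory.Limits AlgebraicGeometry
open AlgSp Groth.Agent.SpFP87

namespace Groth.Agent.SpPts86

variable {S : Scheme.{u}} {X : Sp S}

/-- A Zariski local property of the diagonal may be tested on pairs of affine schemes over the space. -/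
theorem repWith_diag_of_affine_etale (P : MorphismProperty Scheme.{u}) [P.IsStableUnderBaseChange]
    [IsZariskiLocalAtTarget P] [P.DescendsAlong fppfMor] (hX : IsAlgSpace X)
    (h : ∀ (U V W : Over S) (a : (yon S).obj U ⟶ X) (b : (yon S).obj V ⟶ X) (p : W ⟶ U) (q : W ⟶ V),
      IsAffine U.left → IsAffine V.left → RepWith @Etale a → RepWith @Etale b →
      IsPullback ((yon S).map p) ((yon S).map q) a b → P (schLift p q)) :
    RepWith P (Limits.diag X) := by
  have : P.RespectsIso := MorphismProperty.IsStableUnderBaseChange.respectsIso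
  obtain ⟨U, p, hp, hs⟩ := hX.atlas
  obtain ⟨R, t, s, sq⟩ := exists_isPullback_yon hX.diag p p
  refine repWith_diag_of_chart P hX hp hs sq ?_
  refine IsZariskiLocalAtTarget.of_openCover
    (Scheme.Pullback.openCoverOfLeftRight U.left.affineCover U.left.affineCover U.hom U.hom) ?_
  rintro ⟨m, n⟩
  let U₁ : Over S := Over.mk (U.left.affineCover.f m ≫ U.hom)
  let V₁ : Over S := Over.mk (U.left.affineCover.f n ≫ U.hom)
  let i : U₁ ⟶ U := Over.homMk (U.left.affineCover.f m) rfl
  let j : V₁ ⟶ U := Over.homMk (U.left.affineCover.f n) rfl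
  obtain ⟨W, p', q', sq'⟩ := exists_isPullback_yon hX.diag ((yon S).map i ≫ p) ((yon S).map j ≫ p)
  obtain ⟨k, hk⟩ := isPullback_schLift sq sq'
  have hP : P (schLift p' q') :=
    h U₁ V₁ W _ _ p' q' (inferInstanceAs (IsAffine (U.left.affineCover.X m)))
      (inferInstanceAs (IsAffine (U.left.affineCover.X n)))
      (@repWith_etale_comp _ _ _ _ i (inferInstanceAs (Etale (U.left.affineCover.f m))) _ hp)
      (@repWith_etale_comp _ _ _ _ j (inferInstanceAs (Etale (U.left.affineCover.f n))) _ hp) sq'
  have := P.cancel_left_of_respectsIso hk.isoPullback.hom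
    (pullback.snd (schLift t s) (pullback.map U₁.hom V₁.hom U.hom U.hom i.left j.left (𝟙 S)
      (by simp) (by simp)))
  rw [hk.isoPullback_hom_snd] at this
  exact this.1 hP


/-- Overlaps of affine etale charts of a decent space have finite fibres over either chart. -/
theorem finite_fibre_overlap (hd : IsDecent X) {U V W : Over S} [IsAffine U.left] [IsAffine V.left]
    {a : (yon S).obj U ⟶ X} {b : (yon S).obj V ⟶ X} (ha : RepWith @Etale a) (hb : RepWith @Etale b)
    {p : W ⟶ U} {r : W ⟶ V} (sq : IsPullback ((yon S).map p) ((yon S).map r) a b) (u : ↥U.left) :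
    (p.left ⁻¹' {u}).Finite := by
  obtain ⟨q, hqx, -, hq⟩ := hd (Points.ofPt a u)
  obtain ⟨TU, gU, cU', sqU⟩ := hq.1 a
  obtain ⟨cU, rfl⟩ := (yon S).map_surjective cU'
  obtain ⟨TV, gV, cV', sqV⟩ := hq.1 b
  obtain ⟨cV, rfl⟩ := (yon S).map_surjective cV'
  have hgU : QuasiCompact gU.left := hq.2 a _ gU sqU
  have hgV : QuasiCompact gV.left := hq.2 b _ gV sqV
  have : IsAffine q.pt.left := inferInstanceAs (IsAffine (Spec _))
  have : IsLocallyArtinian q.pt.left := inferInstanceAs (IsLocallyArtinian (Spec (CommRingCat.of q.K)))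
  have : CompactSpace ↥TU.left := QuasiCompact.compactSpace_of_compactSpace gU.left
  have : CompactSpace ↥TV.left := QuasiCompact.compactSpace_of_compactSpace gV.left
  have hcU : Etale cU.left := etale_snd_of_isPullback sqU.flip ha
  have hcV : Etale cV.left := etale_snd_of_isPullback sqV.flip hb
  have : QuasiCompact cV.left := (quasiCompact_iff_compactSpace cV.left).2 inferInstance
  let T₂ : Over S := pullback cU cV
  have h2 := ((IsPullback.of_hasPullback cU cV).map (Over.forget S))
  have : QuasiCompact (pullback.fst cU cV).left :=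
    MorphismProperty.of_isPullback h2.flip ‹QuasiCompact cV.left›
  have : Etale (pullback.fst cU cV).left := MorphismProperty.of_isPullback h2.flip hcV
  have : CompactSpace ↥T₂.left := QuasiCompact.compactSpace_of_compactSpace (pullback.fst cU cV).left
  have : Etale ((pullback.fst cU cV).left ≫ cU.left) := inferInstance
  have := SpFP87.etale_locallyQuasiFinite ((pullback.fst cU cV).left ≫ cU.left) this
  have : IsLocallyArtinian T₂.left := .of_locallyQuasiFinite ((pullback.fst cU cV).left ≫ cU.left)
  have : Finite ↥T₂.left := finite_of_compact_of_discrete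
  obtain ⟨l, hl⟩ := (yon S).map_surjective (sq.lift ((yon S).map (pullback.fst cU cV ≫ gU))
    ((yon S).map (pullback.snd cU cV ≫ gV)) (by
      rw [Functor.map_comp, Functor.map_comp, Category.assoc, Category.assoc, ← sqU.w, ← sqV.w,
        ← Category.assoc, ← Category.assoc, ← Functor.map_comp, ← Functor.map_comp, pullback.condition]))
  refine (Set.finite_range l.left).subset fun w (hw : p.left w = u) => ?_
  obtain ⟨TW, gW, cW', sqW⟩ := hq.1 ((yon S).map p ≫ a)
  obtain ⟨cW, rfl⟩ := (yon S).map_surjective cW'
  obtain ⟨z, -, hz⟩ := exists_pt_of_isPullback' sqW (IsLocalRing.closedPoint q.K) w (by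
    rw [Points.ofPt_toHom, hqx, ofPt_comp, hw])
  obtain ⟨kU, hkU⟩ := (yon S).map_surjective (sqU.lift ((yon S).map cW) ((yon S).map (gW ≫ p))
    (by rw [sqW.w, Functor.map_comp, Category.assoc]))
  obtain ⟨kV, hkV⟩ := (yon S).map_surjective (sqV.lift ((yon S).map cW) ((yon S).map (gW ≫ r))
    (by rw [sqW.w, Functor.map_comp, Category.assoc, sq.w]))
  have e1 : kU ≫ cU = cW := (yon S).map_injective (by rw [Functor.map_comp, hkU, sqU.lift_fst])
  have e2 : kV ≫ cV = cW := (yon S).map_injective (by rw [Functor.map_comp, hkV, sqV.lift_fst])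
  have f1 : kU ≫ gU = gW ≫ p := (yon S).map_injective (by rw [Functor.map_comp, hkU, sqU.lift_snd])
  have f2 : kV ≫ gV = gW ≫ r := (yon S).map_injective (by rw [Functor.map_comp, hkV, sqV.lift_snd])
  let k : TW ⟶ T₂ := pullback.lift kU kV (e1.trans e2.symm)
  have hkl : k ≫ l = gW := (yon S).map_injective (sq.hom_ext
    (by rw [Functor.map_comp, Category.assoc, hl, sq.lift_fst, ← Functor.map_comp, ← Functor.map_comp,
          pullback.lift_fst_assoc, f1])
    (by rw [Functor.map_comp, Category.assoc, hl, sq.lift_snd, ← Functor.map_comp, ← Functor.map_comp,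
          pullback.lift_snd_assoc, f2]))
  exact ⟨k.left z, by rw [← Scheme.Hom.comp_apply, ← Over.comp_left, hkl, hz]⟩

theorem isQuasiSeparatedSp_of_noeth_decent (hX : IsAlgSpace X) (hN : IsLocNoethSp X) (hd : IsDecent X) :
    IsQuasiSeparatedSp X := by
  have := quasiCompact_descends.{u}
  refine repWith_diag_of_affine_etale @QuasiCompact hX fun U V W a b p r hU hV ha hb sq => ?_
  have := hU
  have := hV
  have := isLocallyNoetherian_chart hX hN ha
  have : IsNoetherian U.left := ⟨⟩
  have : Etale p.left := etale_snd_of_isPullback sq.flip hb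
  have := isSeparated_hom_of_isAffine V
  have : (pullback U.hom V.hom).IsSeparated := ⟨by
    rw [show terminal.from (pullback U.hom V.hom) = pullback.fst U.hom V.hom ≫ terminal.from U.left
      from Subsingleton.elim _ _]
    infer_instance⟩
  have : Mono (schLift p r) := mono_lift_of_isPullback sq
  have : IsSeparated (schLift p r) := inferInstance
  have : IsSeparated p.left := by rw [← schLift_fst p r]; infer_instance
  have : CompactSpace ↥W.left :=
    compactSpace_of_etale_finite_fibres p.left fun u => finite_fibre_overlap hd ha hb sq u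
  have : QuasiCompact (schLift p r ≫ terminal.from (pullback U.hom V.hom)) := by
    rw [terminal.comp_from]; exact (compactSpace_iff_quasiCompact _).1 inferInstance
  have : IsSeparated (terminal.from (pullback U.hom V.hom)) := by
    rw [show terminal.from (pullback U.hom V.hom) = pullback.fst U.hom V.hom ≫ terminal.from U.left
      from Subsingleton.elim _ _]
    infer_instance
  exact QuasiCompact.of_comp _ (terminal.from (pullback U.hom V.hom))

end Groth.Agent.SpPts86
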