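import Groth.Agent.SpFP87.PointScheme
import Groth.Agent.SpPts86.DiagAbs
import Groth.Agent.Desc59.EtaleDim

/-!
Field points over closed points of the base of decent spaces.
-/

universe u

set_option autoImplicit false

open CategoryTheory CategoryTheory.Limits AlgebraicGeometry
open AlgSp Groth.Agent.SpFP87

namespace Groth.Agent.SpPts86

variable {S : Scheme.{u}} {X : Sp S}

theorem isClosed_point_of_integral (hX : IsAlgSpace X) (hd : IsDecent X) {k : Type u} [Field k]
    {str : Spec (CommRingCat.of k) ⟶ S} (hstr : IsIntegralHom str) (p : (yon S).obj (Over.mk str) ⟶ X) :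
    IsClosed ({Points.ofPt p (IsLocalRing.closedPoint k)} : Set (Points X)) := by
  rw [← closure_eq_iff_isClosed]
  refine subset_antisymm (fun y hy => ?_) subset_closure
  have hsp : Points.ofPt p (IsLocalRing.closedPoint k) ⤳ y := specializes_iff_mem_closure.2 hy
  obtain ⟨U₀, a₀, ha₀, has₀⟩ := hX.atlas
  obtain ⟨u₀, rfl⟩ := surjective_ofPt has₀ y
  obtain ⟨W, hW, hu₀, ha⟩ := exists_affine_subchart ha₀ u₀
  let U : Over S := Over.mk (W.ι ≫ U₀.hom)
  let i : U ⟶ U₀ := Over.homMk W.ι rfl
  have : IsAffine U.left := hW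
  let a : (yon S).obj U ⟶ X := (yon S).map i ≫ a₀
  let u : ↥U.left := (⟨u₀, hu₀⟩ : W.toScheme)
  have hu : Points.ofPt a u = Points.ofPt a₀ u₀ := by rw [ofPt_comp]; rfl
  rw [← hu] at hsp
  obtain ⟨u', hu'u, hu'⟩ := exists_generalization_lift hX hd ha hsp
  obtain ⟨T, c, d, sq⟩ := exists_isPullback_yon hX.diag p a
  obtain ⟨w, -, hw⟩ := exists_pt_of_isPullback' sq (IsLocalRing.closedPoint k) u' hu'.symm
  have hc : Etale c.left := etale_snd_of_isPullback sq.flip ha
  let c' : T.left ⟶ Spec (CommRingCat.of k) := c.left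
  have : Etale c' := hc
  let g : Spec (T.left.residueField w) ⟶ U.left := T.left.fromSpecResidueField w ≫ d.left
  have hfin : IsIntegralHom (T.left.fromSpecResidueField w ≫ c') := by
    rw [← Scheme.Hom.SpecMap_residueFieldMap_fromSpecResidueField]
    have : IsFinite (Spec.map (c'.residueFieldMap w)) :=
      (IsFinite.SpecMap_iff _).2 (Desc59.EtaleDim.finite_residueFieldMap c' w)
    have : IsClosedImmersion ((Spec (CommRingCat.of k)).fromSpecResidueField (c' w)) := by
      refine isClosed_singleton_iff_isClosedImmersion.1 ?_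
      have : ({c' w} : Set (PrimeSpectrum k)) = Set.univ := Set.eq_univ_of_forall fun _ => Subsingleton.elim _ _
      exact this ▸ isClosed_univ
    infer_instance
  have : IsIntegralHom (g ≫ U.hom) := by
    rw [Category.assoc, Over.w d, ← Over.w c, ← Category.assoc]
    exact MorphismProperty.comp_mem _ _ _ hfin hstr
  have := isSeparated_hom_of_isAffine U
  have : IsIntegralHom g := IsIntegralHom.of_comp g U.hom
  have hcl : IsClosed ({u'} : Set ↥U.left) := by
    have := g.isClosedMap.isClosed_range
    rwa [Scheme.Hom.comp_base, TopCat.coe_comp, Set.range_comp, Scheme.range_fromSpecResidueField,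
      Set.image_singleton, hw] at this
  obtain rfl : u = u' := hu'u.mem_closed hcl rfl
  rw [Set.mem_singleton_iff, ← hu, hu']

theorem exists_fac_closedImmersion_point (hX : IsAlgSpace X) (hd : IsDecent X) {k : Type u} [Field k]
    {str : Spec (CommRingCat.of k) ⟶ S} (hstr : IsIntegralHom str) (p : (yon S).obj (Over.mk str) ⟶ X) :
    ∃ (q : FieldPt X) (c : Over.mk str ⟶ q.pt), RepWith @IsClosedImmersion q.toHom ∧
      p = (yon S).map c ≫ q.toHom := by
  obtain ⟨q, hqx, hq⟩ := exists_closedImmersion_point hX hd _ (isClosed_point_of_integral hX hd hstr p)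
  obtain ⟨T, c, d, sq⟩ := exists_isPullback_yon hX.diag p q.toHom
  have hc : IsClosedImmersion c.left :=
    (repWith_yon_map_iff _ _).1 ((repWith_isStableUnderBaseChange _).of_isPullback sq.flip hq)
  obtain ⟨z, -, -⟩ := exists_pt_of_isPullback' sq (IsLocalRing.closedPoint k) (IsLocalRing.closedPoint q.K)
    (by rw [Points.ofPt_toHom, hqx])
  have : Surjective c.left := ⟨fun t => ⟨z, Subsingleton.elim (α := PrimeSpectrum k) _ _⟩⟩
  have : IsReduced (Over.mk str).left := inferInstanceAs (IsReduced (Spec (CommRingCat.of k)))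
  have : IsIso c.left := isIso_of_isClosedImmersion_of_surjective c.left
  have : IsIso ((Over.forget S).map c) := this
  have : IsIso c := isIso_of_reflects_iso c (Over.forget S)
  refine ⟨q, inv c ≫ d, hq, ?_⟩
  rw [Functor.map_comp, Category.assoc, ← sq.w, ← Functor.map_comp_assoc, IsIso.inv_hom_id,
    CategoryTheory.Functor.map_id, Category.id_comp]

end Groth.Agent.SpPts86
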