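import Groth.Agent.SpFP87.PointSpace
import Groth.Agent.SpFP87.DecentDim

/-!
Spaces covered by a flat field point.
-/

universe u

set_option autoImplicit false

open CategoryTheory CategoryTheory.Limits AlgebraicGeometry Opposite
open AlgSp Groth.Agent.SpFP87

namespace Groth.Agent.SpPts86

variable {S : Scheme.{u}} {Z : Sp S}

/-- A chart of a space with a flat surjective field point receives a flat surjection from an artinian reduced scheme. -/
theorem exists_flat_cover_chart (hZ : IsAlgSpace Z) {k : Type u} [Field k] {str : Spec (CommRingCat.of k) ⟶ S}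
    {p : (yon S).obj (Over.mk str) ⟶ Z} (hfl : LocP @Flat p) (hps : IsSurjectiveMor p) {U : Over S}
    {a : (yon S).obj U ⟶ Z} (ha : RepWith @Etale a) :
    ∃ (M : Over S) (c : M ⟶ U), IsReduced M.left ∧ (∀ m : ↥M.left, IsField (M.left.presheaf.stalk m)) ∧
      Flat c.left ∧ Surjective c.left := by
  obtain ⟨M, b, c, sq⟩ := exists_isPullback_yon hZ.diag p a
  haveI : Etale b.left := etale_snd_of_isPullback sq.flip ha
  haveI : Etale (show M.left ⟶ Spec (CommRingCat.of k) from b.left) := ‹Etale b.left›
  obtain ⟨_, _⟩ := isLocallyArtinian_of_etale (show M.left ⟶ Spec (CommRingCat.of k) from b.left)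
  refine ⟨M, c, inferInstance, fun m => isField_stalk m,
    hfl ((yon S).map b) a c ((repWith_yon_map_iff _ _).2 inferInstance) ha sq.w, ⟨fun z => ?_⟩⟩
  obtain ⟨w, hw⟩ := hps (Points.ofPt a z)
  obtain ⟨w, rfl⟩ := (Points.schemeHomeo (Over.mk str)).surjective w
  obtain ⟨m, -, hm⟩ := exists_pt_of_isPullback' sq w z ((Points.ofPt_eq_map_ofScheme p w).trans hw)
  exact ⟨m, hm⟩

theorem isField_stalk_of_flat_surjective {M U : Scheme.{u}} (c : M ⟶ U) [Flat c] [Surjective c]
    (h : ∀ m : ↥M, IsField (M.presheaf.stalk m)) (z : ↥U) : IsField (U.presheaf.stalk z) := by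
  obtain ⟨m, rfl⟩ := c.surjective z
  haveI : IsLocalHom (c.stalkMap m).hom := c.toLRSHom.prop m
  refine IsField.mk ⟨0, 1, zero_ne_one⟩ mul_comm fun {x} hx => ?_
  have hu : IsUnit ((c.stalkMap m).hom x) := by
    letI := (h m).toField
    exact (map_ne_zero_iff _ (Groth.Agent.FBase64.stalkMap_injective_of_flat c m)).2 hx |>.isUnit
  exact isUnit_iff_exists_inv.1 (IsUnit.of_map (c.stalkMap m).hom x hu)

theorem subsingleton_points_of_field {k : Type u} [Field k] {str : Spec (CommRingCat.of k) ⟶ S}
    {p : (yon S).obj (Over.mk str) ⟶ Z} (hps : IsSurjectiveMor p) : Subsingleton (Points Z) := by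
  refine ⟨fun x y => ?_⟩
  obtain ⟨x, rfl⟩ := hps x
  obtain ⟨y, rfl⟩ := hps y
  obtain ⟨x, rfl⟩ := (Points.schemeHomeo (Over.mk str)).surjective x
  obtain ⟨y, rfl⟩ := (Points.schemeHomeo (Over.mk str)).surjective y
  rw [Subsingleton.elim (α := PrimeSpectrum k) x y]

theorem flat_fromSpecResidueField {U : Scheme.{u}} {u : ↥U} (h : IsField (U.presheaf.stalk u)) :
    Flat (U.fromSpecResidueField u) := by
  refine Flat.of_stalkMap _ fun x => ?_
  have hx : U.fromSpecResidueField u x = u := Scheme.fromSpecResidueField_apply u x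
  letI := (show IsField (U.presheaf.stalk (U.fromSpecResidueField u x)) from hx.symm ▸ h).toField
  letI := ((U.fromSpecResidueField u).stalkMap x).hom.toAlgebra
  exact (RingHom.flat_algebraMap_iff (R := U.presheaf.stalk (U.fromSpecResidueField u x))
    (S := (Spec (U.residueField u)).presheaf.stalk x)).2 inferInstance

theorem exists_flat_field_point_of_reduced (hZ : IsAlgSpace Z) (hr : EtaleLocally (fun U => IsReduced U) Z)
    (z : Points Z) [Subsingleton (Points Z)] :
    ∃ (k : Type u) (_ : Field k) (str : Spec (CommRingCat.of k) ⟶ S) (p : (yon S).obj (Over.mk str) ⟶ Z),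
      LocP @Flat p ∧ IsSurjectiveMor p := by
  obtain ⟨U, a, ha, hs, hU⟩ := hr
  haveI := hU
  obtain ⟨u₀, -⟩ := surjective_ofPt hs z
  obtain ⟨C, hC, -⟩ := exists_mem_irreducibleComponents_subset_of_isIrreducible _
    (isIrreducible_singleton (x := u₀))
  obtain ⟨u, hu⟩ := QuasiSober.sober hC.1 (isClosed_of_mem_irreducibleComponents C hC)
  have hmax : ∀ v : ↥U.left, v ⤳ u → v = u := fun v hv => by
    refine (hv.antisymm (specializes_iff_mem_closure.2 ?_)).eq
    have hle : closure ({u} : Set ↥U.left) ⊆ closure {v} := specializes_iff_closure_subset.1 hv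
    rw [hu.def] at hle ⊢
    exact hC.2 isIrreducible_singleton.closure hle (subset_closure rfl)
  haveI : Ring.KrullDimLE 0 (U.left.presheaf.stalk u) :=
    (Order.krullDimLE_iff _ _).2 ((SpFP87.dim_stalk_eq_zero_iff u).2 hmax).le
  have hf : IsField (U.left.presheaf.stalk u) := Ring.KrullDimLE.isField_of_isReduced
  have hfl : Flat (resIncl u).left := flat_fromSpecResidueField hf
  refine ⟨U.left.residueField u, inferInstance, U.left.fromSpecResidueField u ≫ U.hom,
    (yon S).map (resIncl u) ≫ a, ?_, fun x => ?_⟩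
  · exact locP_of_repWith (IsAlgSpace.yon_obj _).diag hZ
      (MorphismProperty.comp_mem (W := RepWith (@Flat : MorphismProperty Scheme.{u})) _ _
        ((repWith_yon_map_iff _ _).2 hfl) (repWith_mono (fun _ _ f (_ : Etale f) => inferInstance) ha))
  · exact ⟨Points.ofScheme (resPt u) (IsLocalRing.closedPoint (U.left.residueField u)), Subsingleton.elim _ _⟩

end Groth.Agent.SpPts86
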