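import Groth.Agent.SpPts86.FreeQuot
import Groth.Agent.SpPts86.BootLqf
import Groth.Agent.SpPts86.QuotSpace
import Groth.Agent.SpPts86.ImmDescent
import Groth.Agent.SpPts86.FppfLocal
import Groth.Agent.SpPts86.DiagCrit
import Groth.Agent.SpPts86.DiagDesc
import Mathlib.AlgebraicGeometry.ZariskisMainTheorem

/-!
The quotient by a free action of a finite group has the separation properties of the scheme.
-/

universe u

set_option autoImplicit false

open CategoryTheory CategoryTheory.Limits AlgebraicGeometry
open AlgSp Groth.Agent.SpFP87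

namespace Groth.Agent.SpPts86

variable {S : Scheme.{u}} {U : Over S} {ι : Type u} {c : Cofan (fun _ : ι => U)}

/-- The fold map of a finite coproduct of copies is universally closed. -/
theorem universallyClosed_fold [Finite ι] (hc : IsColimit c) {s : c.pt ⟶ U}
    (hs : ∀ g, c.inj g ≫ s = 𝟙 U) : UniversallyClosed s.left := by
  obtain ⟨hio, hcov⟩ := cofan_cover hc
  refine ⟨fun {P U'} fst' g' s' sq => ?_⟩
  have hs' : ∀ g, (c.inj g).left ≫ s.left = 𝟙 U.left := fun g => by
    rw [← Over.comp_left, hs, Over.id_left]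
  let σ : ∀ g, U' ⟶ P := fun g => sq.lift (𝟙 U') (g' ≫ (c.inj g).left) (by
    rw [Category.assoc, hs', Category.comp_id, Category.id_comp])
  have hσ : ∀ g x, s' (σ g x) = x := fun g x => by
    refine (Scheme.Hom.comp_apply _ _ x).symm.trans ?_
    rw [sq.lift_fst]
    rfl
  intro Z hZ
  suffices (s' '' Z) = ⋃ g, (σ g) ⁻¹' Z by
    rw [this]
    exact isClosed_iUnion_of_finite fun g => hZ.preimage (σ g).continuous
  ext x
  refine ⟨?_, fun h => ?_⟩
  · rintro ⟨p, hp, rfl⟩
    obtain ⟨g, hg⟩ := hcov (fst' p)
    have := hio g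
    let O : P.Opens := fst' ⁻¹ᵁ (c.inj g).left.opensRange
    let a : O.toScheme ⟶ U.left := IsOpenImmersion.lift (c.inj g).left (O.ι ≫ fst') (by
      rintro _ ⟨y, rfl⟩
      exact y.2)
    have ha : a ≫ (c.inj g).left = O.ι ≫ fst' := IsOpenImmersion.lift_fac _ _ _
    have hag : a = O.ι ≫ s' ≫ g' := by
      rw [sq.w, ← reassoc_of% ha, hs', Category.comp_id]
    have key : (O.ι ≫ s') ≫ σ g = O.ι := sq.hom_ext
      (by simp only [σ, Category.assoc, sq.lift_fst, Category.comp_id])
      (by simp only [σ, Category.assoc, sq.lift_snd]; rw [← ha, hag]; simp only [Category.assoc])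
    refine Set.mem_iUnion.2 ⟨g, ?_⟩
    have h2 : σ g (s' p) = p := by
      have := congrArg (fun f : O.toScheme ⟶ P => f ⟨p, hg⟩) key
      simpa using this
    change σ g (s' p) ∈ Z
    rwa [h2]
  · obtain ⟨g, hg⟩ := Set.mem_iUnion.1 h
    exact ⟨σ g x, hg, hσ g x⟩

/-- The quotient of a scheme by a free action of a finite group inherits separation. -/
theorem isQuasiSeparatedSp_free_quot {G : Type u} [Group G] [Finite G] (ρ : G →* Aut U)
    (hfree : ∀ (g : G) (x : U.left), g ≠ 1 →
      U.left.fromSpecResidueField x ≫ (ρ g).hom.left ≠ U.left.fromSpecResidueField x)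
    {c : Cofan (fun _ : G => U)} (hc : IsColimit c) {s t : c.pt ⟶ U}
    (hs : ∀ g, c.inj g ≫ s = 𝟙 U) (ht : ∀ g, c.inj g ≫ t = (ρ g).hom) :
    (QuasiSeparated U.hom → IsQuasiSeparatedSp (QuotSh.quot Scheme.fppfPrecoverage s t)) ∧
      (IsSeparated U.hom → IsSeparatedSp (QuotSh.quot Scheme.fppfPrecoverage s t)) := by
  have h := isEtaleEqvRel_free_action ρ hfree hc hs ht
  obtain ⟨hQ, hp, hps⟩ := quotMap_atlas h
  have sq := quotMap_kernelPair h.toIsEqvRel
  have := universallyClosed_fold hc hs
  have e : schLift t s ≫ pullback.snd U.hom U.hom = s.left := schLift_snd t s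
  refine ⟨fun _ => ?_, fun _ => ?_⟩
  · have : QuasiCompact (schLift t s ≫ pullback.snd U.hom U.hom) := by
      rw [e]; infer_instance
    have := quasiCompact_descends.{u}
    exact repWith_diag_of_chart @QuasiCompact hQ hp hps sq
      (QuasiCompact.of_comp (schLift t s) (pullback.snd U.hom U.hom))
  · have := h.etale_left
    have : UniversallyClosed (schLift t s ≫ pullback.snd U.hom U.hom) := by
      rw [e]; infer_instance
    have : LocallyOfFiniteType (schLift t s ≫ pullback.snd U.hom U.hom) := by
      rw [e]; infer_instance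
    have hu := UniversallyClosed.of_comp_of_isSeparated (schLift t s) (pullback.snd U.hom U.hom)
    have hl := locallyOfFiniteType_of_comp (schLift t s) (pullback.snd U.hom U.hom)
    have : Mono (schLift t s) := mono_lift_of_isPullback sq
    have := isClosedImmersion_descends.{u}
    exact repWith_diag_of_chart @IsClosedImmersion hQ hp hps sq
      ((IsClosedImmersion.iff_isProper_and_mono (schLift t s)).2 ⟨⟨⟩, inferInstance⟩)

end Groth.Agent.SpPts86
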