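import Groth.Agent.SpPts86.BcInjSurj
import Groth.Agent.SpPts86.EtPushImage

/-!
The direct image of modules along a closed immersion is fully faithful.
-/

universe u

set_option autoImplicit false
set_option backward.isDefEq.respectTransparency false
set_option linter.style.haveILetI false

open CategoryTheory CategoryTheory.Limits AlgebraicGeometry Opposite
open AlgSp Groth.Agent.SpFP87

namespace Groth.Agent.SpPts86

variable {S : Scheme.{u}} {Z X : Sp S} {i : Z ⟶ X}

/-- The map of underlying abelian sheaves of a map of direct images. -/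
noncomputable def abHomOfPushMod (hf : Representable i) {G H : ModEt Z}
    (α : (pushModEt hf).obj G ⟶ (pushModEt hf).obj H) :
    (pushEt hf AddCommGrpCat.{u + 1}).obj ((SheafOfModules.toSheaf _).obj G) ⟶
      (pushEt hf AddCommGrpCat.{u + 1}).obj ((SheafOfModules.toSheaf _).obj H) :=
  ObjectProperty.homMk
    { app := fun E => ((PresheafOfModules.toPresheaf _).map α.val).app E
      naturality := fun _ _ g => ((PresheafOfModules.toPresheaf _).map α.val).naturality g }

theorem exists_bc_lift (hi : RepWith @IsClosedImmersion i) (hX : IsAlgSpace X) (V : EtOver Z)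
    (r : (OEtRing Z).obj.obj (op V)) (v : ↥V.obj.left.left) :
    ∃ (E : EtOver X) (g : (EtOver.bc hi.1).obj E ⟶ V) (x : (OEtRing X).obj.obj (op E)),
      (bcRingHom hi.1).hom.app (op E) x = (OEtRing Z).obj.map g.op r ∧ v ∈ Set.range g.hom.left.left := by
  obtain ⟨E, g, w, hw⟩ := exists_bc_map_mem_range (repWith_intUI_of_closedImm hi) hX V v
  have hs := (isLocallySurjective_bcRingHom hi).imageSieve_mem (U := E) ((OEtRing Z).obj.map g.op r)
  obtain ⟨E', j, ⟨x, hx⟩, e, he⟩ := exists_mem_range_of_mem_etTop hs ((hi.1.snd E.obj.hom).left w)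
  obtain ⟨w', hw', -⟩ := Scheme.exists_preimage_of_isPullback (EtOver.isPullback_bcMap_left hi.1 j) w e he.symm
  refine ⟨E', (EtOver.bc hi.1).map j ≫ g, x, ?_, ⟨w', (congrArg g.hom.left.left hw').trans hw⟩⟩
  rw [op_comp, Functor.map_comp, ConcreteCategory.comp_apply]
  exact hx

theorem pushModEt_full_faithful (hi : RepWith @IsClosedImmersion i) (hX : IsAlgSpace X) :
    (pushModEt hi.1).Full ∧ (pushModEt hi.1).Faithful := by
  obtain ⟨hfull, hfaith⟩ :=
    pushEt_full_faithful hi.1 (repWith_intUI_of_closedImm hi) hX AddCommGrpCat.{u + 1}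
  constructor
  · refine ⟨fun {G H} α => ?_⟩
    obtain ⟨β, hβ⟩ := (pushEt hi.1 AddCommGrpCat.{u + 1}).map_surjective (abHomOfPushMod hi.1 α)
    have hαβ : ∀ (E : EtOver X) (s : G.val.obj (op ((EtOver.bc hi.1).obj E))),
        β.hom.app (op ((EtOver.bc hi.1).obj E)) s = α.val.app (op E) s := fun E s =>
      congrArg (fun φ : (pushEt hi.1 AddCommGrpCat.{u + 1}).obj ((SheafOfModules.toSheaf _).obj G) ⟶
        (pushEt hi.1 AddCommGrpCat.{u + 1}).obj ((SheafOfModules.toSheaf _).obj H) => φ.hom.app (op E) s) hβ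
    refine ⟨⟨PresheafOfModules.homMk β.hom fun V r m => ?_⟩, ?_⟩
    · refine eq_of_locally_eq ((SheafOfModules.toSheaf _).obj H) _ _ fun v => ?_
      obtain ⟨E, g, x, hx, hv⟩ := exists_bc_lift hi hX V.unop r v
      refine ⟨_, g, ?_, hv⟩
      refine (NatTrans.naturality_apply β.hom g.op (r • m)).symm.trans ?_
      refine Eq.trans ?_ (H.val.map_smul g.op r (β.hom.app V m)).symm
      refine Eq.trans (congrArg (β.hom.app _) (G.val.map_smul g.op r m)) ?_
      refine Eq.trans (hαβ E _) ?_
      refine Eq.trans ?_ (congrArg₂ (· • ·) hx ((hαβ E (G.val.map g.op m)).symm.trans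
        (NatTrans.naturality_apply β.hom g.op m)))
      refine Eq.trans ?_ ((α.val.app (op E)).hom.map_smul x (G.val.map g.op m))
      exact congrArg (fun t => α.val.app (op E) t)
        (congrArg (· • (G.val.map g.op m)) hx.symm)
    · apply SheafOfModules.hom_ext
      refine PresheafOfModules.hom_ext fun E => ?_
      refine ModuleCat.hom_ext (LinearMap.ext fun s => ?_)
      exact hαβ E.unop s
  · refine ⟨fun {G H} a b e => (SheafOfModules.toSheaf _).map_injective
      ((pushEt hi.1 AddCommGrpCat.{u + 1}).map_injective ?_)⟩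
    apply Sheaf.hom_ext
    refine NatTrans.ext (funext fun E => ?_)
    exact congrArg (fun φ : (pushModEt hi.1).obj G ⟶ (pushModEt hi.1).obj H =>
      ((PresheafOfModules.toPresheaf _).map φ.val).app E) e

theorem isIso_counit_pullPushAdjModEt (hi : RepWith @IsClosedImmersion i) (hX : IsAlgSpace X)
    [(SheafOfModules.pushforward.{u + 1} (bcRingHom hi.1)).IsRightAdjoint] (G : ModEt Z) :
    IsIso ((pullPushAdjModEt hi.1).counit.app G) := by
  obtain ⟨h₁, h₂⟩ := pushModEt_full_faithful hi hX
  haveI := h₁; haveI := h₂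
  infer_instance

end Groth.Agent.SpPts86
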