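import Groth.Agent.AlgSt88.RepBySp

/-!
Maps of presheaves representable by schemes.
-/

universe u

set_option autoImplicit false

open CategoryTheory CategoryTheory.Limits AlgebraicGeometry Opposite
open AlgSp

namespace Groth.Agent.SpPts86

variable {S : Scheme.{u}} {F G : PSp S}

theorem repBySp_of_representable {a : F ⟶ G} (ha : (pyon S).relativelyRepresentable a) : RepBySp a :=
  fun _ ξ _ fst snd sq => by
    obtain ⟨V, s, p, sq'⟩ := ha ξ
    exact ((isAlgSpaceP_obj_iff ((yon S).obj V)).2 (IsAlgSpace.yon_obj V)).of_iso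
      (sq'.isoIsPullback _ _ sq)

theorem representable_diagonal_presheaf {a : F ⟶ G} (ha : (pyon S).relativelyRepresentable a) :
    (pyon S).relativelyRepresentable (pullback.diagonal a) := by
  intro U ξ
  let y : (pyon S).obj U ⟶ G := ξ ≫ pullback.fst a a ≫ a
  obtain ⟨V, t, p, sq⟩ := ha y
  have w₁ : (ξ ≫ pullback.fst a a) ≫ a = 𝟙 _ ≫ y := by simp [y]
  have w₂ : (ξ ≫ pullback.snd a a) ≫ a = 𝟙 _ ≫ y := by simp [y, pullback.condition]
  obtain ⟨σ₁, hσ₁⟩ := (pyon S).map_surjective (sq.lift _ _ w₁)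
  obtain ⟨σ₂, hσ₂⟩ := (pyon S).map_surjective (sq.lift _ _ w₂)
  let e := (pyon S).map (equalizer.ι σ₁ σ₂)
  have hlim := isLimitForkMapOfIsLimit (pyon S) _ (equalizerIsEqualizer σ₁ σ₂)
  have h12 : ∀ {T : PSp S} (h : T ⟶ (pyon S).obj U),
      (h ≫ ξ ≫ pullback.fst a a = h ≫ ξ ≫ pullback.snd a a) ↔
        h ≫ (pyon S).map σ₁ = h ≫ (pyon S).map σ₂ := fun h => by
    rw [hσ₁, hσ₂]
    constructor
    · intro e'
      apply sq.hom_ext
      · simp [sq.lift_fst, e']
      · simp [sq.lift_snd]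
    · intro e'
      simpa [sq.lift_fst] using congrArg (· ≫ p) e'
  refine ⟨equalizer σ₁ σ₂, equalizer.ι σ₁ σ₂, e ≫ ξ ≫ pullback.fst a a,
    Groth.Agent.AlgSt88.isPullback_diagonal_of_equalizer a ξ e
      ((h12 e).2 (by rw [← Functor.map_comp, ← Functor.map_comp, equalizer.condition])) fun T h hh => ?_⟩
  obtain ⟨l, hl⟩ := Fork.IsLimit.lift' hlim h ((h12 h).1 hh)
  exact ⟨l, hl, fun l' hl' => Fork.IsLimit.hom_ext hlim (hl'.trans hl.symm)⟩

end Groth.Agent.SpPts86
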