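import Groth.Agent.SpPts86.IdealBridge
import Groth.Agent.SpPts86.SchImagePoints
import Groth.Agent.SpPts86.RedFactor
import Groth.Agent.S9385

/-!
An immersion is an open immersion into its scheme theoretic image.
-/

universe u

set_option autoImplicit false
set_option backward.isDefEq.respectTransparency false
set_option linter.style.haveILetI false

open CategoryTheory CategoryTheory.Limits AlgebraicGeometry Opposite
open AlgSp
open Groth.Agent.SpFP87

namespace Groth.Agent.SpPts86

theorem isOpenImmersion_of_ker_eq_bot {A B : Scheme.{u}} (f : A ⟶ B) [IsImmersion f] [QuasiCompact f]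
    (h : f.ker = ⊥) : IsOpenImmersion f := by
  haveI : IsIso f.imageι := IsClosedImmersion.isIso_iff_ker_eq_bot.2
    ((Scheme.IdealSheafData.ker_subschemeι _).trans h)
  have : IsOpenImmersion f.toImage := (S9385.result f (Or.inl inferInstance)).1
  rw [← f.toImage_imageι]
  infer_instance

theorem isOpenImmersion_of_dense {A B : Scheme.{u}} (f : A ⟶ B) [IsImmersion f] [IsReduced B]
    (h : DenseRange f) : IsOpenImmersion f := by
  haveI : Surjective f.liftCoborder := ⟨fun v => by
    have hc : IsClosed (Set.range f.liftCoborder) := f.liftCoborder.isClosedEmbedding.isClosed_range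
    have hv : f.coborderRange.ι v ∈ closure (Set.range f) := h _
    have : v ∈ closure (Set.range f.liftCoborder) := by
      rw [f.coborderRange.ι.isOpenEmbedding.isInducing.closure_eq_preimage_closure_image, ← Set.range_comp]
      have e : (f.coborderRange.ι ∘ f.liftCoborder) = (f : ↥A → ↥B) := by
        exact congrArg (fun g : A ⟶ B => (g : ↥A → ↥B)) f.liftCoborder_ι
      rw [e]
      exact hv
    rwa [hc.closure_eq] at this⟩
  haveI : IsIso f.liftCoborder := isIso_of_isClosedImmersion_of_surjective _
  rw [← f.liftCoborder_ι]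
  infer_instance

theorem isSchematicallyDense_of_dense {V : Scheme.{u}} [IsReduced V] (W : V.Opens)
    (h : Dense (W : Set ↥V)) : CInt.IsSchematicallyDense W := by
  intro O
  rw [injective_iff_map_eq_zero]
  intro s hs
  apply (basicOpen_eq_bot_iff s).mp
  rw [eq_bot_iff]
  intro x hx
  have h1 := V.basicOpen_res s (homOfLE (inf_le_left : O ⊓ W ≤ O)).op
  rw [hs, Scheme.basicOpen_zero] at h1
  obtain ⟨y, hy, hyW⟩ := h.inter_open_nonempty _ (V.basicOpen s).isOpen ⟨x, hx⟩
  have : y ∈ (O ⊓ W) ⊓ V.basicOpen s := ⟨⟨V.basicOpen_le s hy, hyW⟩, hy⟩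
  exact absurd (h1.symm ▸ this) (by simp)

variable {S : Scheme.{u}} {Z X : Sp S}

theorem isSchImage_id_of_fac {h : Z ⟶ X} {C : Sp S} {c : C ⟶ X} (hc : IsSchImage h c)
    {h' : Z ⟶ C} (fac : h' ≫ c = h) : IsSchImage h' (𝟙 C) := by
  refine ⟨(repWith_isMultiplicative (S := S) @IsClosedImmersion).id_mem C, ⟨h', Category.comp_id _⟩,
    fun D d hD hd hfac => ?_⟩
  obtain ⟨k, hk⟩ := hfac
  have := mono_of_repWith_le isClosedImmersion_le_monomorphisms hc.1
  obtain ⟨l, hl⟩ := hc.2.2 (d ≫ c) hD
    ((repWith_isMultiplicative (S := S) @IsClosedImmersion).comp_mem _ _ hd hc.1)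
    ⟨k, by rw [← Category.assoc, hk, fac]⟩
  exact ⟨l, by rw [← cancel_mono c, Category.assoc, hl, Category.id_comp]⟩

theorem isPullback_of_mono_fac {C : Sp S} {h : Z ⟶ X} {c : C ⟶ X} [Mono c] {h' : Z ⟶ C}
    (fac : h' ≫ c = h) : IsPullback (𝟙 Z) h' h c := by
  refine IsPullback.mk' (by rw [Category.id_comp, fac]) (fun T a b e1 _ => by simpa using e1)
    fun T a b e => ⟨a, Category.comp_id _, ?_⟩
  rw [← cancel_mono c, Category.assoc, fac, e]

/-- A quasi-compact immersion whose scheme theoretic image is everything. -/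
theorem openImmersion_of_quasiCompact_immersion {C : Sp S} (hC : IsAlgSpace C)
    {h' : Z ⟶ C} (hh : RepWith @IsImmersion h') (hq : IsQuasiCompactMor h')
    (hid : IsSchImage h' (𝟙 C)) :
    RepWith @IsOpenImmersion h' ∧ IsSchDense h' ∧ Dense (Set.range (Points.map h')) := by
  obtain ⟨U, a, ha, has⟩ := hC.atlas
  haveI : IsImmersion (hh.rep.snd a).left := hh.property_snd a
  haveI : QuasiCompact (hh.rep.snd a).left :=
    (repWith_quasiCompact_of_isQuasiCompactMor hh.rep hq).property a _ _ (hh.rep.isPullback a)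
  haveI : IsOpenImmersion (hh.rep.snd a).left := isOpenImmersion_of_ker_eq_bot _ (by
    rw [← (isImCover_of_representable hh.rep a).imIdeal_eq, ← idealOf_schImage hC hq hid hid.1 a ha,
      idealOf_id hid.1 a])
  have ho : RepWith @IsOpenImmersion h' :=
    repWith_isOpenImmersion_of_chart ha has (hh.rep.isPullback a)
  refine ⟨ho, (isSchDense_iff_isSchImage_id hC ho hq).2 hid, ?_⟩
  rw [dense_iff_closure_eq, ← Set.univ_subset_iff]
  exact (Set.range_eq_univ.2 fun x => ⟨x, Points.map_id x⟩).ge.trans
    (range_subset_closure_of_isSchImage hC hq hid)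

/-- An immersion with dense image into a reduced space. -/
theorem openImmersion_of_dense_immersion {C : Sp S} (hC : IsAlgSpace C) (hr : IsReducedSp C)
    {h' : Z ⟶ C} (hh : RepWith @IsImmersion h') (hd : Dense (Set.range (Points.map h'))) :
    RepWith @IsOpenImmersion h' ∧ IsSchDense h' ∧ Dense (Set.range (Points.map h')) := by
  obtain ⟨U, a, ha, has⟩ := hC.atlas
  haveI : IsReduced U.left := isReduced_chart hC hr ha
  haveI : IsImmersion (hh.rep.snd a).left := hh.property_snd a
  have hdU : Dense (Points.ofPt a ⁻¹' Set.range (Points.map h')) :=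
    hd.preimage (isOpenMap_ofPt ha)
  have hd' : DenseRange (hh.rep.snd a).left := by
    rw [DenseRange, ← preimage_ofPt_range_map (hh.rep.isPullback a)]
    exact hdU
  haveI : IsOpenImmersion (hh.rep.snd a).left := isOpenImmersion_of_dense _ hd'
  have ho : RepWith @IsOpenImmersion h' :=
    repWith_isOpenImmersion_of_chart ha has (hh.rep.isPullback a)
  obtain ⟨W, fst, sq, hW⟩ := exists_isPullback_opens ho a
  exact ⟨ho, ⟨ho, U, a, W, fst, ha, has, sq, isSchematicallyDense_of_dense W (hW.symm ▸ hdU)⟩, hd⟩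

end Groth.Agent.SpPts86
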