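import Groth.Agent.SpPts86.HasAtMorInv
import Groth.Agent.SpFP87.Reduced
import Mathlib.AlgebraicGeometry.AlgClosed.Basic
import Mathlib.FieldTheory.IsAlgClosed.AlgebraicClosure

/-!
Surjectivity on geometric points.
-/

universe u

set_option autoImplicit false

open CategoryTheory CategoryTheory.Limits AlgebraicGeometry
open AlgSp Groth.Agent.SpFP87

namespace Groth.Agent.SpPts86

variable {S : Scheme.{u}} {X Y : Sp S}

theorem surjective_iff_geometric (hX : IsAlgSpace X) (hY : IsAlgSpace Y) (f : X ⟶ Y)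
    (hf : LocP @LocallyOfFiniteType f) :
    IsSurjectiveMor f ↔
      ∀ (k : Type u) [Field k] [IsAlgClosed k] (str : Spec (CommRingCat.of k) ⟶ S)
        (y : (yon S).obj (Over.mk str) ⟶ Y), ∃ x : (yon S).obj (Over.mk str) ⟶ X, x ≫ f = y := by
  constructor
  · intro hs k _ _ str y
    have sq := IsPullback.of_hasPullback f y
    have hP := SpFP87.isAlgSpace_of_isPullback sq hX (IsAlgSpace.yon_obj _) hY.diag
    obtain ⟨U, a, ha, has⟩ := hP.atlas
    obtain ⟨z, -⟩ := isSurjectiveMor_baseChange sq hs (Points.ofScheme (Over.mk str) (IsLocalRing.closedPoint k))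
    obtain ⟨u₀, -⟩ := surjective_ofPt has z
    obtain ⟨g, hg⟩ := (yon S).map_surjective (a ≫ pullback.snd f y)
    let g' : U.left ⟶ Spec (CommRingCat.of k) := g.left
    have : LocallyOfFiniteType g' :=
      locP_baseChange sq hX hY (IsAlgSpace.yon_obj _) hf a (𝟙 _) g ha (repWith_id _ _)
        (by rw [Category.comp_id]; exact hg.symm)
    have : JacobsonSpace ↥(Spec (CommRingCat.of k)) := inferInstanceAs (JacobsonSpace (PrimeSpectrum k))
    have : JacobsonSpace ↥U.left := LocallyOfFiniteType.jacobsonSpace g'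
    obtain ⟨u, -, hu⟩ := nonempty_inter_closedPoints (Z := (Set.univ : Set ↥U.left)) ⟨u₀, trivial⟩
      isClosed_univ.isLocallyClosed
    have e : pointOfClosedPoint g' u hu ≫ g' = 𝟙 _ := pointOfClosedPoint_comp g' u hu
    let r : Over.mk str ⟶ U := Over.homMk (pointOfClosedPoint g' u hu) (by
      have : g' ≫ str = U.hom := Over.w g
      show pointOfClosedPoint g' u hu ≫ U.hom = str
      rw [← this, ← Category.assoc, e, Category.id_comp])
    refine ⟨(yon S).map r ≫ a ≫ pullback.fst f y, ?_⟩
    have hr : r ≫ g = 𝟙 _ := Over.OverMorphism.ext e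
    rw [Category.assoc, Category.assoc, pullback.condition, ← Category.assoc a, ← hg,
      ← Category.assoc, ← Functor.map_comp, hr, CategoryTheory.Functor.map_id, Category.id_comp]
  · intro H z
    obtain ⟨q, rfl⟩ := Points.mk_surjective z
    let K := AlgebraicClosure q.K
    let e : Spec (CommRingCat.of K) ⟶ Spec (CommRingCat.of q.K) :=
      Spec.map (CommRingCat.ofHom (algebraMap q.K K))
    let c : Over.mk (e ≫ q.str) ⟶ q.pt := Over.homMk e rfl
    obtain ⟨x, hx⟩ := H K (e ≫ q.str) ((yon S).map c ≫ q.toHom)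
    refine ⟨Points.ofPt x (IsLocalRing.closedPoint K), ?_⟩
    rw [Points.map_ofPt, hx, ofPt_comp]
    exact Points.ofPt_toHom q _

end Groth.Agent.SpPts86
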