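import Groth.Agent.SpPts86.UnivTop
import Groth.Agent.SpFP87.LocP
import Groth.Agent.SpFP87.EtLocInst
import Mathlib.AlgebraicGeometry.Morphisms.Flat

/-!
Flat quasi-compact surjective morphisms are universally submersive.
-/

universe u

set_option autoImplicit false
set_option backward.isDefEq.respectTransparency false
set_option linter.style.haveILetI false

open CategoryTheory CategoryTheory.Limits AlgebraicGeometry Topology
open AlgSp Groth.Agent.SpFP87

namespace Groth.Agent.SpPts86

variable {S : Scheme.{u}} {X Y : Sp S}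

theorem isQuotientMap_of_flat_qc_surjective (hX : IsAlgSpace X) (hY : IsAlgSpace Y) {f : X ⟶ Y}
    (hfl : LocP @Flat f) (hqc : IsQuasiCompactMor f) (hs : IsSurjectiveMor f) :
    IsUnivSubmersiveMor f := by
  intro Z Z' hZ g q₁ q₂ sqZ
  have hs' : Function.Surjective (Points.map q₂) := fun z => by
    obtain ⟨x, hx⟩ := hs (Points.map g z)
    obtain ⟨p, -, hp⟩ := exists_of_isPullback sqZ x z hx
    exact ⟨p, hp⟩
  refine (Topology.isQuotientMap_iff _).2
    ⟨.of_isOpen_preimage_iff_isOpen fun W => ⟨fun hW => ?_, fun hW => hW.preimage (Points.continuous_map _)⟩, hs'⟩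
  refine isOpen_of_affine fun T hT k => ?_
  have sq := IsPullback.of_hasPullback q₂ k
  have big := sq.paste_horiz sqZ
  obtain ⟨A₀, p, hp, hps, hA₀⟩ := hqc (IsAlgSpace.yon_obj T) (isQuasiCompactSp_yon T) (k ≫ g) _ _ big
  haveI := hA₀
  haveI := hT
  obtain ⟨m, hm⟩ := (yon S).map_surjective (p ≫ pullback.snd q₂ k)
  haveI : Flat m.left := (locP_baseChange big hX hY (IsAlgSpace.yon_obj T) hfl) p (𝟙 _) m hp
    (repWith_id _ T) (by rw [Category.comp_id, hm])
  haveI : QuasiCompact m.left := (quasiCompact_iff_compactSpace m.left).2 hA₀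
  have hmap : ∀ a, Points.map (pullback.snd q₂ k) (Points.ofPt p a) = Points.ofScheme T (m.left a) :=
    fun a => by rw [Points.map_ofPt, ← hm, ofPt_yon_map]
  haveI : Surjective m.left := ⟨fun t => by
    obtain ⟨z, hz⟩ := hs' (Points.map k (Points.ofScheme T t))
    obtain ⟨q, -, hq⟩ := exists_of_isPullback sq z (Points.ofScheme T t) hz
    obtain ⟨a, rfl⟩ := surjective_ofPt hps q
    exact ⟨a, (Points.schemeHomeo T).injective ((hmap a).symm.trans hq)⟩⟩
  have hquot := Flat.isQuotientMap_of_surjective m.left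
  have h1 : IsOpen (Points.schemeHomeo T ⁻¹' (Points.map k ⁻¹' W)) := by
    rw [← hquot.isOpen_preimage]
    have e : m.left ⁻¹' (Points.schemeHomeo T ⁻¹' (Points.map k ⁻¹' W)) =
        Points.ofPt p ⁻¹' (Points.map (pullback.fst q₂ k) ⁻¹' (Points.map q₂ ⁻¹' W)) := by
      ext a
      show Points.map k (Points.ofScheme T (m.left a)) ∈ W ↔
        Points.map q₂ (Points.map (pullback.fst q₂ k) (Points.ofPt p a)) ∈ W
      rw [← hmap, ← Points.map_comp, ← Points.map_comp, pullback.condition]
    rw [e]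
    exact (hW.preimage (Points.continuous_map _)).preimage (Points.continuous_ofPt p)
  exact (Points.schemeHomeo T).isQuotientMap.isOpen_preimage.1 h1

theorem isSubmersiveMor_of_univ (hY : IsAlgSpace Y) {f : X ⟶ Y} (h : IsUnivSubmersiveMor f) :
    IsSubmersiveMor f :=
  h hY (𝟙 Y) (𝟙 X) f (IsPullback.id_horiz f)

end Groth.Agent.SpPts86
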