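import Groth.Prelude.Def_AlgSpSub
import Groth.Agent.SpPts86.Subspace

/-!
Existence of scheme theoretic images of morphisms of algebraic spaces: the sections of the target
factoring through every closed subspace that receives the morphism form a closed subspace.
-/

universe u

set_option autoImplicit false
set_option backward.isDefEq.respectTransparency false

open CategoryTheory CategoryTheory.Limits AlgebraicGeometry Opposite
open AlgSp

namespace Groth.Agent.SpPts86

variable {S : Scheme.{u}} {F G : Sp S}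

/-- The closed subspaces of `G` through which `f` factors. -/
def IsImageBound (f : F ⟶ G) {Z' : Sp S} (i' : Z' ⟶ G) : Prop :=
  IsAlgSpace Z' ∧ RepWith @IsClosedImmersion i' ∧ ∃ f'' : F ⟶ Z', f'' ≫ i' = f

/-- The sections factoring through every closed subspace through which `f` factors. -/
def schImageSub (f : F ⟶ G) : Subfunctor G.obj where
  obj T := {x | ∀ ⦃Z' : Sp S⦄ (i' : Z' ⟶ G), IsImageBound f i' →
    ∃ b : (yon S).obj T.unop ⟶ Z', b ≫ i' = (J S).uliftYonedaEquiv.symm x}
  map := by
    rintro ⟨T⟩ ⟨T'⟩ φ x hx Z' i' hi'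
    obtain ⟨b, hb⟩ := hx i' hi'
    refine ⟨(yon S).map φ.unop ≫ b, ?_⟩
    rw [Category.assoc, hb, GrothendieckTopology.uliftYonedaEquiv_symm_naturality_left, φ.op_unop]

theorem isSheaf_schImageSub (f : F ⟶ G) : Presieve.IsSheaf (J S) (schImageSub f).toFunctor := by
  have hG : Presieve.IsSheaf (J S) G.obj := (isSheaf_iff_isSheaf_of_type _ _).1 G.property
  rw [Subfunctor.isSheaf_iff _ hG]
  rintro ⟨T⟩ x hx Z' i' hi'
  have := mono_of_repWith_le isClosedImmersion_le_monomorphisms hi'.2.1
  obtain ⟨R, hR, hfac⟩ : ∃ R : Sieve T, R ∈ J S T ∧ ∀ ⦃V : Over S⦄ (g : V ⟶ T), R g →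
      ∃ b : (yon S).obj V ⟶ Z', b ≫ i' = (yon S).map g ≫ (J S).uliftYonedaEquiv.symm x :=
    ⟨_, hx, fun V g hg => by
      obtain ⟨b, hb⟩ := hg i' hi'
      exact ⟨b, hb.trans ((J S).uliftYonedaEquiv_symm_naturality_left g G x).symm⟩⟩
  have hinj : ∀ V, Function.Injective (i'.hom.app (op V)) := by
    intro V p q e
    apply (GrothendieckTopology.uliftYonedaEquiv.{u + 1} (J S)).symm.injective
    rw [← cancel_mono i']
    apply (J S).uliftYonedaEquiv.injective
    simpa [GrothendieckTopology.uliftYonedaEquiv_comp] using e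
  choose b hb using hfac
  have hbv : ∀ ⦃V : Over S⦄ (g : V ⟶ T) (hg : R g),
      i'.hom.app (op V) ((J S).uliftYonedaEquiv (b g hg)) = G.obj.map g.op x := by
    intro V g hg
    have := congrArg (J S).uliftYonedaEquiv (hb g hg)
    rw [GrothendieckTopology.uliftYonedaEquiv_comp,
      GrothendieckTopology.uliftYonedaEquiv_symm_naturality_left, Equiv.apply_symm_apply] at this
    exact this
  have hZ : Presieve.IsSheaf (J S) Z'.obj := (isSheaf_iff_isSheaf_of_type _ _).1 Z'.property
  let fam : Presieve.FamilyOfElements Z'.obj (R : Presieve T) :=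
    fun V g hg => (J S).uliftYonedaEquiv (b g hg)
  have hfam : fam.Compatible := by
    intro V₁ V₂ W g₁ g₂ f₁ f₂ h₁ h₂ e
    apply hinj W
    rw [NatTrans.naturality_apply, NatTrans.naturality_apply, hbv, hbv,
      ← Functor.map_comp_apply, ← Functor.map_comp_apply, ← op_comp, ← op_comp, e]
  obtain ⟨z, hz, -⟩ := hZ R hR fam hfam
  refine ⟨(J S).uliftYonedaEquiv.symm z, ?_⟩
  apply (J S).uliftYonedaEquiv.injective
  rw [GrothendieckTopology.uliftYonedaEquiv_comp]
  erw [Equiv.apply_symm_apply, Equiv.apply_symm_apply]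
  refine (hG R hR).isSeparatedFor.ext fun V g hg => ?_
  rw [← NatTrans.naturality_apply, hz g hg, hbv]

/-- The sheaf of sections factoring through every closed subspace bounding the image of `f`. -/
def schImageSp (f : F ⟶ G) : Sp S :=
  ⟨(schImageSub f).toFunctor, (isSheaf_iff_isSheaf_of_type _ _).2 (isSheaf_schImageSub f)⟩

/-- The inclusion of `schImageSp f`. -/
def schImageι (f : F ⟶ G) : schImageSp f ⟶ G := ⟨(schImageSub f).ι⟩

instance mono_schImageι (f : F ⟶ G) : Mono (schImageι f) := by
  refine mono_of_forall_yon fun T a b e => ?_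
  apply (J S).uliftYonedaEquiv.injective
  apply Subtype.ext
  have := congrArg (J S).uliftYonedaEquiv e
  rwa [GrothendieckTopology.uliftYonedaEquiv_comp,
    GrothendieckTopology.uliftYonedaEquiv_comp] at this

theorem exists_schImage_lift (f : F ⟶ G) {T : Over S} (a : (yon S).obj T ⟶ G)
    (h : ∀ ⦃Z' : Sp S⦄ (i' : Z' ⟶ G), IsImageBound f i' → ∃ b, b ≫ i' = a) :
    ∃ b : (yon S).obj T ⟶ schImageSp f, b ≫ schImageι f = a := by
  refine ⟨(J S).uliftYonedaEquiv.symm ⟨(J S).uliftYonedaEquiv a, fun Z' i' hi' => ?_⟩, ?_⟩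
  · simpa using h i' hi'
  · apply (J S).uliftYonedaEquiv.injective
    rw [GrothendieckTopology.uliftYonedaEquiv_comp]
    erw [Equiv.apply_symm_apply]
    rfl

theorem exists_bound_lift (f : F ⟶ G) {Z' : Sp S} {i' : Z' ⟶ G} (hi' : IsImageBound f i')
    {T : Over S} (b : (yon S).obj T ⟶ schImageSp f) :
    ∃ c : (yon S).obj T ⟶ Z', c ≫ i' = b ≫ schImageι f := by
  obtain ⟨c, hc⟩ := ((J S).uliftYonedaEquiv b).2 i' hi'
  refine ⟨c, hc.trans ?_⟩
  apply (J S).uliftYonedaEquiv.injective
  erw [Equiv.apply_symm_apply]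
  rw [GrothendieckTopology.uliftYonedaEquiv_comp]
  rfl

theorem exists_isPullback_schImage (f : F ⟶ G) {T : Over S} (g : (yon S).obj T ⟶ G) :
    ∃ (V : Over S) (snd : V ⟶ T) (fst : (yon S).obj V ⟶ schImageSp f),
      IsPullback fst ((yon S).map snd) (schImageι f) g ∧ IsClosedImmersion snd.left := by
  let A : Set T.left.IdealSheafData := {I | ∃ (Z' : Sp S) (i' : Z' ⟶ G) (V' : Over S)
    (snd' : V' ⟶ T) (fst' : (yon S).obj V' ⟶ Z'), IsImageBound f i' ∧
      IsPullback fst' ((yon S).map snd') i' g ∧ snd'.left.ker = I}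
  let V : Over S := Over.mk ((sSup A).subschemeι ≫ T.hom)
  let snd : V ⟶ T := Over.homMk (sSup A).subschemeι rfl
  have hcl : IsClosedImmersion snd.left := inferInstanceAs (IsClosedImmersion (sSup A).subschemeι)
  have hker : snd.left.ker = sSup A := (sSup A).ker_subschemeι
  have : Mono snd.left := inferInstance
  have : Mono snd := (Over.forget S).mono_of_mono_map (f := snd) this
  obtain ⟨fst, hfst⟩ := exists_schImage_lift f ((yon S).map snd ≫ g) fun Z' i' hi' => by
    obtain ⟨V', snd', fst', sq⟩ := hi'.2.1.1 g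
    have : IsClosedImmersion snd'.left := hi'.2.1.2 g fst' snd' sq
    have hle : snd'.left.ker ≤ snd.left.ker :=
      hker ▸ le_sSup ⟨Z', i', V', snd', fst', hi', sq, rfl⟩
    let l : V ⟶ V' := Over.homMk (IsClosedImmersion.lift snd'.left snd.left hle)
      (by rw [← Over.w snd', ← Category.assoc, IsClosedImmersion.lift_fac, Over.w snd])
    have hl : l ≫ snd' = snd := by
      ext1
      exact IsClosedImmersion.lift_fac _ _ _
    refine ⟨(yon S).map l ≫ fst', ?_⟩
    rw [Category.assoc, sq.w, ← Category.assoc, ← Functor.map_comp, hl]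
  refine ⟨V, snd, fst, ⟨⟨hfst⟩, ⟨?_⟩⟩, hcl⟩
  have key : ∀ {Q : Sp S} (a : Q ⟶ schImageSp f) (b : Q ⟶ (yon S).obj T),
      a ≫ schImageι f = b ≫ g → ∃ l : Q ⟶ (yon S).obj V, l ≫ (yon S).map snd = b := by
    intro Q a b e
    refine exists_factor_of_forall_yon b fun U c => ?_
    obtain ⟨t, ht⟩ := (yon S).map_surjective (c ≫ b)
    have hle : snd.left.ker ≤ t.left.ker := by
      rw [hker]
      refine sSup_le ?_
      rintro I ⟨Z', i', V', snd', fst', hi', sq, rfl⟩
      obtain ⟨d, hd⟩ := exists_bound_lift f hi' (c ≫ a)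
      obtain ⟨m, hm⟩ := (yon S).map_surjective
        (sq.lift d ((yon S).map t) (by rw [hd, ht, Category.assoc, Category.assoc, e]))
      have : m ≫ snd' = t := by
        apply (yon S).map_injective
        rw [Functor.map_comp, hm, sq.lift_snd]
      rw [← this, Over.comp_left]
      exact Scheme.Hom.le_ker_comp _ _
    let l : U ⟶ V := Over.homMk (IsClosedImmersion.lift snd.left t.left hle)
      (by rw [← Over.w snd, ← Category.assoc, IsClosedImmersion.lift_fac, Over.w t])
    have hl : l ≫ snd = t := by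
      ext1
      exact IsClosedImmersion.lift_fac _ _ _
    exact ⟨(yon S).map l, by rw [← Functor.map_comp, hl, ht]⟩
  choose l hl using fun {Q : Sp S} (a : Q ⟶ schImageSp f) (b : Q ⟶ (yon S).obj T)
    (e : a ≫ schImageι f = b ≫ g) => key a b e
  refine PullbackCone.IsLimit.mk _ (fun s => l s.fst s.snd s.condition) (fun s => ?_)
    (fun s => hl _ _ _) (fun s m _ hm => ?_)
  · rw [← cancel_mono (schImageι f), Category.assoc, hfst, ← Category.assoc, hl, s.condition]
  · rw [← cancel_mono ((yon S).map snd), hm, hl]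

theorem repWith_schImageι (f : F ⟶ G) : RepWith @IsClosedImmersion (schImageι f) := by
  refine MorphismProperty.relative.of_exists fun T g => ?_
  obtain ⟨V, snd, fst, sq, h⟩ := exists_isPullback_schImage f g
  exact ⟨V, fst, snd, sq, h⟩

/-- Scheme theoretic images exist. -/
theorem exists_isSchImage (hG : IsAlgSpace G) (f : F ⟶ G) :
    IsAlgSpace (schImageSp f) ∧ IsSchImage f (schImageι f) := by
  refine ⟨isAlgSpace_of_representable_mono (repWith_schImageι f).1 hG, repWith_schImageι f,
    exists_factor_of_forall_yon f fun T a => exists_schImage_lift f _ fun Z' i' hi' => ?_,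
    fun Z' i' h₁ h₂ h₃ => ?_⟩
  · obtain ⟨f'', hf''⟩ := hi'.2.2
    exact ⟨a ≫ f'', by rw [Category.assoc, hf'']⟩
  · have := mono_of_repWith_le isClosedImmersion_le_monomorphisms h₂
    exact exists_factor_of_forall_yon (schImageι f) fun T b =>
      exists_bound_lift f ⟨h₁, h₂, h₃⟩ b

end Groth.Agent.SpPts86
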