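import Groth.Agent.SpPts86.ImmImage
import Groth.Agent.SpPts86.ProperCrit
import Groth.Agent.SpFP87.EtLocInst

/-!
The scheme theoretic image of a section over a quasi-compact open.
-/

universe u

set_option autoImplicit false
set_option backward.isDefEq.respectTransparency false

open CategoryTheory CategoryTheory.Limits AlgebraicGeometry
open AlgSp
open Groth.Agent.SpFP87

namespace Groth.Agent.SpPts86

variable {S : Scheme.{u}} {X Y V Y' P : Sp S}

theorem isIso_schImage_section (hX : IsAlgSpace X) (hY : IsAlgSpace Y) (hV : IsAlgSpace V)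
    (hY' : IsAlgSpace Y') {f : X ⟶ Y} {j : V ⟶ Y} (hj : RepWith @IsOpenImmersion j)
    (hjq : IsQuasiCompactMor j) (hf : IsSeparatedMor f) {s : V ⟶ X} (hs : s ≫ f = j)
    {c : Y' ⟶ X} (hc : IsSchImage s c) {fst : P ⟶ Y'} {snd : P ⟶ V}
    (sq : IsPullback fst snd (c ≫ f) j) : IsIso snd := by
  have : Mono j := mono_of_repWith_le isOpenImmersion_le_monomorphisms hj
  obtain ⟨γ, hγ, hγs⟩ := exists_graph hs hf
  have hγ1 : γ ≫ pullback.fst j f = 𝟙 V := by
    rw [← cancel_mono j, Category.assoc, pullback.condition, ← Category.assoc, hγs, hs,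
      Category.id_comp]
  have ho : RepWith @IsOpenImmersion (pullback.snd j f) :=
    (repWith_isStableUnderBaseChange @IsOpenImmersion).of_isPullback (IsPullback.of_hasPullback j f) hj
  have : Mono (pullback.snd j f) := mono_of_repWith_le isOpenImmersion_le_monomorphisms ho
  have hA : IsAlgSpace (pullback j f) :=
    SpFP87.isAlgSpace_of_isPullback (IsPullback.of_hasPullback j f) hV hX hY.diag
  have hqγ : IsQuasiCompactMor γ := isQuasiCompactMor_of_repWith hA
    (repWith_mono (fun _ _ k (_ : IsClosedImmersion k) => (inferInstance : QuasiCompact k)) hγ)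
  have hqs : IsQuasiCompactMor s := hγs ▸ isQuasiCompactMor_comp hA hX hqγ
    (isQuasiCompactMor_baseChange hjq (IsPullback.of_hasPullback j f))
  let m : P ⟶ pullback j f := pullback.lift snd (fst ≫ c) (by rw [Category.assoc]; exact sq.w.symm)
  have sqm : IsPullback fst m c (pullback.snd j f) := by
    refine IsPullback.of_bot ?_ (pullback.lift_snd _ _ _).symm (IsPullback.of_hasPullback j f).flip
    rw [pullback.lift_fst]
    exact sq
  have hflat : LocP @Flat (pullback.snd j f) :=
    locP_of_repWith hA.diag hX (repWith_mono (fun _ _ k (_ : IsOpenImmersion k) =>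
      (inferInstance : Flat k)) ho)
  have hi : IsSchImage γ m :=
    isSchImage_flat_pullback hX hA hqs hc hflat (isPullback_of_mono_fac hγs) sqm
  have : Mono m := mono_of_repWith_le isClosedImmersion_le_monomorphisms hi.1
  obtain ⟨k, hk⟩ := hi.2.2 γ hV hγ ⟨𝟙 V, Category.id_comp _⟩
  obtain ⟨l, hl⟩ := hi.2.1
  have hsnd : m ≫ pullback.fst j f = snd := pullback.lift_fst _ _ _
  have hk' : k = snd := by
    rw [← hsnd, ← hk, Category.assoc, hγ1, Category.comp_id]
  refine ⟨l, ?_, ?_⟩
  · rw [← hk', ← cancel_mono m, Category.assoc, hl, hk, Category.id_comp]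
  · rw [← hsnd, ← Category.assoc, hl, hγ1]

end Groth.Agent.SpPts86
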