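import Groth.Agent.SpPts86.ImIdeal
import Groth.Agent.SpPts86.SchDense

/-!
Consequences of the chart description of scheme theoretic images of quasi-compact morphisms:
flat base change, scheme theoretic density.
-/

universe u

set_option autoImplicit false
set_option backward.isDefEq.respectTransparency false
set_option linter.style.haveILetI false

open CategoryTheory CategoryTheory.Limits AlgebraicGeometry Opposite
open AlgSp
open Groth.Agent.SpFP87

namespace Groth.Agent.SpPts86

theorem ι_app_injective_iff {V : Scheme.{u}} (W O : V.Opens) :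
    Function.Injective (W.ι.app O) ↔
      Function.Injective (V.presheaf.map (homOfLE (inf_le_left : O ⊓ W ≤ O)).op) := by
  have e : O ⊓ W = W.ι ''ᵁ (W.ι ⁻¹ᵁ O) := by
    rw [W.ι.image_preimage_eq_opensRange_inf, Scheme.Opens.opensRange_ι, inf_comm]
  have key : ∀ (O' : V.Opens) (h : O' ≤ O), O' = O ⊓ W →
      (Function.Injective (V.presheaf.map (homOfLE h).op) ↔
        Function.Injective (V.presheaf.map (homOfLE (inf_le_left : O ⊓ W ≤ O)).op)) := by
    rintro O' h rfl
    rfl
  rw [Scheme.Opens.ι_app]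
  exact key _ _ e.symm

/-- For a retrocompact open, schematic density means that the inclusion has zero kernel. -/
theorem ker_ι_eq_bot_iff {V : Scheme.{u}} (W : V.Opens) [QuasiCompact W.ι] :
    W.ι.ker = ⊥ ↔ CInt.IsSchematicallyDense W := by
  constructor
  · intro h O
    rw [injective_iff_map_eq_zero]
    intro s hs
    refine TopCat.Presheaf.section_ext V.sheaf O s 0 fun x hx => ?_
    obtain ⟨O', hO', hxO', hle⟩ := exists_isAffineOpen_mem_and_subset (x := x) (U := O) hx
    have hi : Function.Injective (W.ι.app O') := by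
      have h2 := congrArg (fun I => I.ideal ⟨O', hO'⟩) h
      simp only [Scheme.Hom.ker_apply, Scheme.IdealSheafData.ideal_bot, Pi.bot_apply] at h2
      exact (RingHom.injective_iff_ker_eq_bot _).2 h2
    rw [ι_app_injective_iff] at hi
    have h3 : V.presheaf.map (homOfLE hle).op s = 0 := by
      refine hi ?_
      rw [map_zero, ← ConcreteCategory.comp_apply, ← Functor.map_comp]
      have h4 := congrArg
        (V.presheaf.map (homOfLE (inf_le_inf_right W hle : O' ⊓ W ≤ O ⊓ W)).op) hs
      rw [map_zero, ← ConcreteCategory.comp_apply, ← Functor.map_comp] at h4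
      exact h4
    calc V.presheaf.germ O x hx s
        = V.presheaf.germ O' x hxO' (V.presheaf.map (homOfLE hle).op s) :=
          (TopCat.Presheaf.germ_res_apply _ _ _ _ _).symm
      _ = V.presheaf.germ O x hx 0 := by rw [h3, map_zero, map_zero]
  · intro h
    refine Scheme.IdealSheafData.ext (funext fun U => ?_)
    rw [Scheme.Hom.ker_apply, Scheme.IdealSheafData.ideal_bot, Pi.bot_apply,
      ← RingHom.injective_iff_ker_eq_bot]
    exact (ι_app_injective_iff W U.1).2 (h U.1)

variable {S : Scheme.{u}} {X Y : Sp S}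

theorem idealOf_of_isPullback {P Z : Sp S} {i : Z ⟶ Y} (hi : RepWith @IsClosedImmersion i)
    {f : X ⟶ Y} {i' : P ⟶ Z} {iX : P ⟶ X} (sq : IsPullback i' iX i f)
    (hiX : RepWith @IsClosedImmersion iX) {T : Over S} (t : (yon S).obj T ⟶ X) :
    idealOf hiX t = idealOf hi (t ≫ f) :=
  (idealOf_eq hi (t ≫ f) ((hiX.rep.isPullback t).paste_horiz sq)).symm

theorem imIdeal_of_isPullback {P V : Sp S} {g : V ⟶ Y}
    {f : X ⟶ Y} {g' : P ⟶ V} {gX : P ⟶ X} (sq : IsPullback g' gX g f)
    {T : Over S} (t : (yon S).obj T ⟶ X) : imIdeal gX t = imIdeal g (t ≫ f) := by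
  refine le_antisymm (le_imIdeal fun B b h e => ?_) (le_imIdeal fun B b h e => ?_)
  · exact imIdeal_le_ker (sq.lift b ((yon S).map h ≫ t) (by rw [Category.assoc, e])) h
      (IsPullback.lift_snd _ _ _ _)
  · exact imIdeal_le_ker (b ≫ g') h (by rw [Category.assoc, sq.w, ← Category.assoc, e, Category.assoc])

theorem idealOf_id (hY : RepWith @IsClosedImmersion (𝟙 Y)) {T : Over S} (t : (yon S).obj T ⟶ Y) :
    idealOf hY t = ⊥ := by
  rw [idealOf_eq hY t (W := T) (w := 𝟙 T) (fst := t) (by
    rw [CategoryTheory.Functor.map_id]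
    exact IsPullback.of_vert_isIso ⟨by rw [Category.comp_id, Category.id_comp]⟩)]
  exact Scheme.Hom.ker_eq_bot_of_isIso _

variable {f : X ⟶ Y}

/-- The scheme theoretic image of a quasi-compact morphism, on a scheme mapping flatly to the target. -/
theorem idealOf_schImage_comp {Y' : Sp S} (hY : IsAlgSpace Y) {g : X ⟶ Y}
    (hg : IsQuasiCompactMor g) {Z : Sp S} {i : Z ⟶ Y} (hZ : IsSchImage g i)
    (hi : RepWith @IsClosedImmersion i) {f : Y' ⟶ Y} (hf : LocP @Flat f) {T : Over S}
    (t : (yon S).obj T ⟶ Y') (ht : RepWith @Etale t) : idealOf hi (t ≫ f) = imIdeal g (t ≫ f) := by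
  obtain ⟨U, a, ha, has⟩ := hY.atlas
  obtain ⟨T', e, r', sq⟩ := ha.rep (t ≫ f)
  obtain ⟨r, rfl⟩ := (yon S).map_surjective r'
  haveI : Etale e.left := ha.property _ _ _ sq
  haveI : Surjective e.left := has.property _ _ _ sq
  haveI : Flat r.left := hf ((yon S).map e ≫ t) a r
    ((repWith_isMultiplicative (S := S) @Etale).comp_mem _ _
      ((repWith_yon_map_iff _ _).2 inferInstance) ht) ha (by rw [Category.assoc, sq.w])
  refine eq_of_flat_surjective e.left ?_
  rw [← idealOf_comp, ← imIdeal_comap hg e, ← sq.w, idealOf_comp, imIdeal_comap hg r,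
    idealOf_schImage hY hg hZ hi a ha]

/-- Formation of scheme theoretic images of quasi-compact morphisms commutes with flat base change. -/
theorem isSchImage_flat_pullback {Y' V Z P Q : Sp S} (hY : IsAlgSpace Y) (hY' : IsAlgSpace Y')
    {g : V ⟶ Y} (hg : IsQuasiCompactMor g) {i : Z ⟶ Y} (hZ : IsSchImage g i) {f : Y' ⟶ Y}
    (hf : LocP @Flat f) {g₁ : P ⟶ V} {g' : P ⟶ Y'} (sqV : IsPullback g₁ g' g f)
    {i₁ : Q ⟶ Z} {i' : Q ⟶ Y'} (sqZ : IsPullback i₁ i' i f) : IsSchImage g' i' := by
  have hi' : RepWith @IsClosedImmersion i' :=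
    (repWith_isStableUnderBaseChange @IsClosedImmersion).of_isPullback sqZ hZ.1
  obtain ⟨U, a, ha, has⟩ := hY'.atlas
  refine isSchImage_of_idealOf hi' ha has ?_
  rw [idealOf_of_isPullback hZ.1 sqZ hi' a, idealOf_schImage_comp hY hg hZ hZ.1 hf a ha,
    imIdeal_of_isPullback sqV a]

/-- For a quasi-compact open subspace, scheme theoretic density on a chart is the vanishing of the
image ideal. -/
theorem imIdeal_eq_bot_iff {G : Sp S} {j : G ⟶ Y} (hj : RepWith @IsOpenImmersion j)
    (hq : IsQuasiCompactMor j) {V : Over S} (φ : (yon S).obj V ⟶ Y) (W : V.left.Opens)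
    {fst : (yon S).obj (Over.mk (W.ι ≫ V.hom)) ⟶ G}
    (sq : IsPullback fst ((yon S).map (Over.homMk W.ι rfl : Over.mk (W.ι ≫ V.hom) ⟶ V)) j φ) :
    imIdeal j φ = ⊥ ↔ CInt.IsSchematicallyDense W := by
  haveI : QuasiCompact W.ι :=
    (repWith_quasiCompact_of_isQuasiCompactMor hj.1 hq).property φ _ _ sq
  have H : IsImCover j φ (Over.homMk W.ι rfl : Over.mk (W.ι ≫ V.hom) ⟶ V) := by
    refine ⟨⟨fst, sq.w⟩, fun B b hB e => ?_⟩
    obtain ⟨m, hm⟩ := (yon S).map_surjective (sq.lift b ((yon S).map hB) e)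
    exact ⟨B, 𝟙 B, m, inferInstanceAs (Flat (𝟙 B.left)), inferInstanceAs (Surjective (𝟙 B.left)),
      (yon S).map_injective (by rw [Functor.map_comp, hm, IsPullback.lift_snd, Category.id_comp])⟩
  rw [H.imIdeal_eq]
  exact ker_ι_eq_bot_iff W

theorem isSchDense_iff_isSchImage_id {G : Sp S} (hY : IsAlgSpace Y) {j : G ⟶ Y}
    (hj : RepWith @IsOpenImmersion j) (hq : IsQuasiCompactMor j) :
    IsSchDense j ↔ IsSchImage j (𝟙 Y) := by
  have hid : RepWith @IsClosedImmersion (𝟙 Y) :=
    (repWith_isMultiplicative (S := S) @IsClosedImmersion).id_mem Y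
  constructor
  · rintro ⟨-, V, φ, W, fst, hφ, hs, sq, hd⟩
    refine isSchImage_of_idealOf hid hφ hs ?_
    rw [idealOf_id hid φ, (imIdeal_eq_bot_iff hj hq φ W sq).2 hd]
  · intro h
    obtain ⟨V, φ, hφ, hs⟩ := hY.atlas
    obtain ⟨W, fst, sq, -⟩ := exists_isPullback_opens hj φ
    refine ⟨hj, V, φ, W, fst, hφ, hs, sq, (imIdeal_eq_bot_iff hj hq φ W sq).1 ?_⟩
    rw [← idealOf_schImage hY hq h hid φ hφ, idealOf_id hid φ]

end Groth.Agent.SpPts86
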