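import Groth.Agent.Helper62.JacobsonPts
import Groth.Agent.SpPts86.HasAtMorInv
import Groth.Agent.SpFP87.LocPRep
import Mathlib.AlgebraicGeometry.Morphisms.FiniteType

/-!
Finite type points of schemes and spaces.
-/

universe u

set_option autoImplicit false

open CategoryTheory CategoryTheory.Limits AlgebraicGeometry Topology
open AlgSp Groth.Agent.SpFP87

namespace Groth.Agent.SpPts86

/-- The image of a field under a morphism locally of finite type is a locally closed point. -/
theorem isLocallyClosed_singleton_of_lft {K : CommRingCat.{u}} (hK : IsField K) {U : Scheme.{u}} (g : Spec K ⟶ U)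
    [LocallyOfFiniteType g] (t : Spec K) : IsLocallyClosed ({g t} : Set U) := by
  obtain ⟨W, hW, htW, -⟩ := exists_isAffineOpen_mem_and_subset (x := g t) (U := ⊤) trivial
  let := hK.toField
  have hsub : Set.range g ⊆ Set.range hW.fromSpec := by
    rw [hW.range_fromSpec]
    rintro _ ⟨s, rfl⟩
    rwa [Subsingleton.elim (α := PrimeSpectrum K) s t]
  obtain ⟨φ, hφ⟩ := Spec.map_surjective (IsOpenImmersion.lift hW.fromSpec g hsub)
  have hg : Spec.map φ ≫ hW.fromSpec = g := by rw [hφ, IsOpenImmersion.lift_fac]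
  have : LocallyOfFiniteType (Spec.map φ) := by
    have : LocallyOfFiniteType (Spec.map φ ≫ hW.fromSpec) := hg ▸ ‹LocallyOfFiniteType g›
    exact locallyOfFiniteType_of_comp (Spec.map φ) hW.fromSpec
  rw [HasRingHomProperty.Spec_iff (P := @LocallyOfFiniteType)] at this
  algebraize [φ.hom]
  let A := Γ(U, W)
  let p : PrimeSpectrum A := Spec.map φ t
  have hp : p.asIdeal = RingHom.ker φ.hom := by
    show Ideal.comap φ.hom (t : PrimeSpectrum K).asIdeal = _
    rw [show (t : PrimeSpectrum K).asIdeal = ⊥ from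
      (Ideal.eq_bot_or_top _).resolve_right (t : PrimeSpectrum K).2.ne_top, RingHom.ker_eq_comap_bot]
  let P := RingHom.ker (algebraMap A K)
  have : P.IsPrime := RingHom.ker_isPrime _
  let : Algebra (A ⧸ P) K := (RingHom.kerLift (algebraMap A K)).toAlgebra
  have : IsScalarTower A (A ⧸ P) K := IsScalarTower.of_algebraMap_eq fun x => (RingHom.kerLift_mk _ x).symm
  have : Algebra.FiniteType (A ⧸ P) K := Algebra.FiniteType.of_restrictScalars_finiteType A _ _
  obtain ⟨f, hf, hfield⟩ := Goldman62.exists_isField_away_of_finiteType (B := A ⧸ P) (K := K)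
    (RingHom.kerLift_injective _)
  rw [Goldman62.isField_away_iff hf] at hfield
  obtain ⟨f₀, rfl⟩ := Ideal.Quotient.mk_surjective f
  have hset : ({p} : Set (PrimeSpectrum A)) = PrimeSpectrum.zeroLocus (p.asIdeal : Set A) ∩ PrimeSpectrum.basicOpen f₀ := by
    have hpP : p.asIdeal = P := hp
    refine subset_antisymm ?_ ?_
    · rintro _ rfl
      refine ⟨fun _ h => h, ?_⟩
      show f₀ ∉ p.asIdeal
      rw [hpP]
      exact fun h => hf (Ideal.Quotient.eq_zero_iff_mem.2 h)
    · rintro q ⟨hq, hfq⟩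
      have hle : P ≤ q.asIdeal := hpP ▸ hq
      refine PrimeSpectrum.ext (le_antisymm ?_ (hpP ▸ hle))
      rw [hpP]
      by_contra hne
      have hprime : (q.asIdeal.map (Ideal.Quotient.mk P)).IsPrime :=
        Ideal.isPrime_map_quotientMk_of_isPrime hle
      have := hfield _ hprime (fun e => hne (by
        simpa [Ideal.map_eq_bot_iff_le_ker, Ideal.mk_ker] using e))
      exact hfq ((Ideal.mem_quotient_iff_mem hle).1 this)
  have : g t = hW.fromSpec p := by rw [← hg]; rfl
  rw [this, ← Set.image_singleton]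
  have hlc : IsLocallyClosed ({p} : Set (PrimeSpectrum A)) := by
    rw [hset]
    exact (PrimeSpectrum.isClosed_zeroLocus _).isLocallyClosed.inter
      (PrimeSpectrum.basicOpen f₀).isOpen.isLocallyClosed
  exact hlc.image hW.fromSpec.isOpenEmbedding.isEmbedding.isInducing
    hW.fromSpec.isOpenEmbedding.isOpen_range.isLocallyClosed

variable {S : Scheme.{u}} {X : Sp S}

/-- A point is a finite type point iff it is a closed point of some etale chart. -/
theorem ftPoint_iff (hX : IsAlgSpace X) (x : Points X) :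
    (∃ (k : Type u) (_ : Field k) (str : Spec (CommRingCat.of k) ⟶ S) (ξ : (yon S).obj (Over.mk str) ⟶ X),
        LocP @LocallyOfFiniteType ξ ∧ Points.ofPt ξ (IsLocalRing.closedPoint k) = x) ↔
      ∃ (U : Over S) (φ : (yon S).obj U ⟶ X) (u : ↥U.left), RepWith @Etale φ ∧
        IsClosed ({u} : Set ↥U.left) ∧ Points.ofPt φ u = x := by
  constructor
  · rintro ⟨k, _, str, ξ, hξ, rfl⟩
    obtain ⟨U₀, a₀, ha₀, has₀⟩ := hX.atlas
    obtain ⟨u₀, hu₀⟩ := surjective_ofPt has₀ (Points.ofPt ξ (IsLocalRing.closedPoint k))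
    obtain ⟨T, c, d, sq⟩ := exists_isPullback_yon hX.diag ξ a₀
    have hc : Etale c.left := etale_snd_of_isPullback sq.flip ha₀
    have hd : LocallyOfFiniteType d.left :=
      hξ ((yon S).map c) a₀ d ((repWith_yon_map_iff _ _).2 hc) ha₀ sq.w
    obtain ⟨z, -, hz⟩ := exists_pt_of_isPullback' sq (IsLocalRing.closedPoint k) u₀ hu₀.symm
    let c' : T.left ⟶ Spec (CommRingCat.of k) := c.left
    have : Etale c' := hc
    obtain ⟨_, _⟩ := isLocallyArtinian_of_etale c'
    have : IsClosedImmersion (T.left.fromSpecResidueField z) :=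
      isClosed_singleton_iff_isClosedImmersion.1 (isClosed_discrete _)
    have : LocallyOfFiniteType (T.left.fromSpecResidueField z ≫ d.left) := inferInstance
    have hlc := isLocallyClosed_singleton_of_lft (Field.toIsField (T.left.residueField z))
      (T.left.fromSpecResidueField z ≫ d.left) (IsLocalRing.closedPoint (T.left.residueField z))
    rw [Scheme.Hom.comp_apply, Scheme.fromSpecResidueField_apply, hz] at hlc
    obtain ⟨O, Z, hO, hZ, hOZ⟩ := hlc
    have hu₀O : u₀ ∈ O := (hOZ.le rfl).1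
    let W : U₀.left.Opens := ⟨O, hO⟩
    let i : Over.mk (W.ι ≫ U₀.hom) ⟶ U₀ := Over.homMk W.ι rfl
    have : Etale i.left := inferInstanceAs (Etale W.ι)
    refine ⟨_, (yon S).map i ≫ a₀, (⟨u₀, hu₀O⟩ : W.toScheme), repWith_etale_comp i ha₀, ?_, ?_⟩
    · have e : ({⟨u₀, hu₀O⟩} : Set W.toScheme) = W.ι ⁻¹' Z := by
        ext w
        constructor
        · rintro rfl; exact (hOZ.le rfl).2
        · intro hw; exact W.ι.injective ((hOZ.ge ⟨w.2, hw⟩ : W.ι w = u₀))
      show IsClosed ({⟨u₀, hu₀O⟩} : Set W.toScheme)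
      rw [e]
      exact hZ.preimage W.ι.continuous
    · rw [ofPt_comp]; exact hu₀
  · rintro ⟨U, φ, u, hφ, hu, rfl⟩
    have : IsClosedImmersion (U.left.fromSpecResidueField u) := isClosed_singleton_iff_isClosedImmersion.1 hu
    let r : Over.mk (U.left.fromSpecResidueField u ≫ U.hom) ⟶ U := Over.homMk (U.left.fromSpecResidueField u) rfl
    refine ⟨U.left.residueField u, inferInstance, U.left.fromSpecResidueField u ≫ U.hom, (yon S).map r ≫ φ,
      ?_, ?_⟩
    · refine locP_of_repWith (IsAlgSpace.yon_obj _).diag hX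
        (MorphismProperty.comp_mem (W := RepWith (@LocallyOfFiniteType : MorphismProperty Scheme.{u})) _ _
          ((repWith_yon_map_iff _ _).2 (inferInstanceAs (LocallyOfFiniteType (U.left.fromSpecResidueField u))))
          (repWith_mono (fun _ _ f (_ : Etale f) => inferInstance) hφ))
    · rw [ofPt_comp]
      exact congrArg (Points.ofPt φ) (Scheme.fromSpecResidueField_apply u _)

end Groth.Agent.SpPts86

namespace Groth.Agent.SpPts86

variable {S : Scheme.{u}} {X : Sp S}

theorem ftPoint_of_isLocallyClosed (hX : IsAlgSpace X) {U : Over S} {a : (yon S).obj U ⟶ X} (ha : RepWith @Etale a)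
    {u : ↥U.left} (hu : IsLocallyClosed ({u} : Set ↥U.left)) :
    ∃ (k : Type u) (_ : Field k) (str : Spec (CommRingCat.of k) ⟶ S) (ξ : (yon S).obj (Over.mk str) ⟶ X),
        LocP @LocallyOfFiniteType ξ ∧ Points.ofPt ξ (IsLocalRing.closedPoint k) = Points.ofPt a u := by
  obtain ⟨O, Z, hO, hZ, hOZ⟩ := hu
  have huO : u ∈ O := (hOZ.le rfl).1
  let W : U.left.Opens := ⟨O, hO⟩
  let i : Over.mk (W.ι ≫ U.hom) ⟶ U := Over.homMk W.ι rfl
  have : Etale i.left := inferInstanceAs (Etale W.ι)
  refine (ftPoint_iff hX _).2 ⟨_, (yon S).map i ≫ a, (⟨u, huO⟩ : W.toScheme), repWith_etale_comp i ha, ?_, ?_⟩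
  · show IsClosed ({⟨u, huO⟩} : Set W.toScheme)
    have e : ({⟨u, huO⟩} : Set W.toScheme) = W.ι ⁻¹' Z := by
      ext w
      constructor
      · rintro rfl; exact (hOZ.le rfl).2
      · intro hw; exact W.ι.injective (hOZ.ge ⟨w.2, hw⟩ : W.ι w = u)
    rw [e]
    exact hZ.preimage W.ι.continuous
  · rw [ofPt_comp]; rfl

theorem exists_ftPoint_of_isLocallyClosed (hX : IsAlgSpace X) {T : Set (Points X)} (hT : IsLocallyClosed T)
    (hne : T.Nonempty) :
    ∃ x ∈ T, ∃ (k : Type u) (_ : Field k) (str : Spec (CommRingCat.of k) ⟶ S) (ξ : (yon S).obj (Over.mk str) ⟶ X),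
        LocP @LocallyOfFiniteType ξ ∧ Points.ofPt ξ (IsLocalRing.closedPoint k) = x := by
  obtain ⟨U, a, ha, has⟩ := hX.atlas
  obtain ⟨x, hx⟩ := hne
  obtain ⟨u₀, rfl⟩ := surjective_ofPt has x
  obtain ⟨u, hu, hlc⟩ := Goldman62.exists_isLocallyClosed_singleton (hT.preimage (Points.continuous_ofPt a)) ⟨u₀, hx⟩
  exact ⟨_, hu, ftPoint_of_isLocallyClosed hX ha hlc⟩

end Groth.Agent.SpPts86
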