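import Groth.Agent.SpPts86.SchImagePoints
import Groth.Agent.SpFP87.LocP
import Groth.Agent.SpFP87.EtLocInst
import Mathlib.AlgebraicGeometry.Morphisms.FinitePresentation

/-!
Chevalley's theorem for algebraic spaces.
-/

universe u

set_option autoImplicit false
set_option backward.isDefEq.respectTransparency false
set_option linter.style.haveILetI false

open CategoryTheory CategoryTheory.Limits AlgebraicGeometry Topology
open AlgSp Groth.Agent.SpFP87

namespace Groth.Agent.SpPts86

variable {S : Scheme.{u}} {X Y : Sp S}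

theorem chevalley_image (hX : IsAlgSpace X) (hY : IsAlgSpace Y) {f : X ⟶ Y}
    (hq : IsQuasiCompactMor f) (hfp : LocP @LocallyOfFinitePresentation f) (E : Set (Points X))
    (hE : ∀ (U : Over S) (φ : (yon S).obj U ⟶ X), RepWith @Etale φ →
      IsLocallyConstructible (Points.ofPt φ ⁻¹' E))
    (U : Over S) (φ : (yon S).obj U ⟶ Y) (hφ : RepWith @Etale φ) :
    IsLocallyConstructible (Points.ofPt φ ⁻¹' (Points.map f '' E)) := by
  intro x
  obtain ⟨_, ⟨W, hW, rfl⟩, hxW, -⟩ :=
    U.left.isBasis_affineOpens.exists_subset_of_mem_open (Set.mem_univ x) isOpen_univ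
  refine ⟨(W : Set ↥U.left), W.2.mem_nhds hxW, W.2, ?_⟩
  let W : U.left.Opens := W
  let T : Over S := opOver U W
  haveI : IsAffine T.left := hW
  let t : (yon S).obj T ⟶ Y := (yon S).map (opIncl U W) ≫ φ
  have ht : RepWith @Etale t := (repWith_isMultiplicative (S := S) @Etale).comp_mem _ _
    ((repWith_yon_map_iff _ _).2 (inferInstanceAs (Etale (Scheme.Opens.ι W)))) hφ
  have sq := IsPullback.of_hasPullback f t
  obtain ⟨A₀, p, hp, hps, hA₀⟩ := hq (IsAlgSpace.yon_obj T) (isQuasiCompactSp_yon T) t _ _ sq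
  haveI := hA₀
  obtain ⟨m, hm⟩ := (yon S).map_surjective (p ≫ pullback.snd f t)
  haveI : LocallyOfFinitePresentation m.left :=
    (locP_baseChange sq hX hY (IsAlgSpace.yon_obj T) hfp) p (𝟙 _) m hp (repWith_id _ T)
      (by rw [Category.comp_id, hm])
  haveI : QuasiCompact m.left := (quasiCompact_iff_compactSpace m.left).2 hA₀
  have hpe : RepWith @Etale (p ≫ pullback.fst f t) :=
    (repWith_isMultiplicative (S := S) @Etale).comp_mem _ _ hp
      ((repWith_isStableUnderBaseChange _).of_isPullback sq.flip ht)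
  have h1 : IsLocallyConstructible (m.left '' (Points.ofPt (p ≫ pullback.fst f t) ⁻¹' E)) :=
    m.left.isLocallyConstructible_image (hE A₀ _ hpe)
  have h2 : m.left '' (Points.ofPt (p ≫ pullback.fst f t) ⁻¹' E) =
      Points.ofPt t ⁻¹' (Points.map f '' E) := by
    ext v
    constructor
    · rintro ⟨a, ha, rfl⟩
      refine ⟨_, ha, ?_⟩
      rw [Points.map_ofPt, Category.assoc, pullback.condition, ← Category.assoc, ← hm, ofPt_comp]
    · rintro ⟨z, hz, hzv⟩
      obtain ⟨w, hw1, hw2⟩ := exists_of_isPullback sq z (Points.ofScheme T v)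
        (by rw [← Points.ofPt_eq_map_ofScheme, hzv])
      obtain ⟨a, rfl⟩ := surjective_ofPt hps w
      rw [Points.map_ofPt, ← hm, ofPt_yon_map] at hw2
      rw [Points.map_ofPt] at hw1
      refine ⟨a, ?_, (Points.schemeHomeo T).injective hw2⟩
      show Points.ofPt _ a ∈ E
      rw [hw1]
      exact hz
  rw [h2] at h1
  have h3 := h1.isConstructible
  have e : Points.ofPt t ⁻¹' (Points.map f '' E) =
      (Subtype.val : ↥W → ↥U.left) ⁻¹' (Points.ofPt φ ⁻¹' (Points.map f '' E)) := by
    refine Set.ext fun v => ?_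
    rw [Set.mem_preimage, ofPt_comp]
    rfl
  rw [e] at h3
  exact h3

end Groth.Agent.SpPts86
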