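import Groth.Agent.SpPts86.SchImageApps
import Groth.Agent.SpPts86.EtStalk
import Groth.Prelude.Def_AlgSpOX2
import Mathlib.CategoryTheory.Sites.ConcreteSheafification
import Mathlib.Algebra.Category.Ring.Limits
import Mathlib.CategoryTheory.Sites.Limits

/-!
The comparison of structure sheaves along open and closed immersions.
-/

universe u

set_option autoImplicit false
set_option backward.isDefEq.respectTransparency false

open CategoryTheory CategoryTheory.Limits AlgebraicGeometry Opposite
open AlgSp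
open Groth.Agent.SpFP87

namespace Groth.Agent.SpPts86

variable {S : Scheme.{u}} {U X : Sp S}

theorem bcRingHom_app_down {f : U ⟶ X} (hf : Representable f) (E : EtOver X)
    (s : ToType ((OEtRing X).obj.obj (op E))) :
    ((bcRingHom hf).hom.app (op E) s).down = (hf.snd E.obj.hom).left.appTop s.down := rfl

theorem bcRingHom_injective_iff {f : U ⟶ X} (hf : Representable f) (E : EtOver X) :
    Function.Injective ((bcRingHom hf).hom.app (op E)) ↔
      Function.Injective (hf.snd E.obj.hom).left.appTop := by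
  constructor
  · intro h a b e
    exact congrArg ULift.down (@h ⟨a⟩ ⟨b⟩ (ULift.ext _ _ e))
  · intro h a b e
    exact ULift.ext _ _ (h (congrArg ULift.down e))

theorem mono_bcRingHom_iff {f : U ⟶ X} (hf : Representable f) :
    Mono (bcRingHom hf) ↔ ∀ E : EtOver X, Function.Injective (hf.snd E.obj.hom).left.appTop := by
  simp only [← bcRingHom_injective_iff hf]
  constructor
  · intro h E
    have : Mono (bcRingHom hf).hom := (sheafToPresheaf _ _).map_mono (bcRingHom hf)
    exact (ConcreteCategory.mono_iff_injective_of_preservesPullback _).1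
      ((NatTrans.mono_iff_mono_app _).1 this (op E))
  · intro h
    have : Mono (bcRingHom hf).hom := (NatTrans.mono_iff_mono_app _).2 fun E =>
      ConcreteCategory.mono_of_injective _ (h E.unop)
    exact Sheaf.Hom.mono_of_presheaf_mono _ _ (bcRingHom hf)

theorem app_eq_zero_of_fac {A B C : Scheme.{u}} {f : A ⟶ C} (k : A ⟶ B) (g : B ⟶ C) (e : k ≫ g = f)
    (O : C.Opens) (s : Γ(C, O)) (hs : g.app O s = 0) : f.app O s = 0 := by
  subst e
  rw [Scheme.Hom.comp_app, ConcreteCategory.comp_apply, hs, map_zero]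

theorem injective_appTop_of_isPullback {j : U ⟶ X} (hj : Representable j) {E : Over S}
    (φ : (yon S).obj E ⟶ X) {W : Over S} {w : W ⟶ E} {fst : (yon S).obj W ⟶ U}
    (sq : IsPullback fst ((yon S).map w) j φ) :
    Function.Injective w.left.appTop ↔ Function.Injective (hj.snd φ).left.appTop := by
  let e := sq.isoIsPullback _ _ (hj.isPullback φ)
  obtain ⟨k, hk⟩ := (yon S).map_surjective e.hom
  haveI : IsIso ((yon S).map k) := hk ▸ inferInstance
  haveI : IsIso k := isIso_of_fully_faithful (yon S) k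
  haveI : IsIso k.left := inferInstanceAs (IsIso ((Over.forget S).map k))
  have hk' : k ≫ hj.snd φ = w := (yon S).map_injective (by
    rw [Functor.map_comp, hk]; exact IsPullback.isoIsPullback_hom_snd _ _ _ _)
  rw [← hk', Over.comp_left, Scheme.Hom.comp_appTop]
  exact Function.Injective.of_comp_iff (ConcreteCategory.bijective_of_isIso k.left.appTop).1
    (hj.snd φ).left.appTop

theorem isSchDense_iff_mono (hX : IsAlgSpace X) {j : U ⟶ X} (hj : RepWith @IsOpenImmersion j) :
    IsSchDense j ↔ Mono (bcRingHom hj.1) := by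
  rw [mono_bcRingHom_iff]
  constructor
  · intro h E
    obtain ⟨W, fst, sq, hW⟩ := exists_isPullback_opens hj E.obj.hom
    rw [← injective_appTop_of_isPullback hj.1 _ sq]
    exact (ι_app_injective_iff W ⊤).2 (isSchematicallyDense_chart hX h E.property W hW ⊤)
  · intro h
    obtain ⟨V, φ, hφ, hφs⟩ := hX.atlas
    obtain ⟨W, fst, sq, hW⟩ := exists_isPullback_opens hj φ
    refine ⟨hj, V, φ, W, fst, hφ, hφs, sq, fun O => ?_⟩
    let V' : Over S := Over.mk (O.ι ≫ V.hom)
    let ι : V' ⟶ V := Over.homMk O.ι rfl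
    have he : RepWith @Etale ((yon S).map ι ≫ φ) :=
      (repWith_isMultiplicative (S := S) @Etale).comp_mem _ _
        ((repWith_yon_map_iff _ _).2 (inferInstanceAs (Etale O.ι))) hφ
    obtain ⟨W', fst', sq', hW'⟩ := exists_isPullback_opens hj ((yon S).map ι ≫ φ)
    have hi : Function.Injective (W'.ι.app (O.ι ⁻¹ᵁ O)) := by
      rw [Scheme.Opens.ι_preimage_self]
      exact (injective_appTop_of_isPullback hj.1 _ sq').2 (h (EtOver.mk _ he))
    rw [injective_iff_map_eq_zero]
    intro s hs
    have h0 : (O ⊓ W).ι.app O s = 0 := by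
      have hle : (O ⊓ W).ι ''ᵁ ((O ⊓ W).ι ⁻¹ᵁ O) ≤ O ⊓ W := (O ⊓ W).ι_image_le _
      rw [Scheme.Opens.ι_app, show (homOfLE ((O ⊓ W).ι.image_preimage_le O)).op =
        (homOfLE (inf_le_left : O ⊓ W ≤ O)).op ≫ (homOfLE hle).op from rfl, Functor.map_comp,
        ConcreteCategory.comp_apply, hs, map_zero]
    have hr : Set.range (W'.ι ≫ O.ι) ⊆ Set.range (O ⊓ W).ι := by
      rintro _ ⟨x, rfl⟩
      rw [Scheme.Opens.range_ι]
      have hx : W'.ι x ∈ (W' : Set ↥V'.left) := x.2
      refine ⟨(W'.ι x).2, ?_⟩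
      show O.ι (W'.ι x) ∈ (W : Set ↥V.left)
      rw [hW]
      rw [hW', Set.mem_preimage, ofPt_comp] at hx
      exact hx
    have h1 := app_eq_zero_of_fac (IsOpenImmersion.lift (O ⊓ W).ι (W'.ι ≫ O.ι) hr) (O ⊓ W).ι
      (IsOpenImmersion.lift_fac _ _ _) O s h0
    rw [Scheme.Hom.comp_app, ConcreteCategory.comp_apply] at h1
    have h2 : O.ι.app O s = 0 := (injective_iff_map_eq_zero _).1 hi _ h1
    refine (injective_iff_map_eq_zero _).1 ?_ s h2
    rw [Scheme.Opens.ι_app_self]
    exact (ConcreteCategory.bijective_of_isIso _).1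

theorem isLocallySurjective_bcRingHom {i : U ⟶ X} (hi : RepWith @IsClosedImmersion i) :
    Presheaf.IsLocallySurjective (etTop X) (bcRingHom hi.1).hom := by
  refine ⟨fun {E} s => mem_etTop_of_forall _ fun v => ?_⟩
  obtain ⟨W, hW, hv, -⟩ := exists_isAffineOpen_mem_and_subset (x := v) (U := (⊤ : E.obj.left.left.Opens)) trivial
  let W' : Over S := Over.mk (W.ι ≫ E.obj.left.hom)
  let c : W' ⟶ E.obj.left := Over.homMk W.ι rfl
  let E' : EtOver X := EtOver.mk ((yon S).map c ≫ E.obj.hom)
    ((repWith_isMultiplicative (S := S) @Etale).comp_mem _ _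
      ((repWith_yon_map_iff _ _).2 (inferInstanceAs (Etale W.ι))) E.property)
  let g : E' ⟶ E := EtOver.homMk c rfl
  haveI : IsAffine E'.obj.left.left := hW
  haveI : IsClosedImmersion (hi.1.snd E'.obj.hom).left := hi.2 _ _ _ (hi.1.isPullback _)
  obtain ⟨t, ht⟩ := (IsClosedImmersion.isAffine_surjective_of_isAffine (hi.1.snd E'.obj.hom).left).2
    ((((EtOver.bc hi.1).sheafPushforwardContinuous RingCat.{u + 1} (etTop X) (etTop U)).obj
      (OEtRing U)).obj.map g.op s).down
  exact ⟨E', g, ⟨⟨t⟩, ULift.ext _ _ ht⟩, ⟨⟨v, hv⟩, rfl⟩⟩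

end Groth.Agent.SpPts86
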