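import Groth.Agent.SpPts86.IdealBridge
import Groth.Agent.SpFP87.LocPRep
import Groth.Agent.SpFP87.EtLocInst

/-!
Finite presentation of closed immersions and finite generation of their ideals.
-/

universe u

set_option autoImplicit false
set_option backward.isDefEq.respectTransparency false
set_option linter.style.haveILetI false

open CategoryTheory CategoryTheory.Limits AlgebraicGeometry Opposite
open AlgSp
open Groth.Agent.SpFP87

namespace Groth.Agent.SpPts86

theorem lfp_iff_ker_fg {A T : Scheme.{u}} (h : A ⟶ T) [IsClosedImmersion h] [IsAffine T] :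
    LocallyOfFinitePresentation h ↔ (RingHom.ker h.appTop.hom).FG := by
  obtain ⟨hA, hs⟩ := IsClosedImmersion.isAffine_surjective_of_isAffine h
  haveI := hA
  rw [HasRingHomProperty.iff_of_isAffine (P := @LocallyOfFinitePresentation)]
  refine ⟨fun hfp => ?_, fun hfg => RingHom.FinitePresentation.of_surjective _ hs hfg⟩
  algebraize [h.appTop.hom]
  exact Algebra.FinitePresentation.ker_fG_of_surjective (Algebra.ofId Γ(T, ⊤) Γ(A, ⊤)) hs

variable {S : Scheme.{u}} {Z X : Sp S}

theorem locP_lfp_iff_fg (hZ : IsAlgSpace Z) (hX : IsAlgSpace X) {i : Z ⟶ X}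
    (hi : RepWith @IsClosedImmersion i) :
    LocP @LocallyOfFinitePresentation i ↔
      ∀ (E : EtOver X) (hE : IsAffine E.obj.left.left), ((idealOfRep hi.1).ideal E hE).FG := by
  constructor
  · intro h E hE
    haveI := hE
    haveI : IsClosedImmersion (hi.rep.snd E.obj.hom).left := hi.property_snd _
    have h2 : LocallyOfFinitePresentation (hi.rep.snd E.obj.hom).left :=
      h (hi.rep.fst E.obj.hom) E.obj.hom _
        ((repWith_isStableUnderBaseChange (@Etale : MorphismProperty Scheme.{u})).of_isPullback
          (hi.rep.isPullback _).flip E.property) E.property (hi.rep.isPullback _).w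
    exact (lfp_iff_ker_fg _).1 h2
  · intro H
    obtain ⟨U, a, ha, has⟩ := hX.atlas
    refine locP_of_chart (h := hi.rep.snd a) hZ.diag hX.diag
      ((repWith_isStableUnderBaseChange (@Etale : MorphismProperty Scheme.{u})).of_isPullback
        (hi.rep.isPullback a).flip ha)
      ((repWith_isStableUnderBaseChange (@Surjective : MorphismProperty Scheme.{u})).of_isPullback
        (hi.rep.isPullback a).flip has) ha (hi.rep.isPullback a).w ?_
    haveI : IsClosedImmersion (hi.rep.snd a).left := hi.property_snd a
    refine (IsZariskiLocalAtTarget.iff_of_iSup_eq_top (P := @LocallyOfFinitePresentation)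
      (fun W : U.left.affineOpens => W.1) (iSup_affineOpens_eq_top U.left)).2 fun W => ?_
    let E : EtOver X := EtOver.mk _ (repWith_etale_opIncl ha W.1)
    haveI : IsAffine E.obj.left.left := W.2
    haveI : IsClosedImmersion (hi.rep.snd E.obj.hom).left := hi.property_snd _
    have h2 : LocallyOfFinitePresentation (hi.rep.snd E.obj.hom).left :=
      (lfp_iff_ker_fg _).2 (H E W.2)
    obtain ⟨A', p, h', sq, w⟩ := exists_isPullback_over (hi.rep.snd a) (opIncl U W.1)
    have w' : ((yon S).map p ≫ hi.rep.fst a) ≫ i = (yon S).map h' ≫ E.obj.hom := by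
      show ((yon S).map p ≫ hi.rep.fst a) ≫ i = (yon S).map h' ≫ (yon S).map (opIncl U W.1) ≫ a
      rw [Category.assoc, (hi.rep.isPullback a).w, ← Functor.map_comp_assoc, w,
        Functor.map_comp_assoc]
    have sq' : IsPullback p h' (hi.rep.snd a) (opIncl U W.1) :=
      IsPullback.of_map (Over.forget S) w sq
    have sq2 : IsPullback ((yon S).map p ≫ hi.rep.fst a) ((yon S).map h') i E.obj.hom :=
      ((sq'.map (yon S)).paste_horiz (hi.rep.isPullback a))
    let e := sq2.isoIsPullback _ _ (hi.rep.isPullback E.obj.hom)
    obtain ⟨k, hk⟩ := (yon S).map_surjective e.hom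
    haveI : IsIso ((yon S).map k) := hk ▸ inferInstance
    haveI : IsIso k := isIso_of_fully_faithful (yon S) k
    haveI : IsIso k.left := inferInstanceAs (IsIso ((Over.forget S).map k))
    have hk' : k ≫ hi.rep.snd E.obj.hom = h' := (yon S).map_injective (by
      rw [Functor.map_comp, hk]; exact IsPullback.isoIsPullback_hom_snd _ _ _ _)
    have h3 : LocallyOfFinitePresentation h'.left := by
      rw [← hk', Over.comp_left]
      infer_instance
    refine (MorphismProperty.arrow_mk_iso_iff @LocallyOfFinitePresentation ?_).2 h3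
    exact Arrow.isoMk ((isPullback_morphismRestrict _ _).flip.isoIsPullback _ _ sq) (Iso.refl _)
      (by simp)

end Groth.Agent.SpPts86
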