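import Groth.Agent.SpPts86.EtPush
import Groth.Agent.SpPts86.EtNbhd
import Groth.Prelude.Def_AlgSpOX3

/-!
Stalks of direct images along integral universally injective morphisms.
-/

universe u

set_option autoImplicit false
set_option backward.isDefEq.respectTransparency false
set_option linter.style.haveILetI false

open CategoryTheory CategoryTheory.Limits AlgebraicGeometry Opposite
open AlgSp Groth.Agent.SpFP87

namespace Groth.Agent.SpPts86

variable {S : Scheme.{u}} {Y X : Sp S} {f : Y ⟶ X} (hf : Representable f) (z : FieldPt Y)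

/-- A neighbourhood of the image point pulls back to one of the point. -/
noncomputable def bcNbhd : EtNbhd (z.map f) ⥤ EtNbhd z where
  obj N := ⟨(EtOver.bc hf).obj N.1,
    ⟨hf.lift z.toHom N.2.1 ((N.2.2.trans (FieldPt.toHom_map f z)).symm), hf.lift_fst _ _ _⟩⟩
  map {N N'} g := ⟨(EtOver.bc hf).map g.1, Subtype.ext (hf.hom_ext
    (by
      show (yon S).map (hf.lift z.toHom N.2.1 _ ≫ (EtOver.bcMap hf g.1).hom.left) ≫ hf.fst N'.1.obj.hom =
        (yon S).map (hf.lift z.toHom N'.2.1 _) ≫ hf.fst N'.1.obj.hom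
      rw [Functor.map_comp, Category.assoc, EtOver.map_bcMap_fst, hf.lift_fst, hf.lift_fst])
    (by
      show (hf.lift z.toHom N.2.1 _ ≫ (EtOver.bcMap hf g.1).hom.left) ≫ hf.snd N'.1.obj.hom =
        hf.lift z.toHom N'.2.1 _ ≫ hf.snd N'.1.obj.hom
      rw [Category.assoc, EtOver.bcMap_snd, ← Category.assoc, hf.lift_snd, hf.lift_snd]
      exact congrArg Subtype.val g.2))⟩
  map_id _ := Subtype.ext ((EtOver.bc hf).map_id _)
  map_comp g g' := Subtype.ext ((EtOver.bc hf).map_comp g.1 g'.1)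

theorem bcNbhd_lift_snd (N : EtNbhd (z.map f)) :
    ((bcNbhd hf z).obj N).2.1 ≫ hf.snd N.1.obj.hom = N.2.1 := hf.lift_snd _ _ _

variable {hf z}

theorem exists_nbhd_bc (h : RepWith intUI f) (hz : z.IsGeometric) (E : EtOver X)
    (l : (FieldPt.liftsTo z).obj ((EtOver.bc h.1).obj E)) :
    ∃ m : (FieldPt.liftsTo (z.map f)).obj E,
      (bcNbhd h.1 z).obj ⟨E, m⟩ = ⟨(EtOver.bc h.1).obj E, l⟩ := by
  refine ⟨⟨l.1 ≫ h.1.snd E.obj.hom, ?_⟩, ?_⟩
  · show (yon S).map (l.1 ≫ h.1.snd E.obj.hom) ≫ E.obj.hom = (z.map f).toHom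
    rw [FieldPt.toHom_map, Functor.map_comp, Category.assoc, ← h.1.w, ← Category.assoc]
    exact congrArg (· ≫ f) l.2
  · refine Sigma.ext rfl (heq_of_eq (Subtype.ext (h.1.hom_ext ?_ ?_)))
    · exact (h.1.lift_fst _ _ _).trans l.2.symm
    · exact h.1.lift_snd _ _ _

theorem exists_bcNbhd_hom (h : RepWith intUI f) (hX : IsAlgSpace X) (hz : z.IsGeometric) (M : EtNbhd z) :
    ∃ N : EtNbhd (z.map f), Nonempty ((bcNbhd h.1 z).obj N ⟶ M) := by
  obtain ⟨E, g, hv⟩ := exists_bc_map_mem_range h hX M.1 (M.2.1.left (IsLocalRing.closedPoint z.K))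
  obtain ⟨l, hl⟩ := exists_lift_of_mem_range hz g M.2 hv
  obtain ⟨m, hm⟩ := exists_nbhd_bc h hz E l
  exact ⟨⟨E, m⟩, ⟨eqToHom hm ≫ ⟨g, hl⟩⟩⟩

theorem exists_bcNbhd_map_comp_eq (h : RepWith intUI f) (hX : IsAlgSpace X) (hz : z.IsGeometric)
    {M : EtNbhd z} (N : EtNbhd (z.map f)) (g : M ⟶ (bcNbhd h.1 z).obj N) :
    ∃ (N' : EtNbhd (z.map f)) (a : N' ⟶ N) (b : (bcNbhd h.1 z).obj N' ⟶ M),
      b ≫ g = (bcNbhd h.1 z).map a := by
  obtain ⟨E', g', w', hw'⟩ := exists_bc_map_mem_range h hX M.1 (M.2.1.left (IsLocalRing.closedPoint z.K))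
  obtain ⟨E'', j, l, hl, hw⟩ := exists_imageSieve_mem_range h (g' ≫ g.1) w'
  obtain ⟨w'', hw''⟩ := hw
  obtain ⟨lz, hlz⟩ := exists_lift_of_mem_range hz ((EtOver.bc h.1).map j ≫ g') M.2
    ⟨w'', (congrArg g'.hom.left.left hw'').trans hw'⟩
  obtain ⟨m, hm⟩ := exists_nbhd_bc h hz E'' lz
  let b : (bcNbhd h.1 z).obj ⟨E'', m⟩ ⟶ M := eqToHom hm ≫ ⟨(EtOver.bc h.1).map j ≫ g', hlz⟩
  have hb : b.1 = (EtOver.bc h.1).map j ≫ g' := by
    show (eqToHom hm).1 ≫ _ = _
    have : (eqToHom hm).1 = 𝟙 _ := by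
      have key : ∀ {A B : EtNbhd z} (e : A = B), (eqToHom e).1 = eqToHom (congrArg Sigma.fst e) := by
        rintro A B rfl; rfl
      rw [key]; rfl
    rw [this, Category.id_comp]
  have hbl : (bcNbhd h.1 z).obj ⟨E'', m⟩ |>.2.1 ≫ ((EtOver.bc h.1).map l).hom.left =
      ((bcNbhd h.1 z).obj N).2.1 := by
    have := congrArg Subtype.val (b ≫ g).2
    rw [show (b ≫ g).1 = (EtOver.bc h.1).map l from by
      show b.1 ≫ g.1 = _
      rw [hb, hl, Category.assoc]] at this
    exact this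
  refine ⟨⟨E'', m⟩, ⟨l, Subtype.ext ?_⟩, b, Subtype.ext ?_⟩
  · show m.1 ≫ l.hom.left = N.2.1
    rw [← bcNbhd_lift_snd h.1 z N, ← hbl, Category.assoc]
    refine Eq.trans ?_ (congrArg (((bcNbhd h.1 z).obj ⟨E'', m⟩).2.1 ≫ ·) (EtOver.bcMap_snd h.1 l)).symm
    rw [← Category.assoc]
    exact congrArg (· ≫ l.hom.left) (bcNbhd_lift_snd h.1 z ⟨E'', m⟩).symm
  · show b.1 ≫ g.1 = (EtOver.bc h.1).map l
    rw [hb, hl, Category.assoc]

variable (z) in
/-- The canonical map from the stalk of the direct image. -/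
noncomputable def stalkPushHom (hf : Representable f) {A : Type*} [Category A]
    [HasColimitsOfShape (EtNbhd z)ᵒᵖ A] [HasColimitsOfShape (EtNbhd (z.map f))ᵒᵖ A] (F : EtSh Y A) :
    stalkEt (z.map f) ((pushEt hf A).obj F) ⟶ stalkEt z F :=
  colimit.desc _
    { pt := stalkEt z F
      ι :=
        { app := fun N => stalkEtι z F ((bcNbhd hf z).obj N.unop)
          naturality := fun N N' g => by
            refine Eq.trans ?_ (Category.comp_id _).symm
            exact colimit.w (stalkEtDiagram z F) ((bcNbhd hf z).map g.unop).op } }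

theorem ι_stalkPushHom (hf : Representable f) {A : Type*} [Category A]
    [HasColimitsOfShape (EtNbhd z)ᵒᵖ A] [HasColimitsOfShape (EtNbhd (z.map f))ᵒᵖ A] (F : EtSh Y A)
    (N : EtNbhd (z.map f)) :
    stalkEtι (z.map f) ((pushEt hf A).obj F) N ≫ stalkPushHom z hf F =
      stalkEtι z F ((bcNbhd hf z).obj N) := colimit.ι_desc _ _

theorem stalkPushHom_bijective (h : RepWith intUI f) (hY : IsAlgSpace Y) (hX : IsAlgSpace X) (hz : z.IsGeometric)
    (F : EtSh Y (Type (u + 1))) : Function.Bijective (stalkPushHom z h.1 F) := by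
  haveI := isCofiltered_etNbhd_of_isGeometric z hY hz
  haveI := isCofiltered_etNbhd_of_isGeometric (z.map f) hX (show (z.map f).IsGeometric from hz)
  have hι : ∀ (N : EtNbhd (z.map f)) (s), stalkPushHom z h.1 F
      (stalkEtι (z.map f) ((pushEt h.1 (Type (u + 1))).obj F) N s) =
      stalkEtι z F ((bcNbhd h.1 z).obj N) s := fun N s =>
    ConcreteCategory.congr_hom (ι_stalkPushHom h.1 F N) s
  constructor
  · intro x y e
    obtain ⟨N₁, s₁, rfl⟩ := Types.jointly_surjective' x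
    obtain ⟨N₂, s₂, rfl⟩ := Types.jointly_surjective' y
    let N := IsFiltered.max N₁ N₂
    let D := stalkEtDiagram (z.map f) ((pushEt h.1 (Type (u + 1))).obj F)
    rw [← colimit.w_apply D (IsFiltered.leftToMax N₁ N₂), ← colimit.w_apply D (IsFiltered.rightToMax N₁ N₂)] at e ⊢
    erw [hι N.unop, hι N.unop] at e
    obtain ⟨M, g₁, g₂, hg⟩ := (Types.FilteredColimit.colimit_eq_iff (stalkEtDiagram z F)).1 e
    let M' := IsFiltered.coeq g₁ g₂
    obtain ⟨N', a, b, hab⟩ := exists_bcNbhd_map_comp_eq h hX hz N.unop ((g₁ ≫ IsFiltered.coeqHom g₁ g₂).unop)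
    refine (Types.FilteredColimit.colimit_eq_iff D).2 ⟨op N', a.op, a.op, ?_⟩
    show F.obj.map ((EtOver.bc h.1).map a.1).op _ = F.obj.map ((EtOver.bc h.1).map a.1).op _
    have h2 := IsFiltered.coeq_condition g₁ g₂
    have := congrArg ((stalkEtDiagram z F).map (IsFiltered.coeqHom g₁ g₂ ≫ b.op)) hg
    rw [← ConcreteCategory.comp_apply, ← ConcreteCategory.comp_apply, ← Functor.map_comp, ← Functor.map_comp,
      ← Category.assoc, ← Category.assoc, ← h2] at this
    have e' : (g₁ ≫ IsFiltered.coeqHom g₁ g₂) ≫ b.op = ((bcNbhd h.1 z).map a).op := by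
      rw [← hab, op_comp]; rfl
    rw [e'] at this
    exact this
  · intro x
    obtain ⟨M, s, rfl⟩ := Types.jointly_surjective' x
    obtain ⟨N, ⟨b⟩⟩ := exists_bcNbhd_hom h hX hz M.unop
    refine ⟨stalkEtι (z.map f) ((pushEt h.1 (Type (u + 1))).obj F) N (F.obj.map b.1.op s), ?_⟩
    rw [hι]
    exact colimit.w_apply (stalkEtDiagram z F) b.op s

end Groth.Agent.SpPts86
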