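import Groth.Agent.SpPts86.GrpdTranslate
import Groth.Agent.SpPts86.UnivTop
import Groth.Agent.SpPts86.FreeAction
import Mathlib.CategoryTheory.Monoidal.Cartesian.Grp
import Groth.Agent.SpPts86.ImIdeal
import Mathlib.AlgebraicGeometry.Morphisms.UniversallyOpen

/-!
Morphisms to the spectrum of a field, and their translates in groups and groupoids.
-/

universe u

set_option autoImplicit false
set_option backward.isDefEq.respectTransparency false
set_option linter.style.haveILetI false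

open CategoryTheory CategoryTheory.Limits AlgebraicGeometry MonoidalCategory CartesianMonoidalCategory MonObj
open AlgSp Groth.Agent.SpFP87

namespace Groth.Agent.SpPts86

variable {S : Scheme.{u}}

theorem flat_univOpen_to_field {X : Sp S} (hX : IsAlgSpace X) {K : Over S} [IsIntegral K.left]
    [Subsingleton ↥K.left] (f : X ⟶ (yon S).obj K) : LocP @Flat f ∧ IsUnivOpenMor f := by
  obtain ⟨U, a, ha, has⟩ := hX.atlas
  obtain ⟨m, hm⟩ := (yon S).map_surjective (a ≫ f)
  refine ⟨locP_of_chart (h := m) hX.diag (IsAlgSpace.yon_obj K).diag ha has (repWith_id _ K)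
    (by rw [Category.comp_id, hm]) (inferInstanceAs (Flat m.left)),
    isUnivOpenMor_of_affine fun T hT g Q q₁ q₂ sq => ?_⟩
  obtain ⟨k, hk⟩ := (yon S).map_surjective g
  obtain ⟨V, v, n, sqV, wV⟩ := exists_isPullback_over m k
  have hw : ((yon S).map v ≫ a) ≫ f = (yon S).map n ≫ g := by
    rw [Category.assoc, ← hm, ← hk, ← Functor.map_comp, ← Functor.map_comp, wV]
  let p : (yon S).obj V ⟶ Q := sq.lift ((yon S).map v ≫ a) ((yon S).map n) hw
  have hn : (yon S).map n = p ≫ q₂ := (sq.lift_snd _ _ _).symm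
  have hVo : IsPullback v n m k := IsPullback.of_map_of_faithful (Over.forget S) sqV
  have big : IsPullback ((yon S).map n) ((yon S).map v) g (a ≫ f) := by
    rw [← hm, ← hk]
    exact (hVo.map (yon S)).flip
  have sqp : IsPullback p ((yon S).map v) q₁ a :=
    IsPullback.of_right (h₁₂ := q₂) (by rw [← hn]; exact big) (sq.lift_fst _ _ _) sq.flip
  have hps : RepWith @Surjective p :=
    (repWith_isStableUnderBaseChange _).of_isPullback sqp.flip has
  haveI : UniversallyOpen m.left := inferInstance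
  haveI : UniversallyOpen n.left :=
    MorphismProperty.of_isPullback (P := @UniversallyOpen) sqV ‹_›
  intro O hO
  have hi : Points.map q₂ '' O = Points.schemeHomeo T '' (n.left '' (Points.ofPt p ⁻¹' O)) := by
    ext y
    constructor
    · rintro ⟨x, hx, rfl⟩
      obtain ⟨w, rfl⟩ := surjective_ofPt hps x
      exact ⟨n.left w, ⟨w, hx, rfl⟩, by rw [Points.map_ofPt, ← hn, ofPt_yon_map]; rfl⟩
    · rintro ⟨_, ⟨w, hw, rfl⟩, rfl⟩
      exact ⟨_, hw, by rw [Points.map_ofPt, ← hn, ofPt_yon_map]; rfl⟩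
  rw [hi]
  exact (Points.schemeHomeo T).isOpenMap _ (n.left.isOpenMap _ (hO.preimage (Points.continuous_ofPt p)))

theorem flat_univOpen_of_isPullback {X Y X' Y' : Sp S} {fst : X' ⟶ X} {snd : X' ⟶ Y'} {f : X ⟶ Y}
    {g : Y' ⟶ Y} (sq : IsPullback fst snd f g) (hX : IsAlgSpace X) (hY : IsAlgSpace Y)
    (hY' : IsAlgSpace Y') (h : LocP @Flat f ∧ IsUnivOpenMor f) : LocP @Flat snd ∧ IsUnivOpenMor snd :=
  ⟨locP_baseChange sq hX hY hY' h.1, fun _ _ hZ k q₁ q₂ sq' => h.2 hZ (k ≫ g) (q₁ ≫ fst) q₂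
    (sq'.paste_horiz sq)⟩

theorem flat_univOpen_of_isPullback_id {X Y X' Y' : Sp S} {f : X ⟶ Y} {f' : X' ⟶ Y'} (e : X' ⟶ X)
    (e' : Y' ⟶ Y) [IsIso e] [IsIso e'] (w : e ≫ f = f' ≫ e') (hX : IsAlgSpace X) (hY : IsAlgSpace Y)
    (hY' : IsAlgSpace Y') (h : LocP @Flat f ∧ IsUnivOpenMor f) : LocP @Flat f' ∧ IsUnivOpenMor f' :=
  flat_univOpen_of_isPullback (IsPullback.of_horiz_isIso ⟨w⟩) hX hY hY' h

theorem flat_univOpen_grpd_comp {B : Sp S} (G : GroupoidSp B) (hR : IsAlgSpace G.R) {K : Over S}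
    [IsIntegral K.left] [Subsingleton ↥K.left] (eU : G.U ≅ (yon S).obj K) :
    LocP @Flat G.c ∧ IsUnivOpenMor G.c := by
  have hU : IsAlgSpace G.U := SpFP87.isAlgSpace_of_representable eU.hom
    (repWith_isomorphisms_of_isIso eU.hom).rep (IsAlgSpace.yon_obj K)
  have ht : LocP @Flat G.t ∧ IsUnivOpenMor G.t :=
    flat_univOpen_of_isPullback_id (𝟙 G.R) eU.hom (by rw [Category.id_comp]) hR (IsAlgSpace.yon_obj K) hU
      (flat_univOpen_to_field hR (G.t ≫ eU.hom))
  let φ : pullback G.t G.t ⟶ pullback G.s G.t :=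
    pullback.lift (pullback.fst G.t G.t)
      (pullback.lift (pullback.fst G.t G.t ≫ G.i) (pullback.snd G.t G.t)
        ((Category.assoc _ _ _).trans ((congrArg (pullback.fst G.t G.t ≫ ·) G.i_s).trans pullback.condition)) ≫ G.c)
      (by rw [G.comp_t, Category.assoc, G.i_t])
  obtain ⟨hφ, hc⟩ := shear_isIso G φ (pullback.lift_fst _ _ _) (pullback.lift_snd _ _ _)
  haveI := hφ
  exact flat_univOpen_of_isPullback_id (inv φ) (𝟙 G.R) (by rw [Category.comp_id, ← hc, IsIso.inv_hom_id_assoc])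
    (SpFP87.isAlgSpace_pullback G.t G.t hR hR hU) hR hR
    (flat_univOpen_of_isPullback (IsPullback.of_hasPullback G.t G.t) hR hU hR ht)

end Groth.Agent.SpPts86
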