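import Mathlib.AlgebraicGeometry.Morphisms.Affine
import Mathlib.AlgebraicGeometry.Morphisms.Flat
import Mathlib.Algebra.Category.Ring.Constructions
import Mathlib.RingTheory.Flat.Basic
import Groth.Agent.Grpd80.AffineQuot

/-!
The affine hull of a pair of maps to an affine scheme: functions equalized by the pair.  Stable
under flat affine base change and under passing to invariant open and closed parts.
-/

universe u

set_option autoImplicit false

open CategoryTheory CategoryTheory.Limits AlgebraicGeometry TopologicalSpace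
open scoped TensorProduct

namespace Groth.Agent.SpPts86

variable {R U H : Scheme.{u}}

/-- The functions on `H` are the functions on `U` equalized by `t` and `s`. -/
structure IsAffHull (t s : R ⟶ U) (γ : U ⟶ H) : Prop where
  w : t ≫ γ = s ≫ γ
  injective : Function.Injective γ.appTop.hom
  exists_eq : ∀ x : Γ(U, ⊤), t.appTop.hom x = s.appTop.hom x → ∃ y, γ.appTop.hom y = x

theorem exists_isAffHull [IsAffine U] (t s : R ⟶ U) :
    ∃ (H : Scheme.{u}) (γ : U ⟶ H), IsAffine H ∧ IsAffHull t s γ := by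
  let B : Subring Γ(U, ⊤) := RingHom.eqLocus t.appTop.hom s.appTop.hom
  let γ : U ⟶ Spec (CommRingCat.of B) := U.toSpecΓ ≫ Spec.map (CommRingCat.ofHom B.subtype)
  have hγ : γ.appTop = (Scheme.ΓSpecIso _).hom ≫ CommRingCat.ofHom B.subtype := by simp [γ]
  have happ : ∀ y, γ.appTop.hom y =
      B.subtype ((Scheme.ΓSpecIso (CommRingCat.of B)).hom.hom y) := fun y => congr(($hγ).hom y)
  refine ⟨_, γ, inferInstance, ?_, ?_, ?_⟩
  · refine ext_of_isAffine ?_
    ext y
    change t.appTop.hom (γ.appTop.hom y) = s.appTop.hom (γ.appTop.hom y)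
    rw [happ]
    exact ((Scheme.ΓSpecIso (CommRingCat.of B)).hom.hom y).2
  · intro a b h
    rw [happ, happ] at h
    exact (Scheme.ΓSpecIso (CommRingCat.of B)).commRingCatIsoToRingEquiv.injective (Subtype.ext h)
  · intro x hx
    refine ⟨(Scheme.ΓSpecIso (CommRingCat.of B)).inv.hom ⟨x, hx⟩, ?_⟩
    rw [happ]
    exact congrArg Subtype.val (congr(($((Scheme.ΓSpecIso (CommRingCat.of B)).inv_hom_id)).hom
      (⟨x, hx⟩ : B)))

namespace IsAffHull

variable {t s : R ⟶ U} {γ : U ⟶ H}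

theorem hom_ext (h : IsAffHull t s γ) {C : Scheme.{u}} [IsAffine C] {k k' : H ⟶ C}
    (e : γ ≫ k = γ ≫ k') : k = k' := by
  refine ext_of_isAffine ?_
  ext y
  exact h.injective (congr(($(congrArg Scheme.Hom.appTop e)).hom y))

theorem exists_desc (h : IsAffHull t s γ) {C : Scheme.{u}} [IsAffine C] (f : U ⟶ C)
    (w : t ≫ f = s ≫ f) : ∃ k : H ⟶ C, γ ≫ k = f := by
  have hf : ∀ c : Γ(C, ⊤), ∃ y, γ.appTop.hom y = f.appTop.hom c := fun c =>
    h.exists_eq _ (congr(($(congrArg Scheme.Hom.appTop w)).hom c))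
  choose φ hφ using hf
  let ψ : Γ(C, ⊤) →+* Γ(H, ⊤) :=
    { toFun := φ
      map_one' := h.injective (by rw [hφ, map_one, map_one])
      map_zero' := h.injective (by rw [hφ, map_zero, map_zero])
      map_mul' := fun a b => h.injective (by rw [hφ, map_mul, map_mul, hφ, hφ])
      map_add' := fun a b => h.injective (by rw [hφ, map_add, map_add, hφ, hφ]) }
  refine ⟨H.toSpecΓ ≫ Spec.map (CommRingCat.ofHom ψ) ≫ C.isoSpec.inv, ?_⟩
  have e : γ.appTop.hom.comp ψ = f.appTop.hom := RingHom.ext hφ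
  rw [Scheme.toSpecΓ_naturality_assoc, ← Spec.map_comp_assoc,
    show CommRingCat.ofHom ψ ≫ γ.appTop = f.appTop from CommRingCat.hom_ext e,
    ← Scheme.toSpecΓ_naturality_assoc]
  simp [Scheme.isoSpec]

end IsAffHull

section Ring

variable {A A' B B' : CommRingCat.{u}} {a : A ⟶ A'} {φ : A ⟶ B} {φ' : A' ⟶ B'} {b : B ⟶ B'}

/-- A pushout of rings is a tensor product. -/
theorem tensor_bijective (h : IsPushout a φ φ' b) :
    letI := a.hom.toAlgebra; letI := φ.hom.toAlgebra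
    ∀ e : A' ⊗[A] B →+* B', (∀ x, e (x ⊗ₜ 1) = φ'.hom x) → (∀ y, e (1 ⊗ₜ y) = b.hom y) →
      Function.Bijective e := by
  algebraize [a.hom, φ.hom]
  intro e h1 h2
  have h' : IsPushout (CommRingCat.ofHom (algebraMap A A')) (CommRingCat.ofHom (algebraMap A B))
      φ' b := h
  let i := (CommRingCat.isPushout_tensorProduct A A' B).isoIsPushout _ _ h'
  have hie : e = i.hom.hom := by
    have el : _ ≫ i.hom = φ' := IsPushout.inl_isoIsPushout_hom _ _ (CommRingCat.isPushout_tensorProduct A A' B) h'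
    have er : _ ≫ i.hom = b := IsPushout.inr_isoIsPushout_hom _ _ (CommRingCat.isPushout_tensorProduct A A' B) h'
    have hl : ∀ x, i.hom.hom (x ⊗ₜ 1) = φ'.hom x := fun x => congr(($el).hom x)
    have hr : ∀ y, i.hom.hom (1 ⊗ₜ y) = b.hom y := fun y => congr(($er).hom y)
    refine RingHom.ext fun z => ?_
    induction z using TensorProduct.induction_on with
    | zero => rw [map_zero, map_zero]
    | tmul x y =>
      rw [show (x ⊗ₜ[A] y) = (x ⊗ₜ[A] (1 : B)) * ((1 : A') ⊗ₜ[A] y) by simp, map_mul, map_mul,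
        h1, h2, hl, hr]
    | add x y hx hy => rw [map_add, map_add, hx, hy]
  rw [hie]
  exact i.commRingCatIsoToRingEquiv.bijective

variable {C D C' D' : CommRingCat.{u}} {g : B ⟶ C} {g' : B' ⟶ C'} {f₁ f₂ : C ⟶ D} {c : C ⟶ C'}
  {d : D ⟶ D'} {ψ' : A' ⟶ C'} {χ' : A' ⟶ D'} {f₁' f₂' : C' ⟶ D'}

/-- Equalizers of rings commute with flat base change. -/
theorem equalizer_baseChange (hflat : a.hom.Flat) (hB : IsPushout a φ φ' b)
    (hC : IsPushout a (φ ≫ g) ψ' c) (hD : IsPushout a (φ ≫ g ≫ f₁) χ' d)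
    (hg1 : φ' ≫ g' = ψ') (hg2 : b ≫ g' = g ≫ c) (hfw : g ≫ f₁ = g ≫ f₂)
    (h11 : ψ' ≫ f₁' = χ') (h12 : c ≫ f₁' = f₁ ≫ d) (h21 : ψ' ≫ f₂' = χ') (h22 : c ≫ f₂' = f₂ ≫ d)
    (hinj : Function.Injective g.hom)
    (heq : ∀ x, f₁.hom x = f₂.hom x → ∃ y, g.hom y = x) :
    Function.Injective g'.hom ∧ ∀ x, f₁'.hom x = f₂'.hom x → ∃ y, g'.hom y = x := by
  algebraize [a.hom, φ.hom, (φ ≫ g).hom, (φ ≫ g ≫ f₁).hom]
  let gA : B →ₐ[A] C := ⟨g.hom, fun _ => rfl⟩
  let fA₁ : C →ₐ[A] D := ⟨f₁.hom, fun _ => rfl⟩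
  let fA₂ : C →ₐ[A] D := ⟨f₂.hom, fun r => congr(($hfw).hom (φ.hom r)).symm⟩
  letI : Algebra A B' := (a ≫ φ').hom.toAlgebra
  letI : Algebra A C' := (a ≫ ψ').hom.toAlgebra
  letI : Algebra A D' := (a ≫ χ').hom.toAlgebra
  let eB : A' ⊗[A] B →+* B' := (Algebra.TensorProduct.lift
    (⟨φ'.hom, fun _ => rfl⟩ : A' →ₐ[A] B')
    (⟨b.hom, fun r => congr(($(hB.w)).hom r).symm⟩ : B →ₐ[A] B')
    (fun _ _ => Commute.all _ _)).toRingHom
  let eC : A' ⊗[A] C →+* C' := (Algebra.TensorProduct.lift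
    (⟨ψ'.hom, fun _ => rfl⟩ : A' →ₐ[A] C')
    (⟨c.hom, fun r => congr(($(hC.w)).hom r).symm⟩ : C →ₐ[A] C')
    (fun _ _ => Commute.all _ _)).toRingHom
  let eD : A' ⊗[A] D →+* D' := (Algebra.TensorProduct.lift
    (⟨χ'.hom, fun _ => rfl⟩ : A' →ₐ[A] D')
    (⟨d.hom, fun r => congr(($(hD.w)).hom r).symm⟩ : D →ₐ[A] D')
    (fun _ _ => Commute.all _ _)).toRingHom
  have bB : Function.Bijective eB :=
    tensor_bijective hB eB (fun x => by simp [eB]) fun y => by simp [eB]
  have bC : Function.Bijective eC :=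
    tensor_bijective hC eC (fun x => by simp [eC]) fun y => by simp [eC]
  have bD : Function.Bijective eD :=
    tensor_bijective hD eD (fun x => by simp [eD]) fun y => by simp [eD]
  have nat_g : ∀ z, g'.hom (eB z) = eC (gA.toLinearMap.lTensor A' z) := fun z => by
    induction z using TensorProduct.induction_on with
    | zero => simp
    | tmul x y =>
      simp only [eB, eC, AlgHom.toRingHom_eq_coe, RingHom.coe_coe, LinearMap.lTensor_tmul,
        Algebra.TensorProduct.lift_tmul, AlgHom.coe_mk, AlgHom.toLinearMap_apply, gA, map_mul]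
      exact congrArg₂ (· * ·) congr(($hg1).hom x) congr(($hg2).hom y)
    | add x y hx hy => simp only [map_add, hx, hy]
  have nat₁ : ∀ z, f₁'.hom (eC z) = eD (fA₁.toLinearMap.lTensor A' z) := fun z => by
    induction z using TensorProduct.induction_on with
    | zero => simp
    | tmul x y =>
      simp only [eC, eD, AlgHom.toRingHom_eq_coe, RingHom.coe_coe, LinearMap.lTensor_tmul,
        Algebra.TensorProduct.lift_tmul, AlgHom.coe_mk, AlgHom.toLinearMap_apply, fA₁, map_mul]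
      exact congrArg₂ (· * ·) congr(($h11).hom x) congr(($h12).hom y)
    | add x y hx hy => simp only [map_add, hx, hy]
  have nat₂ : ∀ z, f₂'.hom (eC z) = eD (fA₂.toLinearMap.lTensor A' z) := fun z => by
    induction z using TensorProduct.induction_on with
    | zero => simp
    | tmul x y =>
      simp only [eC, eD, AlgHom.toRingHom_eq_coe, RingHom.coe_coe, LinearMap.lTensor_tmul,
        Algebra.TensorProduct.lift_tmul, AlgHom.coe_mk, AlgHom.toLinearMap_apply, fA₂, map_mul]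
      exact congrArg₂ (· * ·) congr(($h21).hom x) congr(($h22).hom y)
    | add x y hx hy => simp only [map_add, hx, hy]
  have : Module.Flat A A' := hflat
  have hex : Function.Exact gA.toLinearMap (fA₁.toLinearMap - fA₂.toLinearMap) := fun x => by
    constructor
    · intro h
      exact heq x (sub_eq_zero.1 h)
    · rintro ⟨y, rfl⟩
      exact sub_eq_zero.2 congr(($hfw).hom y)
  refine ⟨fun y₁ y₂ h => ?_, fun x hx => ?_⟩
  · obtain ⟨z₁, rfl⟩ := bB.surjective y₁
    obtain ⟨z₂, rfl⟩ := bB.surjective y₂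
    rw [nat_g, nat_g] at h
    exact congrArg eB
      (Module.Flat.lTensor_preserves_injective_linearMap gA.toLinearMap hinj (bC.injective h))
  · obtain ⟨z, rfl⟩ := bC.surjective x
    rw [nat₁, nat₂] at hx
    have h0 : (fA₁.toLinearMap - fA₂.toLinearMap).lTensor A' z = 0 := by
      rw [LinearMap.lTensor_sub, LinearMap.sub_apply, bD.injective hx, sub_self]
    obtain ⟨w, hw⟩ := (Module.Flat.lTensor_exact A' hex z).1 h0
    exact ⟨eB w, by rw [nat_g, hw]⟩

end Ring

namespace IsAffHull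

variable {t s : R ⟶ U} {γ : U ⟶ H}

/-- The affine hull commutes with flat affine base change. -/
theorem baseChange (h : IsAffHull t s γ) [IsAffine R] [IsAffine U] [IsAffine H]
    {T T' R' U' H' : Scheme.{u}} [IsAffine T] [IsAffine T'] {p : H ⟶ T} {c : T' ⟶ T} [Flat c]
    {hH : H' ⟶ H} {q : H' ⟶ T'} {aU : U' ⟶ U} {γ' : U' ⟶ H'} {aR : R' ⟶ R} {t' s' : R' ⟶ U'}
    (sqH : IsPullback hH q p c) (sqU : IsPullback aU γ' γ hH) (sqR : IsPullback aR t' t aU)
    (ws : aR ≫ s = s' ≫ aU) (w' : t' ≫ γ' = s' ≫ γ') : IsAffHull t' s' γ' := by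
  have sqU' := sqU.paste_vert sqH
  have sqR' := sqR.paste_vert sqU'
  have hflat : c.appTop.hom.Flat := HasRingHomProperty.appTop @Flat c inferInstance
  have res := equalizer_baseChange (f₁ := t.appTop) (f₂ := s.appTop) (g' := γ'.appTop)
    (f₁' := t'.appTop) (f₂' := s'.appTop) (g := γ.appTop) (φ := p.appTop) hflat
    (φ' := q.appTop) (b := hH.appTop) (ψ' := (γ' ≫ q).appTop) (c := aU.appTop)
    (χ' := (t' ≫ γ' ≫ q).appTop) (d := aR.appTop)
    (isPushout_appTop_of_isPullback sqH).flip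
    (by rw [← Scheme.Hom.comp_appTop]; exact (isPushout_appTop_of_isPullback sqU').flip)
    (by rw [← Scheme.Hom.comp_appTop, ← Scheme.Hom.comp_appTop, Category.assoc]
        exact (isPushout_appTop_of_isPullback sqR').flip)
    (by rw [← Scheme.Hom.comp_appTop])
    (by rw [← Scheme.Hom.comp_appTop, ← Scheme.Hom.comp_appTop, sqU.w])
    (by rw [← Scheme.Hom.comp_appTop, ← Scheme.Hom.comp_appTop, h.w])
    (by rw [← Scheme.Hom.comp_appTop])
    (by rw [← Scheme.Hom.comp_appTop, ← Scheme.Hom.comp_appTop, sqR.w])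
    (by rw [← Scheme.Hom.comp_appTop, ← Category.assoc, ← w', Category.assoc])
    (by rw [← Scheme.Hom.comp_appTop, ← Scheme.Hom.comp_appTop, ws])
    h.injective h.exists_eq
  exact ⟨w', res.1, res.2⟩

/-- The affine hull restricts to the part where an idempotent is a unit. -/
theorem restrict (h : IsAffHull t s γ) [IsAffine R] [IsAffine U] [IsAffine H] {η : Γ(H, ⊤)}
    (hη : IsIdempotentElem η) {R₁ : Scheme.{u}} {t₁ s₁ : R₁ ⟶ (γ ⁻¹ᵁ H.basicOpen η).toScheme}
    {iR : R₁ ⟶ R} [IsOpenImmersion iR]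
    (hr : Set.range iR = ((t ≫ γ) ⁻¹ᵁ H.basicOpen η : Set ↥R))
    (ht : t₁ ≫ (γ ⁻¹ᵁ H.basicOpen η).ι = iR ≫ t) (hs : s₁ ≫ (γ ⁻¹ᵁ H.basicOpen η).ι = iR ≫ s) :
    IsAffHull t₁ s₁ (γ ∣_ H.basicOpen η) := by
  let O := H.basicOpen η
  let W := γ ⁻¹ᵁ O
  let ε : Γ(U, ⊤) := γ.appTop.hom η
  have hε : IsIdempotentElem ε := hη.map γ.appTop.hom
  have hW : W = U.basicOpen ε := Scheme.preimage_basicOpen_top γ η
  have one_of : ∀ {Z : Scheme.{u}} (P : Z.Opens) (z : Γ(Z, ⊤)), P = Z.basicOpen z →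
      IsIdempotentElem z → (Grpd80.resTop P).hom z = 1 := fun P z hP hz =>
    (IsIdempotentElem.iff_eq_one_of_isUnit (Grpd80.isUnit_resTop z hP)).1
      (hz.map (Grpd80.resTop P).hom)
  have surj : ∀ {Z : Scheme.{u}} [IsAffine Z] (P : Z.Opens) (z : Γ(Z, ⊤)), P = Z.basicOpen z →
      IsIdempotentElem z → ∀ y : Γ(Z, P), ∃ x, (Grpd80.resTop P).hom x = y := fun P z hP hz y => by
    obtain ⟨x, k, hx⟩ := Grpd80.exists_mul_pow_eq_res z hP y
    exact ⟨x, by rw [← hx, one_of P z hP hz, one_pow, mul_one]⟩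
  have ker : ∀ {Z : Scheme.{u}} [IsAffine Z] (P : Z.Opens) (z : Γ(Z, ⊤)), P = Z.basicOpen z →
      IsIdempotentElem z → ∀ x, (Grpd80.resTop P).hom x = 0 → z * x = 0 := fun P z hP hz x hx => by
    obtain ⟨k, hk⟩ := Grpd80.exists_pow_mul_eq_zero z hP x hx
    rcases k with _ | k
    · rw [pow_zero, one_mul] at hk; rw [hk, mul_zero]
    · rwa [hz.pow_succ_eq k] at hk
  have eTop : ∀ {Z : Scheme.{u}} (P : Z.Opens) (x : Γ(Z, ⊤)),
      P.ι.appTop.hom x = P.topIso.inv.hom ((Grpd80.resTop P).hom x) := fun {Z} P x => by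
    have e : P.ι.appTop = Grpd80.resTop P ≫ P.topIso.inv := by
      rw [Scheme.Opens.ι_appTop, Scheme.Opens.topIso_inv]
      erw [← Functor.map_comp]
      rfl
    exact congr(($e).hom x)
  have eU := eTop W
  have eH := eTop O
  have surjU : Function.Surjective W.ι.appTop.hom := fun y => by
    obtain ⟨x, hx⟩ := surj W ε hW hε (W.topIso.hom.hom y)
    exact ⟨x, by rw [eU, hx, Iso.hom_inv_id_apply]⟩
  have surjH : Function.Surjective O.ι.appTop.hom := fun y => by
    obtain ⟨x, hx⟩ := surj O η rfl hη (O.topIso.hom.hom y)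
    exact ⟨x, by rw [eH, hx, Iso.hom_inv_id_apply]⟩
  have kerU : ∀ x, W.ι.appTop.hom x = 0 → ε * x = 0 := fun x hx => by
    refine ker W ε hW hε x ?_
    rw [eU] at hx
    rw [← Iso.inv_hom_id_apply W.topIso ((Grpd80.resTop W).hom x), hx, map_zero]
  have unitH : ∀ y, O.ι.appTop.hom (η * y) = O.ι.appTop.hom y := fun y => by
    rw [map_mul, eH η, one_of O η rfl hη, map_one, one_mul]
  have unitU : ∀ x, W.ι.appTop.hom (ε * x) = W.ι.appTop.hom x := fun x => by
    rw [map_mul, eU ε, one_of W ε hW hε, map_one, one_mul]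
  have nat : ∀ y, W.ι.appTop.hom (γ.appTop.hom y) = (γ ∣_ O).appTop.hom (O.ι.appTop.hom y) :=
    fun y => congr(($(congrArg Scheme.Hom.appTop (morphismRestrict_ι γ O).symm)).hom y)
  refine ⟨?_, fun y₁ y₂ e => ?_, fun x hx => ?_⟩
  · rw [← cancel_mono O.ι, Category.assoc, Category.assoc, morphismRestrict_ι,
      reassoc_of% ht, reassoc_of% hs, h.w]
  · obtain ⟨z₁, rfl⟩ := surjH y₁
    obtain ⟨z₂, rfl⟩ := surjH y₂
    rw [← nat, ← nat, ← sub_eq_zero, ← map_sub, ← map_sub] at e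
    have h1 := kerU _ e
    rw [← map_mul] at h1
    have h2 := h.injective (h1.trans (map_zero _).symm)
    rw [← unitH z₁, ← unitH z₂, ← sub_eq_zero, ← map_sub, ← mul_sub, h2, map_zero]
  · obtain ⟨z, rfl⟩ := surjU x
    have hx' : iR.appTop.hom (t.appTop.hom z - s.appTop.hom z) = 0 := by
      rw [map_sub, sub_eq_zero]
      exact (congr(($(congrArg Scheme.Hom.appTop ht)).hom z)).symm.trans
        (hx.trans congr(($(congrArg Scheme.Hom.appTop hs)).hom z))
    let P := (t ≫ γ) ⁻¹ᵁ O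
    let εR : Γ(R, ⊤) := (t ≫ γ).appTop.hom η
    have hP : P = R.basicOpen εR := Scheme.preimage_basicOpen_top (t ≫ γ) η
    let e := IsOpenImmersion.isoOfRangeEq P.ι iR (by rw [Scheme.Opens.range_ι]; exact hr.symm)
    have he : e.hom ≫ iR = P.ι := IsOpenImmersion.isoOfRangeEq_hom_fac _ _ _
    have hres : (Grpd80.resTop P).hom (t.appTop.hom z - s.appTop.hom z) = 0 := by
      have h0 : P.ι.appTop.hom (t.appTop.hom z - s.appTop.hom z) = 0 := by
        rw [← he, Scheme.Hom.comp_appTop, CommRingCat.comp_apply, hx', map_zero]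
      rw [eTop P] at h0
      rw [← Iso.inv_hom_id_apply P.topIso ((Grpd80.resTop P).hom _), h0, map_zero]
    have h0 := ker P εR hP (hη.map _) _ hres
    have hts : εR = t.appTop.hom ε := rfl
    have hts' : εR = s.appTop.hom ε := by
      change (t ≫ γ).appTop.hom η = _
      rw [h.w]; rfl
    obtain ⟨y, hy⟩ := h.exists_eq (ε * z) (by
      rw [map_mul, map_mul, ← hts, ← hts', ← sub_eq_zero, ← mul_sub, h0])
    exact ⟨O.ι.appTop.hom y, by rw [← nat, hy, unitU]⟩

end IsAffHull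

end Groth.Agent.SpPts86
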