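import Groth.Agent.SpPts86.DescLimit
import Groth.Agent.SpPts86.Separation
import Groth.Agent.SpPts86.Graph
import Groth.Agent.SpPts86.Subspace

/-!
The diagonal of a base change to a stage of a limit.
-/

universe u

set_option autoImplicit false
set_option backward.isDefEq.respectTransparency false

open CategoryTheory CategoryTheory.Limits AlgebraicGeometry
open AlgSp Groth.Agent.SpFP87

namespace Groth.Agent.SpPts86

variable {S : Scheme.{u}} {X₀ Y₀ B₀ B' X' Y' : Sp S} {f₀ : X₀ ⟶ Y₀} {b₀ : Y₀ ⟶ B₀}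

theorem exists_stage_diagonal {β : B' ⟶ B₀} {pY' : Y' ⟶ Y₀} {qY' : Y' ⟶ B'} (hY' : IsPullback pY' qY' b₀ β)
    {pX' : X' ⟶ X₀} {f' : X' ⟶ Y'} (hX' : IsPullback pX' f' f₀ pY') :
    ∃ m : pullback f' f' ⟶ pullback f₀ f₀,
      IsPullback m (pullback.fst f' f' ≫ f' ≫ qY') (pullback.fst f₀ f₀ ≫ f₀ ≫ b₀) β ∧
      IsPullback pX' (pullback.diagonal f') (pullback.diagonal f₀) m := by
  let m := pullback.map f' f' f₀ f₀ pX' pX' pY' hX'.w.symm hX'.w.symm
  refine ⟨m, ?_, isPullback_diagonal_baseChange hX'⟩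
  have hs : m ≫ pullback.snd f₀ f₀ = pullback.snd f' f' ≫ pX' := pullback.lift_snd _ _ _
  have hf : m ≫ pullback.fst f₀ f₀ = pullback.fst f' f' ≫ pX' := pullback.lift_fst _ _ _
  have h1 : IsPullback m (pullback.fst f' f') (pullback.fst f₀ f₀) pX' := by
    refine IsPullback.of_right ?_ hf (IsPullback.of_hasPullback f₀ f₀).flip
    rw [hs, hX'.w]
    exact (IsPullback.of_hasPullback f' f').flip.paste_horiz hX'
  exact h1.paste_vert (hX'.paste_vert hY')

theorem qc_pullback_self [QuasiSeparatedSpace ↥S] (hX : IsAlgSpace X₀) (hY : IsAlgSpace Y₀)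
    (hXqc : IsQuasiCompactSp X₀) (hXqs : IsQuasiSeparatedSp X₀) (hYqs : IsQuasiSeparatedSp Y₀) :
    IsQuasiCompactSp (pullback f₀ f₀) ∧ IsQuasiSeparatedSp (pullback f₀ f₀) := by
  haveI := (isQuasiCompactSp_iff_compactSpace hX).1 hXqc
  refine ⟨isQuasiCompactMor_of_qc_qs hX hY hYqs hX hXqc f₀ _ _ (IsPullback.of_hasPullback f₀ f₀).flip, ?_⟩
  exact repWith_diag_of_isPullback (Q := @QuasiCompact) (IsPullback.of_hasPullback f₀ f₀) hXqs hXqs

theorem repWith_diagonal_props (hX : IsAlgSpace X₀) (f₀ : X₀ ⟶ Y₀) :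
    RepWith @LocallyOfFiniteType (pullback.diagonal f₀) ∧ RepWith @QuasiSeparated (pullback.diagonal f₀) :=
  ⟨repWith_mono diagLike_le_lft (repWith_diagLike_diagonal hX f₀),
    repWith_mono (fun _ _ f h => have := diagLike_le_separated f h; (inferInstance : QuasiSeparated f))
      (repWith_diagLike_diagonal hX f₀)⟩

end Groth.Agent.SpPts86
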