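import Groth.Agent.SpPts86.LimAffine
import Groth.Agent.SpPts86.QCQS
import Groth.Agent.SpPts86.Target
import Groth.Agent.SpFP87.LocPRep
import Groth.Agent.LimDesc62.Basic

/-!
Descending properties of morphisms of algebraic spaces to a stage of a limit: the stage charts.
-/

universe u

set_option autoImplicit false
set_option backward.isDefEq.respectTransparency false
set_option linter.style.haveILetI false

open CategoryTheory CategoryTheory.Limits AlgebraicGeometry
open AlgSp Groth.Agent.SpFP87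

namespace Groth.Agent.SpPts86

variable {S : Scheme.{u}} {X₀ Y₀ B₀ B' X' Y' : Sp S} {f₀ : X₀ ⟶ Y₀} {b₀ : Y₀ ⟶ B₀}
  {U₀ V₀ W : Over S} {h : U₀ ⟶ V₀} {p : (yon S).obj V₀ ⟶ Y₀}

theorem isPullback_left_pullback {A B C : Over S} (f : A ⟶ C) (g : B ⟶ C) :
    IsPullback (pullback.fst f g).left (pullback.snd f g).left f.left g.left :=
  (IsPullback.of_hasPullback f g).map (Over.forget S)

/-- The chart of a base change of the target induced by a chart of the target. -/
theorem exists_stage_target {β : B' ⟶ B₀} {pY' : Y' ⟶ Y₀} {qY' : Y' ⟶ B'} (hY' : IsPullback pY' qY' b₀ β)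
    {wW : W ⟶ V₀} {fW : (yon S).obj W ⟶ B'} (sqW : IsPullback fW ((yon S).map wW) β (p ≫ b₀))
    (hpe : RepWith @Etale p) (hps : RepWith @Surjective p) :
    ∃ p' : (yon S).obj W ⟶ Y', RepWith @Etale p' ∧ RepWith @Surjective p' ∧
      IsPullback p' ((yon S).map wW) pY' p := by
  let p' := hY'.lift ((yon S).map wW ≫ p) fW (by rw [Category.assoc, sqW.w])
  have h1 : p' ≫ pY' = (yon S).map wW ≫ p := hY'.lift_fst _ _ _
  have h2 : p' ≫ qY' = fW := hY'.lift_snd _ _ _
  have sq : IsPullback p' ((yon S).map wW) pY' p :=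
    IsPullback.of_right (h2.symm ▸ sqW) h1 hY'.flip
  exact ⟨p', (repWith_isStableUnderBaseChange _).of_isPullback sq.flip hpe,
    (repWith_isStableUnderBaseChange _).of_isPullback sq.flip hps, sq⟩

/-- The chart of a base change of the source induced by a chart of the source. -/
theorem exists_stage_source {pY' : Y' ⟶ Y₀} {pX' : X' ⟶ X₀} {f' : X' ⟶ Y'} (hX' : IsPullback pX' f' f₀ pY')
    {wW : W ⟶ V₀} {p' : (yon S).obj W ⟶ Y'} (sq : IsPullback p' ((yon S).map wW) pY' p)
    {a : (yon S).obj U₀ ⟶ X₀} (hae : RepWith @Etale a) (has : RepWith @Surjective a)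
    (w : a ≫ f₀ = (yon S).map h ≫ p) :
    ∃ a' : (yon S).obj (pullback h wW) ⟶ X',
      RepWith @Etale a' ∧ RepWith @Surjective a' ∧
      a' ≫ f' = (yon S).map (pullback.snd h wW) ≫ p' ∧
      IsPullback ((yon S).map (pullback.fst h wW)) a' a pX' := by
  have hT : IsPullback ((yon S).map (pullback.fst h wW)) ((yon S).map (pullback.snd h wW) ≫ p')
      (a ≫ f₀) pY' := by
    rw [w]
    exact ((IsPullback.of_hasPullback h wW).map (yon S)).paste_vert sq.flip
  let a' := hX'.lift ((yon S).map (pullback.fst h wW) ≫ a) ((yon S).map (pullback.snd h wW) ≫ p')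
    (by rw [Category.assoc, hT.w])
  have h1 : a' ≫ pX' = (yon S).map (pullback.fst h wW) ≫ a := hX'.lift_fst _ _ _
  have h2 : a' ≫ f' = (yon S).map (pullback.snd h wW) ≫ p' := hX'.lift_snd _ _ _
  have sqa : IsPullback ((yon S).map (pullback.fst h wW)) a' a pX' :=
    IsPullback.of_bot (h2.symm ▸ hT) h1.symm hX'
  exact ⟨a', (repWith_isStableUnderBaseChange _).of_isPullback sqa hae,
    (repWith_isStableUnderBaseChange _).of_isPullback sqa has, h2, sqa⟩

/-- A cartesian chart of a morphism pulls back to a cartesian chart. -/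
theorem isPullback_stage {pY' : Y' ⟶ Y₀} {pX' : X' ⟶ X₀} {f' : X' ⟶ Y'} (hX' : IsPullback pX' f' f₀ pY')
    {wW : W ⟶ V₀} {p' : (yon S).obj W ⟶ Y'} (sq : IsPullback p' ((yon S).map wW) pY' p)
    {a : (yon S).obj U₀ ⟶ X₀} (hcart : IsPullback a ((yon S).map h) f₀ p)
    {a' : (yon S).obj (pullback h wW) ⟶ X'} (h2 : a' ≫ f' = (yon S).map (pullback.snd h wW) ≫ p')
    (sqa : IsPullback ((yon S).map (pullback.fst h wW)) a' a pX') :
    IsPullback a' ((yon S).map (pullback.snd h wW)) f' p' := by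
  refine IsPullback.of_right (h₁₂ := pX') (h₂₂ := pY') (v₁₃ := f₀) ?_ h2 hX'
  rw [← sqa.w, sq.w]
  exact ((IsPullback.of_hasPullback h wW).map (yon S)).paste_horiz hcart

/-- Surjectivity of a base change read on the chart. -/
theorem surjective_stage {pY' : Y' ⟶ Y₀} {pX' : X' ⟶ X₀} {f' : X' ⟶ Y'} (hX' : IsPullback pX' f' f₀ pY')
    {wW : W ⟶ V₀} {p' : (yon S).obj W ⟶ Y'} (sq : IsPullback p' ((yon S).map wW) pY' p)
    (hm : ∀ (x₀ : Points X₀) (v : ↥V₀.left), Points.map f₀ x₀ = Points.ofPt p v → v ∈ Set.range h.left)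
    (hf : IsSurjectiveMor f') : Surjective (pullback.snd h wW).left := by
  refine ⟨fun w => ?_⟩
  obtain ⟨x, hx⟩ := hf (Points.ofPt p' w)
  obtain ⟨u, hu⟩ := hm (Points.map pX' x) (wW.left w) (by
    rw [← Points.map_comp, hX'.w, Points.map_comp, hx, Points.map_ofPt, sq.w, ofPt_comp])
  obtain ⟨z, -, hz⟩ := Scheme.exists_preimage_of_isPullback (isPullback_left_pullback h wW) u w hu
  exact ⟨z, hz⟩

theorem isSurjectiveMor_of_chart_surjective {f' : X' ⟶ Y'} {T : Over S} {s : T ⟶ W}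
    {a' : (yon S).obj T ⟶ X'} {p' : (yon S).obj W ⟶ Y'} (hps : RepWith @Surjective p')
    (w : a' ≫ f' = (yon S).map s ≫ p') (hs : Surjective s.left) : IsSurjectiveMor f' := fun y => by
  obtain ⟨v, rfl⟩ := surjective_ofPt hps y
  obtain ⟨t, rfl⟩ := s.left.surjective v
  exact ⟨Points.ofPt a' t, by rw [Points.map_ofPt, w, ofPt_comp]⟩

/-- Compatible affine charts with the source chart filling the fibre over the target chart. -/
theorem exists_chart_data [QuasiSeparatedSpace ↥S] (hX : IsAlgSpace X₀) (hY : IsAlgSpace Y₀)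
    (hXqc : IsQuasiCompactSp X₀) (hYqc : IsQuasiCompactSp Y₀) (hYqs : IsQuasiSeparatedSp Y₀) (f₀ : X₀ ⟶ Y₀) :
    ∃ (V₀ U₀ : Over S) (p : (yon S).obj V₀ ⟶ Y₀) (a : (yon S).obj U₀ ⟶ X₀) (h : U₀ ⟶ V₀),
      IsAffine V₀.left ∧ IsAffine U₀.left ∧ RepWith @Etale p ∧ RepWith @Surjective p ∧
      RepWith @Etale a ∧ RepWith @Surjective a ∧ a ≫ f₀ = (yon S).map h ≫ p ∧
      ∀ (x₀ : Points X₀) (v : ↥V₀.left), Points.map f₀ x₀ = Points.ofPt p v → v ∈ Set.range h.left := by
  haveI := (isQuasiCompactSp_iff_compactSpace hY).1 hYqc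
  obtain ⟨V₀, p, hV, hpe, hps⟩ := exists_affine_chart_of_compactSpace hY
  haveI : CompactSpace ↥V₀.left := by haveI := hV; infer_instance
  haveI := compactSpace_points_yon V₀
  have hpqc : IsQuasiCompactMor p := isQuasiCompactMor_of_qc_qs (IsAlgSpace.yon_obj V₀) hY hYqs
  have sq0 := IsPullback.of_hasPullback f₀ p
  have hPc : IsQuasiCompactSp (pullback f₀ p) := hpqc hX hXqc f₀ _ _ sq0.flip
  have hP := isAlgSpace_pullback f₀ p hX (IsAlgSpace.yon_obj V₀) hY
  haveI := (isQuasiCompactSp_iff_compactSpace hP).1 hPc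
  obtain ⟨U₀, m, hU, hme, hms⟩ := exists_affine_chart_of_compactSpace hP
  obtain ⟨h, hh⟩ := (yon S).map_surjective (m ≫ pullback.snd f₀ p)
  refine ⟨V₀, U₀, p, m ≫ pullback.fst f₀ p, h, hV, hU, hpe, hps,
    MorphismProperty.comp_mem _ _ _ hme ((repWith_isStableUnderBaseChange _).of_isPullback sq0.flip hpe),
    MorphismProperty.comp_mem _ _ _ hms ((repWith_isStableUnderBaseChange _).of_isPullback sq0.flip hps),
    by rw [Category.assoc, pullback.condition, hh, Category.assoc], fun x₀ v e => ?_⟩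
  obtain ⟨z, -, hz⟩ := exists_of_isPullback sq0 x₀ (Points.ofScheme V₀ v)
    (by rw [e, Points.ofPt_eq_map_ofScheme])
  obtain ⟨u, rfl⟩ := surjective_ofPt hms z
  refine ⟨u, ?_⟩
  rw [Points.map_ofPt, ← hh] at hz
  apply (Points.schemeEquiv V₀).injective
  exact (ofPt_yon_map h u).symm.trans hz

end Groth.Agent.SpPts86
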