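import Groth.Agent.SpPts86.RefinedValCrit
import Groth.Agent.SpVal61.Test
import Groth.Agent.SpPts86.DecentFib
import Groth.Agent.E4O.DvrDom
import Groth.Agent.LimTop61.DvrDense

/-!
Lifts over discrete valuation rings give lifts over all valuation rings after an extension.
-/

universe u

set_option autoImplicit false
set_option backward.isDefEq.respectTransparency false
set_option linter.style.haveILetI false

open CategoryTheory CategoryTheory.Limits AlgebraicGeometry Topology IsLocalRing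
open AlgSp Groth.Agent.SpFP87

namespace Groth.Agent.SpPts86

variable {S : Scheme.{u}} {U X Y : Sp S}

theorem exists_ringHom_isoSpec {V : Scheme.{u}} [IsAffine V] {R : CommRingCat.{u}} (g : Spec R ⟶ V) :
    ∃ γ : Γ(V, ⊤) ⟶ R, g = Spec.map γ ≫ V.isoSpec.inv := by
  obtain ⟨γ, hγ⟩ := Spec.map_surjective (g ≫ V.isoSpec.hom)
  exact ⟨γ, by rw [hγ, Category.assoc, Iso.hom_inv_id, Category.comp_id]⟩

theorem ringHom_ext_isoSpec {V : Scheme.{u}} [IsAffine V] {R : CommRingCat.{u}} {γ γ' : Γ(V, ⊤) ⟶ R}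
    (h : Spec.map γ ≫ V.isoSpec.inv = Spec.map γ' ≫ V.isoSpec.inv) : γ = γ' := by
  rwa [cancel_mono, Spec.map_inj] at h

theorem spec_ext_of_injective {V : Scheme.{u}} [IsAffine V] {R L : CommRingCat.{u}} (ι : R ⟶ L)
    (hι : Function.Injective ι.hom) {a b : Spec R ⟶ V} (h : Spec.map ι ≫ a = Spec.map ι ≫ b) : a = b := by
  obtain ⟨α, rfl⟩ := exists_ringHom_isoSpec a
  obtain ⟨β, rfl⟩ := exists_ringHom_isoSpec b
  rw [← Spec.map_comp_assoc, ← Spec.map_comp_assoc] at h
  have h' := ringHom_ext_isoSpec h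
  congr 2
  ext z
  exact hι (congrArg (fun m : Γ(V, ⊤) ⟶ L => m.hom z) h')

theorem exists_valuation_at_specializes {R : Scheme.{u}} {Ω : Type u} [Field Ω]
    (g : Spec (CommRingCat.of Ω) ⟶ R) (r : R) (h : g (IsLocalRing.closedPoint Ω) ⤳ r) :
    ∃ (W : ValuationSubring Ω) (l : Spec (CommRingCat.of W) ⟶ R),
      l (IsLocalRing.closedPoint W) = r ∧ Spec.map (CommRingCat.ofHom (algebraMap W Ω)) ≫ l = g := by
  let f₀ : R.presheaf.stalk r ⟶ CommRingCat.of Ω :=
    R.presheaf.stalkSpecializes h ≫ Scheme.stalkClosedPointTo g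
  obtain ⟨W, hW, hWloc⟩ := exists_factor_valuationRing f₀.hom
  let st : R.presheaf.stalk r ⟶ CommRingCat.of W := CommRingCat.ofHom (f₀.hom.codRestrict _ hW)
  have hst : st ≫ CommRingCat.ofHom (algebraMap W Ω) = f₀ := rfl
  refine ⟨W, Spec.map st ≫ R.fromSpecStalk r, ?_, ?_⟩
  · show R.fromSpecStalk r (Spec.map st (IsLocalRing.closedPoint W)) = r
    rw [show Spec.map st (IsLocalRing.closedPoint W) = IsLocalRing.closedPoint (R.presheaf.stalk r) from
      @IsLocalRing.comap_closedPoint _ _ _ _ _ _ _ hWloc]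
    exact Scheme.fromSpecStalk_closedPoint
  · rw [← Spec.map_comp_assoc, hst, Spec.map_comp, Category.assoc,
      Scheme.SpecMap_stalkSpecializes_fromSpecStalk, Scheme.Spec_stalkClosedPointTo_fromSpecStalk]

/-- The sections of a finite etale scheme over an algebraically closed field. -/
theorem exists_sections {Ω : Type u} [Field Ω] [IsAlgClosed Ω] {R : Scheme.{u}}
    (s : R ⟶ Spec (CommRingCat.of Ω)) [Etale s] [QuasiCompact s] :
    Finite R ∧ ∀ w : R, ∃ g : Spec (CommRingCat.of Ω) ⟶ R,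
      g ≫ s = 𝟙 _ ∧ g (IsLocalRing.closedPoint Ω) = w := by
  have := SpFP87.etale_locallyQuasiFinite s ‹_›
  have : IsLocallyArtinian (Spec (CommRingCat.of Ω)) := inferInstance
  have : IsLocallyArtinian R := .of_locallyQuasiFinite s
  have : CompactSpace R := QuasiCompact.compactSpace_of_compactSpace s
  refine ⟨finite_of_compact_of_discrete, fun w => ?_⟩
  obtain ⟨ψ, hψ⟩ := Spec.map_surjective (R.fromSpecResidueField w ≫ s)
  letI := ψ.hom.toAlgebra
  have hfs := SpVal61.finite_separable_of_etale s w ψ hψ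
  haveI : Module.Finite Ω (R.residueField w) := hfs.1
  have hb : Function.Bijective ψ.hom :=
    IsAlgClosed.algebraMap_bijective_of_isIntegral (k := Ω) (K := R.residueField w)
  let e := RingEquiv.ofBijective ψ.hom hb
  refine ⟨Spec.map (CommRingCat.ofHom e.symm.toRingHom) ≫ R.fromSpecResidueField w, ?_, ?_⟩
  · rw [Category.assoc, ← hψ, ← Spec.map_comp,
      show ψ ≫ CommRingCat.ofHom e.symm.toRingHom = 𝟙 _ from
        CommRingCat.hom_ext (RingHom.ext fun z => e.symm_apply_apply z), Spec.map_id]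
  · rw [Scheme.Hom.comp_apply]
    exact Scheme.fromSpecResidueField_apply _ _

theorem fg_of_range {R C K : Type u} [CommRing R] [CommRing C] [Algebra R C] [Algebra.FiniteType R C]
    [Field K] (φ : C →+* K) (L : Subfield K) (hL : ∀ r, φ (algebraMap R C r) ∈ L) (s : Set K)
    (hs : s.Finite) (hgen : Subfield.closure (Set.range φ ∪ s) = ⊤) :
    (⊤ : IntermediateField L K).FG := by
  classical
  obtain ⟨G, hG⟩ := ‹Algebra.FiniteType R C›.out
  refine ⟨G.image φ ∪ hs.toFinset, ?_⟩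
  have h1 : ∀ c, φ c ∈ IntermediateField.adjoin L (↑(G.image φ ∪ hs.toFinset) : Set K) := by
    intro c
    have hc : c ∈ Algebra.adjoin R (↑G : Set C) := hG ▸ Algebra.mem_top
    induction hc using Algebra.adjoin_induction with
    | mem z hz => exact IntermediateField.subset_adjoin _ _ (by simp; exact Or.inl ⟨z, hz, rfl⟩)
    | algebraMap r => exact IntermediateField.algebraMap_mem _ (⟨_, hL r⟩ : L)
    | add a b _ _ ha hb => rw [map_add]; exact add_mem ha hb
    | mul a b _ _ ha hb => rw [map_mul]; exact mul_mem ha hb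
  refine IntermediateField.toSubfield_injective (eq_top_iff.2 ?_)
  rw [← hgen, Subfield.closure_le]
  rintro z (⟨c, rfl⟩ | hz)
  · exact h1 c
  · exact IntermediateField.subset_adjoin _ _ (by simp; exact Or.inr hz)

/-- Lifts over discrete valuation rings through `U` give lifts after an extension over all valuation
rings through `U`, over an affine Noetherian base. -/
theorem hasLiftExt_of_dvr (hU : IsAlgSpace U) (hX : IsAlgSpace X) {T : Over S} [IsAffine T.left]
    [IsLocallyNoetherian T.left] {f : X ⟶ (yon S).obj T} {h : U ⟶ X}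
    (hfq : IsQuasiCompactMor f) (hfqs : IsQuasiSeparatedMor f) (hfl : LocP @LocallyOfFiniteType f)
    (hhq : IsQuasiCompactMor h) (hhl : LocP @LocallyOfFiniteType h)
    (hval : ∀ sq : ValSq f, IsDiscreteValuationRing sq.A →
      (∃ t : (yon S).obj sq.ptK ⟶ U, t ≫ h = sq.top) → sq.HasLift)
    (q : ValSq f) (hq : ∃ t : (yon S).obj q.ptK ⟶ U, t ≫ h = q.top) : q.HasLiftExt := by
  classical
  obtain ⟨tU, htU⟩ := hq
  haveI : CompactSpace ↥T.left := inferInstance
  haveI := compactSpace_points_yon (S := S) T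
  haveI : CompactSpace (Points X) :=
    compactSpace_of_isQuasiCompactMor hfq (IsAlgSpace.yon_obj T) (IsPullback.id_horiz f)
  haveI : CompactSpace (Points U) := compactSpace_of_isQuasiCompactMor
    (isQuasiCompactMor_comp hX (IsAlgSpace.yon_obj T) hhq hfq) (IsAlgSpace.yon_obj T)
    (IsPullback.id_horiz (h ≫ f))
  obtain ⟨A₀, πU, hA₀, hπU, hπUs⟩ := exists_affine_chart_of_compactSpace hU
  obtain ⟨V', π, hV', hπ, hπs⟩ := exists_affine_chart_of_compactSpace hX
  haveI := hA₀
  haveI := hV'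
  -- the affine charts over the base
  obtain ⟨mA, hmA⟩ := (yon S).map_surjective (πU ≫ h ≫ f)
  obtain ⟨mV, hmV⟩ := (yon S).map_surjective (π ≫ f)
  haveI : LocallyOfFiniteType mA.left :=
    (locP_comp hU hX (IsAlgSpace.yon_obj T) hhl hfl) πU (𝟙 _) mA hπU (repWith_id _ _)
      (by rw [Category.comp_id, hmA])
  letI := mA.left.appTop.hom.toAlgebra
  haveI : Algebra.FiniteType Γ(T.left, ⊤) Γ(A₀.left, ⊤) :=
    ((HasRingHomProperty.iff_of_isAffine (P := @LocallyOfFiniteType)).1 ‹_› :)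
  haveI : IsNoetherianRing Γ(T.left, ⊤) :=
    IsLocallyNoetherian.component_noetherian ⟨⊤, isAffineOpen_top T.left⟩
  -- a geometric point of the chart of `U`
  obtain ⟨R₀, p₀, s₀, sq₀⟩ := exists_isPullback_yon hU.diag πU tU
  obtain ⟨ck, -⟩ : ∃ ck : ↥q.ptK.left, ck = IsLocalRing.closedPoint q.K := ⟨_, rfl⟩
  obtain ⟨a₀, ha₀⟩ := surjective_ofPt hπUs (Points.ofPt tU ck)
  obtain ⟨r₀, -, -⟩ := exists_pt_of_isPullback' sq₀ a₀ ck ha₀
  obtain ⟨ψ₁, hψ₁⟩ := Spec.map_surjective (R₀.left.fromSpecResidueField r₀ ≫ s₀.left)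
  let Ω := AlgebraicClosure (R₀.left.residueField r₀)
  let ι : R₀.left.residueField r₀ ⟶ CommRingCat.of Ω :=
    CommRingCat.ofHom (algebraMap (R₀.left.residueField r₀) Ω)
  let ψ : q.K →+* Ω := ι.hom.comp ψ₁.hom
  have hψ : Spec.map (CommRingCat.ofHom ψ) = Spec.map ι ≫ R₀.left.fromSpecResidueField r₀ ≫ s₀.left := by
    rw [← hψ₁, ← Spec.map_comp]
    rfl
  obtain ⟨V, hV, hVl⟩ := exists_factor_valuationRing (ψ.comp (algebraMap q.A q.K))
  let e : q.DomExt :=
    { A' := V, K' := Ω, φ := (ψ.comp (algebraMap q.A q.K)).codRestrict V.toSubring hV, ψ := ψ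
      comm := rfl, isLocalHom := hVl }
  let jV : e.ptK' ⟶ e.ptA' := Over.homMk (Spec.map (CommRingCat.ofHom (algebraMap V Ω))) rfl
  let cV : e.ptA' ⟶ q.ptA := Over.homMk (Spec.map (CommRingCat.ofHom e.φ)) rfl
  let σ : (yon S).obj e.ptK' ⟶ X := (yon S).map (domExtK e) ≫ q.top
  -- the point in the chart of `U`
  let g₀ : e.ptK' ⟶ R₀ := Over.homMk (Spec.map ι ≫ R₀.left.fromSpecResidueField r₀) (by
    refine Eq.trans ?_ (Over.w (domExtK e))
    show _ = Spec.map (CommRingCat.ofHom ψ) ≫ _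
    rw [hψ]
    simp only [Category.assoc]
    exact congrArg (fun z => Spec.map ι ≫ R₀.left.fromSpecResidueField r₀ ≫ z) (Over.w s₀).symm)
  have hg₀ : g₀ ≫ s₀ = domExtK e := Over.OverMorphism.ext
    (show (Spec.map ι ≫ _) ≫ _ = Spec.map _ by rw [Category.assoc]; exact hψ.symm)
  have hσU : (yon S).map (g₀ ≫ p₀) ≫ πU ≫ h = σ := by
    rw [Functor.map_comp, Category.assoc, reassoc_of% sq₀.w, htU, ← Category.assoc,
      ← Functor.map_comp, hg₀]
  obtain ⟨φ₀, hφ₀⟩ := exists_ringHom_isoSpec (R := CommRingCat.of Ω) (g₀ ≫ p₀).left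
  -- the base ring
  obtain ⟨b, hb⟩ := (yon S).map_surjective q.bot
  obtain ⟨γV, hγV⟩ := exists_ringHom_isoSpec (R := CommRingCat.of V) (cV ≫ b).left
  let σT : Γ(T.left, ⊤) ⟶ CommRingCat.of Ω := γV ≫ CommRingCat.ofHom (algebraMap V Ω)
  have hσf : σ ≫ f = (yon S).map (jV ≫ cV ≫ b) := by
    show ((yon S).map _ ≫ q.top) ≫ f = _
    rw [Category.assoc, q.comm, ← hb, ← Functor.map_comp, ← Functor.map_comp]
    congr 1
    refine Over.OverMorphism.ext ?_
    show Spec.map _ ≫ Spec.map _ ≫ b.left = Spec.map _ ≫ Spec.map _ ≫ b.left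
    rw [← Spec.map_comp_assoc, ← Spec.map_comp_assoc, ← CommRingCat.ofHom_comp, ← CommRingCat.ofHom_comp,
      e.comm]
  have hjl : (jV ≫ cV ≫ b).left = Spec.map σT ≫ T.left.isoSpec.inv := by
    rw [Over.comp_left, hγV, ← Category.assoc]
    exact congrArg (· ≫ T.left.isoSpec.inv) (Spec.map_comp _ _).symm
  have hσA : mA.left.appTop ≫ φ₀ = σT := by
    refine ringHom_ext_isoSpec ?_
    rw [← hjl, Spec.map_comp, Category.assoc,
      show Spec.map mA.left.appTop ≫ T.left.isoSpec.inv = A₀.left.isoSpec.inv ≫ mA.left from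
        Scheme.isoSpec_inv_naturality mA.left, ← Category.assoc, ← hφ₀, ← Over.comp_left]
    refine congrArg CommaMorphism.left ((yon S).map_injective ?_)
    rw [Functor.map_comp, hmA, ← hσf, ← hσU]
    simp only [Category.assoc]
  -- the finitely many lifts of the geometric point to the chart of `X`
  obtain ⟨R, pR, sR, sqR⟩ := exists_isPullback_yon hX.diag π σ
  haveI : Etale sR.left := etale_snd_of_isPullback sqR hπ
  have hπq : IsQuasiCompactMor π := by
    refine isQuasiCompactMor_cancel (IsAlgSpace.yon_obj V') hX (IsAlgSpace.yon_obj T) ?_ hfqs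
    rw [← hmV]
    exact isQuasiCompactMor_of_repWith (IsAlgSpace.yon_obj T) ((repWith_yon_map_iff _ _).2 inferInstance)
  haveI : QuasiCompact sR.left := by
    haveI : CompactSpace ↥e.ptK'.left := inferInstanceAs (CompactSpace (PrimeSpectrum Ω))
    haveI := compactSpace_points_yon (S := S) e.ptK'
    haveI : CompactSpace (Points ((yon S).obj R)) :=
      compactSpace_of_isQuasiCompactMor hπq (IsAlgSpace.yon_obj e.ptK') sqR
    haveI : CompactSpace ↥R.left := (Points.schemeHomeo R).symm.compactSpace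
    haveI : IsAffine e.ptK'.left := inferInstanceAs (IsAffine (Spec _))
    exact (quasiCompact_iff_compactSpace sR.left).2 inferInstance
  obtain ⟨hfin, hsec⟩ := exists_sections (Ω := Ω) (R := R.left) sR.left
  choose gw hgw hgwp using hsec
  let G : ↥R.left → (e.ptK' ⟶ R) := fun w => Over.homMk (gw w) (by
    rw [← Over.w sR, ← Category.assoc, hgw w]; exact Category.id_comp _)
  have hG : ∀ w, G w ≫ sR = 𝟙 _ := fun w => Over.OverMorphism.ext (hgw w)
  have hGX : ∀ w, (yon S).map (G w ≫ pR) ≫ π = σ := fun w => by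
    rw [Functor.map_comp, Category.assoc, sqR.w, ← Category.assoc, ← Functor.map_comp, hG,
      CategoryTheory.Functor.map_id, Category.id_comp]
  choose φ hφ using fun w => exists_ringHom_isoSpec (R := CommRingCat.of Ω) (G w ≫ pR).left
  by_cases hex : ∃ w, ∀ c, φ w c ∈ V
  · obtain ⟨w, hw⟩ := hex
    let θ : Γ(V'.left, ⊤) ⟶ CommRingCat.of V := CommRingCat.ofHom ((φ w).hom.codRestrict V.toSubring hw)
    have hθ : Spec.map (CommRingCat.ofHom (algebraMap V Ω)) ≫ Spec.map θ ≫ V'.left.isoSpec.inv =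
        (G w ≫ pR).left := by
      rw [hφ w, ← Spec.map_comp_assoc]
      rfl
    have hθT : (Spec.map θ ≫ V'.left.isoSpec.inv) ≫ mV.left = (cV ≫ b).left := by
      refine spec_ext_of_injective (CommRingCat.ofHom (algebraMap V Ω)) Subtype.val_injective ?_
      rw [← Category.assoc, hθ, ← Over.comp_left]
      refine congrArg CommaMorphism.left (show ((G w ≫ pR) ≫ mV) = jV ≫ cV ≫ b from ?_)
      apply (yon S).map_injective
      rw [Functor.map_comp, hmV, ← hσf, ← Category.assoc, hGX]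
    let L : e.ptA' ⟶ V' := Over.homMk (Spec.map θ ≫ V'.left.isoSpec.inv) (by
      refine Eq.trans ?_ (Over.w (cV ≫ b))
      rw [← hθT]
      exact ((congrArg (_ ≫ ·) (Over.w mV)).symm.trans (Category.assoc _ _ _).symm))
    refine ⟨e, (yon S).map L ≫ π, ?_, ?_⟩
    · show _ = σ
      rw [← hGX w]
      exact (Category.assoc _ _ _).symm.trans (congrArg (· ≫ π) (((yon S).map_comp _ _).symm.trans
        (congrArg (yon S).map (Over.OverMorphism.ext hθ))))
    · show _ = (yon S).map cV ≫ q.bot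
      rw [Category.assoc, ← hmV, ← hb, ← Functor.map_comp, ← Functor.map_comp]
      exact congrArg (yon S).map (Over.OverMorphism.ext hθT)
  push Not at hex
  choose β hβ using hex
  let cc : ↥R.left → Ω := fun w => (φ w (β w))⁻¹
  haveI := hfin
  let L' : Subfield Ω := Subfield.closure (Set.range φ₀.hom ∪ Set.range cc)
  have hφL : ∀ c, φ₀.hom c ∈ L' := fun c => Subfield.subset_closure (Or.inl ⟨c, rfl⟩)
  have hccL : ∀ w, cc w ∈ L' := fun w => Subfield.subset_closure (Or.inr ⟨w, rfl⟩)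
  have hσL : ∀ z, σT.hom z ∈ L' := fun z => by
    rw [← hσA]
    exact hφL _
  let σL : Γ(T.left, ⊤) →+* L' := σT.hom.codRestrict L' hσL
  letI := σL.toAlgebra
  let cc' : ↥R.left → L' := fun w => ⟨cc w, hccL w⟩
  let V₁ : ValuationSubring L' := V.comap L'.subtype
  have hccV : ∀ w, ∃ hm : cc' w ∈ V₁, (⟨cc' w, hm⟩ : V₁) ∈ maximalIdeal V₁ := fun w => by
    have hm : cc w ∈ V := (V.mem_or_inv_mem _).resolve_left (hβ w)
    refine ⟨hm, fun hu => hβ w ?_⟩
    obtain ⟨z, hz⟩ := hu.exists_right_inv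
    have h1 : cc w * ((z : L') : Ω) = 1 := congrArg (fun a : V₁ => ((a : L') : Ω)) hz
    have h2 : ((z : L') : Ω) = φ w (β w) := by
      rw [eq_inv_of_mul_eq_one_right h1]
      exact inv_inv _
    exact h2 ▸ z.2
  let B := Algebra.adjoin Γ(T.left, ⊤) (Set.range cc')
  have hBV : B.toSubring ≤ V₁.toSubring := by
    intro z hz
    change z ∈ B at hz
    induction hz using Algebra.adjoin_induction with
    | mem z hz => obtain ⟨w, rfl⟩ := hz; exact (hccV w).1
    | algebraMap r => exact (γV r).2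
    | add a b _ _ ha hb => exact V₁.add_mem _ _ ha hb
    | mul a b _ _ ha hb => exact V₁.mul_mem _ _ ha hb
  let m : Ideal B.toSubring := Ideal.comap (Subring.inclusion hBV) (maximalIdeal V₁)
  haveI : Algebra.FiniteType Γ(T.left, ⊤) B := .adjoin_of_finite (Set.finite_range cc')
  haveI : IsNoetherianRing B := Algebra.FiniteType.isNoetherianRing Γ(T.left, ⊤) B
  haveI : m.IsPrime := Ideal.comap_isPrime _ _
  let D := LocalSubring.ofPrime B.toSubring m
  haveI : IsNoetherianRing D.toSubring :=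
    IsLocalization.isNoetherianRing m.primeCompl D.toSubring (inferInstanceAs (IsNoetherianRing B.toSubring))
  have hccB : ∀ w, cc' w ∈ B := fun w => Algebra.subset_adjoin ⟨w, rfl⟩
  have hccD : ∀ w, ∃ hm : cc' w ∈ D.toSubring,
      (⟨cc' w, hm⟩ : D.toSubring) ∈ maximalIdeal D.toSubring :=
    fun w => ⟨LocalSubring.le_ofPrime _ _ (hccB w),
      (IsLocalization.AtPrime.to_map_mem_maximal_iff D.toSubring m ⟨cc' w, hccB w⟩).mpr (hccV w).2⟩
  have hne : Nonempty ↥R.left := by
    obtain ⟨ce, -⟩ : ∃ ce : ↥e.ptK'.left, ce = IsLocalRing.closedPoint Ω := ⟨_, rfl⟩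
    obtain ⟨v, hv⟩ := surjective_ofPt hπs (Points.ofPt σ ce)
    exact ⟨(exists_pt_of_isPullback' sqR v ce hv).choose⟩
  obtain ⟨w₁⟩ := hne
  have hnf : ¬ IsField D.toSubring := fun hf => by
    rw [IsLocalRing.isField_iff_maximalIdeal_eq] at hf
    obtain ⟨hm, hm'⟩ := hccD w₁
    rw [hf, Ideal.mem_bot] at hm'
    have h0 : φ w₁ (β w₁) = 0 :=
      inv_eq_zero.mp (congrArg (fun a : D.toSubring => ((a : L') : Ω)) hm')
    exact hβ _ (h0 ▸ V.zero_mem)
  let F := Subfield.closure (D.toSubring : Set L')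
  letI : Algebra D.toSubring F :=
    (D.toSubring.subtype.codRestrict F fun z => Subfield.subset_closure z.2).toAlgebra
  haveI : IsScalarTower D.toSubring F L' := IsScalarTower.of_algebraMap_eq fun _ => rfl
  haveI : IsFractionRing D.toSubring F := by
    haveI : FaithfulSMul D.toSubring F := (faithfulSMul_iff_algebraMap_injective _ _).2
      fun a b h => Subtype.ext (congrArg (fun t : F => (t : L')) h)
    refine IsFractionRing.of_field D.toSubring F fun z => ?_
    obtain ⟨a, ha, b, hb, hab⟩ := Subfield.mem_closure_iff.mp z.2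
    rw [Subring.closure_eq] at ha hb
    exact ⟨⟨a, ha⟩, ⟨b, hb⟩, Subtype.ext hab.symm⟩
  let φL : Γ(A₀.left, ⊤) →+* L' := φ₀.hom.codRestrict L' hφL
  have hfg : (⊤ : IntermediateField F L').FG := by
    refine fg_of_range (R := Γ(T.left, ⊤)) φL F (fun r => Subfield.subset_closure
      (LocalSubring.le_ofPrime _ _ ?_)) (Set.range cc') (Set.finite_range _) ?_
    · show φL (algebraMap Γ(T.left, ⊤) Γ(A₀.left, ⊤) r) ∈ B
      have h1 : φL (algebraMap Γ(T.left, ⊤) Γ(A₀.left, ⊤) r) = algebraMap Γ(T.left, ⊤) L' r :=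
        Subtype.ext (RingHom.congr_fun (congrArg CommRingCat.Hom.hom hσA) r)
      rw [h1]
      exact B.algebraMap_mem r
    · refine eq_top_iff.2 fun z _ => ?_
      have hz : (z : Ω) ∈ (Subfield.closure (Set.range φL ∪ Set.range cc')).map L'.subtype := by
        rw [RingHom.map_field_closure, Set.image_union, ← Set.range_comp, ← Set.range_comp]
        exact z.2
      obtain ⟨y, hy, hyz⟩ := hz
      exact (Subtype.ext hyz : y = z) ▸ hy
  obtain ⟨A, hA, hAD, hAm⟩ := E4O.exists_dvr_dominating hnf F L' hfg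
  -- the discrete valuation square
  let αA : Γ(T.left, ⊤) ⟶ CommRingCat.of A := CommRingCat.ofHom (σL.codRestrict A.toSubring
    fun z => hAD ⟨_, LocalSubring.le_ofPrime _ _ (B.algebraMap_mem z)⟩)
  let sA : Spec (CommRingCat.of A) ⟶ S := Spec.map αA ≫ T.left.isoSpec.inv ≫ T.hom
  let bA : (Over.mk sA : Over S) ⟶ T :=
    Over.homMk (Spec.map αA ≫ T.left.isoSpec.inv) (Category.assoc _ _ _)
  have hAiso : Spec.map (CommRingCat.ofHom φL) ≫ A₀.left.isoSpec.inv ≫ mA.left =
      Spec.map (CommRingCat.ofHom (algebraMap A L')) ≫ Spec.map αA ≫ T.left.isoSpec.inv := by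
    rw [← Scheme.isoSpec_inv_naturality mA.left, ← Spec.map_comp_assoc, ← Spec.map_comp_assoc]
    congr 2
    exact CommRingCat.hom_ext (RingHom.ext fun r =>
      Subtype.ext (RingHom.congr_fun (congrArg CommRingCat.Hom.hom hσA) r))
  let a₁ : (Over.mk (Spec.map (CommRingCat.ofHom (algebraMap A L')) ≫ sA) : Over S) ⟶ A₀ :=
    Over.homMk (Spec.map (CommRingCat.ofHom φL) ≫ A₀.left.isoSpec.inv) (by
      show _ = Spec.map _ ≫ Spec.map αA ≫ _ ≫ T.hom
      rw [← Over.w mA, ← reassoc_of% hAiso]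
      simp only [Category.assoc])
  let q₁ : ValSq f :=
    { A := A, K := L', str := sA, top := (yon S).map a₁ ≫ πU ≫ h, bot := (yon S).map bA
      comm := by
        rw [Category.assoc, Category.assoc, ← hmA, ← Functor.map_comp, ← Functor.map_comp]
        refine congrArg (yon S).map (Over.OverMorphism.ext ?_)
        exact (Category.assoc _ _ _).trans hAiso }
  obtain ⟨l, hl1, hl2⟩ := hval q₁ hA ⟨(yon S).map a₁ ≫ πU, Category.assoc _ _ _⟩
  -- extend the valuation to the geometric point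
  obtain ⟨W₁, hW₁, hW₁l⟩ := exists_factor_valuationRing (L'.subtype.comp (algebraMap A L'))
  let iW : A →+* W₁ := (L'.subtype.comp (algebraMap A L')).codRestrict W₁.toSubring hW₁
  let sW : Spec (CommRingCat.of W₁) ⟶ S := Spec.map (CommRingCat.ofHom iW) ≫ sA
  let cW : (Over.mk sW : Over S) ⟶ q₁.ptA := Over.homMk (Spec.map (CommRingCat.ofHom iW)) rfl
  have hTW : Spec.map (CommRingCat.ofHom (algebraMap W₁ Ω)) ≫ sW = e.ptK'.hom := by
    rw [← Over.w (jV ≫ cV ≫ b), hjl]
    show Spec.map _ ≫ Spec.map _ ≫ Spec.map αA ≫ T.left.isoSpec.inv ≫ T.hom = _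
    rw [← Spec.map_comp_assoc, ← Spec.map_comp_assoc, Category.assoc]
    rfl
  let jW : e.ptK' ⟶ Over.mk sW := Over.homMk (Spec.map (CommRingCat.ofHom (algebraMap W₁ Ω))) hTW
  let o : e.ptK' ⟶ q₁.ptK := Over.homMk (Spec.map (CommRingCat.ofHom L'.subtype)) (by
    refine Eq.trans ?_ hTW
    show Spec.map _ ≫ Spec.map _ ≫ sA = Spec.map _ ≫ Spec.map _ ≫ sA
    refine (Spec.map_comp_assoc _ _ _).symm.trans (Eq.trans ?_ (Spec.map_comp_assoc _ _ _))
    rfl)
  have hoj : jW ≫ cW = o ≫ q₁.j := Over.OverMorphism.ext (by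
    show Spec.map _ ≫ Spec.map _ = Spec.map _ ≫ Spec.map _
    rw [← Spec.map_comp, ← Spec.map_comp]
    rfl)
  have hoa : o ≫ a₁ = g₀ ≫ p₀ := Over.OverMorphism.ext (by
    show Spec.map _ ≫ Spec.map _ ≫ _ = (g₀ ≫ p₀).left
    rw [← Spec.map_comp_assoc, hφ₀]
    rfl)
  have hlσ : (yon S).map jW ≫ (yon S).map cW ≫ l = σ := by
    rw [← Category.assoc, ← Functor.map_comp, hoj, Functor.map_comp, Category.assoc, hl1,
      show q₁.top = (yon S).map a₁ ≫ πU ≫ h from rfl, ← Category.assoc, ← Functor.map_comp, hoa, hσU]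
  obtain ⟨RA, pA, sqsA, sqA⟩ := exists_isPullback_yon hX.diag π ((yon S).map cW ≫ l)
  obtain ⟨mR, hmR⟩ := (yon S).map_surjective (sqA.lift ((yon S).map pR) ((yon S).map (sR ≫ jW))
    (by rw [sqR.w, Functor.map_comp, Category.assoc, hlσ]))
  have hm1 : mR ≫ pA = pR := (yon S).map_injective (by rw [Functor.map_comp, hmR, sqA.lift_fst])
  have hm2 : mR ≫ sqsA = sR ≫ jW := (yon S).map_injective (by
    rw [Functor.map_comp, hmR, sqA.lift_snd])
  have sqM : IsPullback ((yon S).map mR) ((yon S).map sR) ((yon S).map sqsA) ((yon S).map jW) :=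
    IsPullback.of_right (by rw [← Functor.map_comp, hm1, hlσ]; exact sqR)
      (by rw [← Functor.map_comp, ← Functor.map_comp, hm2]) sqA
  haveI : Etale sqsA.left := etale_snd_of_isPullback sqA hπ
  obtain ⟨cw, hcw⟩ : ∃ cw : ↥(Over.mk sW : Over S).left, cw = IsLocalRing.closedPoint W₁ := ⟨_, rfl⟩
  obtain ⟨ce, hce⟩ : ∃ ce : ↥e.ptK'.left, ce = IsLocalRing.closedPoint Ω := ⟨_, rfl⟩
  obtain ⟨v, hv⟩ := surjective_ofPt hπs (Points.ofPt ((yon S).map cW ≫ l) cw)
  obtain ⟨r, -, hr⟩ := exists_pt_of_isPullback' sqA v cw hv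
  have hsp : jW.left ce ⤳ sqsA.left r := by
    rw [hr, hcw]
    exact IsLocalRing.specializes_closedPoint _
  obtain ⟨r', hr', hr's⟩ := Flat.generalizingMap sqsA.left hsp
  obtain ⟨w, hw, -⟩ := exists_pt_of_isPullback' sqM r' ce (by rw [ofPt_yon_map, ofPt_yon_map, hr's])
  have hgp : (G w ≫ mR).left (IsLocalRing.closedPoint Ω) ⤳ r := by
    rw [Over.comp_left, Scheme.Hom.comp_apply]
    show mR.left (gw w (IsLocalRing.closedPoint Ω)) ⤳ r
    rw [hgwp w, hw]
    exact hr'
  obtain ⟨W₃, l₃, hl₃c, hl₃⟩ := exists_valuation_at_specializes (G w ≫ mR).left r hgp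
  obtain ⟨θ, hθ⟩ := exists_ringHom_isoSpec (l₃ ≫ pA.left)
  have hθφ : θ ≫ CommRingCat.ofHom (algebraMap W₃ Ω) = φ w := by
    refine ringHom_ext_isoSpec ?_
    rw [Spec.map_comp, Category.assoc, ← hθ, ← hφ w, reassoc_of% hl₃, ← hm1]
    simp only [Over.comp_left, Category.assoc]
  obtain ⟨δ, hδ⟩ := Spec.map_surjective (l₃ ≫ sqsA.left)
  have hδalg : δ ≫ CommRingCat.ofHom (algebraMap W₃ Ω) = CommRingCat.ofHom (algebraMap W₁ Ω) := by
    apply Spec.map_injective
    rw [Spec.map_comp, hδ, reassoc_of% hl₃, ← Over.comp_left, Category.assoc, hm2, ← Category.assoc,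
      hG, Category.id_comp]
    rfl
  have hδloc : IsLocalHom δ.hom := by
    have h1 : (Spec.map δ) (IsLocalRing.closedPoint W₃) = IsLocalRing.closedPoint W₁ := by
      rw [hδ, Scheme.Hom.comp_apply, hl₃c]
      exact hr.trans hcw
    exact ((IsLocalRing.local_hom_TFAE δ.hom).out 0 4).2 (congrArg PrimeSpectrum.asIdeal h1)
  -- contradiction: the inverse of a non-unit is integral
  obtain ⟨hmD, hmD'⟩ := hccD w
  have hmA' : A.valuation (cc' w) < 1 := hAm ⟨_, hmD⟩ hmD'
  have hmA : (⟨cc' w, hAD ⟨_, hmD⟩⟩ : A) ∈ maximalIdeal A :=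
    (A.valuation_lt_one_iff ⟨cc' w, hAD ⟨_, hmD⟩⟩).2 hmA'
  have hu : IsUnit (δ.hom (iW ⟨cc' w, hAD ⟨_, hmD⟩⟩)) := by
    refine IsUnit.of_mul_eq_one (θ.hom (β w)) (Subtype.ext ?_)
    show (δ.hom (iW _) : Ω) * (θ.hom (β w) : Ω) = 1
    have e1 : (δ.hom (iW ⟨cc' w, hAD ⟨_, hmD⟩⟩) : Ω) = cc w :=
      RingHom.congr_fun (congrArg CommRingCat.Hom.hom hδalg) _
    have e2 : (θ.hom (β w) : Ω) = φ w (β w) :=
      RingHom.congr_fun (congrArg CommRingCat.Hom.hom hθφ) _
    rw [e1, e2]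
    exact inv_mul_cancel₀ fun h0 => hβ w (h0 ▸ V.zero_mem)
  haveI : IsLocalHom iW := hW₁l
  exact absurd (isUnit_of_map_unit iW _ (isUnit_of_map_unit δ.hom _ hu)) hmA

end Groth.Agent.SpPts86
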