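import Groth.Agent.Desc59.EtaleDim
import Mathlib.AlgebraicGeometry.Morphisms.Etale
import Mathlib.AlgebraicGeometry.Morphisms.QuasiFinite
import Mathlib.AlgebraicGeometry.Sites.EtalePoint
import Mathlib.AlgebraicGeometry.Morphisms.FlatMono
import Groth.Agent.SpPts86.EtaleQC
import Groth.Agent.SpFP87.EtLocInst

/-!
Lifts of a field valued point along an etale morphism.
-/

universe u

set_option autoImplicit false
set_option backward.isDefEq.respectTransparency false

open CategoryTheory CategoryTheory.Limits AlgebraicGeometry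

namespace Groth.Agent.SpPts86

/-- Only finitely many lifts pass through a given point. -/
theorem finite_lifts_at {V E : Scheme.{u}} (g : V ⟶ E) [Etale g] {K : Type u} [Field K]
    (l₀ : Spec (CommRingCat.of K) ⟶ E) (q : ↥V) :
    Finite {l : Spec (CommRingCat.of K) ⟶ V // l ≫ g = l₀ ∧ l (IsLocalRing.closedPoint K) = q} := by
  cases isEmpty_or_nonempty
      {l : Spec (CommRingCat.of K) ⟶ V // l ≫ g = l₀ ∧ l (IsLocalRing.closedPoint K) = q} with
  | inl h => infer_instance
  | inr h =>
    have key : ∀ l : {l : Spec (CommRingCat.of K) ⟶ V // l ≫ g = l₀ ∧ l (IsLocalRing.closedPoint K) = q},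
        ∃ a : V.residueField q ⟶ CommRingCat.of K, Spec.map a ≫ V.fromSpecResidueField q = l.1 := by
      rintro ⟨l, -, hq⟩
      obtain ⟨⟨y, a⟩, rfl⟩ := (Scheme.SpecToEquivOfField K V).symm.surjective l
      have hy : y = q := by
        rw [← hq]
        exact (Scheme.fromSpecResidueField_apply y _).symm
      subst hy
      exact ⟨a, rfl⟩
    choose a ha using key
    let l₁ := h.some
    have hfin := Desc59.EtaleDim.finite_residueFieldMap g q
    algebraize [(g.residueFieldMap q).hom, (g.residueFieldMap q ≫ a l₁).hom]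
    have hc : ∀ l, g.residueFieldMap q ≫ a l = g.residueFieldMap q ≫ a l₁ := fun l => by
      apply Spec.map_injective
      rw [← cancel_mono (E.fromSpecResidueField (g q))]
      simp only [Spec.map_comp, Category.assoc, Scheme.Hom.SpecMap_residueFieldMap_fromSpecResidueField]
      rw [reassoc_of% (ha l), reassoc_of% (ha l₁), l.2.1, l₁.2.1]
    let Φ : {l : Spec (CommRingCat.of K) ⟶ V // l ≫ g = l₀ ∧ l (IsLocalRing.closedPoint K) = q} →
        (V.residueField q →ₐ[E.residueField (g q)] K) := fun l =>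
      { (a l).hom with
        commutes' := fun r => ConcreteCategory.congr_hom (hc l) r }
    refine Finite.of_injective Φ fun l l' e => Subtype.ext ?_
    rw [← ha l, ← ha l']
    exact congrArg (fun b => Spec.map b ≫ V.fromSpecResidueField q)
      (CommRingCat.hom_ext (congrArg AlgHom.toRingHom e))

/-- An open neighbourhood meeting a fibre only in the given point. -/
theorem exists_open_inter_fibre {V E : Scheme.{u}} (g : V ⟶ E) [Etale g] (q : ↥V) :
    ∃ O : V.Opens, q ∈ O ∧ ∀ v ∈ O, g v = g q → v = q := by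
  haveI : LocallyQuasiFinite g := SpFP87.etale_locallyQuasiFinite g inferInstance
  have hd : _root_.IsDiscrete (g ⁻¹' {g q}) := g.isDiscrete_preimage_singleton (g q)
  haveI := isDiscrete_iff_discreteTopology.1 hd
  obtain ⟨O, hO, hOq⟩ := isOpen_induced_iff.1 (isOpen_discrete ({⟨q, rfl⟩} : Set ↥(g ⁻¹' {g q})))
  refine ⟨⟨O, hO⟩, hOq.ge rfl, fun v hv e => ?_⟩
  exact congrArg Subtype.val (hOq.le (show (⟨v, e⟩ : ↥(g ⁻¹' {g q})) ∈ Subtype.val ⁻¹' O from hv))

/-- Two lifts through the same point agree when one comes from a section. -/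
theorem eq_of_mem_section {Q N : Scheme.{u}} (π : Q ⟶ N) [Etale π] (γ : N ⟶ Q) (hγ : γ ≫ π = 𝟙 N) [Etale γ]
    {K : Type u} [Field K] (a : Spec (CommRingCat.of K) ⟶ Q)
    (h : a (IsLocalRing.closedPoint K) ∈ Set.range γ) : a = (a ≫ π) ≫ γ := by
  haveI : Mono γ := SplitMono.mono ⟨π, hγ⟩
  haveI : IsOpenImmersion γ := IsOpenImmersion.of_flat_of_mono γ
  have hr : Set.range a ⊆ Set.range γ := by
    rintro _ ⟨t, rfl⟩
    rwa [Subsingleton.elim (α := PrimeSpectrum K) t (IsLocalRing.closedPoint K)]
  have e := IsOpenImmersion.lift_fac γ a hr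
  conv_lhs => rw [← e]
  conv_rhs => rw [← e]
  simp only [Category.assoc, reassoc_of% hγ]

end Groth.Agent.SpPts86
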