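import Groth.Prelude.Def_Hensel
import Groth.Agent.Unr55.Et.EtLocalRing
import Groth.Agent.Henz21.EtaleSection
import Mathlib.AlgebraicGeometry.Morphisms.FormallyUnramified
import Mathlib.FieldTheory.Separable

/-!
The etale local ring of a scheme at a geometric point is a strict henselization of the local ring.
-/

universe u

set_option autoImplicit false

open CategoryTheory CategoryTheory.Limits AlgebraicGeometry Opposite IsLocalRing

namespace Groth.Agent.SpPts86

open Groth.Agent.Unr55.EtSh

set_option backward.isDefEq.respectTransparency.types false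

variable {X : Scheme.{u}} {Ω : Type u} [Field Ω] [IsSepClosed Ω] (ξ : Spec (CommRingCat.of Ω) ⟶ X)

/-- Refinements of neighbourhoods are compatible with germs. -/
theorem spec_germ_comp {N M : Nbhd ξ} (g : N.U ⟶ M.U)
    (hg : (Scheme.pointSmallEtale ξ).fiber.map g N.pt = M.pt) :
    Spec.map N.germ ≫ g.left = Spec.map M.germ := by
  obtain ⟨h, hh⟩ := Spec.map_surjective (g.left : Spec N.A ⟶ Spec M.A)
  have key : h ≫ N.germ = M.germ := by
    refine ConcreteCategory.hom_ext _ _ fun z => ?_
    change (Scheme.pointSmallEtale ξ).toPresheafFiber N.U N.pt (EtBase.OO X) ((Scheme.ΓSpecIso N.A).inv (h z)) =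
      (Scheme.pointSmallEtale ξ).toPresheafFiber M.U M.pt (EtBase.OO X) ((Scheme.ΓSpecIso M.A).inv z)
    rw [← hg, ← GrothendieckTopology.Point.toPresheafFiber_w_apply]
    refine congrArg _ ?_
    refine (ConcreteCategory.congr_hom (Scheme.ΓSpecIso_inv_naturality h) z).trans ?_
    change (Spec.map h).appTop _ = g.left.appTop _
    rw [hh]
    rfl
  rw [← hh]
  exact (Spec.map_comp _ _).symm.trans (congrArg Spec.map key)

/-- The morphism from the spectrum of the etale local ring to a neighbourhood. -/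
theorem exists_theta {U : X.Etale} (t : Pt ξ U) :
    ∃ θ : Spec (EtBase.etaleLocalRing ξ) ⟶ U.left, ∀ (N : Nbhd ξ) (g : N.U ⟶ U),
      (Scheme.pointSmallEtale ξ).fiber.map g N.pt = t → Spec.map N.germ ≫ g.left = θ := by
  obtain ⟨N₀, g₀, h₀⟩ := exists_nbhd t
  refine ⟨Spec.map N₀.germ ≫ g₀.left, fun N g hg => ?_⟩
  let Φ := Scheme.pointSmallEtale ξ
  let E₀ : Φ.fiber.Elements := ⟨N₀.U, N₀.pt⟩
  let E₁ : Φ.fiber.Elements := ⟨N.U, N.pt⟩
  let T : Φ.fiber.Elements := ⟨U, t⟩
  let a : E₀ ⟶ T := ⟨g₀, h₀⟩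
  let b : E₁ ⟶ T := ⟨g, hg⟩
  obtain ⟨W, p, q, e⟩ := IsCofiltered.cospan a b
  obtain ⟨M, j, hj⟩ := exists_nbhd (U := W.1) W.2
  have e' : p.1 ≫ g₀ = q.1 ≫ g := congrArg Subtype.val e
  have k₀ := spec_germ_comp ξ (j ≫ p.1) (by rw [Functor.map_comp, ConcreteCategory.comp_apply, hj]; exact p.2)
  have k₁ := spec_germ_comp ξ (j ≫ q.1) (by rw [Functor.map_comp, ConcreteCategory.comp_apply, hj]; exact q.2)
  rw [← k₀, ← k₁]
  refine (Category.assoc _ _ _).trans (Eq.trans ?_ (Category.assoc _ _ _).symm)
  congr 1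
  change ((j ≫ q.1) ≫ g).left = ((j ≫ p.1) ≫ g₀).left
  rw [Category.assoc, Category.assoc, e']

/-- The morphism from the spectrum of the etale local ring to a neighbourhood. -/
noncomputable def theta {U : X.Etale} (t : Pt ξ U) : Spec (EtBase.etaleLocalRing ξ) ⟶ U.left :=
  (exists_theta ξ t).choose

theorem theta_eq {U : X.Etale} (t : Pt ξ U) (N : Nbhd ξ) (g : N.U ⟶ U)
    (hg : (Scheme.pointSmallEtale ξ).fiber.map g N.pt = t) : Spec.map N.germ ≫ g.left = theta ξ t :=
  (exists_theta ξ t).choose_spec N g hg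

theorem theta_pt (N : Nbhd ξ) : theta ξ N.pt = Spec.map N.germ := by
  rw [← theta_eq ξ N.pt N (𝟙 _) (by simp)]
  exact Category.comp_id _

theorem theta_map {U V : X.Etale} (g : V ⟶ U) (t : Pt ξ V) :
    theta ξ ((Scheme.pointSmallEtale ξ).fiber.map g t) = theta ξ t ≫ g.left := by
  obtain ⟨N, j, hj⟩ := exists_nbhd t
  rw [← theta_eq ξ t N j hj, ← theta_eq ξ _ N (j ≫ g) (by rw [Functor.map_comp, ConcreteCategory.comp_apply, hj]),
    Category.assoc]
  rfl

instance nonempty_nbhd : Nonempty (Nbhd ξ) :=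
  let ⟨⟨_, t⟩⟩ := (Scheme.pointSmallEtale ξ).isCofiltered.nonempty
  ⟨(exists_nbhd t).choose⟩

/-- The structure morphism of the spectrum of the etale local ring. -/
noncomputable def eta : Spec (EtBase.etaleLocalRing ξ) ⟶ X :=
  Spec.map (Classical.arbitrary (Nbhd ξ)).germ ≫ (Classical.arbitrary (Nbhd ξ)).p

theorem spec_germ_p (N : Nbhd ξ) : Spec.map N.germ ≫ N.p = eta ξ := by
  let M := Classical.arbitrary (Nbhd ξ)
  let Φ := Scheme.pointSmallEtale ξ
  let E₀ : Φ.fiber.Elements := ⟨M.U, M.pt⟩
  let E₁ : Φ.fiber.Elements := ⟨N.U, N.pt⟩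
  obtain ⟨W, j, hj⟩ := exists_nbhd (U := (IsCofiltered.min E₀ E₁).1) (IsCofiltered.min E₀ E₁).2
  have k₀ := spec_germ_comp ξ (j ≫ (IsCofiltered.minToLeft E₀ E₁).1)
    (by rw [Functor.map_comp, ConcreteCategory.comp_apply, hj]; exact (IsCofiltered.minToLeft E₀ E₁).2)
  have k₁ := spec_germ_comp ξ (j ≫ (IsCofiltered.minToRight E₀ E₁).1)
    (by rw [Functor.map_comp, ConcreteCategory.comp_apply, hj]; exact (IsCofiltered.minToRight E₀ E₁).2)
  show Spec.map N.germ ≫ N.p = Spec.map M.germ ≫ M.p
  rw [← k₀, ← k₁]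
  refine (Category.assoc _ _ _).trans (Eq.trans ?_ (Category.assoc _ _ _).symm)
  congr 1
  exact (MorphismProperty.Over.w (j ≫ (IsCofiltered.minToRight E₀ E₁).1)).trans
    (MorphismProperty.Over.w (j ≫ (IsCofiltered.minToLeft E₀ E₁).1)).symm

theorem theta_hom {U : X.Etale} (t : Pt ξ U) : theta ξ t ≫ U.hom = eta ξ := by
  obtain ⟨N, j, hj⟩ := exists_nbhd t
  rw [← theta_eq ξ t N j hj, Category.assoc, ← spec_germ_p ξ N]
  congr 1
  exact MorphismProperty.Over.w j

theorem spec_evalPt_eta : Spec.map (evalPt ξ) ≫ eta ξ = ξ := by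
  let N := Classical.arbitrary (Nbhd ξ)
  rw [← spec_germ_p ξ N, ← Category.assoc, ← Spec.map_comp, germ_evalPt, N.w]

theorem isLocalRing_etaleLocalRing : IsLocalRing (EtBase.etaleLocalRing ξ : Type u) := by
  obtain ⟨h, -⟩ := isStrictlyHenselian_etaleLocalRing ξ
  infer_instance

attribute [local instance] isLocalRing_etaleLocalRing

theorem isLocalHom_evalPt : IsLocalHom (evalPt ξ).hom :=
  ⟨fun r h => (isUnit_iff_evalPt_ne_zero r).2 h.ne_zero⟩

theorem eta_closedPoint : eta ξ (closedPoint (EtBase.etaleLocalRing ξ : Type u)) = ξ default := by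
  have := isLocalHom_evalPt ξ
  conv_rhs => rw [← spec_evalPt_eta ξ, Scheme.Hom.comp_apply]
  congr 1
  rw [Subsingleton.elim (default : ↥(Spec (CommRingCat.of Ω))) (closedPoint Ω)]
  exact (isLocalHom_iff_comap_closedPoint (evalPt ξ).hom |>.mp inferInstance).symm

/-- Residues of the etale local ring are separable over the residue field below. -/
def SepElem (e : Spec (EtBase.etaleLocalRing ξ) ⟶ X) (r : (EtBase.etaleLocalRing ξ : Type u)) : Prop :=
  letI := (ResidueField.map (Scheme.stalkClosedPointTo e).hom).toAlgebra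
  _root_.IsSeparable (ResidueField (X.presheaf.stalk (e (closedPoint (EtBase.etaleLocalRing ξ : Type u)))))
    (residue (EtBase.etaleLocalRing ξ : Type u) r)

theorem sepElem_germ (N : Nbhd ξ) (a : N.A) : SepElem ξ (Spec.map N.germ ≫ N.p) (N.germ a) := by
  let q : ↥(Spec N.A) := Spec.map N.germ (closedPoint (EtBase.etaleLocalRing ξ : Type u))
  let φ := Scheme.stalkClosedPointTo (Spec.map N.germ ≫ N.p)
  let ψ := Scheme.stalkClosedPointTo (Spec.map N.germ)
  have : FormallyUnramified N.p := inferInstance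
  letI : Algebra (X.residueField (N.p q)) ((Spec N.A).residueField q) := (N.p.residueFieldMap q).hom.toAlgebra
  have hsep : Algebra.IsSeparable (X.residueField (N.p q)) ((Spec N.A).residueField q) :=
    inferInstanceAs (Algebra.IsSeparable (X.residueField (N.p.base q)) ((Spec N.A).residueField q))
  letI : Algebra (X.residueField (N.p q)) (ResidueField (EtBase.etaleLocalRing ξ : Type u)) :=
    (ResidueField.map φ.hom).toAlgebra
  let ι : ((Spec N.A).residueField q) →ₐ[X.residueField (N.p q)] ResidueField (EtBase.etaleLocalRing ξ : Type u) :=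
    { ResidueField.map ψ.hom with
      commutes' := fun z => by
        obtain ⟨z, rfl⟩ := residue_surjective z
        show residue _ (ψ.hom ((N.p.stalkMap q).hom z)) = residue _ (φ.hom z)
        exact congrArg _ (ConcreteCategory.congr_hom (Scheme.stalkClosedPointTo_comp (Spec.map N.germ) N.p) z).symm }
  let z : (Spec N.A).presheaf.stalk q := (Spec N.A).presheaf.germ ⊤ q trivial ((Scheme.ΓSpecIso N.A).inv a)
  let zq : (Spec N.A).residueField q := residue _ z
  have h : _root_.IsSeparable (X.residueField (N.p q)) (ι zq) :=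
    (Algebra.IsSeparable.isSeparable (X.residueField (N.p q)) zq).map (f := ι) ι.toRingHom.injective
  have hz : ψ z = N.germ a := by
    have := ConcreteCategory.congr_hom (Scheme.germ_stalkClosedPointTo_Spec N.germ)
      ((Scheme.ΓSpecIso N.A).inv a)
    exact this.trans (congrArg N.germ (Iso.inv_hom_id_apply (Scheme.ΓSpecIso N.A) a))
  rw [show ι zq = residue _ (N.germ a) from congrArg _ hz] at h
  exact h

theorem isStrictHenselization_eta :
    letI := (Scheme.stalkClosedPointTo (eta ξ)).hom.toAlgebra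
    ∃ _ : IsLocalHom (algebraMap (X.presheaf.stalk (eta ξ (closedPoint (EtBase.etaleLocalRing ξ : Type u))))
        (EtBase.etaleLocalRing ξ : Type u)),
      Hensel.IsStrictHenselization (X.presheaf.stalk (eta ξ (closedPoint (EtBase.etaleLocalRing ξ : Type u))))
        (EtBase.etaleLocalRing ξ : Type u) := by
  letI := (Scheme.stalkClosedPointTo (eta ξ)).hom.toAlgebra
  have hloc : IsLocalHom (algebraMap (X.presheaf.stalk (eta ξ (closedPoint (EtBase.etaleLocalRing ξ : Type u))))
      (EtBase.etaleLocalRing ξ : Type u)) := Scheme.isLocalHom_stalkClosedPointTo (eta ξ)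
  obtain ⟨hH, hS⟩ := isStrictlyHenselian_etaleLocalRing ξ
  refine ⟨hloc, hH, ⟨hS, ⟨fun x => ?_⟩⟩, ?_⟩
  · obtain ⟨r, rfl⟩ := residue_surjective x
    obtain ⟨N, a, rfl⟩ := exists_nbhd_eq r
    have h := sepElem_germ ξ N a
    rw [spec_germ_p ξ N] at h
    exact h
  · intro T _ _ f _ τ hτ
    let x₀ := eta ξ (closedPoint (EtBase.etaleLocalRing ξ : Type u))
    let c : Spec (CommRingCat.of T) ⟶ X := Spec.map (CommRingCat.ofHom f) ≫ X.fromSpecStalk x₀
    let τ' : EtBase.etaleLocalRing ξ ⟶ CommRingCat.of (ResidueField T) :=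
      CommRingCat.ofHom (τ.comp (residue (EtBase.etaleLocalRing ξ : Type u)))
    have hc : Spec.map (CommRingCat.ofHom (residue T)) ≫ c = Spec.map τ' ≫ eta ξ := by
      conv_rhs => rw [← Scheme.Spec_stalkClosedPointTo_fromSpecStalk (eta ξ)]
      rw [← Category.assoc, ← Category.assoc, ← Spec.map_comp, ← Spec.map_comp]
      refine congrArg (fun k => Spec.map k ≫ X.fromSpecStalk x₀) (CommRingCat.hom_ext (RingHom.ext fun z => ?_))
      show residue T (f z) = τ (residue _ (algebraMap _ (EtBase.etaleLocalRing ξ : Type u) z))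
      exact (RingHom.congr_fun hτ (residue _ z)).symm
    have hex : ∀ {U : X.Etale} (t : Pt ξ U), ∃! s : Spec (CommRingCat.of T) ⟶ U.left,
        s ≫ U.hom = c ∧ Spec.map (CommRingCat.ofHom (residue T)) ≫ s = Spec.map τ' ≫ theta ξ t := by
      intro U t
      have : Etale U.hom := U.prop
      let r := Spec.map τ' ≫ theta ξ t
      have hr : r ≫ U.hom = Spec.map (CommRingCat.ofHom (residue T)) ≫ c := by
        rw [Category.assoc, theta_hom, hc]
      obtain ⟨σ, ⟨h1, h2⟩, huniq⟩ := Henz21.existsUnique_section (pullback.snd U.hom c)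
        (pullback.lift r (Spec.map (CommRingCat.ofHom (residue T))) hr) (pullback.lift_snd _ _ _)
      refine ⟨σ ≫ pullback.fst U.hom c, ⟨?_, ?_⟩, fun s ⟨hs1, hs2⟩ => ?_⟩
      · rw [Category.assoc, pullback.condition, ← Category.assoc, h1, Category.id_comp]
      · rw [← Category.assoc, h2, pullback.lift_fst]
      · have := huniq (pullback.lift s (𝟙 _) (hs1.trans (Category.id_comp _).symm))
          ⟨pullback.lift_snd _ _ _, by
            apply pullback.hom_ext
            · rw [Category.assoc, pullback.lift_fst, pullback.lift_fst, hs2]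
            · rw [Category.assoc, pullback.lift_snd, pullback.lift_snd, Category.comp_id]⟩
        rw [← this, pullback.lift_fst]
    choose s hs hsu using @hex
    have hcompat : ∀ ⦃V U : X.Etale⦄ (m : V ⟶ U) (t : Pt ξ V),
        (EtBase.OO X).map m.op ≫ (s t).appTop ≫ (Scheme.ΓSpecIso (CommRingCat.of T)).hom =
          (s ((Scheme.pointSmallEtale ξ).fiber.map m t)).appTop ≫ (Scheme.ΓSpecIso (CommRingCat.of T)).hom := by
      intro V U m t
      change m.left.appTop ≫ (s t).appTop ≫ _ = _
      rw [← hsu ((Scheme.pointSmallEtale ξ).fiber.map m t) (s t ≫ m.left) ⟨by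
          rw [Category.assoc, MorphismProperty.Over.w m]; exact (hs t).1, by
          rw [← Category.assoc, (hs t).2, Category.assoc, theta_map]⟩,
        Scheme.Hom.comp_appTop]
      exact (Category.assoc _ _ _).symm
    let g : EtBase.etaleLocalRing ξ ⟶ CommRingCat.of T :=
      (Scheme.pointSmallEtale ξ).presheafFiberDesc (P := EtBase.OO X)
        (fun U t => (s t).appTop ≫ (Scheme.ΓSpecIso (CommRingCat.of T)).hom) hcompat
    have hg : ∀ N : Nbhd ξ, Spec.map (N.germ ≫ g) = s N.pt := by
      intro N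
      obtain ⟨k, hk⟩ := Spec.map_surjective (s N.pt : Spec (CommRingCat.of T) ⟶ Spec N.A)
      rw [← hk]
      congr 1
      have h := (Scheme.pointSmallEtale ξ).toPresheafFiber_presheafFiberDesc (P := EtBase.OO X)
        (fun U t => (s t).appTop ≫ (Scheme.ΓSpecIso (CommRingCat.of T)).hom) hcompat
      rw [Nbhd.germ, Category.assoc]
      erw [h]
      rw [← hk]
      exact (Scheme.ΓSpecIso_inv_naturality_assoc k _).symm.trans (by simp)
    have key : ∀ g' : (EtBase.etaleLocalRing ξ : Type u) →+* T,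
        (g'.comp (algebraMap _ (EtBase.etaleLocalRing ξ : Type u)) = f) ↔
          Spec.map (CommRingCat.ofHom g') ≫ eta ξ = c := by
      intro g'
      conv_rhs => rw [← Scheme.Spec_stalkClosedPointTo_fromSpecStalk (eta ξ), ← Category.assoc,
        ← Spec.map_comp, cancel_mono, Spec.map_inj]
      exact ⟨fun h => CommRingCat.hom_ext h, fun h => congrArg CommRingCat.Hom.hom h⟩
    refine ⟨g.hom, ⟨(key g.hom).2 ?_, fun x => ?_⟩, fun g' ⟨h1, h2⟩ => ?_⟩
    · let N := Classical.arbitrary (Nbhd ξ)
      rw [← spec_germ_p ξ N, ← Category.assoc, ← Spec.map_comp]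
      exact (congrArg (· ≫ N.p) (hg N)).trans (hs N.pt).1
    · obtain ⟨N, a, rfl⟩ := exists_nbhd_eq x
      have h := (hs N.pt).2
      rw [← hg N, theta_pt] at h
      have h' := Spec.map_injective ((Spec.map_comp _ _).trans (h.trans (Spec.map_comp _ _).symm))
      exact ConcreteCategory.congr_hom h' a
    · refine RingHom.ext fun x => ?_
      obtain ⟨N, a, rfl⟩ := exists_nbhd_eq x
      have h : Spec.map (N.germ ≫ CommRingCat.ofHom g') = s N.pt := by
        refine hsu N.pt _ ⟨?_, ?_⟩
        · rw [Spec.map_comp]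
          refine (Category.assoc _ _ _).trans ?_
          change Spec.map _ ≫ Spec.map N.germ ≫ N.p = c
          rw [spec_germ_p]
          exact (key g').1 h1
        · rw [theta_pt]
          exact (Spec.map_comp _ _).symm.trans
            ((congrArg Spec.map (CommRingCat.hom_ext (RingHom.ext fun a => h2 (N.germ a)))).trans (Spec.map_comp _ _))
      exact ConcreteCategory.congr_hom (Spec.map_injective (h.trans (hg N).symm)) a

/-- The etale local ring is a strict henselization of the Zariski local ring at the image point. -/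
theorem exists_isStrictHenselization_etaleLocalRing (x : X) (hx : ξ default = x) :
    ∃ (_ : Algebra (X.presheaf.stalk x) (EtBase.etaleLocalRing ξ : Type u))
      (_ : IsLocalHom (algebraMap (X.presheaf.stalk x) (EtBase.etaleLocalRing ξ : Type u))),
      Hensel.IsStrictHenselization (X.presheaf.stalk x) (EtBase.etaleLocalRing ξ : Type u) := by
  obtain rfl := (eta_closedPoint ξ).trans hx
  obtain ⟨h, h'⟩ := isStrictHenselization_eta ξ
  exact ⟨_, h, h'⟩

end Groth.Agent.SpPts86
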