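import Groth.Agent.SpPts86.EtStalk
import Groth.Agent.SpPts86.EtLocalStrict

/-!
The etale local ring of an algebraic space through an etale chart.
-/

universe u

set_option autoImplicit false
set_option backward.isDefEq.respectTransparency false
set_option backward.isDefEq.respectTransparency.types false

open CategoryTheory CategoryTheory.Limits AlgebraicGeometry Opposite
open AlgSp Groth.Agent.SpFP87
open Groth.Agent.Unr55.EtSh (mkPt hom)

namespace Groth.Agent.SpPts86

variable {S : Scheme.{u}} {X : Sp S} {p : FieldPt X} {U : Over S} {a : (yon S).obj U ⟶ X}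
  {ha : RepWith @Etale a}

/-- The part of an etale neighbourhood lying over the chart. -/
structure Over86 (ha : RepWith @Etale a) (E : EtOver X) where
  /-- the scheme over the chart -/
  V : U.left.Etale
  /-- the projection -/
  q : (EtOver.ofChart a ha).obj V ⟶ E
  lift : ∀ (T : Over S) (f : T ⟶ U) (g : T ⟶ E.obj.left),
    (yon S).map f ≫ a = (yon S).map g ≫ E.obj.hom →
      ∃ k : T ⟶ EtOver.overOfEtale V, k ≫ EtOver.homOfEtale V = f ∧ k ≫ q.hom.left = g
  uniq : ∀ (T : Over S) (k k' : T ⟶ EtOver.overOfEtale V),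
    k ≫ EtOver.homOfEtale V = k' ≫ EtOver.homOfEtale V → k ≫ q.hom.left = k' ≫ q.hom.left → k = k'

theorem nonempty_over86 (hX : IsAlgSpace X) (ha : RepWith @Etale a) (E : EtOver X) :
    Nonempty (Over86 ha E) := by
  obtain ⟨W, f₁, f₂, sq⟩ := exists_isPullback_yon hX.diag a E.obj.hom
  have he : Etale f₁.left := etale_snd_of_isPullback sq.flip E.property
  let V : U.left.Etale := Scheme.Etale.mk f₁.left
  have hV : f₁.left ≫ U.hom = W.hom := Over.w f₁
  let i : W ⟶ EtOver.overOfEtale V := Over.homMk (𝟙 W.left) (by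
    show 𝟙 W.left ≫ f₁.left ≫ U.hom = W.hom
    rw [Category.id_comp, hV])
  let j : EtOver.overOfEtale V ⟶ W := Over.homMk (𝟙 W.left) (by
    show 𝟙 W.left ≫ W.hom = f₁.left ≫ U.hom
    rw [Category.id_comp, hV])
  have hij : i ≫ j = 𝟙 _ := Over.OverMorphism.ext (Category.id_comp _)
  have hji : j ≫ i = 𝟙 _ := Over.OverMorphism.ext (Category.id_comp _)
  have hj₁ : j ≫ f₁ = EtOver.homOfEtale V := Over.OverMorphism.ext (Category.id_comp _)
  refine ⟨⟨V, EtOver.homMk (j ≫ f₂) ?_, fun T f g hfg => ?_, fun T k k' h₁ h₂ => ?_⟩⟩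
  · show (yon S).map (j ≫ f₂) ≫ E.obj.hom = (yon S).map (EtOver.homOfEtale V) ≫ a
    rw [← hj₁, Functor.map_comp, Functor.map_comp, Category.assoc, Category.assoc, sq.w]
  · obtain ⟨k, hk⟩ := (yon S).map_surjective (sq.lift ((yon S).map f) ((yon S).map g) hfg)
    have k₁ : k ≫ f₁ = f := (yon S).map_injective (by rw [Functor.map_comp, hk, sq.lift_fst])
    have k₂ : k ≫ f₂ = g := (yon S).map_injective (by rw [Functor.map_comp, hk, sq.lift_snd])
    refine ⟨k ≫ i, ?_, ?_⟩
    · rw [← hj₁, Category.assoc, reassoc_of% hij, k₁]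
    · show (k ≫ i) ≫ j ≫ f₂ = g
      rw [Category.assoc, reassoc_of% hij, k₂]
  · change k ≫ j ≫ f₂ = k' ≫ j ≫ f₂ at h₂
    have h : k ≫ j = k' ≫ j := by
      apply (yon S).map_injective
      apply sq.hom_ext <;> rw [← Functor.map_comp, ← Functor.map_comp, Category.assoc, Category.assoc]
      · rw [hj₁, h₁]
      · rw [h₂]
    calc k = (k ≫ j) ≫ i := by rw [Category.assoc, hji, Category.comp_id]
      _ = (k' ≫ j) ≫ i := by rw [h]
      _ = k' := by rw [Category.assoc, hji, Category.comp_id]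

variable [IsSepClosed p.K] (l : p.pt ⟶ U)

/-- The point of a neighbourhood in the chart attached to a lift. -/
noncomputable def ptOf {V : U.left.Etale} (k : p.pt ⟶ EtOver.overOfEtale V)
    (h : k ≫ EtOver.homOfEtale V = l) : Unr55.EtSh.Pt l.left V :=
  mkPt l.left k.left (congrArg (fun m => m.left) h)

/-- The lift attached to a point of a neighbourhood in the chart. -/
noncomputable def liftOf {V : U.left.Etale} (t : Unr55.EtSh.Pt l.left V) :
    p.pt ⟶ EtOver.overOfEtale V :=
  Over.homMk (hom l.left t) (by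
    show hom l.left t ≫ V.hom ≫ U.hom = p.str
    rw [← Category.assoc]
    exact (congrArg (· ≫ U.hom) (Over.w t)).trans (Over.w l))

theorem liftOf_comp {V : U.left.Etale} (t : Unr55.EtSh.Pt l.left V) :
    liftOf l t ≫ EtOver.homOfEtale V = l :=
  Over.OverMorphism.ext (Over.w t)

omit [IsSepClosed p.K] in
theorem appTop_appTop_of_comp_eq {T T' T'' E : Over S} (f : T ⟶ T') (g : T' ⟶ E) (f' : T ⟶ T'') (g' : T'' ⟶ E)
    (h : f ≫ g = f' ≫ g') (s : Γ(E.left, ⊤)) :
    f.left.appTop (g.left.appTop s) = f'.left.appTop (g'.left.appTop s) := by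
  rw [← ConcreteCategory.comp_apply, ← Scheme.Hom.comp_appTop, ← Over.comp_left, h, Over.comp_left,
    Scheme.Hom.comp_appTop, ConcreteCategory.comp_apply]

omit [IsSepClosed p.K] in
theorem appTop_appTop_of_comp_eq_id {T T' : Over S} (f : T ⟶ T') (g : T' ⟶ T) (h : f ≫ g = 𝟙 T) (s : Γ(T.left, ⊤)) :
    f.left.appTop (g.left.appTop s) = s := by
  rw [← ConcreteCategory.comp_apply, ← Scheme.Hom.comp_appTop, ← Over.comp_left, h, Over.id_left,
    Scheme.Hom.id_appTop, ConcreteCategory.id_apply]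

/-- The etale local ring of an algebraic space is the etale local ring of a chart. -/
theorem nonempty_ringEquiv (hX : IsAlgSpace X) (hp : p.IsGeometric) (ha : RepWith @Etale a)
    (hl : (yon S).map l ≫ a = p.toHom) :
    Nonempty ((EtBase.etaleLocalRing l.left : Type u) ≃+* (OEtStalk p : Type (u + 1))) := by
  let Φ₁ := Scheme.pointSmallEtale (S := U.left) (Ω := p.K) l.left
  let Φ₂ := etPoint p hX hp
  let R : CommRingCat.{u + 1} := CommRingCat.of (ULift.{u + 1} (EtBase.etaleLocalRing l.left : Type u))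
  let D : ∀ E : EtOver X, Over86 ha E := fun E => (nonempty_over86 hX ha E).some
  have hk : ∀ (N : EtNbhd p), ∃ k : p.pt ⟶ EtOver.overOfEtale (D N.1).V,
      k ≫ EtOver.homOfEtale (D N.1).V = l ∧ k ≫ (D N.1).q.hom.left = N.2.1 :=
    fun N => (D N.1).lift p.pt l N.2.1 (hl.trans N.2.2.symm)
  choose k hk₁ hk₂ using hk
  let c : ∀ N : EtNbhd p, (OEt X).obj.obj (op N.1) ⟶ R := fun N =>
    CommRingCat.ofHom ((ULift.ringEquiv (R := (EtBase.etaleLocalRing l.left : Type u))).symm.toRingHom.comp
      (((D N.1).q.hom.left.left.appTop ≫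
        Φ₁.toPresheafFiber (D N.1).V (ptOf l (k N) (hk₁ N)) (EtBase.OO U.left)).hom.comp
          (ULift.ringEquiv (R := Γ(N.1.obj.left.left, ⊤))).toRingHom))
  have hc : ∀ (N : EtNbhd p) (s : Γ(N.1.obj.left.left, ⊤)), ((c N).hom (ULift.up s)).down =
      Φ₁.toPresheafFiber (D N.1).V (ptOf l (k N) (hk₁ N)) (EtBase.OO U.left)
        ((D N.1).q.hom.left.left.appTop s) := fun N s => rfl
  have hnat : ∀ {N N' : EtNbhd p} (g : N ⟶ N'), (OEt X).obj.map g.1.op ≫ c N = c N' := by
    intro N N' g
    obtain ⟨m, hm₁, hm₂⟩ := (D N'.1).lift _ (EtOver.homOfEtale (D N.1).V)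
      ((D N.1).q.hom.left ≫ g.1.hom.left) (by
        rw [Functor.map_comp, Category.assoc, EtOver.w g.1]
        exact (EtOver.w (D N.1).q).symm)
    let μ : (D N.1).V ⟶ (D N'.1).V := MorphismProperty.Over.homMk m.left (congrArg (fun f => f.left) hm₁) trivial
    have hμ : Φ₁.fiber.map μ (ptOf l (k N) (hk₁ N)) = ptOf l (k N') (hk₁ N') := by
      apply Over.OverMorphism.ext
      show (k N).left ≫ m.left = (k N').left
      rw [← Over.comp_left]
      refine congrArg (fun f => f.left) ((D N'.1).uniq _ (k N ≫ m) (k N') ?_ ?_)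
      · rw [Category.assoc, hm₁, hk₁, hk₁]
      · rw [Category.assoc, hm₂, reassoc_of% (hk₂ N), hk₂]
        exact congrArg Subtype.val g.2
    refine ConcreteCategory.hom_ext _ _ fun s => ULift.ext _ _ ?_
    obtain ⟨s⟩ := s
    show ((c N).hom ((OEt X).obj.map g.1.op (ULift.up s))).down = ((c N').hom (ULift.up s)).down
    rw [OEt_map, hc, hc, ← hμ, ← GrothendieckTopology.Point.toPresheafFiber_w_apply]
    refine congrArg _ ?_
    show (D N.1).q.hom.left.left.appTop (g.1.hom.left.left.appTop s) = m.left.appTop ((D N'.1).q.hom.left.left.appTop s)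
    exact (appTop_appTop_of_comp_eq (E := N'.1.obj.left) m (D N'.1).q.hom.left (D N.1).q.hom.left g.1.hom.left hm₂ s).symm
  let ρ : OEtStalk p ⟶ R := Φ₂.presheafFiberDesc (P := (OEt X).obj) (fun E u => c ⟨E, u⟩)
    (fun E E' g u => hnat (N := ⟨E, u⟩) (N' := ⟨E', (FieldPt.liftsTo p).map g u⟩) ⟨g, rfl⟩)
  have hρ : ∀ (N : EtNbhd p) (s : (OEt X).obj.obj (op N.1)),
      ρ (Φ₂.toPresheafFiber N.1 N.2 (OEt X).obj s) = c N s := fun N s =>
    ConcreteCategory.congr_hom (Φ₂.toPresheafFiber_presheafFiberDesc (P := (OEt X).obj) (fun E u => c ⟨E, u⟩)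
      (fun E E' g u => hnat (N := ⟨E, u⟩) (N' := ⟨E', (FieldPt.liftsTo p).map g u⟩) ⟨g, rfl⟩) N.1 N.2) s
  have hbij : Function.Bijective ρ := by
    constructor
    · intro x y hxy
      obtain ⟨E, u, ⟨s⟩, ⟨s'⟩, rfl, rfl⟩ := Φ₂.toPresheafFiber_jointly_surjective₂ x y
      let N : EtNbhd p := ⟨E, u⟩
      rw [hρ N, hρ N] at hxy
      have e := congrArg ULift.down hxy
      rw [hc, hc, Φ₁.toPresheafFiber_eq_iff'] at e
      obtain ⟨V, g, y, hy, e⟩ := e
      let m : (EtOver.ofChart a ha).obj V ⟶ E := (EtOver.ofChart a ha).map g ≫ (D E).q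
      let v : (FieldPt.liftsTo p).obj ((EtOver.ofChart a ha).obj V) := ⟨liftOf l y, by
        show (yon S).map (liftOf l y) ≫ (yon S).map (EtOver.homOfEtale V) ≫ a = p.toHom
        rw [← Category.assoc, ← Functor.map_comp, liftOf_comp, hl]⟩
      have hv : (FieldPt.liftsTo p).map m v = u := by
        apply Subtype.ext
        show liftOf l y ≫ ((EtOver.ofChart a ha).map g).hom.left ≫ (D E).q.hom.left = u.1
        refine Eq.trans ?_ (hk₂ N)
        rw [← Category.assoc]
        congr 1
        exact Over.OverMorphism.ext (congrArg (fun t => hom l.left t) hy)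
      rw [← hv]
      refine (Φ₂.toPresheafFiber_w_apply m v _ _).symm.trans (Eq.trans ?_ (Φ₂.toPresheafFiber_w_apply m v _ _))
      refine congrArg _ (ULift.ext _ _ ?_)
      rw [OEt_map, OEt_map]
      show (g.left ≫ (D E).q.hom.left.left).appTop s = (g.left ≫ (D E).q.hom.left.left).appTop s'
      rw [Scheme.Hom.comp_appTop, ConcreteCategory.comp_apply, ConcreteCategory.comp_apply]
      exact e
    · rintro ⟨r⟩
      obtain ⟨V, t, s, rfl⟩ := Φ₁.toPresheafFiber_jointly_surjective (P := EtBase.OO U.left) r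
      let E := (EtOver.ofChart a ha).obj V
      let v : (FieldPt.liftsTo p).obj E := ⟨liftOf l t, by
        show (yon S).map (liftOf l t) ≫ (yon S).map (EtOver.homOfEtale V) ≫ a = p.toHom
        rw [← Category.assoc, ← Functor.map_comp, liftOf_comp, hl]⟩
      let N : EtNbhd p := ⟨E, v⟩
      refine ⟨Φ₂.toPresheafFiber E v (OEt X).obj (ULift.up s), ?_⟩
      refine (hρ N _).trans (ULift.ext _ _ ?_)
      rw [hc]
      show _ = Φ₁.toPresheafFiber V t (EtBase.OO U.left) s
      obtain ⟨δ, hδ₁, hδ₂⟩ := (D E).lift _ (EtOver.homOfEtale V) (𝟙 _) (by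
        show (yon S).map (EtOver.homOfEtale V) ≫ a = (yon S).map (𝟙 _) ≫ (yon S).map (EtOver.homOfEtale V) ≫ a
        rw [CategoryTheory.Functor.map_id, Category.id_comp])
      let μ : V ⟶ (D E).V := MorphismProperty.Over.homMk δ.left (congrArg (fun f => f.left) hδ₁) trivial
      have hμ : Φ₁.fiber.map μ t = ptOf l (k N) (hk₁ N) := by
        apply Over.OverMorphism.ext
        show (liftOf l t).left ≫ δ.left = (k N).left
        rw [← Over.comp_left]
        refine congrArg (fun f => f.left) ((D E).uniq _ (liftOf l t ≫ δ) (k N) ?_ ?_)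
        · rw [Category.assoc, hδ₁, liftOf_comp, hk₁]
        · rw [Category.assoc, hδ₂, hk₂]
          exact Category.comp_id _
      rw [← hμ, ← GrothendieckTopology.Point.toPresheafFiber_w_apply]
      refine congrArg _ ?_
      show δ.left.appTop ((D E).q.hom.left.left.appTop s) = s
      exact appTop_appTop_of_comp_eq_id (T := EtOver.overOfEtale V) δ (D E).q.hom.left hδ₂ s
  exact ⟨ULift.ringEquiv.symm.trans (RingEquiv.ofBijective ρ.hom hbij).symm⟩

/-- The etale local ring at a geometric point is isomorphic to a strict henselization of the local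
ring of any chart through the point. -/
theorem exists_strictHenselization_ringEquiv (hX : IsAlgSpace X) (hp : p.IsGeometric) (ha : RepWith @Etale a)
    (u : ↥U.left) (hu : Points.ofPt a u = Points.mk p) :
    ∃ (R : Type u) (_ : CommRing R) (_ : IsLocalRing R) (_ : Algebra (U.left.presheaf.stalk u) R)
      (_ : IsLocalHom (algebraMap (U.left.presheaf.stalk u) R)),
      Hensel.IsStrictHenselization (U.left.presheaf.stalk u) R ∧
        EtCoh.IsStrictlyHenselianLocalRing R ∧ Nonempty (R ≃+* (OEtStalk p : Type (u + 1))) := by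
  obtain ⟨m, hm, hmu⟩ := exists_lift_of_etale ha p hp u hu
  have := isLocalRing_etaleLocalRing (X := U.left) (Ω := p.K) m.left
  obtain ⟨h1, h2, h3⟩ := exists_isStrictHenselization_etaleLocalRing (X := U.left) (Ω := p.K) m.left u
    ((congrArg m.left (Subsingleton.elim (α := PrimeSpectrum p.K) _ _)).trans hmu)
  exact ⟨_, inferInstance, this, h1, h2, h3, Unr55.EtSh.isStrictlyHenselian_etaleLocalRing _,
    nonempty_ringEquiv m hX hp ha hm⟩

end Groth.Agent.SpPts86
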