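import Groth.Agent.Unr55.Et.Lift
import Groth.Agent.Unr55.Et.UHEquiv
import Groth.Agent.EtCore45.IntegralUI

/-!
Etale schemes lift locally along integral universally injective morphisms.
-/

universe u

set_option autoImplicit false
set_option linter.style.haveILetI false
set_option backward.isDefEq.respectTransparency.types false

open CategoryTheory CategoryTheory.Limits AlgebraicGeometry

namespace Groth.Agent.SpPts86

theorem exists_etale_lift_integral_ui {A B : Scheme.{u}} (f : A ⟶ B) [IsIntegralHom f] [UniversallyInjective f]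
    {U : Scheme.{u}} (p : U ⟶ A) [Etale p] (x : U) :
    ∃ (V : Scheme.{u}) (q : V ⟶ B) (P : Scheme.{u}) (k : P ⟶ U) (a : P ⟶ V), Etale q ∧
      IsOpenImmersion k ∧ x ∈ Set.range k ∧ IsPullback a (k ≫ p) q f := by
  obtain ⟨_, _, _⟩ := Groth.Agent.EtCore45.toImage_props f
  obtain ⟨W, hxW, ⟨L⟩⟩ := Unr55.EtGlue.lift_of_isIntegralHom f.toImage U p x
  obtain ⟨V, q, P₂, k₂, a₂, hq, hk₂, ⟨y, hy⟩, sq₂⟩ :=
    Unr55.EtSh.exists_etale_lift_closed f.imageι L.q (L.a ⟨x, hxW⟩)
  haveI := hk₂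
  obtain ⟨z, hz, -⟩ := Scheme.Pullback.exists_preimage_pullback (f := L.a) (g := k₂) ⟨x, hxW⟩ y hy.symm
  refine ⟨V, q, pullback L.a k₂, pullback.fst L.a k₂ ≫ W.ι, pullback.snd L.a k₂ ≫ a₂, hq, inferInstance,
    ⟨z, ?_⟩, ?_⟩
  · rw [Scheme.Hom.comp_apply, hz]
    rfl
  · have h := (((IsPullback.of_hasPullback L.a k₂).flip).paste_vert L.isPullback).paste_horiz sq₂
    rw [f.toImage_imageι] at h
    simpa [Category.assoc] using h

end Groth.Agent.SpPts86
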