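import Groth.Agent.SpPts86.EtTopSupport
import Groth.Prelude.Def_AlgSpOX3
import Mathlib.CategoryTheory.CofilteredSystem

/-!
Points of the small etale topos are geometric points.
-/

universe u

set_option autoImplicit false
set_option backward.isDefEq.respectTransparency false
set_option linter.style.haveILetI false

open CategoryTheory CategoryTheory.Limits AlgebraicGeometry Opposite
open AlgSp Groth.Agent.SpFP87

namespace Groth.Agent.SpPts86

variable {S : Scheme.{u}} {X : Sp S} (P : GrothendieckTopology.Point.{u} (etTop X)) {p : FieldPt X}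
  {M₀ : P.fiber.Elements} (l₀ : (FieldPt.liftsTo p).obj M₀.1)

/-- The compatible lifts of the geometric point. -/
noncomputable def liftSys : Over M₀ ⥤ Type u where
  obj N := {l : (FieldPt.liftsTo p).obj N.left.1 //
    (FieldPt.liftsTo p).map N.hom.1 l = l₀ ∧ l.1.left (IsLocalRing.closedPoint p.K) = supp P N.left.2}
  map {N N'} g := ↾fun l => ⟨(FieldPt.liftsTo p).map g.left.1 l.1, by
      refine (Eq.trans ?_ l.2.1)
      rw [← ConcreteCategory.comp_apply, ← Functor.map_comp]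
      exact congrArg (fun m => (FieldPt.liftsTo p).map m l.1) (congrArg Subtype.val (Over.w g)), by
      show g.left.1.hom.left.left (l.1.1.left (IsLocalRing.closedPoint p.K)) = _
      rw [l.2.2, supp_map]
      exact congrArg (supp P) g.left.2⟩
  map_id N := by
    ext l
    exact Subtype.ext (Category.comp_id l.1.1)
  map_comp g g' := by
    ext l
    exact Subtype.ext (Category.assoc l.1.1 g.left.1.hom.left g'.left.1.hom.left).symm

theorem exists_wide_refinement {C : Type*} [Category C] [IsCofiltered C] {B : C} {ι : Type*} [Finite ι]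
    (M : ι → C) (f : ∀ s, M s ⟶ B) : ∃ (N : C) (a₀ : N ⟶ B) (b : ∀ s, N ⟶ M s), ∀ s, b s ≫ f s = a₀ := by
  induction ι using Finite.induction_empty_option with
  | of_equiv e ih =>
    obtain ⟨N, a₀, b, hb⟩ := ih (fun s => M (e s)) (fun s => f (e s))
    refine ⟨N, a₀, fun s => b (e.symm s) ≫ eqToHom (congrArg M (e.apply_symm_apply s)), fun s => ?_⟩
    rw [← hb (e.symm s), Category.assoc]
    congr 1
    have key : ∀ (s' : _) (h : s' = s), eqToHom (congrArg M h) ≫ f s = f s' := by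
      rintro _ rfl; exact Category.id_comp _
    exact key _ (e.apply_symm_apply s)
  | h_empty => exact ⟨B, 𝟙 B, fun s => s.elim, fun s => s.elim⟩
  | h_option ih =>
    obtain ⟨N, a₀, b, hb⟩ := ih (fun s => M (some s)) (fun s => f (some s))
    obtain ⟨W, c, c', hc⟩ := IsCofiltered.cospan a₀ (f none)
    exact ⟨W, c ≫ a₀, fun s => Option.rec c' (fun s => c ≫ b s) s, fun s => by
      cases s with
      | none => exact hc.symm
      | some s => exact (Category.assoc _ _ _).trans (congrArg (c ≫ ·) (hb s))⟩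

theorem finite_lifts {E V : EtOver X} (g : V ⟶ E) (l : (FieldPt.liftsTo p).obj E) (q : ↥V.obj.left.left) :
    Finite {m : (FieldPt.liftsTo p).obj V //
      (FieldPt.liftsTo p).map g m = l ∧ m.1.left (IsLocalRing.closedPoint p.K) = q} := by
  haveI : Etale g.hom.left.left := EtOver.etale_left g
  haveI := finite_lifts_at g.hom.left.left (K := p.K) l.1.left q
  refine Finite.of_injective (β := {m : Spec (CommRingCat.of p.K) ⟶ V.obj.left.left //
      m ≫ g.hom.left.left = l.1.left ∧ m (IsLocalRing.closedPoint p.K) = q})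
    (fun m => ⟨m.1.1.left, congrArg (fun k : (FieldPt.liftsTo p).obj E => k.1.left) m.2.1, m.2.2⟩)
    fun m m' e => ?_
  exact Subtype.ext (Subtype.ext (Over.OverMorphism.ext (congrArg Subtype.val e)))

theorem exists_sections_etTop (hp : p.IsGeometric) (hl₀ : l₀.1.left (IsLocalRing.closedPoint p.K) = supp P M₀.2) :
    (liftSys P l₀).sections.Nonempty := by
  haveI : ∀ N, Finite ((liftSys P l₀).obj N) := fun N => finite_lifts N.hom.1 l₀ (supp P N.left.2)
  haveI : ∀ N, Nonempty ((liftSys P l₀).obj N) := fun N => by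
    haveI : IsAlgClosed p.K := hp
    let g := N.hom.1
    haveI : Etale g.hom.left.left := EtOver.etale_left g
    obtain ⟨l, hl, hlx⟩ := Scheme.exists_fac_of_etale_of_isSepClosed g.hom.left.left (Ω := p.K) l₀.1.left
      (supp P N.left.2) (by
        rw [supp_map, show P.fiber.map g N.left.2 = M₀.2 from N.hom.2, ← hl₀]
        exact congrArg _ (Subsingleton.elim _ _))
    let l' : p.pt ⟶ N.left.1.obj.left := Over.homMk l (by
      rw [← Over.w g.hom.left, ← Category.assoc, hl]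
      exact Over.w l₀.1)
    have hl' : l' ≫ g.hom.left = l₀.1 := Over.OverMorphism.ext hl
    refine ⟨⟨⟨l', ?_⟩, Subtype.ext hl', ?_⟩⟩
    · rw [← EtOver.w g, ← Category.assoc, ← Functor.map_comp, hl']
      exact l₀.2
    · exact (congrArg l (Subsingleton.elim _ _)).trans hlx
  exact nonempty_sections_of_finite_cofiltered_system _

variable {l₀} (σ : ∀ N, (liftSys P l₀).obj N) (hσ : σ ∈ (liftSys P l₀).sections)

theorem exists_refine (M : P.fiber.Elements) : ∃ N : Over M₀, Nonempty (N.left ⟶ M) := by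
  obtain ⟨N, a, b, -⟩ := IsCofilteredOrEmpty.cone_objs M₀ M
  exact ⟨Over.mk a, ⟨b⟩⟩

include hσ in
theorem push_eq {M : P.fiber.Elements} (N N' : Over M₀) (b : N.left ⟶ M) (b' : N'.left ⟶ M) :
    (FieldPt.liftsTo p).map b.1 (σ N).1 = (FieldPt.liftsTo p).map b'.1 (σ N').1 := by
  obtain ⟨R, c, c', -⟩ := IsCofilteredOrEmpty.cone_objs N N'
  obtain ⟨R', d, hd⟩ := IsCofilteredOrEmpty.cone_maps (c.left ≫ b) (c'.left ≫ b')
  let T : Over M₀ := Over.mk (d ≫ R.hom)
  let e : T ⟶ R := Over.homMk d rfl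
  rw [← hσ (e ≫ c), ← hσ (e ≫ c')]
  show (FieldPt.liftsTo p).map b.1 ((FieldPt.liftsTo p).map (d ≫ c.left).1 (σ T).1) =
    (FieldPt.liftsTo p).map b'.1 ((FieldPt.liftsTo p).map (d ≫ c'.left).1 (σ T).1)
  rw [← ConcreteCategory.comp_apply, ← ConcreteCategory.comp_apply, ← Functor.map_comp, ← Functor.map_comp]
  refine congrArg (fun m => (FieldPt.liftsTo p).map m (σ T).1) ?_
  exact congrArg Subtype.val ((Category.assoc d c.left b).trans (hd.trans (Category.assoc d c'.left b').symm))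

/-- The lift attached to an element. -/
noncomputable def etaFun {V : EtOver X} (v : P.fiber.obj V) : (FieldPt.liftsTo p).obj V :=
  (FieldPt.liftsTo p).map (exists_refine P (M₀ := M₀) ⟨V, v⟩).choose_spec.some.1
    (σ (exists_refine P (M₀ := M₀) ⟨V, v⟩).choose).1

include hσ in
theorem etaFun_eq {V : EtOver X} (v : P.fiber.obj V) (N : Over M₀) (b : N.left ⟶ ⟨V, v⟩) :
    etaFun P σ v = (FieldPt.liftsTo p).map b.1 (σ N).1 := push_eq P σ hσ _ _ _ b

include hσ in
theorem etaFun_naturality {V V' : EtOver X} (g : V ⟶ V') (v : P.fiber.obj V) :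
    etaFun P σ (P.fiber.map g v) = (FieldPt.liftsTo p).map g (etaFun P σ v) := by
  obtain ⟨N, ⟨b⟩⟩ := exists_refine P (M₀ := M₀) ⟨V, v⟩
  rw [etaFun_eq P σ hσ v N b, etaFun_eq P σ hσ (P.fiber.map g v) N (b ≫ ⟨g, rfl⟩)]
  show (FieldPt.liftsTo p).map (b.1 ≫ g) _ = _
  rw [Functor.map_comp, ConcreteCategory.comp_apply]

include hσ in
theorem etaFun_supp {V : EtOver X} (v : P.fiber.obj V) :
    (etaFun P σ v).1.left (IsLocalRing.closedPoint p.K) = supp P v := by
  obtain ⟨N, ⟨b⟩⟩ := exists_refine P (M₀ := M₀) ⟨V, v⟩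
  rw [etaFun_eq P σ hσ v N b]
  show b.1.hom.left.left ((σ N).1.1.left (IsLocalRing.closedPoint p.K)) = _
  rw [(σ N).2.2, supp_map]
  exact congrArg (supp P) b.2

include hσ in
theorem etaFun_base : etaFun P σ M₀.2 = l₀ := by
  rw [etaFun_eq P σ hσ M₀.2 (Over.mk (𝟙 M₀)) (𝟙 M₀)]
  exact (σ (Over.mk (𝟙 M₀))).2.1

include hσ in
theorem etaFun_injective (V : EtOver X) : Function.Injective (etaFun P σ (V := V)) := by
  intro v v' h
  obtain ⟨W, w, a, a', hw, hw'⟩ : ∃ (W : EtOver X) (w : P.fiber.obj W) (a a' : W ⟶ V),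
      P.fiber.map a w = v ∧ P.fiber.map a' w = v' := by
    obtain ⟨R, a, a', -⟩ := IsCofilteredOrEmpty.cone_objs (C := P.fiber.Elements) ⟨V, v⟩ ⟨V, v'⟩
    exact ⟨R.1, R.2, a.1, a'.1, a.2, a'.2⟩
  let Pr := EtOver.prodObj V V
  have hP := EtOver.prodIsLimit V V
  let π₁ : Pr ⟶ V := EtOver.prodFst V V
  let π₂ : Pr ⟶ V := EtOver.prodSnd V V
  let Δ : V ⟶ Pr := (BinaryFan.IsLimit.lift' hP (𝟙 V) (𝟙 V)).1
  have hΔ₁ : Δ ≫ π₁ = 𝟙 V := (BinaryFan.IsLimit.lift' hP (𝟙 V) (𝟙 V)).2.1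
  have hΔ₂ : Δ ≫ π₂ = 𝟙 V := (BinaryFan.IsLimit.lift' hP (𝟙 V) (𝟙 V)).2.2
  let m : W ⟶ Pr := (BinaryFan.IsLimit.lift' hP a a').1
  have hm₁ : m ≫ π₁ = a := (BinaryFan.IsLimit.lift' hP a a').2.1
  have hm₂ : m ≫ π₂ = a' := (BinaryFan.IsLimit.lift' hP a a').2.2
  let l := etaFun P σ w
  have hl : (FieldPt.liftsTo p).map a l = (FieldPt.liftsTo p).map a' l := by
    rw [← etaFun_naturality P σ hσ, ← etaFun_naturality P σ hσ, hw, hw', h]
  let j := EtOver.pullbackFst m Δ
  have hj : j ≫ a = j ≫ a' := by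
    rw [← hm₁, ← hm₂, ← Category.assoc, ← Category.assoc, EtOver.pullback_condition, Category.assoc,
      Category.assoc, hΔ₁, hΔ₂]
  haveI : Etale j.hom.left.left := EtOver.etale_left j
  haveI : Mono Δ.hom.left.left := by
    have e : Δ.hom.left.left ≫ π₁.hom.left.left = 𝟙 _ := congrArg (fun g => g.hom.left.left) hΔ₁
    exact SplitMono.mono ⟨_, e⟩
  have sq := (IsPullback.of_hasPullback m.hom.left Δ.hom.left).map (Over.forget S)
  haveI : Mono j.hom.left.left :=
    MorphismProperty.of_isPullback (P := MorphismProperty.monomorphisms Scheme.{u}) sq.flip ‹Mono Δ.hom.left.left›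
  haveI : IsOpenImmersion j.hom.left.left := IsOpenImmersion.of_flat_of_mono j.hom.left.left
  have key : l.1 ≫ m.hom.left = (l.1 ≫ a.hom.left) ≫ Δ.hom.left := by
    refine Functor.relativelyRepresentable.hom_ext' _ ?_ ?_
    · show (l.1 ≫ m.hom.left) ≫ π₂.hom.left = ((l.1 ≫ a.hom.left) ≫ Δ.hom.left) ≫ π₂.hom.left
      rw [Category.assoc, Category.assoc, Category.assoc]
      show l.1 ≫ (m ≫ π₂).hom.left = l.1 ≫ (a ≫ Δ ≫ π₂).hom.left
      rw [hm₂, hΔ₂, Category.comp_id]
      exact (congrArg Subtype.val hl).symm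
    · show (l.1 ≫ m.hom.left) ≫ π₁.hom.left = ((l.1 ≫ a.hom.left) ≫ Δ.hom.left) ≫ π₁.hom.left
      rw [Category.assoc, Category.assoc, Category.assoc]
      show l.1 ≫ (m ≫ π₁).hom.left = l.1 ≫ (a ≫ Δ ≫ π₁).hom.left
      rw [hm₁, hΔ₁, Category.comp_id]
  obtain ⟨z, hz⟩ : supp P w ∈ Set.range j.hom.left.left := by
    rw [← etaFun_supp P σ hσ w]
    obtain ⟨z, hz, -⟩ := Scheme.exists_preimage_of_isPullback sq
      (l.1.left (IsLocalRing.closedPoint p.K)) ((l.1 ≫ a.hom.left).left (IsLocalRing.closedPoint p.K))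
      (congrArg (fun k : p.pt ⟶ Pr.obj.left => k.left (IsLocalRing.closedPoint p.K)) key)
    exact ⟨z, hz⟩
  obtain ⟨w', hw''⟩ := exists_lift_of_openImmersion P j w ⟨z, hz⟩
  rw [← hw, ← hw', ← hw'', ← ConcreteCategory.comp_apply, ← ConcreteCategory.comp_apply, ← Functor.map_comp,
    ← Functor.map_comp, hj]

include hσ in
theorem etaFun_surjective (V : EtOver X) : Function.Surjective (etaFun P σ (V := V)) := by
  intro w
  obtain ⟨E₀, e₀⟩ := M₀
  let Pr := EtOver.prodObj E₀ V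
  let π : Pr ⟶ E₀ := EtOver.prodFst E₀ V
  let π₂ : Pr ⟶ V := EtOver.prodSnd E₀ V
  obtain ⟨z, hz₁, hz₂⟩ : ∃ z : (FieldPt.liftsTo p).obj Pr,
      (FieldPt.liftsTo p).map π z = l₀ ∧ (FieldPt.liftsTo p).map π₂ z = w := by
    let z₀ : p.pt ⟶ Pr.obj.left := V.property.1.lift' w.1 l₀.1 (w.2.trans l₀.2.symm)
    have h₁ : z₀ ≫ π.hom.left = l₀.1 := Functor.relativelyRepresentable.lift'_snd _ _ _ _
    refine ⟨⟨z₀, ?_⟩, Subtype.ext h₁, Subtype.ext (Functor.relativelyRepresentable.lift'_fst _ _ _ _)⟩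
    rw [← EtOver.w π, ← Category.assoc, ← Functor.map_comp, h₁]
    exact l₀.2
  let q : ↥Pr.obj.left.left := z.1.left (IsLocalRing.closedPoint p.K)
  let T := {s : (FieldPt.liftsTo p).obj Pr //
    (FieldPt.liftsTo p).map π s = l₀ ∧ s.1.left (IsLocalRing.closedPoint p.K) = q}
  haveI : Finite T := finite_lifts π l₀ q
  let Fnd := {s : T // ∃ y, etaFun P σ y = s.1}
  haveI : Finite Fnd := inferInstance
  suffices hz : ∃ y, etaFun P σ y = z by
    obtain ⟨y, hy⟩ := hz
    exact ⟨P.fiber.map π₂ y, by rw [etaFun_naturality P σ hσ, hy, hz₂]⟩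
  have hsupp₀ : supp P e₀ = l₀.1.left (IsLocalRing.closedPoint p.K) := by
    rw [← etaFun_supp P σ hσ e₀, etaFun_base P σ hσ]
  choose y hy using fun s : Fnd => s.2
  have hye : ∀ s, P.fiber.map π (y s) = e₀ := fun s => etaFun_injective P σ hσ _ (by
    rw [etaFun_naturality P σ hσ, hy, s.1.2.1, etaFun_base P σ hσ])
  -- a common refinement of all elements found
  obtain ⟨N, a₀, b, hb⟩ := exists_wide_refinement (C := P.fiber.Elements) (B := ⟨E₀, e₀⟩)
    (fun _ : Fnd => Functor.elementsMk P.fiber Pr _) (fun s => CategoryOfElements.homMk (Functor.elementsMk P.fiber Pr (y s)) _ π (hye s))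
  let g : Fnd → (N.1 ⟶ Pr) := fun s => (b s).1
  have hgπ : ∀ s, g s ≫ π = a₀.1 := fun s => congrArg Subtype.val (hb s)
  have hgy : ∀ s, P.fiber.map (g s) N.2 = y s := fun s => (b s).2
  -- the base change to the refinement
  let Q := EtOver.pullbackObj π a₀.1
  let r : Q ⟶ Pr := EtOver.pullbackFst π a₀.1
  let ρ : Q ⟶ N.1 := EtOver.pullbackSnd π a₀.1
  let lN := etaFun P σ N.2
  have hlN : (FieldPt.liftsTo p).map a₀.1 lN = l₀ := by
    rw [← etaFun_naturality P σ hσ, a₀.2, etaFun_base P σ hσ]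
  obtain ⟨zz, hzz₁, hzz₂⟩ : ∃ zz : (FieldPt.liftsTo p).obj Q,
      (FieldPt.liftsTo p).map r zz = z ∧ (FieldPt.liftsTo p).map ρ zz = lN := by
    have e : z.1 ≫ π.hom.left = lN.1 ≫ a₀.1.hom.left := congrArg Subtype.val (hz₁.trans hlN.symm)
    let zz₀ : p.pt ⟶ Q.obj.left := pullback.lift z.1 lN.1 e
    have h₁ : zz₀ ≫ r.hom.left = z.1 := pullback.lift_fst _ _ _
    refine ⟨⟨zz₀, ?_⟩, Subtype.ext h₁, Subtype.ext (pullback.lift_snd _ _ _)⟩
    rw [← EtOver.w r, ← Category.assoc, ← Functor.map_comp, h₁]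
    exact z.2
  obtain ⟨w', hw'ρ, hw'q⟩ := exists_lift_supp P ρ N.2 (zz.1.left (IsLocalRing.closedPoint p.K)) (by
    rw [← etaFun_supp P σ hσ N.2]
    exact congrArg (fun k : (FieldPt.liftsTo p).obj N.1 => k.1.left (IsLocalRing.closedPoint p.K)) hzz₂)
  let y' := P.fiber.map r w'
  let z' := etaFun P σ y'
  have hz'π : (FieldPt.liftsTo p).map π z' = l₀ := by
    rw [← etaFun_naturality P σ hσ, ← ConcreteCategory.comp_apply, ← Functor.map_comp,
      EtOver.pullback_condition, Functor.map_comp, ConcreteCategory.comp_apply, hw'ρ, a₀.2, etaFun_base P σ hσ]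
  have hz'q : z'.1.left (IsLocalRing.closedPoint p.K) = q := by
    rw [etaFun_supp P σ hσ, ← supp_map, hw'q]
    exact congrArg (fun k : (FieldPt.liftsTo p).obj Pr => k.1.left (IsLocalRing.closedPoint p.K)) hzz₁
  let s : Fnd := ⟨⟨z', hz'π, hz'q⟩, y', rfl⟩
  -- the section of the base change
  let γ₀ : N.1.obj.left ⟶ Q.obj.left := pullback.lift (g s).hom.left (𝟙 _)
    ((congrArg (fun k : N.1 ⟶ E₀ => k.hom.left) (hgπ s)).trans (Category.id_comp _).symm)
  let γ : N.1 ⟶ Q := EtOver.homMk γ₀ (by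
    rw [← EtOver.w r, ← Category.assoc, ← Functor.map_comp,
      show γ₀ ≫ r.hom.left = (g s).hom.left from pullback.lift_fst _ _ _]
    exact EtOver.w (g s))
  have hγr : γ ≫ r = g s := EtOver.hom_ext _ _ (pullback.lift_fst _ _ _)
  have hγρ : γ ≫ ρ = 𝟙 _ := EtOver.hom_ext _ _ (pullback.lift_snd _ _ _)
  have hys : y s = y' := etaFun_injective P σ hσ _ (hy s)
  have hw' : P.fiber.map γ N.2 = w' := by
    refine etaFun_injective P σ hσ _ ?_
    rw [etaFun_naturality P σ hσ]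
    refine Subtype.ext (pullback.hom_ext ?_ ?_)
    · show (lN.1 ≫ γ.hom.left) ≫ r.hom.left = (etaFun P σ w').1 ≫ r.hom.left
      rw [Category.assoc]
      show lN.1 ≫ (γ ≫ r).hom.left = ((FieldPt.liftsTo p).map r (etaFun P σ w')).1
      rw [hγr, ← etaFun_naturality P σ hσ]
      show ((FieldPt.liftsTo p).map (g s) lN).1 = _
      rw [← etaFun_naturality P σ hσ, hgy, hys]
    · show (lN.1 ≫ γ.hom.left) ≫ ρ.hom.left = (etaFun P σ w').1 ≫ ρ.hom.left
      rw [Category.assoc]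
      show lN.1 ≫ (γ ≫ ρ).hom.left = ((FieldPt.liftsTo p).map ρ (etaFun P σ w')).1
      rw [hγρ, ← etaFun_naturality P σ hσ, hw'ρ]
      exact Category.comp_id _
  haveI : Etale ρ.hom.left.left := EtOver.etale_left ρ
  haveI : Etale γ.hom.left.left := EtOver.etale_left γ
  have hmem := eq_of_mem_section ρ.hom.left.left γ.hom.left.left
    (congrArg (fun k : N.1 ⟶ N.1 => k.hom.left.left) hγρ) (K := p.K) zz.1.left
    ⟨supp P N.2, by rw [supp_map, hw', hw'q]; rfl⟩
  have hzz : zz = (FieldPt.liftsTo p).map γ lN := by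
    refine Subtype.ext (Over.OverMorphism.ext (hmem.trans ?_))
    exact congrArg (fun k : (FieldPt.liftsTo p).obj N.1 => k.1.left ≫ γ.hom.left.left) hzz₂
  refine ⟨y s, ?_⟩
  rw [← hgy, etaFun_naturality P σ hσ, ← hzz₁, hzz, ← ConcreteCategory.comp_apply, ← Functor.map_comp, hγr]

include hσ in
theorem nonempty_fiber_iso : Nonempty (P.fiber ≅ FieldPt.liftsTo p) :=
  ⟨NatIso.ofComponents
    (fun V => (Equiv.ofBijective (etaFun P σ (V := V))
      ⟨etaFun_injective P σ hσ V, etaFun_surjective P σ hσ V⟩).toIso)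
    (fun g => by ext v; exact etaFun_naturality P σ hσ g v)⟩

end Groth.Agent.SpPts86
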