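import Groth.Agent.SpPts86.EtPushImage
import Groth.Agent.SpPts86.EtLiftFinite
import Mathlib.Topology.Sober

/-!
The support of an element of a fibre functor on the small etale site.
-/

universe u

set_option autoImplicit false
set_option backward.isDefEq.respectTransparency false
set_option linter.style.haveILetI false

open CategoryTheory CategoryTheory.Limits AlgebraicGeometry Opposite
open AlgSp Groth.Agent.SpFP87

namespace Groth.Agent.SpPts86

variable {S : Scheme.{u}} {X : Sp S} (P : GrothendieckTopology.Point.{u} (etTop X))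

/-- An open subscheme of an object. -/
noncomputable def openObj (E : EtOver X) (U : E.obj.left.left.Opens) : EtOver X :=
  let c : Over.mk (U.ι ≫ E.obj.left.hom) ⟶ E.obj.left := Over.homMk U.ι rfl
  haveI : Etale c.left := inferInstanceAs (Etale U.ι)
  EtOver.mk ((yon S).map c ≫ E.obj.hom) (repWith_etale_comp c E.property)

/-- Its inclusion. -/
noncomputable def openHom (E : EtOver X) (U : E.obj.left.left.Opens) : openObj E U ⟶ E :=
  EtOver.homMk (Over.homMk U.ι rfl : Over.mk (U.ι ≫ E.obj.left.hom) ⟶ E.obj.left) rfl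

theorem openHom_left (E : EtOver X) (U : E.obj.left.left.Opens) : (openHom E U).hom.left.left = U.ι := rfl

theorem range_openHom (E : EtOver X) (U : E.obj.left.left.Opens) :
    Set.range (openHom E U).hom.left.left = (U : Set ↥E.obj.left.left) := U.range_ι

theorem exists_openHom_fac {V E : EtOver X} (j : V ⟶ E) (U : E.obj.left.left.Opens)
    (h : Set.range j.hom.left.left ⊆ (U : Set ↥E.obj.left.left)) :
    ∃ k : V ⟶ openObj E U, k ≫ openHom E U = j := by
  haveI : IsOpenImmersion (openHom E U).hom.left.left := inferInstanceAs (IsOpenImmersion U.ι)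
  have hr : Set.range j.hom.left.left ⊆ Set.range (openHom E U).hom.left.left := by rwa [range_openHom]
  let k₀ : V.obj.left ⟶ (openObj E U).obj.left :=
    Over.homMk (IsOpenImmersion.lift (openHom E U).hom.left.left j.hom.left.left hr) (by
      rw [← Over.w (openHom E U).hom.left, IsOpenImmersion.lift_fac_assoc]
      exact Over.w j.hom.left)
  have hk : k₀ ≫ (openHom E U).hom.left = j.hom.left := Over.OverMorphism.ext (IsOpenImmersion.lift_fac _ _ _)
  refine ⟨EtOver.homMk k₀ ?_, EtOver.hom_ext _ _ hk⟩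
  rw [← EtOver.w (openHom E U), ← EtOver.w j, ← hk, Functor.map_comp, Category.assoc]

/-- The element lifts to the open set. -/
def LiftsOpen {E : EtOver X} (e : P.fiber.obj E) (U : E.obj.left.left.Opens) : Prop :=
  ∃ e', P.fiber.map (openHom E U) e' = e

theorem liftsOpen_of_map {V E : EtOver X} (j : V ⟶ E) (v : P.fiber.obj V) (U : E.obj.left.left.Opens)
    (h : Set.range j.hom.left.left ⊆ (U : Set ↥E.obj.left.left)) : LiftsOpen P (P.fiber.map j v) U := by
  obtain ⟨k, rfl⟩ := exists_openHom_fac j U h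
  exact ⟨P.fiber.map k v, by rw [Functor.map_comp, ConcreteCategory.comp_apply]⟩

theorem LiftsOpen.mono {E : EtOver X} {e : P.fiber.obj E} {U U' : E.obj.left.left.Opens}
    (h : LiftsOpen P e U) (hle : U ≤ U') : LiftsOpen P e U' := by
  obtain ⟨e', rfl⟩ := h
  exact liftsOpen_of_map P _ e' U' (by rw [range_openHom]; exact hle)

theorem exists_common {V₁ V₂ E : EtOver X} (a₁ : V₁ ⟶ E) (a₂ : V₂ ⟶ E) (v₁ : P.fiber.obj V₁)
    (v₂ : P.fiber.obj V₂) (h : P.fiber.map a₁ v₁ = P.fiber.map a₂ v₂) :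
    ∃ (W : EtOver X) (w : P.fiber.obj W) (b₁ : W ⟶ V₁) (b₂ : W ⟶ V₂),
      b₁ ≫ a₁ = b₂ ≫ a₂ ∧ P.fiber.map b₁ w = v₁ ∧ P.fiber.map b₂ w = v₂ := by
  let M₁ : P.fiber.Elements := ⟨V₁, v₁⟩
  let M₂ : P.fiber.Elements := ⟨V₂, v₂⟩
  let M : P.fiber.Elements := ⟨E, P.fiber.map a₁ v₁⟩
  obtain ⟨W, b₁, b₂, hb⟩ := IsCofiltered.cospan (C := P.fiber.Elements)
    (⟨a₁, rfl⟩ : M₁ ⟶ M) (⟨a₂, h.symm⟩ : M₂ ⟶ M)
  exact ⟨W.1, W.2, b₁.1, b₂.1, congrArg Subtype.val hb, b₁.2, b₂.2⟩

theorem liftsOpen_inter {E : EtOver X} {e : P.fiber.obj E} {U U' : E.obj.left.left.Opens}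
    (h : LiftsOpen P e U) (h' : LiftsOpen P e U') : LiftsOpen P e (U ⊓ U') := by
  obtain ⟨e₁, he₁⟩ := h
  obtain ⟨e₂, he₂⟩ := h'
  obtain ⟨W, w, b₁, b₂, hb, hw₁, -⟩ := exists_common P _ _ e₁ e₂ (he₁.trans he₂.symm)
  rw [← he₁, ← hw₁, ← ConcreteCategory.comp_apply, ← Functor.map_comp]
  refine liftsOpen_of_map P _ w _ ?_
  rintro _ ⟨z, rfl⟩
  refine ⟨(range_openHom E U).subset ⟨b₁.hom.left.left z, rfl⟩, ?_⟩
  rw [hb]
  exact (range_openHom E U').subset ⟨b₂.hom.left.left z, rfl⟩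

theorem exists_liftsOpen_of_sSup {E : EtOver X} {e : P.fiber.obj E} (s : Set E.obj.left.left.Opens)
    (h : LiftsOpen P e (sSup s)) : ∃ U ∈ s, LiftsOpen P e U := by
  obtain ⟨e', rfl⟩ := h
  let R : Sieve (openObj E (sSup s)) :=
    { arrows := fun W k => ∃ U ∈ s, Set.range (k ≫ openHom E (sSup s)).hom.left.left ⊆ (U : Set ↥E.obj.left.left)
      downward_closed := by
        rintro W W' k ⟨U, hU, hle⟩ g
        refine ⟨U, hU, ?_⟩
        rintro _ ⟨z, rfl⟩
        exact hle ⟨g.hom.left.left z, rfl⟩ }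
  have hR : R ∈ etTop X _ := mem_etTop_of_forall _ fun x => by
    have hx : (openHom E (sSup s)).hom.left.left x ∈ sSup s := (range_openHom E _).subset ⟨x, rfl⟩
    obtain ⟨U, hU, hxU⟩ := TopologicalSpace.Opens.mem_sSup.1 hx
    obtain ⟨k, hk⟩ := exists_openHom_fac (openHom E U) (sSup s) (by
      rw [range_openHom]; exact fun y hy => TopologicalSpace.Opens.mem_sSup.2 ⟨U, hU, hy⟩)
    refine ⟨openObj E U, k, ⟨U, hU, by rw [hk, range_openHom]⟩, ?_⟩
    obtain ⟨y, hy⟩ := (range_openHom E U).ge hxU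
    haveI : IsOpenImmersion (openHom E (sSup s)).hom.left.left := inferInstanceAs (IsOpenImmersion (sSup s).ι)
    refine ⟨y, (openHom E (sSup s)).hom.left.left.isOpenEmbedding.injective ?_⟩
    rw [← hy, ← hk]
    rfl
  obtain ⟨W, k, ⟨U, hU, hle⟩, w, rfl⟩ := P.jointly_surjective R hR e'
  exact ⟨U, hU, by rw [← ConcreteCategory.comp_apply, ← Functor.map_comp]; exact liftsOpen_of_map P _ w U hle⟩

theorem exists_support {E : EtOver X} (e : P.fiber.obj E) :
    ∃ x : ↥E.obj.left.left, ∀ U : E.obj.left.left.Opens, LiftsOpen P e U ↔ x ∈ U := by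
  let W₀ : E.obj.left.left.Opens := sSup {U | ¬ LiftsOpen P e U}
  have hW₀ : ¬ LiftsOpen P e W₀ := fun h => by
    obtain ⟨U, hU, h'⟩ := exists_liftsOpen_of_sSup P _ h
    exact hU h'
  have key : ∀ U : E.obj.left.left.Opens, LiftsOpen P e U ↔ ((U : Set ↥E.obj.left.left) ∩ (W₀ : Set ↥E.obj.left.left)ᶜ).Nonempty := by
    refine fun U => ⟨fun h => ?_, fun ⟨x, hxU, hx⟩ => ?_⟩
    · by_contra hne
      refine hW₀ (h.mono P fun x hx => ?_)
      by_contra hx'
      exact hne ⟨x, hx, hx'⟩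
    · by_contra hU
      exact hx (TopologicalSpace.Opens.mem_sSup.2 ⟨U, hU, hxU⟩)
  have htop : LiftsOpen P e ⊤ := by
    have := liftsOpen_of_map P (𝟙 E) e ⊤ (Set.subset_univ _)
    simpa using this
  have hirr : IsIrreducible ((W₀ : Set ↥E.obj.left.left)ᶜ) := by
    obtain ⟨x, -, hx⟩ := (key ⊤).1 htop
    refine ⟨⟨x, hx⟩, fun A B hA hB hA' hB' => ?_⟩
    rw [Set.inter_comm] at hA' hB'
    obtain ⟨y, hy, hy'⟩ := (key (⟨A, hA⟩ ⊓ ⟨B, hB⟩)).1 (liftsOpen_inter P ((key ⟨A, hA⟩).2 hA') ((key ⟨B, hB⟩).2 hB'))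
    exact ⟨y, hy', hy⟩
  refine ⟨hirr.genericPoint, fun U => (key U).trans ?_⟩
  rw [Set.inter_comm]
  exact (hirr.isGenericPoint_genericPoint W₀.isOpen.isClosed_compl).mem_open_set_iff U.isOpen |>.symm

/-- The support of an element. -/
noncomputable def supp {E : EtOver X} (e : P.fiber.obj E) : ↥E.obj.left.left := (exists_support P e).choose

theorem mem_supp {E : EtOver X} (e : P.fiber.obj E) (U : E.obj.left.left.Opens) :
    LiftsOpen P e U ↔ supp P e ∈ U := (exists_support P e).choose_spec U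

theorem supp_map {V E : EtOver X} (g : V ⟶ E) (v : P.fiber.obj V) :
    g.hom.left.left (supp P v) = supp P (P.fiber.map g v) := by
  refine (inseparable_iff_forall_isOpen.2 fun U hU => ?_).eq
  rw [show (supp P (P.fiber.map g v) ∈ U) = (supp P (P.fiber.map g v) ∈ (⟨U, hU⟩ : E.obj.left.left.Opens)) from rfl,
    ← mem_supp]
  show supp P v ∈ g.hom.left.left ⁻¹ᵁ ⟨U, hU⟩ ↔ _
  rw [← mem_supp]
  constructor
  · rintro ⟨v', rfl⟩
    rw [← ConcreteCategory.comp_apply, ← Functor.map_comp]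
    refine liftsOpen_of_map P _ v' _ ?_
    rintro _ ⟨z, rfl⟩
    exact (range_openHom V _).subset ⟨z, rfl⟩
  · rintro ⟨e', he'⟩
    obtain ⟨W, w, b₁, b₂, hb, hw₁, -⟩ := exists_common P _ _ v e' he'.symm
    rw [← hw₁]
    refine liftsOpen_of_map P _ w _ ?_
    rintro _ ⟨z, rfl⟩
    show (b₁ ≫ g).hom.left.left z ∈ U
    rw [hb]
    exact (range_openHom E ⟨U, hU⟩).subset ⟨b₂.hom.left.left z, rfl⟩

theorem exists_lift_of_openImmersion {V E : EtOver X} (j : V ⟶ E) [IsOpenImmersion j.hom.left.left]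
    (e : P.fiber.obj E) (h : supp P e ∈ Set.range j.hom.left.left) : ∃ v, P.fiber.map j v = e := by
  obtain ⟨e', rfl⟩ := (mem_supp P e j.hom.left.left.opensRange).2 h
  have hr : Set.range (openHom E j.hom.left.left.opensRange).hom.left.left ⊆ Set.range j.hom.left.left := by
    rw [range_openHom]; exact subset_rfl
  let k₀ : (openObj E j.hom.left.left.opensRange).obj.left ⟶ V.obj.left :=
    Over.homMk (IsOpenImmersion.lift j.hom.left.left _ hr) (by
      rw [← Over.w j.hom.left, IsOpenImmersion.lift_fac_assoc]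
      exact Over.w (openHom E j.hom.left.left.opensRange).hom.left)
  have hk : k₀ ≫ j.hom.left = (openHom E j.hom.left.left.opensRange).hom.left :=
    Over.OverMorphism.ext (IsOpenImmersion.lift_fac _ _ _)
  refine ⟨P.fiber.map (EtOver.homMk k₀ ?_) e', ?_⟩
  · rw [← EtOver.w j, ← Category.assoc, ← Functor.map_comp, hk]
    exact EtOver.w (openHom E j.hom.left.left.opensRange)
  · rw [← ConcreteCategory.comp_apply, ← Functor.map_comp]
    exact congrArg (fun m => P.fiber.map m e') (EtOver.hom_ext _ _ hk)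

/-- Every point over the support is the support of a lift. -/
theorem exists_lift_supp {V E : EtOver X} (g : V ⟶ E) (e : P.fiber.obj E) (q : ↥V.obj.left.left)
    (hq : g.hom.left.left q = supp P e) : ∃ v, P.fiber.map g v = e ∧ supp P v = q := by
  haveI : Etale g.hom.left.left := EtOver.etale_left g
  obtain ⟨O, hqO, hO⟩ := exists_open_inter_fibre g.hom.left.left q
  let E₁ : E.obj.left.left.Opens := ⟨g.hom.left.left '' (O : Set ↥V.obj.left.left), g.hom.left.left.isOpenMap _ O.isOpen⟩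
  obtain ⟨e₁, he₁⟩ := (mem_supp P e E₁).2 (show supp P e ∈ g.hom.left.left '' _ from ⟨q, hqO, hq⟩)
  obtain ⟨k, hk⟩ := exists_openHom_fac (openHom V O ≫ g) E₁ (by
    rintro _ ⟨z, rfl⟩
    exact ⟨_, (range_openHom V O).subset ⟨z, rfl⟩, rfl⟩)
  have hR : Sieve.ofArrows (fun _ : PUnit.{1} => openObj V O) (fun _ => k) ∈ etTop X _ := by
    refine ofArrows_mem_etTop _ _ fun z => ⟨PUnit.unit, ?_⟩
    obtain ⟨y, hy, hy'⟩ := (range_openHom E E₁).subset ⟨z, rfl⟩
    obtain ⟨w, rfl⟩ := (range_openHom V O).ge hy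
    haveI : IsOpenImmersion (openHom E E₁).hom.left.left := inferInstanceAs (IsOpenImmersion E₁.ι)
    refine ⟨w, (openHom E E₁).hom.left.left.isOpenEmbedding.injective ?_⟩
    rw [← hy']
    exact congrArg (fun m : openObj V O ⟶ E => m.hom.left.left w) hk
  obtain ⟨W, h, hh, w, hw⟩ := P.jointly_surjective _ hR e₁
  obtain ⟨Z, a, b, hb, hab⟩ := hh
  obtain ⟨⟨⟩⟩ := hb
  refine ⟨P.fiber.map (openHom V O) (P.fiber.map a w), ?_, ?_⟩
  · rw [← he₁, ← hw, ← hab, Functor.map_comp, ConcreteCategory.comp_apply, ← ConcreteCategory.comp_apply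
      (P.fiber.map k), ← Functor.map_comp, hk, Functor.map_comp, ConcreteCategory.comp_apply]
  · refine hO _ ?_ ?_
    · rw [← supp_map]
      exact (range_openHom V O).subset ⟨_, rfl⟩
    · rw [supp_map, hq, ← ConcreteCategory.comp_apply, ← Functor.map_comp, ← hk, Functor.map_comp,
        ConcreteCategory.comp_apply, ← he₁, ← hw, ← hab, Functor.map_comp, ConcreteCategory.comp_apply]

end Groth.Agent.SpPts86
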