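import Mathlib.AlgebraicGeometry.Morphisms.Etale
import Mathlib.AlgebraicGeometry.Morphisms.Flat
import Mathlib.AlgebraicGeometry.Morphisms.UniversallyOpen
import Mathlib.RingTheory.Smooth.NoetherianDescent

/-!
Models over rings of finite type over the integers of etale surjective maps of affine schemes.
-/

universe u

set_option autoImplicit false
set_option backward.isDefEq.respectTransparency false
set_option linter.style.haveILetI false

open CategoryTheory CategoryTheory.Limits AlgebraicGeometry TensorProduct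

namespace Groth.Agent.SpPts86

variable (R : Type u) [CommRing R]

theorem exists_etale_model {A B : Type u} [CommRing A] [CommRing B] [Algebra R A] [Algebra A B]
    [Algebra.Etale A B] [Surjective (Spec.map (CommRingCat.ofHom (algebraMap A B)))] :
    ∃ (A₁ : Subalgebra R A) (V : Scheme.{u}) (ψ : V ⟶ Spec (CommRingCat.of A₁))
      (h : Spec (CommRingCat.of B) ⟶ V), A₁.FG ∧ IsAffine V ∧ Etale ψ ∧ Surjective ψ ∧
        IsPullback h (Spec.map (CommRingCat.ofHom (algebraMap A B))) ψ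
          (Spec.map (CommRingCat.ofHom (A₁.val : A₁ →+* A))) := by
  obtain ⟨A₀, B₀, _, _, hA₀, _, ⟨e⟩⟩ := Algebra.Etale.exists_subalgebra_fg R A B
  let ψ₀ : Spec (CommRingCat.of B₀) ⟶ Spec (CommRingCat.of A₀) :=
    Spec.map (CommRingCat.ofHom (algebraMap A₀ B₀))
  let g₀ : Spec (CommRingCat.of A) ⟶ Spec (CommRingCat.of A₀) :=
    Spec.map (CommRingCat.ofHom (A₀.val : A₀ →+* A))
  let m : Spec (CommRingCat.of B) ⟶ Spec (CommRingCat.of A) :=
    Spec.map (CommRingCat.ofHom (algebraMap A B))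
  let h₀ : Spec (CommRingCat.of B) ⟶ Spec (CommRingCat.of B₀) :=
    Spec.map (CommRingCat.ofHom ((e.symm : A ⊗[A₀] B₀ →+* B).comp
      (Algebra.TensorProduct.includeRight : B₀ →ₐ[A₀] A ⊗[A₀] B₀).toRingHom))
  have hψ₀ : Etale ψ₀ := by
    refine (HasRingHomProperty.Spec_iff (P := @Etale)).mpr ?_
    exact RingHom.etale_algebraMap.mpr ‹_›
  have hm : m = Spec.map (CommRingCat.ofHom (e.symm : A ⊗[A₀] B₀ →+* B)) ≫
      Spec.map (CommRingCat.ofHom (Algebra.TensorProduct.includeLeftRingHom : A →+* A ⊗[A₀] B₀)) := by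
    rw [← Spec.map_comp]
    exact congrArg Spec.map (CommRingCat.hom_ext (RingHom.ext fun a => (e.symm.commutes a).symm))
  have sqP : IsPullback
      (Spec.map (CommRingCat.ofHom (Algebra.TensorProduct.includeRight : B₀ →ₐ[A₀] A ⊗[A₀] B₀).toRingHom))
      (Spec.map (CommRingCat.ofHom (Algebra.TensorProduct.includeLeftRingHom : A →+* A ⊗[A₀] B₀))) ψ₀ g₀ :=
    (IsPullback.of_iso (IsPullback.of_hasPullback _ _) (pullbackSpecIso A₀ A B₀) (Iso.refl _) (Iso.refl _)
      (Iso.refl _) (by simp [pullbackSpecIso_hom_fst]) (by simp [pullbackSpecIso_hom_snd]) (by simp; rfl)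
      (by simp; rfl)).flip
  let eS : Spec (CommRingCat.of B) ≅ Spec (CommRingCat.of (A ⊗[A₀] B₀)) :=
    Scheme.Spec.mapIso e.symm.toRingEquiv.toCommRingCatIso.op
  have sq₀ : IsPullback h₀ m ψ₀ g₀ := by
    refine sqP.of_iso eS.symm (Iso.refl _) (Iso.refl _) (Iso.refl _) ?_ ?_ (by simp) (by simp)
    · rw [Iso.refl_hom, Category.comp_id, Iso.symm_hom, Iso.eq_inv_comp]
      simp only [h₀, eS]
      exact (Spec.map_comp _ _).symm
    · rw [Iso.refl_hom, Category.comp_id, Iso.symm_hom, Iso.eq_inv_comp, hm]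
      rfl
  let J : Ideal A₀ := PrimeSpectrum.vanishingIdeal (Set.range ψ₀)ᶜ
  have hop : IsOpen (Set.range ψ₀) := ψ₀.isOpenMap.isOpen_range
  have hJ : J.map (algebraMap A₀ A) = ⊤ := by
    by_contra hne
    obtain ⟨n, hn, hle⟩ := Ideal.exists_le_maximal _ hne
    obtain ⟨b, hb⟩ := m.surjective (⟨n, hn.isPrime⟩ : Spec (CommRingCat.of A))
    have hmem : g₀ ⟨n, hn.isPrime⟩ ∈ Set.range ψ₀ :=
      ⟨h₀ b, by rw [← hb, ← Scheme.Hom.comp_apply, sq₀.w, Scheme.Hom.comp_apply]⟩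
    have hz : g₀ ⟨n, hn.isPrime⟩ ∈ PrimeSpectrum.zeroLocus (J : Set A₀) := fun a ha =>
      hle (Ideal.mem_map_of_mem _ ha)
    rw [PrimeSpectrum.zeroLocus_vanishingIdeal_eq_closure, hop.isClosed_compl.closure_eq] at hz
    exact hz hmem
  rw [Ideal.eq_top_iff_one, Ideal.map] at hJ
  obtain ⟨n, f, a, hfa⟩ := (Submodule.mem_span_set' (R := A)).1 hJ
  choose b hb hb' using fun i => (a i).2
  let A₁ : Subalgebra R A := A₀ ⊔ Algebra.adjoin R (Set.range f)
  have hle : A₀ ≤ A₁ := le_sup_left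
  let g₁ : Spec (CommRingCat.of A₁) ⟶ Spec (CommRingCat.of A₀) :=
    Spec.map (CommRingCat.ofHom (Subalgebra.inclusion hle : A₀ →+* A₁))
  let g : Spec (CommRingCat.of A) ⟶ Spec (CommRingCat.of A₁) :=
    Spec.map (CommRingCat.ofHom (A₁.val : A₁ →+* A))
  have hg : g ≫ g₁ = g₀ := by
    rw [← Spec.map_comp]; rfl
  have hsurj : Surjective (pullback.snd ψ₀ g₁) := by
    refine ⟨fun q => ?_⟩
    have hq : g₁ q ∈ Set.range ψ₀ := by
      by_contra hq
      have hJq : ∀ i, (Subalgebra.inclusion hle (b i)) ∈ q.asIdeal := fun i =>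
        (PrimeSpectrum.mem_vanishingIdeal (t := (Set.range ψ₀)ᶜ) _).1 (hb i) _ hq
      have h1 : ∑ i, (⟨f i, (le_sup_right : _ ≤ A₁) (Algebra.subset_adjoin ⟨i, rfl⟩)⟩ : A₁) *
          Subalgebra.inclusion hle (b i) = 1 := by
        apply Subtype.ext
        rw [AddSubmonoidClass.coe_finset_sum, OneMemClass.coe_one, ← hfa]
        exact Finset.sum_congr rfl fun i _ => congrArg (f i * ·) (hb' i)
      exact q.isPrime.ne_top ((Ideal.eq_top_iff_one _).2
        (h1 ▸ Ideal.sum_mem _ fun i _ => Ideal.mul_mem_left _ _ (hJq i)))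
    obtain ⟨p, hp⟩ := hq
    obtain ⟨z, -, hz⟩ := Scheme.Pullback.exists_preimage_pullback (f := ψ₀) (g := g₁) p q hp
    exact ⟨z, hz⟩
  let h : Spec (CommRingCat.of B) ⟶ pullback ψ₀ g₁ :=
    pullback.lift h₀ (m ≫ g) (by rw [Category.assoc, hg, sq₀.w])
  refine ⟨A₁, pullback ψ₀ g₁, pullback.snd ψ₀ g₁, h, hA₀.sup ?_,
    inferInstance, inferInstance, hsurj, ?_⟩
  · exact Subalgebra.fg_def.2 ⟨_, Set.finite_range f, rfl⟩
  · refine IsPullback.of_right (h₁₂ := pullback.fst ψ₀ g₁) (h₂₂ := g₁) ?_ (pullback.lift_snd _ _ _)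
      (IsPullback.of_hasPullback ψ₀ g₁)
    rw [pullback.lift_fst, hg]
    exact sq₀

end Groth.Agent.SpPts86
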