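import Groth.Agent.SpPts86.QuotSpace
import Groth.Agent.Grpd80.AffineEqRel
import Mathlib.AlgebraicGeometry.Morphisms.Descent

/-!
A sheaf with a finite etale covering map from an affine scheme is an affine scheme, given a map to
an affine scheme.
-/

universe u

set_option autoImplicit false

open CategoryTheory CategoryTheory.Limits AlgebraicGeometry
open AlgSp Groth.Agent.SpFP87

namespace Groth.Agent.SpPts86

variable {S : Scheme.{u}} {R U : Over S} {s t : R ⟶ U}

theorem arrow_ext (h : IsEqvRel s t) {T : Scheme.{u}} {α β : T ⟶ R.left}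
    (ht : α ≫ t.left = β ≫ t.left) (hs : α ≫ s.left = β ≫ s.left) : α = β := by
  have e : β ≫ R.hom = α ≫ R.hom := by
    rw [← Over.w t, ← Category.assoc, ← Category.assoc, ht]
  exact congrArg CommaMorphism.left (h.injective (Over.mk (α ≫ R.hom)) (Over.homMk α rfl)
    (Over.homMk β e) (Over.OverMorphism.ext ht) (Over.OverMorphism.ext hs))

theorem exists_groupoid (h : IsEqvRel s t) : ∃ G : Grpd.GroupoidScheme S,
    ∃ (eU : G.U = U.left) (eR : G.R = R.left), HEq G.s s.left ∧ HEq G.t t.left ∧ Mono G.j := by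
  obtain ⟨r₀, hr₁, hr₂⟩ := (h.equivalence U).refl (𝟙 U)
  obtain ⟨σ, hσ₁, hσ₂⟩ := (h.equivalence R).symm (x := t) (y := s) ⟨𝟙 R, by simp, by simp⟩
  let P : Over S := Over.mk (pullback.fst s.left t.left ≫ R.hom)
  let p₁ : P ⟶ R := Over.homMk (pullback.fst s.left t.left) rfl
  let p₂ : P ⟶ R := Over.homMk (pullback.snd s.left t.left) (by
    change pullback.snd s.left t.left ≫ R.hom = pullback.fst s.left t.left ≫ R.hom
    rw [← Over.w t, ← pullback.condition_assoc, Over.w s, Over.w t])
  obtain ⟨τ, hτ₁, hτ₂⟩ := (h.equivalence P).trans (x := p₁ ≫ t) (y := p₁ ≫ s) (z := p₂ ≫ s)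
    ⟨p₁, rfl, rfl⟩ ⟨p₂, Over.OverMorphism.ext pullback.condition.symm, rfl⟩
  have t₁ : τ.left ≫ t.left = pullback.fst s.left t.left ≫ t.left :=
    congrArg CommaMorphism.left hτ₁
  have t₂ : τ.left ≫ s.left = pullback.snd s.left t.left ≫ s.left :=
    congrArg CommaMorphism.left hτ₂
  have e₁ : r₀.left ≫ t.left = 𝟙 _ := congrArg CommaMorphism.left hr₁
  have e₂ : r₀.left ≫ s.left = 𝟙 _ := congrArg CommaMorphism.left hr₂
  have i₁ : σ.left ≫ t.left = s.left := congrArg CommaMorphism.left hσ₁
  have i₂ : σ.left ≫ s.left = t.left := congrArg CommaMorphism.left hσ₂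
  let G : Grpd.GroupoidScheme S :=
    { U := U.left, R := R.left, pU := U.hom, pR := R.hom, s := s.left, t := t.left
      e := r₀.left, i := σ.left, c := τ.left
      s_over := Over.w s, t_over := Over.w t
      comp_s := fun α β w => by rw [Category.assoc, t₂, pullback.lift_snd_assoc]
      comp_t := fun α β w => by rw [Category.assoc, t₁, pullback.lift_fst_assoc]
      assoc := fun α β γ h₁ h₂ => by
        refine arrow_ext h ?_ ?_
        · simp only [Category.assoc, t₁, pullback.lift_fst_assoc]
        · simp only [Category.assoc, t₂, pullback.lift_snd_assoc]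
      e_s := e₂, e_t := e₁
      comp_e := fun α => by
        refine arrow_ext h ?_ ?_
        · simp only [Category.assoc, t₁, pullback.lift_fst_assoc]
        · simp only [Category.assoc, t₂, pullback.lift_snd_assoc, e₂, Category.comp_id]
      e_comp := fun α => by
        refine arrow_ext h ?_ ?_
        · simp only [Category.assoc, t₁, pullback.lift_fst_assoc, e₁, Category.comp_id]
        · simp only [Category.assoc, t₂, pullback.lift_snd_assoc]
      i_s := i₂, i_t := i₁
      comp_i := fun α => by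
        refine arrow_ext h ?_ ?_
        · simp only [Category.assoc, t₁, pullback.lift_fst_assoc, e₁, Category.comp_id]
        · simp only [Category.assoc, t₂, pullback.lift_snd_assoc, i₂, e₂, Category.comp_id]
      i_comp := fun α => by
        refine arrow_ext h ?_ ?_
        · simp only [Category.assoc, t₁, pullback.lift_fst_assoc, i₁, e₁, Category.comp_id]
        · simp only [Category.assoc, t₂, pullback.lift_snd_assoc, e₂, Category.comp_id] }
  refine ⟨G, rfl, rfl, HEq.rfl, HEq.rfl, ⟨fun {T} α β e => arrow_ext h ?_ ?_⟩⟩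
  · simpa only [Category.assoc, Grpd80.j_fst G] using
      congrArg (· ≫ pullback.fst G.pU G.pU) e
  · simpa only [Category.assoc, Grpd80.j_snd G] using
      congrArg (· ≫ pullback.snd G.pU G.pU) e

theorem exists_affine_quot (h : IsEqvRel s t) [IsAffine U.left] [IsAffine R.left]
    [IsFinite s.left] [Flat s.left] [LocallyOfFinitePresentation s.left] :
    ∃ (M : Scheme.{u}) (m : U.left ⟶ M), IsAffine M ∧ fppfSurj m ∧
      IsPullback t.left s.left m m ∧ QuasiCompact m := by
  obtain ⟨G, eU, eR, hs, ht, hmono⟩ := exists_groupoid h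
  obtain ⟨GU, GR, pU, pR, Gs, Gt, e, i, c, h1, h2, h3, h4, h5, h6, h7, h8, h9, h10, h11, h12, h13⟩ := G
  change GU = U.left at eU
  change GR = R.left at eR
  subst eU eR
  change HEq Gs s.left at hs
  change HEq Gt t.left at ht
  obtain rfl := eq_of_heq hs
  obtain rfl := eq_of_heq ht
  let G : Grpd.GroupoidScheme S :=
    ⟨_, _, pU, pR, s.left, t.left, e, i, c, h1, h2, h3, h4, h5, h6, h7, h8, h9, h10, h11, h12, h13⟩
  have : IsAffine G.U := inferInstanceAs (IsAffine U.left)
  have : IsAffine G.R := inferInstanceAs (IsAffine R.left)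
  have : IsFinite G.s := inferInstanceAs (IsFinite s.left)
  have : Flat G.s := inferInstanceAs (Flat s.left)
  have : LocallyOfFinitePresentation G.s := inferInstanceAs (LocallyOfFinitePresentation s.left)
  have : Mono G.j := hmono
  obtain ⟨⟨hf, hfl, hfp, hsurj⟩, sq⟩ := Grpd80.affine_equivRel G
  exact ⟨_, G.toQuot, inferInstance, (fppfSurj_iff _).2 ⟨hsurj, hfl, hfp⟩, sq, inferInstance⟩

/-- A sheaf with a finite etale covering by an affine scheme and a map to an affine scheme is
represented by an affine scheme. -/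
theorem exists_iso_affine_of_finite_cover {F : Sp S} {T : Over S} [IsAffine T.left]
    (f : F ⟶ (yon S).obj T) {q : (yon S).obj U ⟶ F} (hq : LocLift q)
    (sq : IsPullback ((yon S).map t) ((yon S).map s) q q) [IsAffine U.left] [IsAffine R.left]
    [IsFinite s.left] [Etale s.left] :
    ∃ (M : Over S), IsAffine M.left ∧ Nonempty ((yon S).obj M ≅ F) := by
  obtain ⟨M₀, m₀, hM, hm, sqm, hqc⟩ := exists_affine_quot (isEqvRel_of_isPullback sq)
  obtain ⟨v, hv⟩ := (yon S).map_surjective (q ≫ f)
  obtain ⟨h1, h2, h3⟩ := (fppfSurj_iff _).1 hm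
  have w : t ≫ v = s ≫ v := (yon S).map_injective (by
    rw [Functor.map_comp, Functor.map_comp, hv, ← Category.assoc, sq.w, Category.assoc])
  have wl : t.left ≫ v.left = s.left ≫ v.left := congrArg CommaMorphism.left w
  have key : ∀ {Z : Scheme.{u}} (g₁ g₂ : Z ⟶ U.left), g₁ ≫ m₀ = g₂ ≫ m₀ →
      g₁ ≫ v.left = g₂ ≫ v.left := fun g₁ g₂ e => by
    rw [← sqm.lift_fst g₁ g₂ e, Category.assoc, wl, sqm.lift_snd_assoc]
  let φ : M₀ ⟶ T.left := EffectiveEpi.desc m₀ v.left key
  have hφ : m₀ ≫ φ = v.left := EffectiveEpi.fac _ _ _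
  let M : Over S := Over.mk (φ ≫ T.hom)
  let m : U ⟶ M := Over.homMk m₀ (by
    change m₀ ≫ φ ≫ T.hom = U.hom
    rw [← Category.assoc, hφ, Over.w v])
  have sqM : IsPullback t s m m := IsPullback.of_map (Over.forget S)
    (Over.OverMorphism.ext sqm.w) sqm
  have hlift : LocLift ((yon S).map m) :=
    locLift_of_repWith le_rfl ((repWith_yon_map_iff (S := S) fppfSurj m).2 hm)
  obtain ⟨hc⟩ := isColimit_cofork hq sq
  obtain ⟨hc'⟩ := isColimit_cofork hlift (sqM.map (yon S))
  exact ⟨M, hM, ⟨IsColimit.coconePointUniqueUpToIso hc' hc⟩⟩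

end Groth.Agent.SpPts86
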