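import Groth.Agent.SpPts86.LqfSepScheme
import Groth.Agent.SpPts86.LqfSepQuot
import Groth.Agent.SpPts86.AffHull
import Groth.Agent.SpPts86.AffineCharts
import Groth.Agent.SpPts86.Separation
import Groth.Agent.SpPts86.Graph
import Groth.Agent.SpPts86.Finite
import Groth.Agent.SpFP87.RepLocT

/-!
Etale locally on the affine hull, a separated quasi-finite space over an affine scheme is the hull.
-/

universe u

set_option autoImplicit false

open CategoryTheory CategoryTheory.Limits AlgebraicGeometry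
open AlgSp Groth.Agent.SpFP87

namespace Groth.Agent.SpPts86

variable {S : Scheme.{u}}

theorem isPullback_left' {A B C D : Over S} {p : A ⟶ B} {q : A ⟶ C} {r : B ⟶ D} {s : C ⟶ D}
    (h : IsPullback p q r s) : IsPullback p.left q.left r.left s.left :=
  h.map (Over.forget S)

theorem isAffine_of_isPullback_affine {P X Y Z : Scheme.{u}} {fst : P ⟶ X} {snd : P ⟶ Y}
    {f : X ⟶ Z} {g : Y ⟶ Z} (sq : IsPullback fst snd f g) [IsAffine X] [IsAffine Y] [IsAffine Z] :
    IsAffine P := by
  have : IsAffineHom f := isAffineHom_of_isAffine f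
  have : IsAffineHom snd := MorphismProperty.of_isPullback (P := @IsAffineHom) sq this
  exact isAffine_of_isAffineHom snd

theorem repWith_closedImm_le_finite {F G : Sp S} {a : F ⟶ G} (h : RepWith @IsClosedImmersion a) :
    RepWith @IsFinite a :=
  repWith_mono (fun _ _ _ h => by haveI := h; exact inferInstance) h

variable {T : Over S} {F : Sp S} {R U H : Over S}

set_option maxHeartbeats 1000000 in
/-- Etale locally on the hull, near the image of a point of the chart, the space is the hull. -/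
theorem exists_local_chart [IsAffine T.left] [IsAffine U.left] [IsAffine R.left] [IsAffine H.left]
    (hF : IsAlgSpace F) {f : F ⟶ (yon S).obj T} (hsep : IsSeparatedMor f)
    {p : (yon S).obj U ⟶ F} (he : RepWith @Etale p) (hs : RepWith @Surjective p) {t s : R ⟶ U}
    (sq : IsPullback ((yon S).map t) ((yon S).map s) p p) {γ : U ⟶ H}
    (hh : IsAffHull t.left s.left γ.left) {g : F ⟶ (yon S).obj H} (hg : p ≫ g = (yon S).map γ)
    {hT : H ⟶ T} (hf : g ≫ (yon S).map hT = f) [LocallyQuasiFinite (γ ≫ hT).left]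
    [LocallyOfFiniteType (γ ≫ hT).left] (u₀ : ↥U.left) :
    ∃ (O : Over S) (o : O ⟶ H) (q : (yon S).obj O ⟶ F), Etale o.left ∧
      IsPullback q (𝟙 _) g ((yon S).map o) ∧ γ.left u₀ ∈ Set.range o.left := by
  obtain ⟨T₀, τ, hT₀, hτ, hloc⟩ := exists_etale_finite_nhd (γ ≫ hT).left u₀
  let T' : Over S := Over.mk (τ ≫ T.hom)
  let c : T' ⟶ T := Over.homMk τ rfl
  have : IsAffine T'.left := hT₀
  have hc : Etale c.left := hτ
  have wγ : t ≫ γ = s ≫ γ := Over.OverMorphism.ext hh.w
  -- the base change of the hull, the chart and the relation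
  let H' := pullback hT c
  let hH : H' ⟶ H := pullback.fst hT c
  let qH : H' ⟶ T' := pullback.snd hT c
  have sqH : IsPullback hH qH hT c := IsPullback.of_hasPullback _ _
  have : IsAffine H'.left := isAffine_of_isPullback_affine (isPullback_left' sqH)
  let U' := pullback γ hH
  let aU : U' ⟶ U := pullback.fst γ hH
  let γ' : U' ⟶ H' := pullback.snd γ hH
  have sqU : IsPullback aU γ' γ hH := IsPullback.of_hasPullback _ _
  have : IsAffine U'.left := isAffine_of_isPullback_affine (isPullback_left' sqU)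
  let R' := pullback t aU
  let aR : R' ⟶ R := pullback.fst t aU
  let t' : R' ⟶ U' := pullback.snd t aU
  have sqR : IsPullback aR t' t aU := IsPullback.of_hasPullback _ _
  have : IsAffine R'.left := isAffine_of_isPullback_affine (isPullback_left' sqR)
  let s' : R' ⟶ U' := sqU.lift (aR ≫ s) (t' ≫ γ') (by
    rw [Category.assoc, Category.assoc, ← wγ, ← Category.assoc, sqR.w, Category.assoc, sqU.w])
  have ws : aR ≫ s = s' ≫ aU := (sqU.lift_fst _ _ _).symm
  have w' : t' ≫ γ' = s' ≫ γ' := (sqU.lift_snd _ _ _).symm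
  have : Flat c.left := inferInstance
  have hh' : IsAffHull t'.left s'.left γ'.left :=
    hh.baseChange (isPullback_left' sqH) (isPullback_left' sqU) (isPullback_left' sqR)
      (congrArg CommaMorphism.left ws) (congrArg CommaMorphism.left w')
  -- the base change of the space
  let b' : pullback g ((yon S).map hH) ⟶ F := pullback.fst _ _
  let g' : pullback g ((yon S).map hH) ⟶ (yon S).obj H' := pullback.snd _ _
  have sqF : IsPullback b' g' g ((yon S).map hH) := IsPullback.of_hasPullback _ _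
  have hF' : IsAlgSpace (pullback g ((yon S).map hH)) :=
    isAlgSpace_of_isPullback sqF hF (IsAlgSpace.yon_obj H') (IsAlgSpace.yon_obj H).diag
  let p' : (yon S).obj U' ⟶ pullback g ((yon S).map hH) :=
    sqF.lift ((yon S).map aU ≫ p) ((yon S).map γ')
      (by rw [Category.assoc, hg, ← Functor.map_comp, ← Functor.map_comp, sqU.w])
  have hp'g : p' ≫ g' = (yon S).map γ' := sqF.lift_snd _ _ _
  have hp'b : p' ≫ b' = (yon S).map aU ≫ p := sqF.lift_fst _ _ _
  have sqp : IsPullback p' ((yon S).map aU) b' p :=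
    (IsPullback.of_bot (by rw [hp'g, hg]; exact sqU.map (yon S)) hp'b.symm sqF).flip
  have hp'e : RepWith @Etale p' := (repWith_isStableUnderBaseChange _).of_isPullback sqp.flip he
  have hp's : RepWith @Surjective p' := (repWith_isStableUnderBaseChange _).of_isPullback sqp.flip hs
  have sq' : IsPullback ((yon S).map t') ((yon S).map s') p' p' := by
    refine IsPullback.of_bot ?_ ?_ sqp
    · rw [← Functor.map_comp, ← ws, hp'b, Functor.map_comp]
      exact (sqR.flip.map (yon S)).paste_vert sq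
    · rw [← cancel_epi (𝟙 ((yon S).obj R')), Category.id_comp, Category.id_comp]
      exact sqF.hom_ext
        (by simp only [Category.assoc, hp'b]; rw [← Functor.map_comp_assoc, ← Functor.map_comp_assoc,
              ← sqR.w, ← ws, Functor.map_comp_assoc, Functor.map_comp_assoc, sq.w])
        (by simp only [Category.assoc, hp'g]; rw [← Functor.map_comp, ← Functor.map_comp, w'])
  have : Etale t'.left := (etale_of_isPullback hp'e sq').2
  have : Etale s'.left := (etale_of_isPullback hp'e sq').1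
  have hsep' : IsSeparatedMor (g' ≫ (yon S).map qH) :=
    (repWith_isStableUnderBaseChange _).of_isPullback (isPullback_diagonal_baseChange
      (sqF.paste_vert (sqH.map (yon S)))) (by rw [hf]; exact hsep)
  -- the finite piece
  obtain ⟨V, x₀, hxV, hx₀, hfin⟩ := hloc U'.left aU.left (γ' ≫ qH).left
    (isPullback_left' (sqU.paste_vert sqH))
  have : IsFinite (V.ι ≫ (γ' ≫ qH).left) := hfin
  let jV : openOver U' V ⟶ U' := openIncl U' V
  have : IsAffine (openOver U' V).left := isAffine_of_isAffineHom (V.ι ≫ (γ' ≫ qH).left)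
  let q₀ : (yon S).obj (openOver U' V) ⟶ pullback g ((yon S).map hH) := (yon S).map jV ≫ p'
  have hq₀f : RepWith @IsFinite q₀ := by
    refine repWith_of_comp (b := g' ≫ (yon S).map qH) (repWith_closedImm_le_finite hsep') ?_
    rw [Category.assoc, reassoc_of% hp'g, ← Functor.map_comp, ← Functor.map_comp]
    exact (repWith_yon_map_iff _ _).2 hfin
  have : Etale jV.left := inferInstanceAs (Etale V.ι)
  have hq₀e : RepWith @Etale q₀ := repWith_etale_comp jV hp'e
  obtain ⟨V₁, snd, fst, sqV⟩ := hq₀f.rep p'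
  have : IsFinite snd.left := hq₀f.property p' fst snd sqV
  let P : Set ↥U'.left := Points.ofPt p' ⁻¹' Set.range (Points.ofPt q₀)
  have hPsnd : P = Set.range snd.left := by
    rw [← preimage_ofPt_range_map sqV]
    simp only [P, range_map_yon]
  have hPclopen : IsClopen P := by
    refine ⟨hPsnd ▸ snd.left.isClosedMap.isClosed_range, ?_⟩
    refine IsOpen.preimage (Points.continuous_ofPt p') ?_
    rw [← Set.image_univ]
    exact isOpenMap_ofPt hq₀e _ isOpen_univ
  have hVP : ∀ x ∈ V, x ∈ P := fun x hx => ⟨⟨x, hx⟩, by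
    change Points.ofPt ((yon S).map jV ≫ p') _ = _
    rw [ofPt_comp]; rfl⟩
  -- the idempotent
  obtain ⟨ε, hε, hεP⟩ := exists_idempotent_of_isClopen hPclopen
  have hts : t'.left.appTop.hom ε = s'.left.appTop.hom ε := by
    refine idempotent_ext (hε.map _) (hε.map _) ?_
    rw [← Scheme.preimage_basicOpen_top, ← Scheme.preimage_basicOpen_top]
    refine TopologicalSpace.Opens.ext ?_
    rw [TopologicalSpace.Opens.map_coe, TopologicalSpace.Opens.map_coe, hεP]
    ext z
    simp only [Set.mem_preimage, P]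
    rw [← ofPt_comp, ← ofPt_comp, sq'.w]
  obtain ⟨η, hη⟩ := hh'.exists_eq ε hts
  have hη' : IsIdempotentElem η :=
    hh'.injective (by rw [map_mul, hη]; exact hε.eq)
  let O' : H'.left.Opens := H'.left.basicOpen η
  let O : Over S := openOver H' O'
  let i : O ⟶ H' := openIncl H' O'
  have hγP : (γ'.left ⁻¹ᵁ O' : Set ↥U'.left) = P := by
    rw [← hεP, ← hη, Scheme.preimage_basicOpen_top]
  have : IsAffine O.left := (isAffineOpen_top H'.left).basicOpen η
  have : IsOpenImmersion i.left := inferInstanceAs (IsOpenImmersion O'.ι)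
  have hio : RepWith @IsOpenImmersion ((yon S).map i) := (repWith_yon_map_iff _ _).2 inferInstance
  -- the part of the space over it
  let ι : pullback g' ((yon S).map i) ⟶ pullback g ((yon S).map hH) := pullback.fst _ _
  let gO : pullback g' ((yon S).map i) ⟶ (yon S).obj O := pullback.snd _ _
  have sqO : IsPullback ι gO g' ((yon S).map i) := IsPullback.of_hasPullback _ _
  have hι : RepWith @IsOpenImmersion ι := (repWith_isStableUnderBaseChange _).of_isPullback sqO.flip hio
  have : Mono ι := mono_of_repWith_le isOpenImmersion_le_monomorphisms hι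
  have hFO : IsAlgSpace (pullback g' ((yon S).map i)) :=
    isAlgSpace_of_representable_mono hι.rep hF'
  let U1 : Over S := openOver U' (γ'.left ⁻¹ᵁ O')
  let jU : U1 ⟶ U' := openIncl U' (γ'.left ⁻¹ᵁ O')
  let γ1 : U1 ⟶ O := Over.homMk (γ'.left ∣_ O') (by
    change (γ'.left ∣_ O') ≫ O'.ι ≫ H'.hom = (γ'.left ⁻¹ᵁ O').ι ≫ U'.hom
    rw [← Category.assoc, morphismRestrict_ι, Category.assoc, Over.w γ'])
  have hγ1 : γ1 ≫ i = jU ≫ γ' := Over.OverMorphism.ext (morphismRestrict_ι _ _)
  let p1 : (yon S).obj U1 ⟶ pullback g' ((yon S).map i) :=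
    sqO.lift ((yon S).map jU ≫ p') ((yon S).map γ1)
      (by rw [Category.assoc, hp'g, ← Functor.map_comp, ← Functor.map_comp, hγ1])
  have hp1ι : p1 ≫ ι = (yon S).map jU ≫ p' := sqO.lift_fst _ _ _
  have hp1g : p1 ≫ gO = (yon S).map γ1 := sqO.lift_snd _ _ _
  have : Etale jU.left := inferInstanceAs (Etale (γ'.left ⁻¹ᵁ O').ι)
  have hp1e : RepWith @Etale p1 := repWith_of_comp_mono ι (by
    rw [hp1ι]; exact repWith_etale_comp jU hp'e)
  have hVU1 : V ≤ γ'.left ⁻¹ᵁ O' := fun x hx => hγP.ge (hVP x hx)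
  let k : openOver U' V ⟶ U1 := Over.homMk (U'.left.homOfLE hVU1) (by
    change U'.left.homOfLE hVU1 ≫ (γ'.left ⁻¹ᵁ O').ι ≫ U'.hom = V.ι ≫ U'.hom
    rw [Scheme.homOfLE_ι_assoc])
  have hk : k ≫ jU = jV := Over.OverMorphism.ext (U'.left.homOfLE_ι hVU1)
  let q₁ : (yon S).obj (openOver U' V) ⟶ pullback g' ((yon S).map i) := (yon S).map k ≫ p1
  have hq₁ : q₁ ≫ ι = q₀ := by
    rw [Category.assoc, hp1ι, ← Category.assoc, ← Functor.map_comp, hk]
  have hq₁f : RepWith @IsFinite q₁ := repWith_of_comp_mono ι (by rw [hq₁]; exact hq₀f)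
  have hq₁e : RepWith @Etale q₁ := repWith_of_comp_mono ι (by rw [hq₁]; exact hq₀e)
  have hsurj1 : ∀ x, x ∈ Set.range (Points.ofPt q₁) := fun x => by
    obtain ⟨z, hz⟩ := surjective_ofPt hp's (Points.map ι x)
    obtain ⟨o, ho⟩ := (Points.schemeHomeo O).surjective (Points.map gO x)
    have hzP : z ∈ P := by
      refine hγP.le ?_
      have e1 : Points.map g' (Points.ofPt p' z) = Points.schemeHomeo H' (γ'.left z) := by
        rw [Points.map_ofPt, hp'g, ofPt_yon_map]; rfl
      rw [hz, ← Points.map_comp, sqO.w, Points.map_comp, ← ho, Points.map_yon_map_apply] at e1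
      have e2 := (Points.schemeHomeo H').injective e1
      change γ'.left z ∈ (O' : Set ↥H'.left)
      rw [← e2]
      exact o.2
    obtain ⟨v, hv⟩ := hzP
    refine ⟨v, injective_map_of_mono ι ?_⟩
    rw [Points.map_ofPt, hq₁, hv, hz]
  have hq₁s : RepWith @Surjective q₁ :=
    repWith_surjective_of_surjective_ofPt hq₁e.rep hsurj1
  obtain ⟨R₁, t₁, s₁, sq₁⟩ := exists_isPullback_yon hFO.diag q₁ q₁
  have : IsFinite s₁.left := hq₁f.property q₁ _ s₁ sq₁
  have : Etale s₁.left := hq₁e.property q₁ _ s₁ sq₁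
  have : IsAffine R₁.left := isAffine_of_isAffineHom s₁.left
  obtain ⟨M, hM, ⟨e⟩⟩ := exists_iso_affine_of_finite_cover (ι ≫ g' ≫ (yon S).map qH)
    (locLift_of_atlas hq₁e hq₁s) sq₁
  -- compare with the hull
  obtain ⟨μ, hμ⟩ := (yon S).map_surjective (e.hom ≫ gO)
  obtain ⟨π, hπ⟩ := (yon S).map_surjective (p1 ≫ e.inv)
  have hπμ : π ≫ μ = γ1 := (yon S).map_injective (by
    rw [Functor.map_comp, hπ, hμ, Category.assoc, Iso.inv_hom_id_assoc, hp1g])
  let OR : R'.left.Opens := (t'.left ≫ γ'.left) ⁻¹ᵁ O'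
  have hOR : OR ≤ (s'.left ≫ γ'.left) ⁻¹ᵁ O' :=
    le_of_eq (congrArg (· ⁻¹ᵁ O') hh'.w)
  let Rr : Over S := openOver R' OR
  let tr : Rr ⟶ U1 := Over.homMk (t'.left.resLE (γ'.left ⁻¹ᵁ O') OR le_rfl) (by
    change t'.left.resLE _ _ _ ≫ (γ'.left ⁻¹ᵁ O').ι ≫ U'.hom = OR.ι ≫ R'.hom
    rw [Scheme.Hom.resLE_comp_ι_assoc, Over.w t'])
  let sr : Rr ⟶ U1 := Over.homMk (s'.left.resLE (γ'.left ⁻¹ᵁ O') OR hOR) (by
    change s'.left.resLE _ _ _ ≫ (γ'.left ⁻¹ᵁ O').ι ≫ U'.hom = OR.ι ≫ R'.hom
    rw [Scheme.Hom.resLE_comp_ι_assoc, Over.w s'])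
  have htr : tr ≫ jU = openIncl R' OR ≫ t' := Over.OverMorphism.ext (Scheme.Hom.resLE_comp_ι _ _)
  have hsr : sr ≫ jU = openIncl R' OR ≫ s' := Over.OverMorphism.ext (Scheme.Hom.resLE_comp_ι _ _)
  have hhO : IsAffHull tr.left sr.left γ1.left :=
    hh'.restrict hη' (iR := OR.ι) OR.range_ι (congrArg CommaMorphism.left htr)
      (congrArg CommaMorphism.left hsr)
  have hr1 : (yon S).map tr ≫ p1 = (yon S).map sr ≫ p1 := by
    rw [← cancel_mono ι, Category.assoc, Category.assoc, hp1ι, ← Functor.map_comp_assoc,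
      ← Functor.map_comp_assoc, htr, hsr, Functor.map_comp_assoc, Functor.map_comp_assoc, sq'.w]
  have wπ : tr.left ≫ π.left = sr.left ≫ π.left := congrArg CommaMorphism.left
    (show tr ≫ π = sr ≫ π from (yon S).map_injective (by
      rw [Functor.map_comp, Functor.map_comp, hπ, reassoc_of% hr1]))
  obtain ⟨κ₀, hκ₀⟩ := hhO.exists_desc π.left wπ
  have hκμ : κ₀ ≫ μ.left = 𝟙 _ := hhO.hom_ext (by
    rw [← Category.assoc, hκ₀, ← Over.comp_left, hπμ, Category.comp_id])
  let κ : O ⟶ M := Over.homMk κ₀ (by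
    rw [← Over.w μ, reassoc_of% hκμ])
  have hπκ : γ1 ≫ κ = π := Over.OverMorphism.ext hκ₀
  have hepi : Epi p1 := (locLift_of_atlas hp1e
    (repWith_surjective_of_surjective_ofPt hp1e.rep fun x => by
      obtain ⟨v, rfl⟩ := hsurj1 x
      exact ⟨k.left v, (ofPt_comp _ _ _).symm⟩)).epi
  have hepiπ : Epi ((yon S).map π) := by rw [hπ]; exact epi_comp _ _
  have hμκ : μ ≫ κ = 𝟙 M := (yon S).map_injective (by
    rw [← cancel_epi ((yon S).map π), ← Functor.map_comp, ← Category.assoc, hπμ, hπκ,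
      CategoryTheory.Functor.map_id, Category.comp_id])
  have : IsIso μ := ⟨κ, hμκ, Over.OverMorphism.ext hκμ⟩
  have : IsIso gO := by
    rw [show gO = e.inv ≫ (yon S).map μ by rw [hμ, Iso.inv_hom_id_assoc]]
    infer_instance
  refine ⟨O, i ≫ hH, inv gO ≫ ι ≫ b', ?_, ?_, ?_⟩
  · have : Etale hH.left := MorphismProperty.of_isPullback (P := @Etale) (isPullback_left' sqH).flip hc
    exact inferInstanceAs (Etale (O'.ι ≫ hH.left))
  · have sqT := sqO.paste_horiz sqF
    rw [← Functor.map_comp] at sqT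
    exact IsPullback.of_iso sqT (asIso gO) (Iso.refl _) (Iso.refl _) (Iso.refl _)
      (by simp) (by simp) (by simp) (by simp)
  · refine ⟨⟨γ'.left x₀, hγP.ge (hVP x₀ hxV)⟩, ?_⟩
    change hH.left (γ'.left x₀) = _
    rw [← hx₀, ← Scheme.Hom.comp_apply, ← Scheme.Hom.comp_apply,
      ← Over.comp_left, ← Over.comp_left, sqU.w]

end Groth.Agent.SpPts86
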