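import Mathlib.AlgebraicGeometry.ZariskisMainTheorem
import Mathlib.AlgebraicGeometry.Morphisms.Finite

/-!
Scheme lemmas for separated quasi-finite spaces: etale localisation of finiteness, idempotents of
clopen sets.
-/

universe u

set_option autoImplicit false

open CategoryTheory CategoryTheory.Limits AlgebraicGeometry

namespace Groth.Agent.SpPts86

theorem exists_etale_finite_nhd {U T : Scheme.{u}} (v : U ⟶ T) [LocallyOfFiniteType v]
    [IsSeparated v] [LocallyQuasiFinite v] (u₀ : ↥U) :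
    ∃ (T' : Scheme.{u}) (τ : T' ⟶ T), IsAffine T' ∧ Etale τ ∧
      ∀ (U' : Scheme.{u}) (a : U' ⟶ U) (b : U' ⟶ T'), IsPullback a b v τ →
        ∃ (V : U'.Opens) (x : ↥U'), x ∈ V ∧ a x = u₀ ∧ IsFinite (V.ι ≫ b) := by
  obtain ⟨T₀, τ₀, hτ₀, -, V₀, W₀, x₀, -, hfin, hx₀⟩ :=
    exists_etale_isCompl_of_quasiFiniteAt v rfl (v.quasiFiniteAt u₀)
  obtain ⟨A, hA, hxA, -⟩ := exists_isAffineOpen_mem_and_subset
    (x := pullback.snd v τ₀ x₀.1) (U := ⊤) trivial
  refine ⟨A.toScheme, A.ι ≫ τ₀, hA, inferInstance, fun U' a b sq => ?_⟩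
  let m : U' ⟶ pullback v τ₀ := pullback.lift a (b ≫ A.ι) (by rw [Category.assoc]; exact sq.w)
  have sqm : IsPullback m b (pullback.snd v τ₀) A.ι := by
    refine IsPullback.of_right ?_ (pullback.lift_snd _ _ _) (IsPullback.of_hasPullback v τ₀)
    rw [show m ≫ pullback.fst v τ₀ = a from pullback.lift_fst _ _ _]
    exact sq
  obtain ⟨x, hxm, hxb⟩ := Scheme.exists_preimage_of_isPullback sqm x₀.1 ⟨_, hxA⟩ rfl
  refine ⟨m ⁻¹ᵁ V₀, x, ?_, ?_, ?_⟩
  · change m x ∈ V₀
    rw [hxm]
    exact x₀.2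
  · rw [← hx₀, ← hxm, ← Scheme.Hom.comp_apply]
    rw [show m ≫ pullback.fst v τ₀ = a from pullback.lift_fst _ _ _]
  · have sq' := (isPullback_morphismRestrict m V₀).paste_vert sqm
    exact MorphismProperty.of_isPullback (P := @IsFinite) sq' hfin

/-- A clopen subset of an affine scheme is cut out by an idempotent. -/
theorem exists_idempotent_of_isClopen {X : Scheme.{u}} [IsAffine X] {s : Set ↥X}
    (hs : IsClopen s) : ∃ e : Γ(X, ⊤), IsIdempotentElem e ∧ (X.basicOpen e : Set ↥X) = s := by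
  let φ := X.isoSpec.inv.homeomorph
  obtain ⟨e, he, hes⟩ := PrimeSpectrum.exists_idempotent_basicOpen_eq_of_isClopen
    (s := φ ⁻¹' s) (hs.preimage φ.continuous)
  refine ⟨e, he, ?_⟩
  rw [← Scheme.toSpecΓ_preimage_basicOpen]
  ext x
  rw [TopologicalSpace.Opens.map_coe, Set.mem_preimage]
  refine (Set.ext_iff.1 hes (X.toSpecΓ x)).symm.trans ?_
  rw [Set.mem_preimage]
  have : φ (X.toSpecΓ x) = x := by
    change X.isoSpec.inv (X.isoSpec.hom x) = x
    exact Scheme.hom_inv_apply _ _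
  rw [this]

/-- An idempotent of an affine scheme is determined by the set where it is invertible. -/
theorem idempotent_ext {X : Scheme.{u}} [IsAffine X] {e e' : Γ(X, ⊤)} (he : IsIdempotentElem e)
    (he' : IsIdempotentElem e') (h : X.basicOpen e = X.basicOpen e') : e = e' := by
  refine PrimeSpectrum.basicOpen_injOn_isIdempotentElem he he' ?_
  ext y
  obtain ⟨x, rfl⟩ := X.isoSpec.hom.homeomorph.surjective y
  rw [← Scheme.toSpecΓ_preimage_basicOpen, ← Scheme.toSpecΓ_preimage_basicOpen] at h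
  exact SetLike.ext_iff.1 h x

end Groth.Agent.SpPts86
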