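import Mathlib.Algebra.Category.ModuleCat.Sheaf.PullbackFree
import Mathlib.Algebra.Category.ModuleCat.Sheaf.Quasicoherent
import Mathlib.CategoryTheory.Limits.Final
import Mathlib.CategoryTheory.Comma.Over.Basic

/-!
An object corepresenting the inverse image of a presented module is presented.
-/

universe v₁ v₂ u₁ u₂ u

set_option autoImplicit false
set_option backward.isDefEq.respectTransparency false

open CategoryTheory CategoryTheory.Limits Opposite

namespace Groth.Agent.SpPts86

open SheafOfModules

theorem final_overPost {C : Type u₁} [Category.{v₁} C] {D : Type u₂} [Category.{v₂} D] (F : C ⥤ D) (X : C) :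
    (Over.post (X := X) F).Final := by
  let T : Over X := Over.mk (𝟙 X)
  have hT : IsTerminal T := Over.mkIdTerminal
  have hT' : IsTerminal ((Over.post F).obj T) :=
    Over.mkIdTerminal.ofIso (Over.isoMk (f := Over.mk (𝟙 (F.obj X))) (g := (Over.post F).obj T) (Iso.refl _)
      ((Category.id_comp _).trans (F.map_id X)))
  haveI : (Functor.fromPUnit.{0} T).Final := Functor.final_fromPUnit_of_isTerminal hT
  haveI : (Functor.fromPUnit.{0} ((Over.post F).obj T)).Final := Functor.final_fromPUnit_of_isTerminal hT'
  haveI : (Functor.fromPUnit.{0} T ⋙ Over.post F).Final :=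
    Functor.final_of_natIso (F := Functor.fromPUnit.{0} ((Over.post F).obj T))
      (Discrete.natIso (fun _ => Iso.refl _))
  exact Functor.final_of_final_comp (Functor.fromPUnit.{0} T) (Over.post F)

variable {C : Type u₁} [Category.{v₁} C] {D : Type u₂} [Category.{v₂} D]
  {J : GrothendieckTopology C} {K : GrothendieckTopology D} {F : C ⥤ D}
  {S : Sheaf J RingCat.{u}} {R : Sheaf K RingCat.{u}}
  [Functor.IsContinuous F J K]
  [HasSheafify J AddCommGrpCat.{u}] [J.WEqualsLocallyBijective AddCommGrpCat.{u}]
  [HasSheafify K AddCommGrpCat.{u}] [K.WEqualsLocallyBijective AddCommGrpCat.{u}]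
  (φ : S ⟶ (F.sheafPushforwardContinuous RingCat.{u} J K).obj R)

/-- The tautological map of free modules. -/
noncomputable def freeToPushforward (σ : Type u) :
    free (R := S) σ ⟶ (SheafOfModules.pushforward.{u} φ).obj (free (R := R) σ) :=
  (freeHomEquiv _).symm fun i => pushforwardSections φ (freeSection i)

theorem freeHomEquiv_freeToPushforward_comp {σ : Type u} {N : SheafOfModules.{u} R} (g : free σ ⟶ N) (i : σ) :
    freeHomEquiv _ (freeToPushforward φ σ ≫ (SheafOfModules.pushforward φ).map g) i =
      pushforwardSections φ (freeHomEquiv N g i) := by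
  rw [freeHomEquiv_comp_apply, freeToPushforward, Equiv.apply_symm_apply]
  rfl

theorem bijective_freeToPushforward [F.Final] (σ : Type u) (N : SheafOfModules.{u} R) :
    Function.Bijective (fun g : free σ ⟶ N => freeToPushforward φ σ ≫ (SheafOfModules.pushforward φ).map g) := by
  have e : (fun g : free σ ⟶ N => freeToPushforward φ σ ≫ (SheafOfModules.pushforward φ).map g) =
      (freeHomEquiv _).symm ∘ (fun s => pushforwardSections φ (M := N) ∘ s) ∘ (freeHomEquiv N (I := σ)) := by
    funext g
    apply (freeHomEquiv _).injective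
    rw [Function.comp_apply, Equiv.apply_symm_apply]
    funext i
    exact freeHomEquiv_freeToPushforward_comp φ g i
  rw [e]
  exact (freeHomEquiv _).symm.bijective.comp (((bijective_pushforwardSections φ N).comp_left).comp
    (freeHomEquiv N (I := σ)).bijective)

/-- An object corepresenting the inverse image of a presented module is presented. -/
theorem nonempty_presentation_of_corepresentable [F.Final] {M : SheafOfModules.{u} S} (P : M.Presentation)
    {A : SheafOfModules.{u} R}
    (h : (SheafOfModules.pushforward.{u} φ ⋙ coyoneda.obj (op M)).CorepresentableBy A) :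
    Nonempty A.Presentation := by
  let ι := P.relations.I
  let σ := P.generators.I
  let r : free (R := S) ι ⟶ free σ := (freeHomEquiv _).symm P.relations.s ≫ kernel.ι _
  have hP : IsColimit (CokernelCofork.ofπ (f := r) P.generators.π (by simp [r])) := P.isColimit
  let e := fun (τ : Type u) (N : SheafOfModules.{u} R) => Equiv.ofBijective _ (bijective_freeToPushforward φ τ N)
  have he : ∀ (τ : Type u) (N : SheafOfModules.{u} R) (g : free τ ⟶ N),
      e τ N g = freeToPushforward φ τ ≫ (SheafOfModules.pushforward φ).map g := fun _ _ _ => rfl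
  let unit : M ⟶ (SheafOfModules.pushforward φ).obj A := h.homEquiv (𝟙 A)
  have hh : ∀ {N : SheafOfModules.{u} R} (a : A ⟶ N),
      h.homEquiv a = unit ≫ (SheafOfModules.pushforward φ).map a := fun a => h.homEquiv_eq a
  let r' : free ι ⟶ free σ := (e ι _).symm (r ≫ freeToPushforward φ σ)
  let π' : free σ ⟶ A := (e σ A).symm (P.generators.π ≫ unit)
  have hr' : freeToPushforward φ ι ≫ (SheafOfModules.pushforward φ).map r' = r ≫ freeToPushforward φ σ :=
    (e ι _).apply_symm_apply _
  have hπ' : freeToPushforward φ σ ≫ (SheafOfModules.pushforward φ).map π' = P.generators.π ≫ unit :=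
    (e σ A).apply_symm_apply _
  have hrπ : r ≫ P.generators.π = 0 := by simp [r]
  have hc : ∀ {N : SheafOfModules.{u} R} (g : free σ ⟶ N), e ι N (r' ≫ g) = r ≫ e σ N g := fun g => by
    rw [he, he, Functor.map_comp, reassoc_of% hr']
  haveI : (SheafOfModules.pushforward.{u} φ).PreservesZeroMorphisms :=
    ⟨fun M N => SheafOfModules.hom_ext (PresheafOfModules.hom_ext fun U => by ext; rfl)⟩
  have h0 : ∀ (τ : Type u) (N : SheafOfModules.{u} R), e τ N 0 = 0 := fun τ N => by
    rw [he, Functor.map_zero, comp_zero]
  have H : r' ≫ π' = 0 := (e ι A).injective (by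
    rw [hc, he σ A π', hπ', h0, ← Category.assoc, hrπ, zero_comp])
  have key : ∀ {N : SheafOfModules.{u} R} (g : free σ ⟶ N), r' ≫ g = 0 →
      r ≫ e σ N g = 0 := fun g hg => by rw [← hc, hg, h0]
  refine ⟨presentationOfIsCokernelFree r' π' H (CokernelCofork.IsColimit.ofπ π' H
    (fun {N} g hg => h.homEquiv.symm (hP.desc (CokernelCofork.ofπ (e σ N g) (key g hg))))
    (fun {N} g hg => (e σ N).injective ?_) (fun {N} g hg a ha => ?_))⟩
  · rw [he σ N (π' ≫ _), Functor.map_comp, reassoc_of% hπ', ← hh, Equiv.apply_symm_apply]
    exact hP.fac (CokernelCofork.ofπ (e σ N g) (key g hg)) .one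
  · refine h.homEquiv.injective ?_
    rw [Equiv.apply_symm_apply]
    refine Cofork.IsColimit.hom_ext hP ?_
    refine Eq.trans ?_ (hP.fac (CokernelCofork.ofπ (e σ N g) (key g hg)) .one).symm
    show P.generators.π ≫ h.homEquiv a = e σ N g
    rw [hh, ← reassoc_of% hπ', ← Functor.map_comp, ha]
    rfl

end Groth.Agent.SpPts86
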