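import Groth.Agent.S9782
import Groth.Agent.S9812
import Groth.Agent.Ega11.TensorNormal
import Mathlib.AlgebraicGeometry.Morphisms.Flat
import Mathlib.FieldTheory.IsAlgClosed.AlgebraicClosure
import Mathlib.RingTheory.IntegralClosure.IntegrallyClosed

/-!
Normal branches through a rational point over an algebraically closed field.
-/

universe u

set_option autoImplicit false
set_option backward.isDefEq.respectTransparency false
set_option linter.style.haveILetI false

open CategoryTheory CategoryTheory.Limits AlgebraicGeometry TensorProduct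

namespace Groth.Agent.SpPts86

/-- Over a normal scheme, an etale scheme has one irreducible component through each point. -/
theorem exists_component_of_normal {X W : Scheme.{u}} (g : W ⟶ X) [Etale g]
    (hX : ∀ x : X, IsDomain (X.presheaf.stalk x) ∧ IsIntegrallyClosed (X.presheaf.stalk x)) (w : W) :
    ∃ C ∈ irreducibleComponents (W : Type u), ∀ T : Set W, IsIrreducible T → w ∈ T → T ⊆ C := by
  obtain ⟨_, _⟩ := hX (g w)
  have h := (Groth.Agent.S9782.result X (g w)).1 (Groth.Agent.S9812.result _) W g w ‹_› rfl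
  obtain ⟨C, hC⟩ := Set.encard_eq_one.1 h
  have hC' : C ∈ {Z : Set W | Z ∈ irreducibleComponents (W : Type u) ∧ w ∈ Z} := by rw [hC]; rfl
  refine ⟨C, hC'.1, fun T hT hw => ?_⟩
  obtain ⟨Z, hZ, hTZ⟩ := exists_mem_irreducibleComponents_subset_of_isIrreducible T hT
  have : Z ∈ ({C} : Set (Set W)) := hC ▸ ⟨hZ, hTZ hw⟩
  exact (Set.mem_singleton_iff.1 this) ▸ hTZ

variable {Ω : Type u} [Field Ω] [IsAlgClosed Ω]

/-- The product of two normal domains over an algebraically closed field is a normal scheme. -/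
theorem normal_tensor_stalk (B₁ B₂ : Type u) [CommRing B₁] [IsDomain B₁] [IsIntegrallyClosed B₁]
    [Algebra Ω B₁] [CommRing B₂] [IsDomain B₂] [IsIntegrallyClosed B₂] [Algebra Ω B₂]
    (x : Spec (CommRingCat.of (B₁ ⊗[Ω] B₂))) :
    IsDomain ((Spec (CommRingCat.of (B₁ ⊗[Ω] B₂))).presheaf.stalk x) ∧
      IsIntegrallyClosed ((Spec (CommRingCat.of (B₁ ⊗[Ω] B₂))).presheaf.stalk x) := by
  have hn : ∀ (B : Type u) [CommRing B] [IsDomain B] [IsIntegrallyClosed B], EGA4.IsNormalRing B :=
    fun B _ _ _ P _ => ⟨IsLocalization.isDomain_localization (Ideal.primeCompl_le_nonZeroDivisors _),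
      isIntegrallyClosed_of_isLocalization _ P.primeCompl P.primeCompl_le_nonZeroDivisors⟩
  have hg : EGA4.IsGeomNormal Ω B₁ := fun k' _ _ _ => by
    have hb : Function.Bijective (algebraMap Ω k') := IsAlgClosed.algebraMap_bijective_of_isIntegral
    exact EGA4H10.isNormalRing_of_ringEquiv
      ((Algebra.TensorProduct.congr (AlgEquiv.ofBijective (Algebra.ofId Ω k') hb)
        (AlgEquiv.refl (A₁ := B₁))).symm.trans (Algebra.TensorProduct.lid Ω B₁)).symm.toRingEquiv (hn B₁)
  obtain ⟨_, _⟩ := Ega11.TensorNormal.isNormalRing_tensor Ω B₁ B₂ hg (hn B₂) x.asIdeal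
  let e := (IsLocalization.algEquiv x.asIdeal.primeCompl (Localization.AtPrime x.asIdeal)
    ((Spec.structureSheaf (B₁ ⊗[Ω] B₂)).presheaf.stalk x)).toRingEquiv
  exact ⟨MulEquiv.isDomain _ e.symm.toMulEquiv, IsIntegrallyClosed.of_equiv e⟩

/-- A normal branch through a rational point, dominating a given generalisation. -/
theorem exists_normal_branch {Y : Scheme.{u}} (q : Y ⟶ Spec (CommRingCat.of Ω))
    (y : Spec (CommRingCat.of Ω) ⟶ Y) (hy : y ≫ q = 𝟙 _) (η : Y)
    (hη : η ⤳ y (IsLocalRing.closedPoint Ω)) :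
    ∃ (B : Type u) (_ : CommRing B) (_ : IsDomain B) (_ : IsIntegrallyClosed B) (_ : Algebra Ω B)
      (φ : B →ₐ[Ω] Ω) (π : Spec (CommRingCat.of B) ⟶ Y),
      π ≫ q = Spec.map (CommRingCat.ofHom (algebraMap Ω B)) ∧
        Spec.map (CommRingCat.ofHom φ.toRingHom) ≫ π = y ∧ η ∈ Set.range π := by
  obtain ⟨_, ⟨V, hV, rfl⟩, hyV, -⟩ := Y.isBasis_affineOpens.exists_subset_of_mem_open
    (Set.mem_univ (y (IsLocalRing.closedPoint Ω))) isOpen_univ
  replace hV : IsAffineOpen V := hV
  have hηV : η ∈ V := hη.mem_open V.isOpen hyV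
  have hsub : Set.range y ⊆ Set.range hV.fromSpec := by
    rw [hV.range_fromSpec]
    rintro _ ⟨w, rfl⟩
    rwa [show w = IsLocalRing.closedPoint Ω from Subsingleton.elim (α := PrimeSpectrum Ω) _ _]
  let yV : Spec (CommRingCat.of Ω) ⟶ Spec Γ(Y, V) := IsOpenImmersion.lift hV.fromSpec y hsub
  have hyV' : yV ≫ hV.fromSpec = y := IsOpenImmersion.lift_fac _ _ hsub
  obtain ⟨r, hr⟩ := Spec.map_surjective yV
  let δ : CommRingCat.of Ω ⟶ Γ(Y, V) := Spec.preimage (hV.fromSpec ≫ q)
  have hδr : δ ≫ r = 𝟙 _ := by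
    apply Spec.map_injective
    rw [Spec.map_comp, Spec.map_preimage, hr, reassoc_of% hyV', hy, Spec.map_id]
  let : Algebra Ω Γ(Y, V) := δ.hom.toAlgebra
  let rA : Γ(Y, V) →ₐ[Ω] Ω := { r.hom with commutes' := fun d => congr($hδr d) }
  let P : Spec Γ(Y, V) := hV.primeIdealOf ⟨η, hηV⟩
  have hP : hV.fromSpec P = η := hV.fromSpec_primeIdealOf _
  have hle : P.asIdeal ≤ RingHom.ker rA.toRingHom := by
    have h : P ⤳ yV (IsLocalRing.closedPoint Ω) := by
      rw [← hV.fromSpec.isOpenEmbedding.isInducing.specializes_iff, ← Scheme.Hom.comp_apply, hyV', hP]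
      exact hη
    intro z hz
    have h' := (PrimeSpectrum.le_iff_specializes _ _).2 h hz
    rw [← hr] at h'
    change r.hom z ∈ IsLocalRing.maximalIdeal Ω at h'
    rw [IsLocalRing.maximalIdeal_eq_bot] at h'
    exact (Submodule.mem_bot Ω).1 h'
  let A := Γ(Y, V) ⧸ P.asIdeal
  let rb : A →ₐ[Ω] Ω := Ideal.Quotient.liftₐ P.asIdeal rA fun z hz => hle hz
  have hrb : Function.Surjective rb := fun c => ⟨algebraMap Ω A c, rb.commutes c⟩
  let L := FractionRing A
  let B := integralClosure A L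
  have : IsIntegrallyClosed B := by
    have : IsIntegrallyClosedIn B L := inferInstance
    exact IsIntegrallyClosed.of_isIntegrallyClosedIn B L
  have hker : (RingHom.ker rb.toRingHom).IsMaximal := RingHom.ker_isMaximal_of_surjective _ hrb
  obtain ⟨n, hn, hnc⟩ := Ideal.exists_ideal_over_maximal_of_isIntegral (S := B) (RingHom.ker rb.toRingHom) (by
    rw [(RingHom.injective_iff_ker_eq_bot _).1 (FaithfulSMul.algebraMap_injective A B)]
    exact bot_le)
  let : Field (B ⧸ n) := Ideal.Quotient.field n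
  have : Algebra.IsIntegral Ω (B ⧸ n) := ⟨fun z => by
    obtain ⟨b, rfl⟩ := Ideal.Quotient.mk_surjective z
    refine RingHom.IsIntegralElem.of_comp (f := rb.toRingHom) ?_
    have hc : (algebraMap Ω (B ⧸ n)).comp rb.toRingHom = (Ideal.Quotient.mk n).comp (algebraMap A B) := by
      ext c
      refine ((Ideal.Quotient.eq).2 ?_).symm
      have : c - algebraMap Ω A (rb c) ∈ RingHom.ker rb.toRingHom := by
        show rb (c - algebraMap Ω A (rb c)) = 0
        rw [map_sub, rb.commutes]
        exact sub_self _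
      rw [← hnc, Ideal.mem_comap, map_sub, ← IsScalarTower.algebraMap_apply] at this
      exact this
    rw [hc]
    obtain ⟨Q, hQ, hQb⟩ := (Algebra.IsIntegral.isIntegral (R := A) b)
    exact ⟨Q, hQ, by rw [← Polynomial.hom_eval₂, hQb, map_zero]⟩⟩
  let e : Ω ≃ₐ[Ω] B ⧸ n := AlgEquiv.ofBijective (Algebra.ofId Ω (B ⧸ n))
    (IsAlgClosed.algebraMap_bijective_of_isIntegral (k := Ω) (K := B ⧸ n))
  let φ : B →ₐ[Ω] Ω := e.symm.toAlgHom.comp (Ideal.Quotient.mkₐ Ω n)
  have hφ : ∀ c : A, φ (algebraMap A B c) = rb c := fun c => by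
    apply e.injective
    show e (e.symm (Ideal.Quotient.mk n (algebraMap A B c))) = algebraMap Ω (B ⧸ n) (rb c)
    rw [AlgEquiv.apply_symm_apply]
    refine ((Ideal.Quotient.eq).2 ?_).trans (rfl : Ideal.Quotient.mk n (algebraMap Ω B (rb c)) = _)
    have : c - algebraMap Ω A (rb c) ∈ RingHom.ker rb.toRingHom := by
      show rb (c - algebraMap Ω A (rb c)) = 0
      rw [map_sub, rb.commutes]
      exact sub_self _
    rw [← hnc, Ideal.mem_comap, map_sub, ← IsScalarTower.algebraMap_apply] at this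
    exact this
  let ι : Γ(Y, V) →+* B := (algebraMap A B).comp (Ideal.Quotient.mk P.asIdeal)
  refine ⟨B, inferInstance, inferInstance, inferInstance, inferInstance, φ,
    Spec.map (CommRingCat.ofHom ι) ≫ hV.fromSpec, ?_, ?_, ⟨⟨⊥, Ideal.isPrime_bot⟩, ?_⟩⟩
  · rw [Category.assoc, ← Spec.map_preimage (hV.fromSpec ≫ q), ← Spec.map_comp]
    exact congrArg Spec.map (CommRingCat.hom_ext (RingHom.ext fun c =>
      (IsScalarTower.algebraMap_apply Ω A B c).symm))
  · rw [← Category.assoc, ← Spec.map_comp, ← hyV', ← hr]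
    refine congrArg (fun f => Spec.map f ≫ hV.fromSpec) (CommRingCat.hom_ext (RingHom.ext fun z => ?_))
    exact hφ (Ideal.Quotient.mk P.asIdeal z)
  · rw [← hP, Scheme.Hom.comp_apply]
    refine congrArg _ (PrimeSpectrum.ext ?_)
    show RingHom.ker ι = P.asIdeal
    rw [RingHom.ker_comp_of_injective _ (FaithfulSMul.algebraMap_injective A B)]
    exact Ideal.mk_ker

end Groth.Agent.SpPts86
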