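import Groth.Agent.SpPts86.SepFibre
import Groth.Agent.SpPts86.FiniteCoprod

/-!
Open pieces of a scheme over a base which are finite over it.
-/

universe u

set_option autoImplicit false

open CategoryTheory CategoryTheory.Limits AlgebraicGeometry

namespace Groth.Agent.SpPts86

variable {V V' T T' : Scheme.{u}}

/-- An open subscheme which is finite over the base. -/
def IsPiece (p : V ⟶ T) (O : V.Opens) : Prop := IsFinite (O.ι ≫ p)

theorem IsPiece.isClosed {p : V ⟶ T} [IsSeparated p] {O : V.Opens} (h : IsPiece p O) :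
    IsClosed (O : Set ↥V) := by
  have : IsFinite (O.ι ≫ p) := h
  have : UniversallyClosed O.ι := UniversallyClosed.of_comp_of_isSeparated O.ι p
  have := O.ι.isClosedMap.isClosed_range
  rwa [Scheme.Opens.range_ι] at this

theorem range_homOfLE {O' O : V.Opens} (hle : O' ≤ O) :
    Set.range (V.homOfLE hle) = O.ι ⁻¹' (O' : Set ↥V) := by
  ext z
  constructor
  · rintro ⟨w, rfl⟩
    change O.ι (V.homOfLE hle w) ∈ (O' : Set ↥V)
    rw [← Scheme.Hom.comp_apply, Scheme.homOfLE_ι]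
    exact w.2
  · intro hz
    let w : ↥O'.toScheme := ⟨O.ι z, hz⟩
    refine ⟨w, O.ι.isOpenEmbedding.injective ?_⟩
    refine (Scheme.Hom.comp_apply _ _ _).symm.trans ?_
    rw [Scheme.homOfLE_ι]
    rfl

theorem IsPiece.mono {p : V ⟶ T} {O O' : V.Opens} (h : IsPiece p O) (hle : O' ≤ O)
    (hc : IsClosed (O' : Set ↥V)) : IsPiece p O' := by
  have : IsFinite (O.ι ≫ p) := h
  have : IsClosedImmersion (V.homOfLE hle) := by
    refine IsClosedImmersion.of_isPreimmersion _ ?_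
    rw [range_homOfLE hle]
    exact hc.preimage O.ι.continuous
  change IsFinite (O'.ι ≫ p)
  rw [← Scheme.homOfLE_ι V hle, Category.assoc]
  infer_instance

theorem isPiece_bot (p : V ⟶ T) : IsPiece p ⊥ := by
  have : IsEmpty ↥((⊥ : V.Opens).toScheme) := ⟨fun z => z.2⟩
  change IsFinite ((⊥ : V.Opens).ι ≫ p)
  infer_instance

theorem IsPiece.sup_of_disjoint [IsAffine T] {p : V ⟶ T} {O₁ O₂ : V.Opens} (h₁ : IsPiece p O₁)
    (h₂ : IsPiece p O₂) (hd : Disjoint O₁ O₂) : IsPiece p (O₁ ⊔ O₂) := by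
  let X : ULift.{u} Bool → V.Opens := fun b => if b.down then O₁ else O₂
  have hX : ∀ b, IsPiece p (X b) := by
    rintro ⟨b⟩
    cases b
    · exact h₂
    · exact h₁
  have hle : ∀ b, X b ≤ O₁ ⊔ O₂ := by
    rintro ⟨b⟩
    cases b
    · exact le_sup_right
    · exact le_sup_left
  have hA : ∀ b, IsAffine (X b).toScheme := fun b => by
    have : IsFinite ((X b).ι ≫ p) := hX b
    exact isAffine_of_isAffineHom ((X b).ι ≫ p)
  have hr : ∀ b, ((V.homOfLE (hle b)).opensRange : Set ↥((O₁ ⊔ O₂).toScheme)) =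
      (O₁ ⊔ O₂).ι ⁻¹' (X b : Set ↥V) := fun b => range_homOfLE (hle b)
  have hcol : Nonempty (IsColimit (Cofan.mk (O₁ ⊔ O₂).toScheme fun b => V.homOfLE (hle b))) := by
    refine nonempty_isColimit_cofanMk_of _ ?_ ?_
    · rw [eq_top_iff]
      intro z _
      rcases z.2 with hz | hz
      · refine TopologicalSpace.Opens.mem_iSup.2 ⟨⟨true⟩, ?_⟩
        exact (Set.ext_iff.1 (hr ⟨true⟩) z).2 hz
      · refine TopologicalSpace.Opens.mem_iSup.2 ⟨⟨false⟩, ?_⟩
        exact (Set.ext_iff.1 (hr ⟨false⟩) z).2 hz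
    · intro a b hab
      change Disjoint (V.homOfLE (hle a)).opensRange (V.homOfLE (hle b)).opensRange
      rw [disjoint_iff, TopologicalSpace.Opens.ext_iff]
      refine Set.eq_empty_of_forall_notMem ?_
      rintro z ⟨ha, hb⟩
      have ha' := (Set.ext_iff.1 (hr a) z).1 ha
      have hb' := (Set.ext_iff.1 (hr b) z).1 hb
      obtain ⟨a⟩ := a
      obtain ⟨b⟩ := b
      cases a <;> cases b
      · exact hab rfl
      · exact (disjoint_iff_inf_le.1 hd) ⟨hb', ha'⟩
      · exact (disjoint_iff_inf_le.1 hd) ⟨ha', hb'⟩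
      · exact hab rfl
  exact (isFinite_of_disjoint_cover (X := fun b => (X b).toScheme) hcol.some ((O₁ ⊔ O₂).ι ≫ p) fun b => by
    rw [← Category.assoc, Scheme.homOfLE_ι]
    exact hX b).2

theorem IsPiece.sup [IsAffine T] {p : V ⟶ T} [IsSeparated p] {O₁ O₂ : V.Opens} (h₁ : IsPiece p O₁)
    (h₂ : IsPiece p O₂) : IsPiece p (O₁ ⊔ O₂) := by
  let C : V.Opens := ⟨(O₁ : Set ↥V)ᶜ, h₁.isClosed.isOpen_compl⟩
  have e : O₁ ⊔ O₂ = O₁ ⊔ (O₂ ⊓ C) := TopologicalSpace.Opens.ext (by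
    change (O₁ : Set ↥V) ∪ O₂ = (O₁ : Set ↥V) ∪ ((O₂ : Set ↥V) ∩ (O₁ : Set ↥V)ᶜ)
    rw [← Set.diff_eq, Set.union_diff_self])
  rw [e]
  refine h₁.sup_of_disjoint (h₂.mono inf_le_left ?_) (disjoint_iff_inf_le.2 fun z hz => hz.2.2 hz.1)
  exact h₂.isClosed.inter O₁.isOpen.isClosed_compl

theorem IsPiece.baseChange {p : V ⟶ T} {p' : V' ⟶ T'} {k : V' ⟶ V} {τ : T' ⟶ T}
    (sq : IsPullback k p' p τ) {O : V.Opens} (h : IsPiece p O) : IsPiece p' (k ⁻¹ᵁ O) :=
  MorphismProperty.of_isPullback (P := @IsFinite) ((isPullback_morphismRestrict k O).paste_vert sq) h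

/-- Etale locally on the base a finite set of geometric points of a fibre is cut out by a piece. -/
theorem exists_etale_piece_set {Ω : Type u} [Field Ω] [IsAlgClosed Ω] {X T : Scheme.{u}} (f : X ⟶ T)
    [LocallyOfFiniteType f] [IsSeparated f] [LocallyQuasiFinite f] (t : Spec (CommRingCat.of Ω) ⟶ T)
    (A : Set (Spec (CommRingCat.of Ω) ⟶ X)) (hfin : A.Finite) (hA : ∀ y ∈ A, y ≫ f = t) :
    ∃ (T' : Scheme.{u}) (τ : T' ⟶ T) (_ : IsAffine T') (_ : Etale τ)
      (t' : Spec (CommRingCat.of Ω) ⟶ T') (_ : t' ≫ τ = t) (O : (pullback f τ).Opens),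
      IsPiece (pullback.snd f τ) O ∧
        ∀ (y : Spec (CommRingCat.of Ω) ⟶ X) (hy : y ≫ f = t' ≫ τ),
          pullback.lift y t' hy (pt0 Ω) ∈ O ↔ y ∈ A := by
  induction A, hfin using Set.Finite.induction_on with
  | empty =>
    obtain ⟨_, ⟨W : T.Opens, hW, rfl⟩, hmem, -⟩ :=
      T.isBasis_affineOpens.exists_subset_of_mem_open (Set.mem_univ (t (pt0 Ω))) isOpen_univ
    have hr : Set.range t ⊆ Set.range W.ι := by
      rw [W.range_ι]
      rintro _ ⟨p, rfl⟩
      rwa [Subsingleton.elim (α := PrimeSpectrum Ω) p (pt0 Ω)]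
    refine ⟨W.toScheme, W.ι, hW, inferInstance, IsOpenImmersion.lift W.ι t hr,
      IsOpenImmersion.lift_fac _ _ _, ⊥, isPiece_bot _, fun y hy => ?_⟩
    exact iff_of_false (fun h => h) (fun h => h)
  | @insert x A _ _ ih =>
    obtain ⟨T₁, τ₁, _, _, t₁, ht₁, O₁, hO₁, h₁⟩ := ih fun y hy => hA y (Set.mem_insert_of_mem _ hy)
    obtain ⟨T₂, τ₂, _, _, t₂, ht₂, O₂, hO₂, h₂⟩ := exists_etale_piece f x
    rw [hA x (Set.mem_insert _ _)] at ht₂
    let t₃ : Spec (CommRingCat.of Ω) ⟶ pullback τ₁ τ₂ := pullback.lift t₁ t₂ (ht₁.trans ht₂.symm)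
    obtain ⟨_, ⟨W : (pullback τ₁ τ₂).Opens, hW, rfl⟩, hmem, -⟩ :=
      (pullback τ₁ τ₂).isBasis_affineOpens.exists_subset_of_mem_open (Set.mem_univ (t₃ (pt0 Ω))) isOpen_univ
    have hr : Set.range t₃ ⊆ Set.range W.ι := by
      rw [W.range_ι]
      rintro _ ⟨p, rfl⟩
      rwa [Subsingleton.elim (α := PrimeSpectrum Ω) p (pt0 Ω)]
    have : IsAffine W.toScheme := hW
    let a₁ : W.toScheme ⟶ T₁ := W.ι ≫ pullback.fst τ₁ τ₂
    let a₂ : W.toScheme ⟶ T₂ := W.ι ≫ pullback.snd τ₁ τ₂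
    let τ : W.toScheme ⟶ T := a₁ ≫ τ₁
    have hτ : a₂ ≫ τ₂ = τ := by rw [Category.assoc, ← pullback.condition, ← Category.assoc]
    let t' : Spec (CommRingCat.of Ω) ⟶ W.toScheme := IsOpenImmersion.lift W.ι t₃ hr
    have hta₁ : t' ≫ a₁ = t₁ := by
      rw [← Category.assoc, IsOpenImmersion.lift_fac, pullback.lift_fst]
    have hta₂ : t' ≫ a₂ = t₂ := by
      rw [← Category.assoc, IsOpenImmersion.lift_fac, pullback.lift_snd]
    let k₁ : pullback f τ ⟶ pullback f τ₁ :=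
      pullback.lift (pullback.fst f τ) (pullback.snd f τ ≫ a₁) (by rw [Category.assoc, pullback.condition])
    let k₂ : pullback f τ ⟶ pullback f τ₂ :=
      pullback.lift (pullback.fst f τ) (pullback.snd f τ ≫ a₂) (by rw [Category.assoc, hτ, pullback.condition])
    have sq₁ : IsPullback k₁ (pullback.snd f τ) (pullback.snd f τ₁) a₁ := by
      refine IsPullback.of_right ?_ (pullback.lift_snd _ _ _) (IsPullback.of_hasPullback f τ₁)
      rw [pullback.lift_fst]
      exact IsPullback.of_hasPullback f τ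
    have sq₂ : IsPullback k₂ (pullback.snd f τ) (pullback.snd f τ₂) a₂ := by
      refine IsPullback.of_right ?_ (pullback.lift_snd _ _ _) (IsPullback.of_hasPullback f τ₂)
      rw [pullback.lift_fst, hτ]
      exact IsPullback.of_hasPullback f τ
    refine ⟨W.toScheme, τ, hW, inferInstance, t', ?_, k₁ ⁻¹ᵁ O₁ ⊔ k₂ ⁻¹ᵁ O₂,
      (hO₁.baseChange sq₁).sup (IsPiece.baseChange sq₂ hO₂), fun y hy => ?_⟩
    · rw [← Category.assoc, hta₁, ht₁]
    · have hy₁ : y ≫ f = t₁ ≫ τ₁ := by rw [hy, ← hta₁, Category.assoc]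
      have hy₂ : y ≫ f = t₂ ≫ τ₂ := by rw [hy, ← hta₂, Category.assoc, hτ]
      have e₁ : pullback.lift y t' hy ≫ k₁ = pullback.lift y t₁ hy₁ := by
        apply pullback.hom_ext
        · rw [Category.assoc, pullback.lift_fst, pullback.lift_fst, pullback.lift_fst]
        · rw [Category.assoc, pullback.lift_snd, pullback.lift_snd, pullback.lift_snd_assoc, hta₁]
      have e₂ : pullback.lift y t' hy ≫ k₂ = pullback.lift y t₂ hy₂ := by
        apply pullback.hom_ext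
        · rw [Category.assoc, pullback.lift_fst, pullback.lift_fst, pullback.lift_fst]
        · rw [Category.assoc, pullback.lift_snd, pullback.lift_snd, pullback.lift_snd_assoc, hta₂]
      change (k₁ (pullback.lift y t' hy (pt0 Ω)) ∈ O₁ ∨ k₂ (pullback.lift y t' hy (pt0 Ω)) ∈ O₂) ↔ _
      rw [← Scheme.Hom.comp_apply, ← Scheme.Hom.comp_apply, e₁, e₂, h₁, h₂, Set.mem_insert_iff, or_comm]

end Groth.Agent.SpPts86
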