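import Groth.Agent.SpPts86.PieceEtale
import Groth.Agent.SpPts86.QuotFinite
import Groth.Agent.Grpd80.FiniteInAffine
import Mathlib.AlgebraicGeometry.Morphisms.QuasiFinite

/-!
The sheaf of pieces is a scheme; it is an etale atlas of the sheaf.
-/

universe u

set_option autoImplicit false

open CategoryTheory CategoryTheory.Limits AlgebraicGeometry Opposite
open AlgSp Groth.Agent.SpFP87

namespace Groth.Agent.SpPts86

variable {S : Scheme.{u}} {U : Over S} {F : Sp S} {π : (yon S).obj U ⟶ F} {hπ : Representable π}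

set_option maxHeartbeats 400000 in
set_option backward.isDefEq.respectTransparency.types false in
/-- The tautological cover of the sheaf of pieces by an open subscheme of its fibre over `U`. -/
theorem exists_pieceCover (hfl : RepWith @Flat π) (hfp : RepWith @LocallyOfFinitePresentation π)
    (hsep : RepWith @IsSeparated π) (hqf : RepWith @LocallyQuasiFinite π) :
    ∃ (W : Over S) (v : W ⟶ U) (ψ : (yon S).obj W ⟶ pieceSheaf π hπ),
      IsSeparated v.left ∧ LocallyQuasiFinite v.left ∧ LocallyOfFiniteType v.left ∧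
      RepWith (@IsFinite ⊓ (@Flat ⊓ (@LocallyOfFinitePresentation ⊓ @Surjective))) ψ := by
  obtain ⟨het, hsp⟩ := repWith_etale_separated_pieceπ (hπ := hπ) hfl hfp hsep hqf
  obtain ⟨Z, q, fst, sqH⟩ := het.rep π
  have : Etale q.left := het.property π fst q sqH
  have : IsSeparated q.left := hsp.property π fst q sqH
  obtain ⟨V₁, s₁, p₁, sq₁⟩ := exists_isPullback_of_rep hπ ((yon S).map q ≫ π)
  obtain ⟨σ, hσ⟩ := (yon S).map_surjective (sq₁.lift (𝟙 _) ((yon S).map q) (Category.id_comp _))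
  have hσ₁ : σ ≫ s₁ = 𝟙 Z := (yon S).map_injective (by
    rw [Functor.map_comp, hσ, sq₁.lift_fst, CategoryTheory.Functor.map_id])
  have hσ₂ : σ ≫ p₁ = q := (yon S).map_injective (by rw [Functor.map_comp, hσ, sq₁.lift_snd])
  obtain ⟨O₁, -, -, -, hO₁⟩ := (sqH.w ▸ good_pieceSet fst : Good π ((yon S).map q ≫ π) (pieceSet fst)).piece_self sq₁
  let W₀ : Z.left.Opens := σ.left ⁻¹ᵁ O₁
  have hW₀ : ∀ z, z ∈ W₀ ↔ schLift (𝟙 Z) q z ∈ pieceSet fst := fun z => by
    change σ.left z ∈ (O₁ : Set ↥V₁.left) ↔ _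
    rw [hO₁, Set.mem_preimage, ← Scheme.Hom.comp_apply]
    have e : σ.left ≫ schLift s₁ p₁ = schLift (𝟙 Z) q := by
      apply pullback.hom_ext
      · rw [Category.assoc, schLift_fst, schLift_fst, ← Over.comp_left, hσ₁]
      · rw [Category.assoc, schLift_snd, schLift_snd, ← Over.comp_left, hσ₂]
    rw [e]
  refine ⟨openOver Z W₀, openIncl Z W₀ ≫ q, (yon S).map (openIncl Z W₀) ≫ fst, ?_, ?_, ?_, ?_⟩
  · change IsSeparated (W₀.ι ≫ q.left)
    infer_instance
  · change LocallyQuasiFinite (W₀.ι ≫ q.left)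
    have : LocallyQuasiFinite q.left := SpFP87.etale_locallyQuasiFinite _ inferInstance
    infer_instance
  · change LocallyOfFiniteType (W₀.ι ≫ q.left)
    infer_instance
  refine MorphismProperty.relative.of_exists fun T a => ?_
  obtain ⟨V, s, p, sq⟩ := exists_isPullback_of_rep hπ (a ≫ pieceπ hπ)
  obtain ⟨n, hn⟩ := (yon S).map_surjective (sqH.lift ((yon S).map s ≫ a) ((yon S).map p)
    (by rw [Category.assoc, sq.w]))
  have hn₁ : (yon S).map n ≫ fst = (yon S).map s ≫ a := by rw [hn, sqH.lift_fst]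
  have hn₂ : n ≫ q = p := (yon S).map_injective (by rw [Functor.map_comp, hn, sqH.lift_snd])
  have sqV : IsPullback ((yon S).map n) ((yon S).map s) fst a := by
    refine IsPullback.of_right ?_ hn₁ sqH.flip
    rw [← Functor.map_comp, hn₂]
    exact sq.flip
  obtain ⟨O, hO, hOs, -, hOeq⟩ := (good_pieceSet a).piece_self sq
  have hnO : n.left ⁻¹ᵁ W₀ = O := TopologicalSpace.Opens.ext (Set.ext fun v => by
    change n.left v ∈ W₀ ↔ v ∈ (O : Set ↥V.left)
    rw [hW₀, hOeq, Set.mem_preimage]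
    have e1 : mapProd U n (schLift (𝟙 V) p v) = schLift (𝟙 Z) q (n.left v) := by
      rw [← Scheme.Hom.comp_apply, ← Scheme.Hom.comp_apply]
      refine congrArg (fun f : V.left ⟶ _ => f v) ?_
      apply pullback.hom_ext
      · rw [Category.assoc, mapProd_fst, schLift_fst_assoc, Category.assoc, schLift_fst]
        exact (Category.id_comp _).trans (Category.comp_id _).symm
      · rw [Category.assoc, mapProd_snd, schLift_snd, Category.assoc, schLift_snd, ← Over.comp_left, hn₂]
    have e2 : mapProd U s (schLift (𝟙 V) p v) = schLift s p v := by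
      rw [← Scheme.Hom.comp_apply]
      refine congrArg (fun f : V.left ⟶ _ => f v) ?_
      apply pullback.hom_ext
      · rw [Category.assoc, mapProd_fst, schLift_fst_assoc, schLift_fst]
        exact Category.id_comp _
      · rw [Category.assoc, mapProd_snd, schLift_snd, schLift_snd]
    rw [← e1, ← e2, ← Set.mem_preimage, ← Set.mem_preimage (s := pieceSet a), ← pieceSet_map,
      ← pieceSet_map, hn₁])
  let nO : openOver V (n.left ⁻¹ᵁ W₀) ⟶ openOver Z W₀ := Over.homMk (n.left ∣_ W₀) (by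
    change (n.left ∣_ W₀) ≫ W₀.ι ≫ Z.hom = (n.left ⁻¹ᵁ W₀).ι ≫ V.hom
    rw [morphismRestrict_ι_assoc, Over.w n])
  have sqO : IsPullback nO (openIncl V (n.left ⁻¹ᵁ W₀)) (openIncl Z W₀) n :=
    IsPullback.of_map (Over.forget S) (Over.OverMorphism.ext (morphismRestrict_ι _ _))
      (isPullback_morphismRestrict n.left W₀)
  refine ⟨openOver V (n.left ⁻¹ᵁ W₀), (yon S).map nO, openIncl V (n.left ⁻¹ᵁ W₀) ≫ s, ?_, ?_⟩
  · rw [Functor.map_comp]
    exact (sqO.map (yon S)).paste_vert sqV
  · change (@IsFinite ⊓ (@Flat ⊓ (@LocallyOfFinitePresentation ⊓ @Surjective)) : MorphismProperty Scheme.{u})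
      ((n.left ⁻¹ᵁ W₀).ι ≫ s.left)
    rw [hnO]
    have : Flat s.left := hfl.property _ _ _ sq.flip
    have : LocallyOfFinitePresentation s.left := hfp.property _ _ _ sq.flip
    exact ⟨hO, (inferInstance : Flat (O.ι ≫ s.left)),
      (inferInstance : LocallyOfFinitePresentation (O.ι ≫ s.left)), hOs⟩

set_option backward.isDefEq.respectTransparency.types false in
/-- Over every geometric point of the sheaf there is a piece. -/
theorem repWith_surjective_pieceπ (hfl : RepWith @Flat π) (hfp : RepWith @LocallyOfFinitePresentation π)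
    (hsep : RepWith @IsSeparated π) (hqf : RepWith @LocallyQuasiFinite π) (hs : RepWith @Surjective π) :
    RepWith @Surjective (pieceπ hπ) := by
  obtain ⟨het, -⟩ := repWith_etale_separated_pieceπ (hπ := hπ) hfl hfp hsep hqf
  refine MorphismProperty.relative.of_exists fun T g => ?_
  obtain ⟨Z, q, fst, sqZ⟩ := het.rep g
  refine ⟨Z, fst, q, sqZ, ⟨fun x => ?_⟩⟩
  let Ω := AlgebraicClosure (T.left.residueField x)
  let σ : Spec (CommRingCat.of Ω) ⟶ T.left :=
    Spec.map (CommRingCat.ofHom (algebraMap (T.left.residueField x) Ω)) ≫ T.left.fromSpecResidueField x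
  let P : Over S := Over.mk (σ ≫ T.hom)
  let σ' : P ⟶ T := Over.homMk σ rfl
  obtain ⟨V, s, p, sq⟩ := exists_isPullback_of_rep hπ ((yon S).map σ' ≫ g)
  let f : V.left ⟶ Spec (CommRingCat.of Ω) := s.left
  have hfp' : LocallyOfFinitePresentation f := hfp.property _ _ _ sq.flip
  have : LocallyOfFiniteType f := inferInstance
  have : LocallyQuasiFinite f := hqf.property _ _ _ sq.flip
  obtain ⟨v, -⟩ := (hs.property _ _ _ sq.flip : Surjective f).surj (pt0 Ω)
  have hd := f.isDiscrete_preimage_singleton (pt0 Ω)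
  have e : f ⁻¹' {pt0 Ω} = Set.univ :=
    Set.eq_univ_iff_forall.2 fun _ => Subsingleton.elim (α := PrimeSpectrum Ω) _ _
  have : DiscreteTopology ↥V.left := isDiscrete_univ_iff.1 (e ▸ hd)
  let O : V.left.Opens := ⟨{v}, isOpen_discrete _⟩
  have : CompactSpace O.toScheme := isCompact_iff_compactSpace.1 (isCompact_singleton (x := v))
  have : QuasiCompact (O.ι ≫ f) := (quasiCompact_iff_compactSpace _).2 inferInstance
  have hO : IsPiece s.left O := IsFinite.of_locallyQuasiFinite (O.ι ≫ f)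
  have hgood : Good π ((yon S).map σ' ≫ g) (schLift s p '' O) :=
    ⟨V, s, p, sq, O, hO, ⟨fun a => ⟨⟨v, rfl⟩, Subsingleton.elim (α := PrimeSpectrum Ω) _ _⟩⟩, rfl⟩
  obtain ⟨a, ha, -⟩ := exists_pieceHom hπ hgood
  obtain ⟨l, hl⟩ := (yon S).map_surjective (sqZ.lift a ((yon S).map σ') ha)
  have hlq : l ≫ q = σ' := (yon S).map_injective (by rw [Functor.map_comp, hl, sqZ.lift_snd])
  refine ⟨l.left (pt0 Ω), ?_⟩
  refine (Scheme.Hom.comp_apply _ _ _).symm.trans ?_
  change (l ≫ q).left (pt0 Ω) = x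
  rw [hlq]
  exact Scheme.fromSpecResidueField_apply x _

set_option backward.isDefEq.respectTransparency.types false in
theorem exists_etale_atlas_of_lqf (hπ : Representable π) (hfl : RepWith @Flat π)
    (hfp : RepWith @LocallyOfFinitePresentation π) (hsep : RepWith @IsSeparated π)
    (hqf : RepWith @LocallyQuasiFinite π) (hs : RepWith @Surjective π)
    (hU : ∀ A : Set ↥U.left, A.Finite → ∃ V : U.left.Opens, IsAffineOpen V ∧ A ⊆ (V : Set ↥U.left)) :
    ∃ (M : Over S) (p : (yon S).obj M ⟶ F), RepWith @Etale p ∧ RepWith @Surjective p := by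
  obtain ⟨W, v, ψ, hv₁, hv₂, hv₃, hψ⟩ := exists_pieceCover (hπ := hπ) hfl hfp hsep hqf
  have hlift : LocLift ψ := locLift_of_repWith (Q := @IsFinite ⊓ (@Flat ⊓ (@LocallyOfFinitePresentation ⊓ @Surjective)))
    (fun _ _ f hf => (fppfSurj_iff f).2 ⟨hf.2.2.2, hf.2.1, hf.2.2.1⟩) hψ
  obtain ⟨R, s, t₀, sqR⟩ := hψ.rep ψ
  obtain ⟨t, rfl⟩ := (yon S).map_surjective t₀
  have hsP := hψ.property ψ _ s sqR
  have : IsFinite s.left := hsP.1
  have : Flat s.left := hsP.2.1
  have : LocallyOfFinitePresentation s.left := hsP.2.2.1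
  obtain ⟨M, ⟨e⟩⟩ := exists_iso_of_finLocFree_cover hlift sqR (fun A hA => by
    obtain ⟨V, hV, hVA⟩ := hU (v.left '' A) (hA.image _)
    have : IsAffine V.toScheme := hV
    let A' : Set ↥((v.left ⁻¹ᵁ V).toScheme) := (v.left ⁻¹ᵁ V).ι ⁻¹' A
    have hA' : A'.Finite := hA.preimage (v.left ⁻¹ᵁ V).ι.isOpenEmbedding.injective.injOn
    have : IsSeparated (v.left ∣_ V) := IsZariskiLocalAtTarget.restrict hv₁ V
    have : LocallyQuasiFinite (v.left ∣_ V) := IsZariskiLocalAtTarget.restrict hv₂ V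
    have : LocallyOfFiniteType (v.left ∣_ V) := IsZariskiLocalAtTarget.restrict hv₃ V
    obtain ⟨V', hV', hAV'⟩ := Grpd80.exists_affine_of_lqf (v.left ∣_ V) hA'
    refine ⟨(v.left ⁻¹ᵁ V).ι ''ᵁ V', hV'.image_of_isOpenImmersion _, fun x hx => ?_⟩
    exact ⟨⟨x, hVA ⟨x, hx, rfl⟩⟩, hAV' hx, rfl⟩)
  obtain ⟨het, -⟩ := repWith_etale_separated_pieceπ (hπ := hπ) hfl hfp hsep hqf
  refine ⟨M, e.hom ≫ pieceπ hπ,
    (repWith_isMultiplicative (S := S) @Etale).comp_mem _ _ (repWith_etale_of_isIso _) het,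
    (repWith_isMultiplicative (S := S) @Surjective).comp_mem _ _ (repWith_surjective_of_isIso _)
      (repWith_surjective_pieceπ hfl hfp hsep hqf hs)⟩

end Groth.Agent.SpPts86
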