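import Groth.Agent.SpPts86.PieceSheaf
import Groth.Agent.SpPts86.QCMor

/-!
Maps from schemes to the sheaf of pieces; two of them agree over an open and closed subscheme.
-/

universe u

set_option autoImplicit false

open CategoryTheory CategoryTheory.Limits AlgebraicGeometry Opposite
open AlgSp Groth.Agent.SpFP87

namespace Groth.Agent.SpPts86

variable {S : Scheme.{u}} {U : Over S} {F : Sp S} {π : (yon S).obj U ⟶ F} (hπ : Representable π)

/-- The map to `F` of the sheaf of pieces. -/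
noncomputable def pieceπ : pieceSheaf π hπ ⟶ F :=
  ⟨{ app := fun T => TypeCat.ofHom fun q => uE (S := S) q.1.1
     naturality := fun T T' h => by
      refine ConcreteCategory.hom_ext _ _ fun q => ?_
      exact (GrothendieckTopology.uliftYonedaEquiv_naturality (J := J S) q.1.1 h.unop).symm }⟩

variable {hπ}

/-- The section given by a map to the sheaf of pieces. -/
noncomputable def secOf {T : Over S} (a : (yon S).obj T ⟶ pieceSheaf π hπ) :
    {q : ((yon S).obj T ⟶ F) × Set ↥(pullback T.hom U.hom) // Good π q.1 q.2} :=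
  uE (S := S) a

theorem secOf_fst {T : Over S} (a : (yon S).obj T ⟶ pieceSheaf π hπ) :
    (secOf a).1.1 = a ≫ pieceπ hπ := by
  apply (uE (S := S)).injective
  rw [GrothendieckTopology.uliftYonedaEquiv_comp]
  rfl

/-- The subset given by a map to the sheaf of pieces. -/
noncomputable def pieceSet {T : Over S} (a : (yon S).obj T ⟶ pieceSheaf π hπ) :
    Set ↥(pullback T.hom U.hom) := (secOf a).1.2

theorem good_pieceSet {T : Over S} (a : (yon S).obj T ⟶ pieceSheaf π hπ) :
    Good π (a ≫ pieceπ hπ) (pieceSet a) := by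
  rw [← secOf_fst]
  exact (secOf a).2

theorem secOf_map {T T' : Over S} (h : T' ⟶ T) (a : (yon S).obj T ⟶ pieceSheaf π hπ) :
    secOf ((yon S).map h ≫ a) = (piecePre π hπ).map h.op (secOf a) :=
  (GrothendieckTopology.uliftYonedaEquiv_naturality (J := J S) a h).symm

theorem pieceSet_map {T T' : Over S} (h : T' ⟶ T) (a : (yon S).obj T ⟶ pieceSheaf π hπ) :
    pieceSet ((yon S).map h ≫ a) = mapProd U h ⁻¹' pieceSet a :=
  congrArg (fun q => q.1.2) (secOf_map h a)

theorem pieceHom_ext {T : Over S} {a b : (yon S).obj T ⟶ pieceSheaf π hπ}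
    (h₁ : a ≫ pieceπ hπ = b ≫ pieceπ hπ) (h₂ : pieceSet a = pieceSet b) : a = b := by
  apply (uE (S := S)).injective
  refine Subtype.ext (Prod.ext ?_ h₂)
  change (secOf a).1.1 = (secOf b).1.1
  rw [secOf_fst, secOf_fst, h₁]

theorem exists_pieceHom (hπ : Representable π) {T : Over S} {g : (yon S).obj T ⟶ F}
    {Z : Set ↥(pullback T.hom U.hom)} (hZ : Good π g Z) :
    ∃ a : (yon S).obj T ⟶ pieceSheaf π hπ, a ≫ pieceπ hπ = g ∧ pieceSet a = Z := by
  let x : (pieceSheaf π hπ).obj.obj (op T) := ⟨(g, Z), hZ⟩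
  have e : secOf ((uE (S := S)).symm x) = ⟨(g, Z), hZ⟩ := (uE (S := S)).apply_symm_apply x
  refine ⟨(uE (S := S)).symm x, ?_, ?_⟩
  · rw [← secOf_fst, e]
  · rw [pieceSet, e]

/-- Two pieces over the same map agree exactly over an open and closed subscheme. -/
theorem exists_eqLocus (hfl : RepWith @Flat π) (hfp : RepWith @LocallyOfFinitePresentation π)
    (hsep : RepWith @IsSeparated π) {T : Over S} {a b : (yon S).obj T ⟶ pieceSheaf π hπ}
    (hab : a ≫ pieceπ hπ = b ≫ pieceπ hπ) :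
    ∃ E : T.left.Opens, IsClosed (E : Set ↥T.left) ∧
      ∀ (T' : Over S) (h : T' ⟶ T),
        (yon S).map h ≫ a = (yon S).map h ≫ b ↔ Set.range h.left ⊆ (E : Set ↥T.left) := by
  obtain ⟨V, s, p, sq⟩ := exists_isPullback_of_rep hπ (a ≫ pieceπ hπ)
  have hs : IsSeparated s.left := hsep.property _ _ _ sq.flip
  have hsf : Flat s.left := hfl.property _ _ _ sq.flip
  have hsp : LocallyOfFinitePresentation s.left := hfp.property _ _ _ sq.flip
  obtain ⟨O₁, hO₁, -, -, e₁⟩ := (good_pieceSet a).piece_self sq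
  obtain ⟨O₂, hO₂, -, -, e₂⟩ := (hab ▸ good_pieceSet b : Good π (a ≫ pieceπ hπ) (pieceSet b)).piece_self sq
  let D₁ : V.left.Opens := ⟨(O₁ : Set ↥V.left) ∩ (O₂ : Set ↥V.left)ᶜ, O₁.isOpen.inter hO₂.isClosed.isOpen_compl⟩
  let D₂ : V.left.Opens := ⟨(O₂ : Set ↥V.left) ∩ (O₁ : Set ↥V.left)ᶜ, O₂.isOpen.inter hO₁.isClosed.isOpen_compl⟩
  have hD₁ : IsPiece s.left D₁ := hO₁.mono Set.inter_subset_left (hO₁.isClosed.inter O₂.isOpen.isClosed_compl)
  have hD₂ : IsPiece s.left D₂ := hO₂.mono Set.inter_subset_left (hO₂.isClosed.inter O₁.isOpen.isClosed_compl)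
  have himg : ∀ D : V.left.Opens, IsPiece s.left D →
      IsOpen (s.left '' (D : Set ↥V.left)) ∧ IsClosed (s.left '' (D : Set ↥V.left)) := fun D hD => by
    refine ⟨s.left.isOpenMap _ D.isOpen, ?_⟩
    have : IsFinite (D.ι ≫ s.left) := hD
    have e : s.left '' (D : Set ↥V.left) = Set.range (D.ι ≫ s.left) := by
      rw [Scheme.Hom.comp_base, TopCat.coe_comp, Set.range_comp, Scheme.Opens.range_ι]
    rw [e]
    exact (D.ι ≫ s.left).isClosedMap.isClosed_range
  obtain ⟨ho₁, hc₁⟩ := himg D₁ hD₁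
  obtain ⟨ho₂, hc₂⟩ := himg D₂ hD₂
  refine ⟨⟨(s.left '' (D₁ : Set ↥V.left) ∪ s.left '' (D₂ : Set ↥V.left))ᶜ, (hc₁.union hc₂).isOpen_compl⟩,
    (ho₁.union ho₂).isClosed_compl, fun T' h => ?_⟩
  obtain ⟨V', s', p', sq'⟩ := exists_isPullback_of_rep hπ ((yon S).map h ≫ a ≫ pieceπ hπ)
  obtain ⟨k, hk, hk'⟩ := exists_baseChange sq h sq'
  have key : (yon S).map h ≫ a = (yon S).map h ≫ b ↔
      ∀ w : ↥V'.left, (k.left w ∈ O₁ ↔ k.left w ∈ O₂) := by
    have hm : ∀ w, mapProd U h (schLift s' p' w) = schLift s p (k.left w) := fun w => by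
      rw [← Scheme.Hom.comp_apply, ← Scheme.Hom.comp_apply, hk.w]
    constructor
    · intro e w
      have e' := congrArg pieceSet e
      rw [pieceSet_map, pieceSet_map] at e'
      have e'' := Set.ext_iff.1 e' (schLift s' p' w)
      rw [Set.mem_preimage, Set.mem_preimage, hm] at e''
      exact (Set.ext_iff.1 e₁ _).trans (e''.trans (Set.ext_iff.1 e₂ _).symm)
    · intro e
      have hg : ((yon S).map h ≫ a) ≫ pieceπ hπ = ((yon S).map h ≫ b) ≫ pieceπ hπ := by
        rw [Category.assoc, Category.assoc, hab]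
      refine pieceHom_ext hg ?_
      have hga := good_pieceSet ((yon S).map h ≫ a)
      have hgb := good_pieceSet ((yon S).map h ≫ b)
      rw [← hg] at hgb
      rw [Category.assoc] at hga hgb
      obtain ⟨O₁', -, -, i₁, j₁⟩ := hga.piece_self sq'
      obtain ⟨O₂', -, -, i₂, j₂⟩ := hgb.piece_self sq'
      rw [← i₁, ← i₂, j₁, j₂, pieceSet_map, pieceSet_map]
      congr 1
      ext w
      simp only [Set.mem_preimage, hm]
      exact (Set.ext_iff.1 e₁ _).symm.trans ((e w).trans (Set.ext_iff.1 e₂ _))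
  rw [key]
  constructor
  · rintro e _ ⟨t', rfl⟩ (⟨v, hv, hvt⟩ | ⟨v, hv, hvt⟩) <;>
      obtain ⟨w, hw, -⟩ := Scheme.exists_preimage_of_isPullback hk' v t' hvt <;>
      have := e w <;> rw [hw] at this
    · exact hv.2 (this.1 hv.1)
    · exact hv.2 (this.2 hv.1)
  · intro e w
    have hw := e ⟨s'.left w, rfl⟩
    rw [← Scheme.Hom.comp_apply, ← hk'.w, Scheme.Hom.comp_apply] at hw
    constructor
    · intro h1
      by_contra h2
      exact hw (Or.inl ⟨_, ⟨h1, h2⟩, rfl⟩)
    · intro h2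
      by_contra h1
      exact hw (Or.inr ⟨_, ⟨h2, h1⟩, rfl⟩)

end Groth.Agent.SpPts86
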