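import Groth.Agent.SpPts86.Piece
import Groth.Agent.SpPts86.DiagCrit
import Groth.Agent.SpPts86.CovSigma
import Groth.Agent.SpPts86.Finite

/-!
The sheaf of finite open pieces of the base changes of a map from a scheme to a sheaf.
-/

universe u

set_option autoImplicit false

open CategoryTheory CategoryTheory.Limits AlgebraicGeometry Opposite
open AlgSp Groth.Agent.SpFP87

namespace Groth.Agent.SpPts86

variable {S : Scheme.{u}} {U : Over S}

theorem injective_of_mono_scheme {X Y : Scheme.{u}} (f : X ⟶ Y) [Mono f] : Function.Injective f := by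
  intro a b hab
  obtain ⟨w, hw₁, hw₂⟩ := Scheme.Pullback.exists_preimage_pullback a b hab
  rw [← hw₁, ← hw₂, (cancel_mono f).1 (pullback.condition (f := f) (g := f))]

/-- The map of products with `U` induced by a map of schemes over the base. -/
noncomputable abbrev mapProd (U : Over S) {T T' : Over S} (h : T' ⟶ T) :
    pullback T'.hom U.hom ⟶ pullback T.hom U.hom :=
  pullback.map T'.hom U.hom T.hom U.hom h.left (𝟙 U : U ⟶ U).left (𝟙 S) (by simp) (by simp)

theorem mapProd_fst {T T' : Over S} (h : T' ⟶ T) :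
    mapProd U h ≫ pullback.fst T.hom U.hom = pullback.fst T'.hom U.hom ≫ h.left :=
  pullback.lift_fst _ _ _

theorem mapProd_snd {T T' : Over S} (h : T' ⟶ T) :
    mapProd U h ≫ pullback.snd T.hom U.hom = pullback.snd T'.hom U.hom := by
  refine (pullback.lift_snd _ _ _).trans ?_
  exact Category.comp_id _

theorem mapProd_id (T : Over S) : mapProd U (𝟙 T) = 𝟙 _ := by
  apply pullback.hom_ext
  · rw [mapProd_fst, Category.id_comp]
    exact Category.comp_id _
  · rw [mapProd_snd, Category.id_comp]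

theorem mapProd_comp {T T' T'' : Over S} (h : T' ⟶ T) (h' : T'' ⟶ T') :
    mapProd U (h' ≫ h) = mapProd U h' ≫ mapProd U h := by
  apply pullback.hom_ext
  · rw [Category.assoc, mapProd_fst, mapProd_fst, ← Category.assoc (mapProd U h'), mapProd_fst,
      Category.assoc, Over.comp_left]
  · rw [Category.assoc, mapProd_snd, mapProd_snd, mapProd_snd]

theorem isPullback_mapProd {T T' : Over S} (h : T' ⟶ T) :
    IsPullback (mapProd U h) (pullback.fst T'.hom U.hom) (pullback.fst T.hom U.hom) h.left := by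
  refine (IsPullback.of_bot ?_ (mapProd_fst h).symm (IsPullback.of_hasPullback T.hom U.hom)).flip
  rw [mapProd_snd]
  have := IsPullback.of_hasPullback T'.hom U.hom
  rwa [Over.w h]

theorem exists_overlap {T T₁ T₂ : Over S} (f₁ : T₁ ⟶ T) (f₂ : T₂ ⟶ T)
    (y₁ : ↥(pullback T₁.hom U.hom)) (y₂ : ↥(pullback T₂.hom U.hom))
    (h : mapProd U f₁ y₁ = mapProd U f₂ y₂) :
    ∃ (P : Over S) (p₁ : P ⟶ T₁) (p₂ : P ⟶ T₂) (_ : p₁ ≫ f₁ = p₂ ≫ f₂) (z : ↥(pullback P.hom U.hom)),
      mapProd U p₁ z = y₁ ∧ mapProd U p₂ z = y₂ := by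
  let P : Over S := Over.mk (pullback.fst f₁.left f₂.left ≫ T₁.hom)
  let p₁ : P ⟶ T₁ := Over.homMk (pullback.fst f₁.left f₂.left) rfl
  let p₂ : P ⟶ T₂ := Over.homMk (pullback.snd f₁.left f₂.left) (by
    change pullback.snd f₁.left f₂.left ≫ T₂.hom = pullback.fst f₁.left f₂.left ≫ T₁.hom
    rw [← Over.w f₁, ← Over.w f₂, pullback.condition_assoc])
  have hp : p₁ ≫ f₁ = p₂ ≫ f₂ := Over.OverMorphism.ext pullback.condition
  have h1 := (isPullback_mapProd (U := U) p₁).paste_vert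
    (IsPullback.of_hasPullback f₁.left f₂.left : IsPullback p₁.left p₂.left f₁.left f₂.left)
  change IsPullback _ (pullback.fst P.hom U.hom ≫ p₂.left) _ _ at h1
  rw [← mapProd_fst p₂, ← mapProd_fst f₁] at h1
  have h2 : IsPullback (mapProd U p₁) (mapProd U p₂) (mapProd U f₁) (mapProd U f₂) :=
    IsPullback.of_bot h1 (by rw [← mapProd_comp, hp, mapProd_comp]) (isPullback_mapProd f₂).flip.flip
  exact ⟨P, p₁, p₂, hp, Scheme.exists_preimage_of_isPullback h2 y₁ y₂ h⟩

theorem image_preimage_of_isPullback {P X Y Z : Scheme.{u}} {fst : P ⟶ X} {snd : P ⟶ Y} {f : X ⟶ Z}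
    {g : Y ⟶ Z} (sq : IsPullback fst snd f g) (A : Set ↥X) : snd '' (fst ⁻¹' A) = g ⁻¹' (f '' A) := by
  ext y
  constructor
  · rintro ⟨w, hw, rfl⟩
    exact ⟨fst w, hw, by rw [← Scheme.Hom.comp_apply, sq.w, Scheme.Hom.comp_apply]⟩
  · rintro ⟨x, hx, hxy⟩
    obtain ⟨w, h1, h2⟩ := Scheme.exists_preimage_of_isPullback sq x y hxy
    exact ⟨w, by rw [Set.mem_preimage, h1]; exact hx, h2⟩

variable {F : Sp S} (π : (yon S).obj U ⟶ F)

/-- `Z` is the image of a piece, finite and surjective over `T`, of the base change of `π` along `g`. -/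
def Good {T : Over S} (g : (yon S).obj T ⟶ F) (Z : Set ↥(pullback T.hom U.hom)) : Prop :=
  ∃ (V : Over S) (s : V ⟶ T) (p : V ⟶ U), IsPullback ((yon S).map s) ((yon S).map p) g π ∧
    ∃ O : V.left.Opens, IsPiece s.left O ∧ Surjective (O.ι ≫ s.left) ∧ schLift s p '' O = Z

variable {π}

theorem exists_isPullback_of_rep (hπ : Representable π) {T : Over S} (g : (yon S).obj T ⟶ F) :
    ∃ (V : Over S) (s : V ⟶ T) (p : V ⟶ U), IsPullback ((yon S).map s) ((yon S).map p) g π := by
  obtain ⟨p, hp⟩ := (yon S).map_surjective (hπ.fst g)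
  refine ⟨_, hπ.snd g, p, ?_⟩
  rw [hp]
  exact (hπ.isPullback g).flip

theorem mono_schLift {T V : Over S} {g : (yon S).obj T ⟶ F} {s : V ⟶ T} {p : V ⟶ U}
    (sq : IsPullback ((yon S).map s) ((yon S).map p) g π) : Mono (schLift s p) :=
  mono_lift_of_isPullback sq

theorem exists_baseChange {T T' V V' : Over S} {g : (yon S).obj T ⟶ F} {s : V ⟶ T} {p : V ⟶ U}
    (sq : IsPullback ((yon S).map s) ((yon S).map p) g π) (h : T' ⟶ T) {s' : V' ⟶ T'} {p' : V' ⟶ U}
    (sq' : IsPullback ((yon S).map s') ((yon S).map p') ((yon S).map h ≫ g) π) :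
    ∃ k : V' ⟶ V, IsPullback k.left (schLift s' p') (schLift s p) (mapProd U h) ∧
      IsPullback k.left s'.left s.left h.left := by
  have sq'' : IsPullback ((yon S).map s') ((yon S).map p') ((yon S).map h ≫ g)
      ((yon S).map (𝟙 U) ≫ π) := by
    rwa [CategoryTheory.Functor.map_id, Category.id_comp]
  obtain ⟨k, hk⟩ := isPullback_schLift sq sq''
  have := hk.paste_vert (isPullback_mapProd h)
  rw [schLift_fst, schLift_fst] at this
  exact ⟨k, hk, this⟩

theorem Good.piece {T T' : Over S} {g : (yon S).obj T ⟶ F} {Z : Set ↥(pullback T.hom U.hom)}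
    (hZ : Good π g Z) (h : T' ⟶ T) {V' : Over S} {s' : V' ⟶ T'} {p' : V' ⟶ U}
    (sq' : IsPullback ((yon S).map s') ((yon S).map p') ((yon S).map h ≫ g) π) :
    ∃ O' : V'.left.Opens, IsPiece s'.left O' ∧ Surjective (O'.ι ≫ s'.left) ∧
      schLift s' p' '' O' = mapProd U h ⁻¹' Z ∧ (O' : Set ↥V'.left) = schLift s' p' ⁻¹' (mapProd U h ⁻¹' Z) := by
  obtain ⟨V, s, p, sq, O, hO, hsurj, rfl⟩ := hZ
  obtain ⟨k, hk, hk'⟩ := exists_baseChange sq h sq'
  have := mono_schLift sq'
  have e := image_preimage_of_isPullback hk (O : Set ↥V.left)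
  refine ⟨k.left ⁻¹ᵁ O, hO.baseChange hk', ?_, e, ?_⟩
  · exact MorphismProperty.of_isPullback (P := @Surjective)
      ((isPullback_morphismRestrict k.left O).paste_vert hk') hsurj
  · rw [← e, Set.preimage_image_eq _ (injective_of_mono_scheme _)]
    rfl

theorem Good.piece_self {T : Over S} {g : (yon S).obj T ⟶ F} {Z : Set ↥(pullback T.hom U.hom)}
    (hZ : Good π g Z) {V : Over S} {s : V ⟶ T} {p : V ⟶ U}
    (sq : IsPullback ((yon S).map s) ((yon S).map p) g π) :
    ∃ O : V.left.Opens, IsPiece s.left O ∧ Surjective (O.ι ≫ s.left) ∧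
      schLift s p '' O = Z ∧ (O : Set ↥V.left) = schLift s p ⁻¹' Z := by
  obtain ⟨O, h₁, h₂, h₃, h₄⟩ := hZ.piece (𝟙 T) (V' := V) (s' := s) (p' := p)
    (by rwa [CategoryTheory.Functor.map_id, Category.id_comp])
  refine ⟨O, h₁, h₂, ?_, ?_⟩
  · rw [h₃, mapProd_id]; rfl
  · rw [h₄, mapProd_id]; rfl

theorem Good.pull (hπ : Representable π) {T T' : Over S} {g : (yon S).obj T ⟶ F}
    {Z : Set ↥(pullback T.hom U.hom)} (hZ : Good π g Z) (h : T' ⟶ T) :
    Good π ((yon S).map h ≫ g) (mapProd U h ⁻¹' Z) := by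
  obtain ⟨V', s', p₀, sq₀⟩ := exists_isPullback_of_rep hπ ((yon S).map h ≫ g)
  obtain ⟨O', h₁, h₂, h₃, -⟩ := hZ.piece h sq₀
  exact ⟨V', s', p₀, sq₀, O', h₁, h₂, h₃⟩

variable (π)

/-- The presheaf of pieces. -/
noncomputable def piecePre (hπ : Representable π) : (Over S)ᵒᵖ ⥤ Type (u + 1) where
  obj T := {q : ((yon S).obj T.unop ⟶ F) × Set ↥(pullback T.unop.hom U.hom) // Good π q.1 q.2}
  map h := TypeCat.ofHom fun q =>
    ⟨((yon S).map h.unop ≫ q.1.1, mapProd U h.unop ⁻¹' q.1.2), q.2.pull hπ h.unop⟩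
  map_id T := by
    refine ConcreteCategory.hom_ext _ _ fun q => ?_
    refine Subtype.ext (Prod.ext ?_ ?_)
    · change (yon S).map (𝟙 T.unop) ≫ q.1.1 = q.1.1
      rw [CategoryTheory.Functor.map_id, Category.id_comp]
    · change mapProd U (𝟙 T.unop) ⁻¹' q.1.2 = q.1.2
      rw [mapProd_id]
      rfl
  map_comp a b := by
    refine ConcreteCategory.hom_ext _ _ fun q => ?_
    refine Subtype.ext (Prod.ext ?_ ?_)
    · change (yon S).map (b.unop ≫ a.unop) ≫ q.1.1 = (yon S).map b.unop ≫ (yon S).map a.unop ≫ q.1.1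
      rw [Functor.map_comp, Category.assoc]
    · change mapProd U (b.unop ≫ a.unop) ⁻¹' q.1.2 = mapProd U b.unop ⁻¹' (mapProd U a.unop ⁻¹' q.1.2)
      rw [mapProd_comp]
      rfl

set_option backward.isDefEq.respectTransparency.types false in
theorem isSheaf_piecePre (hπ : Representable π) : Presheaf.IsSheaf (J S) (piecePre π hπ) := by
  rw [isSheaf_iff_isSheaf_of_type]
  intro T R hR x hx
  obtain ⟨V, c, hcR, hfl, hrange⟩ := exists_pieces hR
  let gF : ∀ ⦃T' : Over S⦄ (f : T' ⟶ T), R f → F.obj.obj (op T') := fun T' f hf =>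
    uE (S := S) (x f hf).1.1
  have hgF : Presieve.FamilyOfElements.Compatible (R := R.arrows) gF := by
    intro Y₁ Y₂ Z a₁ a₂ f₁ f₂ h₁ h₂ e
    have := congrArg (fun q => uE (S := S) q.1.1) (hx a₁ a₂ h₁ h₂ e)
    refine Eq.trans ?_ (Eq.trans this ?_)
    · exact GrothendieckTopology.uliftYonedaEquiv_naturality (J := J S) _ _
    · exact (GrothendieckTopology.uliftYonedaEquiv_naturality (J := J S) _ _).symm
  obtain ⟨y, hy, hyu⟩ := ((isSheaf_iff_isSheaf_of_type _ _).1 F.property) R hR gF hgF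
  let g : (yon S).obj T ⟶ F := (uE (S := S)).symm y
  have hg : ∀ {T' : Over S} (f : T' ⟶ T) (hf : R f), (yon S).map f ≫ g = (x f hf).1.1 := by
    intro T' f hf
    apply (uE (S := S)).injective
    refine Eq.trans ?_ (hy f hf)
    refine (GrothendieckTopology.uliftYonedaEquiv_naturality (J := J S) _ _).symm.trans ?_
    rw [Equiv.apply_symm_apply]
  have hov : ∀ {T₁ T₂ : Over S} (f₁ : T₁ ⟶ T) (h₁ : R f₁) (f₂ : T₂ ⟶ T) (h₂ : R f₂)
      (y₁ : ↥(pullback T₁.hom U.hom)) (y₂ : ↥(pullback T₂.hom U.hom)),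
      mapProd U f₁ y₁ = mapProd U f₂ y₂ → (y₁ ∈ (x f₁ h₁).1.2 ↔ y₂ ∈ (x f₂ h₂).1.2) := by
    intro T₁ T₂ f₁ h₁ f₂ h₂ y₁ y₂ e
    obtain ⟨P, p₁, p₂, hp, z, rfl, rfl⟩ := exists_overlap f₁ f₂ y₁ y₂ e
    exact Set.ext_iff.1 (congrArg (fun q => q.1.2) (hx p₁ p₂ h₁ h₂ hp)) z
  let Z : Set ↥(pullback T.hom U.hom) := ⋃ t, mapProd U (c t) '' (x (c t) (hcR t)).1.2
  have hcov : ∀ y : ↥(pullback T.hom U.hom), ∃ t, y ∈ Set.range (mapProd U (c t)) := by
    intro y
    obtain ⟨v, hv⟩ := hrange (pullback.fst T.hom U.hom y)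
    obtain ⟨w, hw, -⟩ := Scheme.exists_preimage_of_isPullback (isPullback_mapProd (U := U) (c _)) y v hv.symm
    exact ⟨_, w, hw⟩
  have hZ : ∀ {T' : Over S} (f : T' ⟶ T) (hf : R f), mapProd U f ⁻¹' Z = (x f hf).1.2 := by
    intro T' f hf
    ext y
    constructor
    · intro hy'
      obtain ⟨t, y', hy', e⟩ := Set.mem_iUnion.1 hy'
      exact (hov _ _ f hf y' y e).1 hy'
    · intro hy'
      obtain ⟨t, y', e⟩ := hcov (mapProd U f y)
      exact Set.mem_iUnion.2 ⟨t, y', (hov _ _ f hf y' y e).2 hy', e⟩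
  have hgood : Good π g Z := by
    obtain ⟨V₀, s, p, sq⟩ := exists_isPullback_of_rep hπ g
    have := mono_schLift sq
    choose Vt st pt sqt using fun t => exists_isPullback_of_rep hπ ((yon S).map (c t) ≫ g)
    choose k hk hk' using fun t => exists_baseChange sq (c t) (sqt t)
    have hq : ∀ t, ∃ O' : (Vt t).left.Opens, IsPiece (st t).left O' ∧
        Surjective (O'.ι ≫ (st t).left) ∧
        (O' : Set ↥(Vt t).left) = (k t).left ⁻¹' (schLift s p ⁻¹' Z) := by
      intro t
      have hgt : Good π ((yon S).map (c t) ≫ g) (mapProd U (c t) ⁻¹' Z) := by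
        rw [hg (c t) (hcR t), hZ (c t) (hcR t)]
        exact (x (c t) (hcR t)).2
      obtain ⟨O', h₁, h₂, -, h₄⟩ := hgt.piece_self (sqt t)
      refine ⟨O', h₁, h₂, ?_⟩
      rw [h₄]
      ext w
      change mapProd U (c t) (schLift (st t) (pt t) w) ∈ Z ↔ schLift s p ((k t).left w) ∈ Z
      rw [← Scheme.Hom.comp_apply, ← Scheme.Hom.comp_apply, (hk t).w]
    choose Ot hOt hOs hOeq using hq
    have hlift : ∀ v : ↥V₀.left, ∃ t, v ∈ Set.range (k t).left := by
      intro v
      obtain ⟨t, y', e⟩ := hcov (schLift s p v)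
      obtain ⟨w, hw, -⟩ := Scheme.exists_preimage_of_isPullback (hk t) v y' e.symm
      exact ⟨t, w, hw⟩
    have hopen : IsOpen (schLift s p ⁻¹' Z) := by
      have e : schLift s p ⁻¹' Z = ⋃ t, (k t).left '' (Ot t : Set ↥(Vt t).left) := by
        ext v
        constructor
        · intro hv
          obtain ⟨t, w, rfl⟩ := hlift v
          refine Set.mem_iUnion.2 ⟨t, w, ?_, rfl⟩
          rw [hOeq]
          exact hv
        · intro hv
          obtain ⟨t, w, hw, rfl⟩ := Set.mem_iUnion.1 hv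
          rw [hOeq] at hw
          exact hw
      rw [e]
      refine isOpen_iUnion fun t => ?_
      have : Flat (c t).left := (hfl t).1
      have : LocallyOfFinitePresentation (c t).left := (hfl t).2
      have : Flat (k t).left := MorphismProperty.of_isPullback (P := @Flat) (hk' t).flip inferInstance
      have : LocallyOfFinitePresentation (k t).left :=
        MorphismProperty.of_isPullback (P := @LocallyOfFinitePresentation) (hk' t).flip inferInstance
      exact (k t).left.isOpenMap _ (Ot t).isOpen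
    let O : V₀.left.Opens := ⟨_, hopen⟩
    have hkO : ∀ t, (k t).left ⁻¹ᵁ O = Ot t := fun t => TopologicalSpace.Opens.ext (hOeq t).symm
    refine ⟨V₀, s, p, sq, O, ?_, ⟨fun a => ?_⟩, ?_⟩
    · have hR' : Presieve.ofArrows (fun t => (V t).left) (fun t => (c t).left) ∈
          Scheme.fppfPrecoverage T.left := by
        rw [Scheme.fppfPrecoverage, Scheme.ofArrows_mem_precoverage_iff]
        exact ⟨fun a => ⟨_, hrange a⟩, fun t => hfl t⟩
      have := isFinite_descends.{u}
      refine of_forall_pullbackSnd_fppf (@IsFinite) (O.ι ≫ s.left) hR' ?_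
      rintro _ _ _ ⟨t⟩
      have sqO := (isPullback_morphismRestrict (k t).left O).paste_vert (hk' t)
      rw [← sqO.isoPullback_inv_snd, MorphismProperty.cancel_left_of_respectsIso @IsFinite]
      exact (hkO t).symm ▸ hOt t
    · obtain ⟨v, hv⟩ := hrange a
      obtain ⟨w, hw⟩ := (hOs a).surj v
      refine ⟨⟨(k a).left ((Ot a).ι w), ?_⟩, ?_⟩
      · change schLift s p ((k a).left ((Ot a).ι w)) ∈ Z
        have := w.2
        exact (Set.ext_iff.1 (hOeq a) _).1 this
      · rw [Scheme.Hom.comp_apply] at hw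
        change s.left ((k a).left ((Ot a).ι w)) = a
        rw [← Scheme.Hom.comp_apply (k a).left, (hk' a).w, Scheme.Hom.comp_apply, hw, hv]
    · refine Set.Subset.antisymm (by rintro _ ⟨v, hv, rfl⟩; exact hv) fun z hz => ?_
      obtain ⟨t, y', hy', rfl⟩ := Set.mem_iUnion.1 hz
      have hgt : Good π ((yon S).map (c t) ≫ g) (x (c t) (hcR t)).1.2 := by
        rw [hg (c t) (hcR t)]
        exact (x (c t) (hcR t)).2
      obtain ⟨O', -, -, h₃, -⟩ := hgt.piece_self (sqt t)
      rw [← h₃] at hy'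
      obtain ⟨w, hw, rfl⟩ := hy'
      have e : schLift s p ((k t).left w) = mapProd U (c t) (schLift (st t) (pt t) w) := by
        rw [← Scheme.Hom.comp_apply, ← Scheme.Hom.comp_apply, (hk t).w]
      exact ⟨(k t).left w, by change schLift s p _ ∈ Z; rw [e]; exact hz, e⟩
  refine ⟨⟨(g, Z), hgood⟩, fun T' f hf => Subtype.ext (Prod.ext (hg f hf) (hZ f hf)), ?_⟩
  rintro ⟨⟨g', Z'⟩, hgood'⟩ hq
  have e : ∀ {T' : Over S} (f : T' ⟶ T) (hf : R f),
      ((yon S).map f ≫ g', mapProd U f ⁻¹' Z') = ((x f hf).1.1, (x f hf).1.2) :=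
    fun f hf => congrArg Subtype.val (hq f hf)
  refine Subtype.ext (Prod.ext ?_ ?_)
  · change g' = g
    refine (Equiv.eq_symm_apply _).2 (hyu _ fun T' f hf => ?_)
    rw [GrothendieckTopology.uliftYonedaEquiv_naturality (J := J S)]
    exact congrArg (fun q => uE (S := S) q.1) (e f hf)
  · change Z' = Z
    ext y
    obtain ⟨t, w, rfl⟩ := hcov y
    have h1 := Set.ext_iff.1 (congrArg Prod.snd (e (c t) (hcR t))) w
    have h2 := Set.ext_iff.1 (hZ (c t) (hcR t)) w
    exact h1.trans h2.symm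

/-- The sheaf of pieces. -/
noncomputable def pieceSheaf (hπ : Representable π) : Sp S := ⟨piecePre π hπ, isSheaf_piecePre π hπ⟩

end Groth.Agent.SpPts86
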