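import Groth.Agent.SpPts86.ValComposite
import Groth.Agent.SpPts86.ValClosed
import Groth.Agent.SpPts86.FlatValLift

/-!
The refined valuative criterion: squares through a dense quasi-compact `U ⟶ X` suffice.
-/

universe u

set_option autoImplicit false
set_option backward.isDefEq.respectTransparency false
set_option linter.style.haveILetI false

open CategoryTheory CategoryTheory.Limits AlgebraicGeometry Topology IsLocalRing
open AlgSp Groth.Agent.SpFP87

namespace Groth.Agent.SpPts86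

variable {S : Scheme.{u}} {U X Y : Sp S}

/-- The morphism over `S` of spectra given by a ring map. -/
noncomputable def spMor {R R' : CommRingCat.{u}} {s : Spec R ⟶ S} {s' : Spec R' ⟶ S} (φ : R ⟶ R')
    (h : Spec.map φ ≫ s = s') : (Over.mk s' : Over S) ⟶ Over.mk s :=
  Over.homMk (Spec.map φ) h

@[simp] theorem spMor_left {R R' : CommRingCat.{u}} {s : Spec R ⟶ S} {s' : Spec R' ⟶ S} (φ : R ⟶ R')
    (h : Spec.map φ ≫ s = s') : (spMor φ h).left = Spec.map φ := rfl

/-- A valuation ring through `U` whose residue field receives a given field-valued point. -/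
theorem exists_point_data (hX : IsAlgSpace X) {h : U ⟶ X} (hh : IsQuasiCompactMor h)
    (hd : DenseRange (Points.map h)) {f : X ⟶ Y} (sq : ValSq f) :
    ∃ (Ω : Type u) (_ : Field Ω) (B : ValuationSubring Ω) (s : Spec (CommRingCat.of B) ⟶ S)
      (a : (yon S).obj (Over.mk s) ⟶ X) (ψ : sq.K →+* ResidueField B)
      (hs : Spec.map (CommRingCat.ofHom ψ) ≫ Spec.map (CommRingCat.ofHom (algebraMap sq.A sq.K)) ≫ sq.str =
        Spec.map (CommRingCat.ofHom (residue B)) ≫ s),
      (∃ t : (yon S).obj (Over.mk (Spec.map (CommRingCat.ofHom (algebraMap B Ω)) ≫ s)) ⟶ U,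
        t ≫ h = (yon S).map (spMor (CommRingCat.ofHom (algebraMap B Ω)) rfl) ≫ a) ∧
      (yon S).map (spMor (CommRingCat.ofHom (residue B)) rfl) ≫ a =
        (yon S).map (spMor (CommRingCat.ofHom ψ) hs) ≫ sq.top := by
  obtain ⟨ck, -⟩ : ∃ ck : ↥sq.ptK.left, ck = IsLocalRing.closedPoint sq.K := ⟨_, rfl⟩
  obtain ⟨T, t, v, hT, ht, hv⟩ := exists_affine_chart_pt hX (Points.ofPt sq.top ck)
  haveI := hT
  obtain ⟨A₀, p, hp, hps, hA₀⟩ := hh (IsAlgSpace.yon_obj T) (isQuasiCompactSp_yon T) t _ _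
    (IsPullback.of_hasPullback h t)
  haveI := hA₀
  obtain ⟨q, hq⟩ := (yon S).map_surjective (p ≫ pullback.snd h t)
  have hqU : (p ≫ pullback.fst h t) ≫ h = (yon S).map q ≫ t := by
    rw [Category.assoc, pullback.condition, hq, Category.assoc]
  have hcl : v ∈ closure (Set.range q.left) := by
    refine closure_mono ?_ ((isOpenMap_ofPt ht).preimage_closure_subset_closure_preimage (hd _))
    rintro v' ⟨x, hx⟩
    obtain ⟨w, hw1, hw2⟩ := exists_of_isPullback (IsPullback.of_hasPullback h t) x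
      (Points.ofScheme T v') (by rw [← Points.ofPt_eq_map_ofScheme, hx])
    obtain ⟨a, rfl⟩ := surjective_ofPt hps w
    rw [Points.map_ofPt, ← hq, ofPt_yon_map] at hw2
    exact ⟨a, (Points.schemeHomeo T).injective hw2⟩
  haveI : QuasiCompact q.left := (quasiCompact_iff_compactSpace q.left).2 hA₀
  obtain ⟨V₀, iV, iD, iR, x, y, hxy, hy⟩ := S2121.result q.left v hcl
  subst hy
  obtain ⟨R, pr, ps, sqR⟩ := exists_isPullback_yon hX.diag t sq.top
  obtain ⟨r, hr, -⟩ := exists_pt_of_isPullback' sqR _ ck hv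
  let g : T.left.presheaf.stalk (y (IsLocalRing.closedPoint V₀)) ⟶ CommRingCat.of (FractionRing V₀) :=
    Scheme.stalkClosedPointTo y ≫ CommRingCat.ofHom (algebraMap V₀ (FractionRing V₀))
  have hsp : pr.left r ⤳ y (IsLocalRing.closedPoint V₀) := by rw [hr]
  have hsp' : y (IsLocalRing.closedPoint V₀) ⤳ pr.left r := by rw [hr]
  let β : T.left.presheaf.stalk (y (IsLocalRing.closedPoint V₀)) ⟶ R.left.residueField r :=
    T.left.presheaf.stalkSpecializes hsp ≫ pr.left.stalkMap r ≫ R.left.residue r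
  have hker : RingHom.ker g.hom ≤ RingHom.ker β.hom := by
    intro z hz
    have h1 : (Scheme.stalkClosedPointTo y).hom z = 0 :=
      IsFractionRing.injective V₀ (FractionRing V₀) (Eq.trans hz (map_zero _).symm)
    by_contra hne
    have h2 : IsUnit (R.left.residue r (pr.left.stalkMap r (T.left.presheaf.stalkSpecializes hsp z))) :=
      isUnit_iff_ne_zero.2 hne
    haveI : IsLocalHom (R.left.residue r).hom :=
      inferInstanceAs (IsLocalHom (residue (R.left.presheaf.stalk r)))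
    have h3 := isUnit_of_map_unit (pr.left.stalkMap r).hom _
      (isUnit_of_map_unit (R.left.residue r).hom _ h2)
    have h4 := h3.map (T.left.presheaf.stalkSpecializes hsp').hom
    have h5 : IsUnit z := by
      have h6 : T.left.presheaf.stalkSpecializes hsp ≫ T.left.presheaf.stalkSpecializes hsp' = 𝟙 _ := by
        rw [TopCat.Presheaf.stalkSpecializes_comp]
        exact TopCat.Presheaf.stalkSpecializes_refl _ _
      rw [show z = (T.left.presheaf.stalkSpecializes hsp ≫ T.left.presheaf.stalkSpecializes hsp') z by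
        rw [h6]; rfl]
      exact h4
    exact (h1 ▸ h5.map (Scheme.stalkClosedPointTo y).hom).ne_zero rfl
  obtain ⟨Ω, iΩ, ι, B, i, τ, hi1, hi2⟩ := exists_valuationSubring_residue g.hom β.hom hker
  let eB : (Over.mk (Spec.map (CommRingCat.ofHom i) ≫ T.left.fromSpecStalk _ ≫ T.hom) : Over S) ⟶ T :=
    Over.homMk (Spec.map (CommRingCat.ofHom i) ≫ T.left.fromSpecStalk _) (Category.assoc _ _ _)
  let s : Spec (CommRingCat.of B) ⟶ S :=
    Spec.map (CommRingCat.ofHom i) ≫ T.left.fromSpecStalk (y (IsLocalRing.closedPoint V₀)) ≫ T.hom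
  obtain ⟨ψ₁, hψ₁⟩ := Spec.map_surjective (R.left.fromSpecResidueField r ≫ ps.left)
  let mR : (Over.mk (Spec.map (CommRingCat.ofHom (residue B)) ≫ s) : Over S) ⟶ R :=
    Over.homMk (Spec.map (CommRingCat.ofHom τ) ≫ R.left.fromSpecResidueField r) (by
      show (Spec.map (CommRingCat.ofHom τ) ≫ R.left.fromSpecResidueField r) ≫ R.hom = _
      have hi2' : CommRingCat.ofHom i ≫ CommRingCat.ofHom (residue B) = β ≫ CommRingCat.ofHom τ :=
        CommRingCat.hom_ext hi2
      show _ = Spec.map _ ≫ Spec.map _ ≫ _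
      rw [← Spec.map_comp_assoc, hi2', Spec.map_comp_assoc, ← Over.w pr, Category.assoc]
      simp only [β, Spec.map_comp, Category.assoc]
      rw [Scheme.SpecMap_stalkSpecializes_fromSpecStalk_assoc,
        Scheme.SpecMap_stalkMap_fromSpecStalk_assoc]
      rfl)
  have hmp : mR ≫ pr = spMor (CommRingCat.ofHom (residue B)) rfl ≫ eB := Over.OverMorphism.ext (by
    have hi2' : CommRingCat.ofHom i ≫ CommRingCat.ofHom (residue B) = β ≫ CommRingCat.ofHom τ :=
      CommRingCat.hom_ext hi2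
    show (Spec.map _ ≫ _) ≫ pr.left = Spec.map _ ≫ Spec.map _ ≫ _
    rw [← Spec.map_comp_assoc, hi2', Spec.map_comp_assoc, Category.assoc]
    simp only [β, Spec.map_comp, Category.assoc]
    rw [Scheme.SpecMap_stalkSpecializes_fromSpecStalk, Scheme.SpecMap_stalkMap_fromSpecStalk]
    rfl)
  have hψ : Spec.map (CommRingCat.ofHom (τ.comp ψ₁.hom)) = mR.left ≫ ps.left := by
    show Spec.map _ = (Spec.map _ ≫ _) ≫ _
    rw [Category.assoc, ← hψ₁, ← Spec.map_comp]
    rfl
  have hs : Spec.map (CommRingCat.ofHom (τ.comp ψ₁.hom)) ≫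
      Spec.map (CommRingCat.ofHom (algebraMap sq.A sq.K)) ≫ sq.str =
      Spec.map (CommRingCat.ofHom (residue B)) ≫ s := by
    rw [hψ, Category.assoc]
    exact (congrArg (mR.left ≫ ·) (Over.w ps)).trans (Over.w mR)
  refine ⟨Ω, iΩ, B, s, (yon S).map eB ≫ t, τ.comp ψ₁.hom, hs, ?_, ?_⟩
  · have hi1' : CommRingCat.ofHom i ≫ CommRingCat.ofHom (algebraMap B Ω) = g ≫ CommRingCat.ofHom ι :=
      CommRingCat.hom_ext hi1
    have e1 : Spec.map (CommRingCat.ofHom (algebraMap B Ω)) ≫ Spec.map (CommRingCat.ofHom i) ≫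
        T.left.fromSpecStalk _ = (Spec.map (CommRingCat.ofHom ι) ≫ x) ≫ q.left := by
      rw [← Spec.map_comp_assoc, hi1', Spec.map_comp_assoc, Category.assoc, hxy]
      simp only [g, Spec.map_comp, Category.assoc]
      congr 2
      exact Scheme.Spec_stalkClosedPointTo_fromSpecStalk y
    let m : (Over.mk (Spec.map (CommRingCat.ofHom (algebraMap B Ω)) ≫ s) : Over S) ⟶ A₀ :=
      Over.homMk (Spec.map (CommRingCat.ofHom ι) ≫ x) (by
        show (Spec.map _ ≫ x) ≫ A₀.hom = Spec.map _ ≫ Spec.map _ ≫ _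
        rw [← Over.w q, ← Category.assoc, ← e1]
        simp only [Category.assoc])
    refine ⟨(yon S).map m ≫ p ≫ pullback.fst h t, ?_⟩
    rw [Category.assoc, hqU]
    simp only [← Category.assoc, ← Functor.map_comp]
    congr 2
    exact Over.OverMorphism.ext e1.symm
  · refine (((Category.assoc _ _ _).symm.trans (congrArg (· ≫ t) (((yon S).map_comp _ _).symm.trans
      ((congrArg (yon S).map hmp.symm).trans ((yon S).map_comp _ _))))).trans (Category.assoc _ _ _)).trans ?_
    refine (congrArg ((yon S).map mR ≫ ·) sqR.w).trans ((Category.assoc _ _ _).symm.trans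
      (congrArg (· ≫ sq.top) (((yon S).map_comp _ _).symm.trans (congrArg (yon S).map ?_))))
    exact Over.OverMorphism.ext hψ.symm

/-- The refined criterion over an affine base. -/
theorem existVC_affine_of_refined (hX : IsAlgSpace X) {T : Over S} [IsAffine T.left]
    {f : X ⟶ (yon S).obj T} {h : U ⟶ X} (hh : IsQuasiCompactMor h) (hd : DenseRange (Points.map h))
    (hv : ∀ sq : ValSq f, (∃ t : (yon S).obj sq.ptK ⟶ U, t ≫ h = sq.top) →
      sq.HasUniq ∧ sq.HasLiftExt) : ExistVC f := by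
  intro sq
  obtain ⟨Ω, iΩ, B, s, a, ψ, hs, ⟨tU, htU⟩, htop⟩ := exists_point_data hX hh hd sq
  obtain ⟨b, hb⟩ := (yon S).map_surjective sq.bot
  obtain ⟨m, hm⟩ := (yon S).map_surjective (a ≫ f)
  obtain ⟨γA, hγA⟩ := Spec.map_surjective (b.left ≫ T.left.isoSpec.hom)
  obtain ⟨γB, hγB⟩ := Spec.map_surjective (m.left ≫ T.left.isoSpec.hom)
  let τT : Spec Γ(T.left, ⊤) ⟶ S := T.left.isoSpec.inv ≫ T.hom
  have hbl : b.left = Spec.map γA ≫ T.left.isoSpec.inv := by
    rw [hγA, Category.assoc, Iso.hom_inv_id, Category.comp_id]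
  have hml : m.left = Spec.map γB ≫ T.left.isoSpec.inv := by
    rw [hγB, Category.assoc, Iso.hom_inv_id, Category.comp_id]
  have hsA : sq.str = Spec.map γA ≫ τT :=
    (Over.w b).symm.trans ((congrArg (· ≫ T.hom) hbl).trans (Category.assoc _ _ _))
  have hsB : s = Spec.map γB ≫ τT :=
    (Over.w m).symm.trans ((congrArg (· ≫ T.hom) hml).trans (Category.assoc _ _ _))
  -- the agreement in the residue field
  have hag : γB ≫ CommRingCat.ofHom (residue B) =
      γA ≫ CommRingCat.ofHom (algebraMap sq.A sq.K) ≫ CommRingCat.ofHom ψ := by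
    have h1 := congrArg (· ≫ f) htop
    simp only [Category.assoc, ← hm, sq.comm, ← hb, ← Functor.map_comp] at h1
    have h2 := congrArg CommaMorphism.left ((yon S).map_injective h1)
    simp only [Over.comp_left, spMor_left, Over.homMk_left, hbl, hml] at h2
    simp only [← Category.assoc, cancel_mono] at h2
    rw [← Spec.map_comp, ← Spec.map_comp, ← Spec.map_comp] at h2
    exact (Spec.map_injective h2).trans (by simp only [Category.assoc])
  obtain ⟨A₁, hA₁, hA₁l⟩ := exists_factor_valuationRing (ψ.comp (algebraMap sq.A sq.K))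
  let φ₁ : sq.A →+* A₁ := (ψ.comp (algebraMap sq.A sq.K)).codRestrict A₁.toSubring hA₁
  haveI : IsLocalHom φ₁ := hA₁l
  let C := valComposite B A₁
  let CB : C →+* B := Subring.inclusion (valComposite_le B A₁)
  let ρ : C →+* ResidueField B := (residue B).comp CB
  have hρ : ∀ c, ρ c ∈ A₁ := fun c => (mem_valComposite_iff B A₁ (CB c)).1 c.2
  let γC : Γ(T.left, ⊤) ⟶ CommRingCat.of C := CommRingCat.ofHom
    (((algebraMap B Ω).comp γB.hom).codRestrict C.toSubring fun z => (mem_valComposite_iff B A₁ _).2 (by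
      rw [show residue B (γB.hom z) = (ψ.comp (algebraMap sq.A sq.K)) (γA.hom z) from
        RingHom.congr_fun (congrArg CommRingCat.Hom.hom hag) z]
      exact hA₁ _))
  have hCB : γC ≫ CommRingCat.ofHom CB = γB := rfl
  have hCΩ : γC ≫ CommRingCat.ofHom (algebraMap C Ω) = γB ≫ CommRingCat.ofHom (algebraMap B Ω) := rfl
  let sC : Spec (CommRingCat.of C) ⟶ S := Spec.map γC ≫ τT
  let bC : (Over.mk sC : Over S) ⟶ T :=
    Over.homMk (Spec.map γC ≫ T.left.isoSpec.inv) (Category.assoc _ _ _)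
  have e0 : Spec.map (CommRingCat.ofHom (algebraMap B Ω)) ≫ s =
      Spec.map (CommRingCat.ofHom (algebraMap C Ω)) ≫ sC := by
    rw [hsB, ← Spec.map_comp_assoc, ← hCΩ, Spec.map_comp_assoc]
  let q₁ : ValSq f :=
    { A := C, K := Ω, str := sC
      top := (yon S).map (spMor (CommRingCat.ofHom (algebraMap B Ω)) e0) ≫ a
      bot := (yon S).map bC
      comm := by
        rw [Category.assoc, ← hm, ← Functor.map_comp, ← Functor.map_comp]
        congr 1
        refine Over.OverMorphism.ext ?_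
        show Spec.map _ ≫ m.left = Spec.map _ ≫ Spec.map γC ≫ _
        rw [hml, ← Spec.map_comp_assoc, ← Spec.map_comp_assoc, hCΩ] }
  have hq₁ : ∃ t : (yon S).obj q₁.ptK ⟶ U, t ≫ h = q₁.top := by
    refine ⟨(yon S).map (spMor (𝟙 _) (by rw [Spec.map_id, Category.id_comp]; exact e0)) ≫ tU, ?_⟩
    show _ = (yon S).map (spMor _ e0) ≫ a
    refine (Category.assoc _ _ _).trans ((congrArg (_ ≫ ·) htU).trans ((Category.assoc _ _ _).symm.trans
      (congrArg (· ≫ a) (((yon S).map_comp _ _).symm.trans (congrArg (yon S).map ?_)))))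
    refine Over.OverMorphism.ext ?_
    show Spec.map (𝟙 _) ≫ Spec.map _ = Spec.map _
    rw [Spec.map_id, Category.id_comp]
  obtain ⟨e, l, hl1, hl2⟩ := (hv q₁ hq₁).2
  change (yon S).map _ ≫ l = (yon S).map (domExtK e) ≫ q₁.top at hl1
  -- a prime of the extension over the kernel of the residue map
  have hinj : Function.Injective e.φ := by
    intro x y hxy
    refine IsFractionRing.injective C Ω (e.ψ.injective ?_)
    have h1 := RingHom.congr_fun e.comm
    simp only [RingHom.comp_apply] at h1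
    exact (h1 x).symm.trans ((congrArg _ hxy).trans (h1 y))
  haveI := e.isLocalHom
  obtain ⟨-, hsur⟩ := faithfullyFlat_spec e.φ (flat_of_injective_valuationRing e.φ hinj)
  haveI : (RingHom.ker ρ).IsPrime := RingHom.ker_isPrime ρ
  obtain ⟨w, hw⟩ := hsur.surj (⟨RingHom.ker ρ, inferInstance⟩ : PrimeSpectrum C)
  let P : Ideal e.A' := PrimeSpectrum.asIdeal (R := e.A') w
  haveI : P.IsPrime := PrimeSpectrum.isPrime (R := e.A') w
  have hP : ∀ c, e.φ c ∈ P ↔ ρ c = 0 := fun c => by
    rw [← RingHom.mem_ker, show RingHom.ker ρ = Ideal.comap e.φ P from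
      (congrArg PrimeSpectrum.asIdeal hw).symm]
    exact Iff.rfl
  have hU : ∀ z : P.primeCompl, IsUnit (algebraMap e.A' e.K' z) := fun z =>
    isUnit_iff_ne_zero.2 fun h0 => z.2 (by
      rw [IsFractionRing.injective e.A' e.K' (h0.trans (map_zero _).symm)]
      exact P.zero_mem)
  obtain ⟨D, hD, hDl⟩ := exists_factor_valuationRing
    (IsLocalization.lift hU : Localization.AtPrime P →+* e.K')
  let i₂' : Localization.AtPrime P →+* D :=
    (IsLocalization.lift hU : Localization.AtPrime P →+* e.K').codRestrict D.toSubring hD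
  haveI : IsLocalHom i₂' := hDl
  let i₂ : e.A' →+* D := i₂'.comp (algebraMap e.A' _)
  have hi₂ : ∀ z, (i₂ z : e.K') = algebraMap e.A' e.K' z := fun z => IsLocalization.lift_eq hU z
  have hi₂u : ∀ z, IsUnit (i₂ z) ↔ z ∉ P := fun z => by
    refine ⟨fun hz => ?_, fun hz => (IsLocalization.map_units (Localization.AtPrime P)
      (⟨z, hz⟩ : P.primeCompl)).map i₂'⟩
    exact (IsLocalization.AtPrime.isUnit_to_map_iff (Localization.AtPrime P) P z).1
      (isUnit_of_map_unit i₂' _ hz)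
  let π₂ : e.A' →+* ResidueField D := (residue D).comp i₂
  have hψD : ∀ z : B, e.ψ (z : Ω) ∈ D := by
    intro z
    by_cases hz : (z : Ω) ∈ C
    · rw [show e.ψ (z : Ω) = (i₂ (e.φ ⟨z, hz⟩) : e.K') from
        ((hi₂ _).trans (RingHom.congr_fun e.comm ⟨z, hz⟩)).symm]
      exact (i₂ _).2
    · have hz' : (z : Ω)⁻¹ ∈ C := (C.mem_or_inv_mem _).resolve_left hz
      have hne : (z : Ω) ≠ 0 := fun h0 => hz (h0 ▸ zero_mem C)
      have hρ0 : ρ ⟨_, hz'⟩ ≠ 0 := by
        show residue B (CB ⟨_, hz'⟩) ≠ 0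
        rw [Ne, residue_eq_zero_iff, mem_maximalIdeal, mem_nonunits_iff, not_not]
        exact IsUnit.of_mul_eq_one z (Subtype.ext (inv_mul_cancel₀ hne))
      obtain ⟨u, hu⟩ := (hi₂u (e.φ ⟨_, hz'⟩)).2 (fun hmem => hρ0 ((hP _).1 hmem))
      have h2 : ((↑u : D) : e.K') = (e.ψ (z : Ω))⁻¹ := by
        rw [hu, hi₂, ← map_inv₀]
        exact RingHom.congr_fun e.comm _
      have h3 : ((↑u⁻¹ : D) : e.K') = e.ψ (z : Ω) := by
        have h4 : ((↑u⁻¹ * ↑u : D) : e.K') = 1 := by rw [Units.inv_mul]; rfl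
        rw [MulMemClass.coe_mul, h2] at h4
        rw [← inv_inv (e.ψ (z : Ω))]
        exact eq_inv_of_mul_eq_one_left h4
      exact h3 ▸ (↑u⁻¹ : D).2
  let BD : B →+* D := (e.ψ.comp (algebraMap B Ω)).codRestrict D.toSubring hψD
  have hBD : BD.comp CB = i₂.comp e.φ :=
    RingHom.ext fun c => Subtype.ext ((hi₂ _).trans (RingHom.congr_fun e.comm c)).symm
  haveI : IsLocalHom BD := ⟨fun z hz => by
    by_contra hnu
    have hres : residue B z = 0 := (residue_eq_zero_iff _).2 ((mem_maximalIdeal _).2 hnu)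
    have hzC : (z : Ω) ∈ C := (mem_valComposite_iff B A₁ z).2 (hres ▸ zero_mem A₁)
    refine (hi₂u (e.φ ⟨_, hzC⟩)).1 ?_ ((hP _).2 hres)
    rw [show i₂ (e.φ ⟨_, hzC⟩) = BD z from (RingHom.congr_fun hBD ⟨_, hzC⟩).symm]
    exact hz⟩
  let η : ResidueField B →+* ResidueField D := ResidueField.map BD
  have hη : η.comp ρ = π₂.comp e.φ := RingHom.ext fun c => by
    show η (residue B (CB c)) = residue D (i₂ (e.φ c))
    rw [ResidueField.map_residue]
    exact congrArg (residue D) (RingHom.congr_fun hBD c)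
  obtain ⟨A₂, hA₂, hA₂l⟩ := exists_factor_valuationRing π₂
  let γ₂ : e.A' →+* A₂ := π₂.codRestrict A₂.toSubring hA₂
  haveI : IsLocalHom γ₂ := hA₂l
  have hsurj : ∀ x : sq.A, ∃ c : C, ρ c = ψ (algebraMap sq.A sq.K x) := fun x => by
    obtain ⟨z, hz⟩ := residue_surjective (R := B) (ψ (algebraMap sq.A sq.K x))
    exact ⟨⟨(z : Ω), (mem_valComposite_iff B A₁ z).2 (by rw [hz]; exact hA₁ x)⟩, hz⟩
  have hmem : ∀ x : sq.A, η (ψ (algebraMap sq.A sq.K x)) ∈ A₂ := fun x => by
    obtain ⟨c, hc⟩ := hsurj x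
    rw [← hc, show η (ρ c) = π₂ (e.φ c) from RingHom.congr_fun hη c]
    exact hA₂ _
  let φ₂ : sq.A →+* A₂ := ((η.comp ψ).comp (algebraMap sq.A sq.K)).codRestrict A₂.toSubring hmem
  haveI hφ₂ : IsLocalHom φ₂ := ⟨fun x hx => by
    obtain ⟨c, hc⟩ := hsurj x
    have h1 : φ₂ x = γ₂ (e.φ c) := Subtype.ext (by
      show η (ψ (algebraMap sq.A sq.K x)) = π₂ (e.φ c)
      rw [← hc]
      exact RingHom.congr_fun hη c)
    rw [h1] at hx
    have h2 : IsUnit c := isUnit_of_map_unit e.φ c (isUnit_of_map_unit γ₂ _ hx)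
    refine isUnit_of_map_unit φ₁ x ?_
    rw [show φ₁ x = ρ.codRestrict A₁.toSubring hρ c from Subtype.ext hc.symm]
    exact h2.map _⟩
  let e₂ : sq.DomExt :=
    { A' := A₂, K' := ResidueField D, φ := φ₂, ψ := η.comp ψ, comm := rfl, isLocalHom := hφ₂ }
  -- the uniqueness square
  let sD : Spec (CommRingCat.of D) ⟶ S := Spec.map (CommRingCat.ofHom i₂) ≫ Spec.map (CommRingCat.ofHom e.φ) ≫ sC
  let bD : (Over.mk sD : Over S) ⟶ T :=
    spMor (CommRingCat.ofHom i₂) rfl ≫ spMor (s := sC) (CommRingCat.ofHom e.φ) rfl ≫ bC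
  have eD : Spec.map (CommRingCat.ofHom BD) ≫ s = sD := by
    show _ = Spec.map _ ≫ Spec.map _ ≫ Spec.map γC ≫ τT
    rw [hsB, ← hCB, ← Spec.map_comp_assoc, ← Spec.map_comp_assoc, ← Spec.map_comp_assoc]
    congr 2
    simp only [Category.assoc]
    congr 1
    exact CommRingCat.hom_ext hBD
  let nB : (Over.mk sD : Over S) ⟶ Over.mk s := spMor (CommRingCat.ofHom BD) eD
  have hnB : nB ≫ m = bD := Over.OverMorphism.ext (by
    show Spec.map _ ≫ m.left = Spec.map _ ≫ Spec.map _ ≫ Spec.map γC ≫ _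
    rw [hml, ← hCB, ← Spec.map_comp_assoc, ← Spec.map_comp_assoc, ← Spec.map_comp_assoc]
    congr 2
    simp only [Category.assoc]
    congr 1
    exact CommRingCat.hom_ext hBD)
  let q₂ : ValSq f :=
    { A := D, K := e.K', str := sD
      top := (yon S).map ((spMor (CommRingCat.ofHom (algebraMap D e.K')) rfl :
        Over.mk (Spec.map (CommRingCat.ofHom (algebraMap D e.K')) ≫ sD) ⟶ Over.mk sD) ≫ nB) ≫ a
      bot := (yon S).map bD
      comm := by
        rw [Category.assoc, ← hm, ← Functor.map_comp, ← Functor.map_comp, Category.assoc, hnB]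
        rfl }
  have hq₂ : ∃ t : (yon S).obj q₂.ptK ⟶ U, t ≫ h = q₂.top := by
    let o : q₂.ptK ⟶ Over.mk (Spec.map (CommRingCat.ofHom (algebraMap B Ω)) ≫ s) :=
      spMor (CommRingCat.ofHom e.ψ) (by
        show _ = Spec.map _ ≫ sD
        rw [← eD, ← Spec.map_comp_assoc, ← Spec.map_comp_assoc]
        rfl)
    refine ⟨(yon S).map o ≫ tU, ?_⟩
    show _ = (yon S).map _ ≫ a
    rw [Category.assoc, htU, ← Category.assoc, ← Functor.map_comp]
    congr 2
    refine Over.OverMorphism.ext ?_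
    show Spec.map _ ≫ Spec.map _ = Spec.map _ ≫ Spec.map _
    rw [← Spec.map_comp, ← Spec.map_comp]
    rfl
  have hA' : Spec.map (CommRingCat.ofHom (algebraMap D e.K')) ≫ Spec.map (CommRingCat.ofHom i₂) =
      Spec.map (CommRingCat.ofHom (algebraMap e.A' e.K')) := by
    rw [← Spec.map_comp]
    exact congrArg Spec.map (CommRingCat.hom_ext (RingHom.ext hi₂))
  let n₁ : (Over.mk sD : Over S) ⟶ e.ptA' := spMor (CommRingCat.ofHom i₂) rfl
  have hlift : (yon S).map n₁ ≫ l = (yon S).map nB ≫ a := by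
    refine (hv q₂ hq₂).1 _ _ ?_ ?_ ?_ ?_
    · let o : q₂.ptK ⟶ e.ptK' := spMor (𝟙 _) (by
        show Spec.map (𝟙 _) ≫ Spec.map _ ≫ _ = Spec.map _ ≫ Spec.map _ ≫ _
        rw [Spec.map_id, Category.id_comp, reassoc_of% hA'])
      have e1 : q₂.j ≫ n₁ = o ≫ (Over.homMk (Spec.map (CommRingCat.ofHom (algebraMap e.A' e.K'))) rfl :
          e.ptK' ⟶ e.ptA') := Over.OverMorphism.ext (by
        show Spec.map _ ≫ Spec.map _ = Spec.map (𝟙 _) ≫ Spec.map _
        rw [Spec.map_id, Category.id_comp]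
        exact hA')
      rw [← Category.assoc, ← Functor.map_comp, e1, Functor.map_comp, Category.assoc, hl1]
      show _ ≫ _ ≫ (yon S).map _ ≫ a = (yon S).map _ ≫ a
      simp only [← Category.assoc, ← Functor.map_comp]
      congr 2
      refine Over.OverMorphism.ext ?_
      show (Spec.map (𝟙 _) ≫ Spec.map _) ≫ Spec.map _ = Spec.map _ ≫ Spec.map _
      rw [Spec.map_id, Category.id_comp, ← Spec.map_comp, ← Spec.map_comp]
      rfl
    · rw [Category.assoc, hl2]
      show _ ≫ _ ≫ (yon S).map bC = (yon S).map bD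
      simp only [← Functor.map_comp]
      rfl
    · show _ = (yon S).map _ ≫ a
      rw [← Category.assoc, ← Functor.map_comp]
      rfl
    · show _ = (yon S).map bD
      rw [Category.assoc, ← hm, ← Functor.map_comp, hnB]
  -- the lift
  have hring : γC ≫ CommRingCat.ofHom e.φ ≫ CommRingCat.ofHom γ₂ = γA ≫ CommRingCat.ofHom φ₂ := by
    refine CommRingCat.hom_ext (RingHom.ext fun z => Subtype.ext ?_)
    show π₂ (e.φ (γC.hom z)) = η (ψ (algebraMap sq.A sq.K (γA.hom z)))
    rw [← RingHom.comp_apply, ← hη]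
    exact congrArg η (RingHom.congr_fun (congrArg CommRingCat.Hom.hom hag) z)
  let n₃ : e₂.ptA' ⟶ e.ptA' := spMor (CommRingCat.ofHom γ₂) (by
    show Spec.map _ ≫ Spec.map _ ≫ Spec.map γC ≫ τT = Spec.map (CommRingCat.ofHom φ₂) ≫ sq.str
    rw [hsA, ← Spec.map_comp_assoc, ← Spec.map_comp_assoc, ← Spec.map_comp_assoc]
    rw [hring])
  refine ⟨e₂, (yon S).map n₃ ≫ l, ?_, ?_⟩
  · show _ = (yon S).map (domExtK e₂) ≫ sq.top
    let o₃ : e₂.ptK' ⟶ Over.mk sD := spMor (CommRingCat.ofHom (residue D)) (by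
      refine Eq.trans ?_ (congrArg (Spec.map _ ≫ ·) (Over.w n₃))
      show Spec.map _ ≫ Spec.map _ ≫ Spec.map _ ≫ sC = Spec.map _ ≫ Spec.map _ ≫ Spec.map _ ≫ sC
      simp only [← Spec.map_comp_assoc]
      rfl)
    let o₄ : e₂.ptK' ⟶ Over.mk (Spec.map (CommRingCat.ofHom (residue B)) ≫ s) :=
      spMor (CommRingCat.ofHom η) (by
        refine Eq.trans ?_ (Over.w o₃)
        show Spec.map _ ≫ Spec.map _ ≫ s = Spec.map _ ≫ sD
        rw [← eD]
        simp only [← Spec.map_comp_assoc]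
        rfl)
    have e1 : (Over.homMk (Spec.map (CommRingCat.ofHom (algebraMap e₂.A' e₂.K'))) rfl :
        e₂.ptK' ⟶ e₂.ptA') ≫ n₃ = o₃ ≫ n₁ := Over.OverMorphism.ext (by
      show Spec.map _ ≫ Spec.map _ = Spec.map _ ≫ Spec.map _
      rw [← Spec.map_comp, ← Spec.map_comp]
      rfl)
    have e2 : o₃ ≫ nB = o₄ ≫ spMor (CommRingCat.ofHom (residue B)) rfl := Over.OverMorphism.ext (by
      show Spec.map _ ≫ Spec.map _ = Spec.map _ ≫ Spec.map _
      rw [← Spec.map_comp, ← Spec.map_comp]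
      rfl)
    have e3 : o₄ ≫ spMor (CommRingCat.ofHom ψ) hs = domExtK e₂ := Over.OverMorphism.ext (by
      show Spec.map _ ≫ Spec.map _ = Spec.map _
      rw [← Spec.map_comp]
      rfl)
    rw [← Category.assoc, ← Functor.map_comp, e1, Functor.map_comp, Category.assoc, hlift,
      ← Category.assoc, ← Functor.map_comp, e2, Functor.map_comp, Category.assoc, htop,
      ← Category.assoc, ← Functor.map_comp, e3]
  · rw [Category.assoc, hl2]
    show _ ≫ _ ≫ (yon S).map bC = _
    rw [← hb, ← Functor.map_comp, ← Functor.map_comp, ← Functor.map_comp]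
    congr 1
    refine Over.OverMorphism.ext ?_
    show Spec.map _ ≫ Spec.map _ ≫ Spec.map γC ≫ _ = Spec.map _ ≫ b.left
    rw [hbl, ← Spec.map_comp_assoc, ← Spec.map_comp_assoc, ← Spec.map_comp_assoc]
    rw [hring]

end Groth.Agent.SpPts86
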