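import Groth.Agent.SpPts86.SepIdem
import Groth.Agent.SpPts86.GeomLift
import Groth.Agent.SpPts86.LqfSepScheme
import Mathlib.AlgebraicGeometry.Pullbacks

/-!
Etale neighbourhoods with a finite open piece containing exactly one geometric point of a fibre.
-/

universe u

set_option autoImplicit false

open CategoryTheory CategoryTheory.Limits AlgebraicGeometry TensorProduct

namespace Groth.Agent.SpPts86

variable {Ω : Type u} [Field Ω]

/-- The point of the spectrum of a field. -/
abbrev pt0 (Ω : Type u) [Field Ω] : ↥(Spec (CommRingCat.of Ω)) := IsLocalRing.closedPoint Ω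

theorem isUnit_iff_mem_basicOpen {A : Type u} [CommRing A] (ζ : A →+* Ω) (a : A) :
    (Spec.map (CommRingCat.ofHom ζ)) (pt0 Ω) ∈ PrimeSpectrum.basicOpen a ↔ ζ a ≠ 0 := by
  change a ∉ Ideal.comap ζ (IsLocalRing.maximalIdeal Ω) ↔ _
  rw [Ideal.mem_comap, IsLocalRing.maximalIdeal_eq_bot, Ideal.mem_bot]

set_option backward.isDefEq.respectTransparency false in
/-- Finite case: one geometric point is cut out by a clopen after an etale extension. -/
theorem exists_etale_piece_finite [IsAlgClosed Ω] {V T : Scheme.{u}} [IsAffine T] (v : V ⟶ T) [IsFinite v]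
    (x : Spec (CommRingCat.of Ω) ⟶ V) :
    ∃ (T' : Scheme.{u}) (τ : T' ⟶ T) (_ : IsAffine T') (_ : Etale τ)
      (t' : Spec (CommRingCat.of Ω) ⟶ T') (_ : t' ≫ τ = x ≫ v) (O : (pullback v τ).Opens),
      IsFinite (O.ι ≫ pullback.snd v τ) ∧
        ∀ (y : Spec (CommRingCat.of Ω) ⟶ V) (hy : y ≫ v = t' ≫ τ),
          pullback.lift y t' hy (pt0 Ω) ∈ O ↔ y = x := by
  classical
  have : IsAffine V := isAffine_of_isAffineHom v
  let R := Γ(T, ⊤)
  let B := Γ(V, ⊤)
  let φ : R ⟶ B := v.appTop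
  letI : Algebra R B := φ.hom.toAlgebra
  have : Module.Finite R B := ((HasAffineProperty.iff_of_isAffine (P := @IsFinite) (f := v)).1 ‹_›).2
  have : Algebra.IsIntegral R B := Algebra.IsIntegral.of_finite R B
  let χ : R ⟶ CommRingCat.of Ω := Spec.preimage (x ≫ v ≫ T.isoSpec.hom)
  letI : Algebra R Ω := χ.hom.toAlgebra
  have hfin : Finite ((B : Type u) →ₐ[R] Ω) := finite_algHom
  have := Fintype.ofFinite ((B : Type u) →ₐ[R] Ω)
  have hpre : ∀ (y : Spec (CommRingCat.of Ω) ⟶ V), y ≫ v = x ≫ v →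
      φ ≫ Spec.preimage (y ≫ V.isoSpec.hom) = χ := fun y hy => Spec.map_injective (by
    rw [Spec.map_comp, Spec.map_preimage, Spec.map_preimage, Category.assoc]
    change y ≫ V.isoSpec.hom ≫ Spec.map v.appTop = _
    rw [Scheme.isoSpec_hom_naturality, reassoc_of% hy])
  let toAlg : ∀ (y : Spec (CommRingCat.of Ω) ⟶ V), y ≫ v = x ≫ v → ((B : Type u) →ₐ[R] Ω) := fun y hy =>
    AlgHom.mk (Spec.preimage (y ≫ V.isoSpec.hom)).hom (fun r => congrArg (fun f => f.hom r) (hpre y hy))
  let x₀ := toAlg x rfl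
  obtain ⟨R', _, _, _, ψ, e, he, hex, hey⟩ :=
    exists_etale_idempotent x₀ ({x₀}ᶜ : Finset ((B : Type u) →ₐ[R] Ω)) (by simp)
  let ρ : R ⟶ CommRingCat.of R' := CommRingCat.ofHom (algebraMap R R')
  let τ : Spec (CommRingCat.of R') ⟶ T := Spec.map ρ ≫ T.isoSpec.inv
  have : Etale (Spec.map ρ) := HasRingHomProperty.Spec_iff.mpr (RingHom.etale_algebraMap.mpr ‹_›)
  let t' : Spec (CommRingCat.of Ω) ⟶ Spec (CommRingCat.of R') := Spec.map (CommRingCat.ofHom ψ.toRingHom)
  have ht' : t' ≫ τ = x ≫ v := by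
    have e1 : ρ ≫ CommRingCat.ofHom ψ.toRingHom = χ := CommRingCat.hom_ext (RingHom.ext fun r => ψ.commutes r)
    rw [← Category.assoc, ← Spec.map_comp, e1, Spec.map_preimage, Category.assoc, Category.assoc,
      Iso.hom_inv_id, Category.comp_id]
  let P := CommRingCat.of (R' ⊗[R] (B : Type u))
  let a : Spec P ⟶ V :=
    Spec.map (CommRingCat.ofHom (Algebra.TensorProduct.includeRight.toRingHom : (B : Type u) →+* R' ⊗[R] (B : Type u))) ≫
      V.isoSpec.inv
  let b : Spec P ⟶ Spec (CommRingCat.of R') :=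
    Spec.map (CommRingCat.ofHom (Algebra.TensorProduct.includeLeftRingHom : R' →+* R' ⊗[R] (B : Type u)))
  have hsq : IsPullback b a τ v := by
    have hv : v = V.isoSpec.hom ≫ Spec.map φ ≫ T.isoSpec.inv := by
      rw [Scheme.isoSpec_hom_naturality_assoc, Iso.hom_inv_id, Category.comp_id]
    refine (isPullback_SpecMap_of_isPushout
      _ _ _ _ (CommRingCat.isPushout_tensorProduct R R' (B : Type u))).of_iso (Iso.refl _) (Iso.refl _)
      V.isoSpec.symm T.isoSpec.symm (by simp [b]) (by simp [a]) (by simp [τ, ρ]) ?_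
    rw [Iso.symm_hom, Iso.symm_hom]
    conv_rhs => rw [hv, Iso.inv_hom_id_assoc]
    rfl
  let e₁ : Spec P ≅ pullback v τ := hsq.flip.isoPullback
  let O₀ : (Spec P).Opens := PrimeSpectrum.basicOpen e
  let O : (pullback v τ).Opens := e₁.hom ''ᵁ O₀
  refine ⟨_, τ, inferInstance, inferInstance, t', ht', O, ?_, fun y hy => ?_⟩
  · have : IsClosedImmersion O.ι := by
      refine IsClosedImmersion.of_isPreimmersion _ ?_
      rw [Scheme.Opens.range_ι]
      change IsClosed (e₁.hom.homeomorph '' (PrimeSpectrum.basicOpen e : Set (PrimeSpectrum P)))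
      rw [e₁.hom.homeomorph.isClosed_image]
      exact (PrimeSpectrum.isClopen_basicOpen_of_mul_add e (1 - e) he.mul_one_sub_self (add_sub_cancel _ _)).1
    have : IsFinite (pullback.snd v τ) := inferInstance
    infer_instance
  · have hy' : y ≫ v = x ≫ v := hy.trans ht'
    let ζ : P ⟶ CommRingCat.of Ω := CommRingCat.ofHom (tPoint ψ (toAlg y hy')).toRingHom
    have hl : Spec.map ζ ≫ e₁.hom = pullback.lift y t' hy := by
      apply pullback.hom_ext
      · rw [Category.assoc, hsq.flip.isoPullback_hom_fst, pullback.lift_fst]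
        have : CommRingCat.ofHom (Algebra.TensorProduct.includeRight.toRingHom : (B : Type u) →+* R' ⊗[R] (B : Type u)) ≫ ζ =
            Spec.preimage (y ≫ V.isoSpec.hom) := CommRingCat.hom_ext (RingHom.ext fun z => by
          change tPoint ψ (toAlg y hy') ((1 : R') ⊗ₜ z) = _
          rw [tPoint_tmul, map_one, one_mul]
          rfl)
        change Spec.map ζ ≫ Spec.map _ ≫ V.isoSpec.inv = y
        rw [← Spec.map_comp_assoc, this, Spec.map_preimage, Category.assoc, Iso.hom_inv_id, Category.comp_id]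
      · rw [Category.assoc, hsq.flip.isoPullback_hom_snd, pullback.lift_snd]
        have : CommRingCat.ofHom (Algebra.TensorProduct.includeLeftRingHom : R' →+* R' ⊗[R] (B : Type u)) ≫ ζ =
            CommRingCat.ofHom ψ.toRingHom := CommRingCat.hom_ext (RingHom.ext fun z => by
          change tPoint ψ (toAlg y hy') (z ⊗ₜ (1 : (B : Type u))) = _
          rw [tPoint_tmul, map_one, mul_one]
          rfl)
        change Spec.map ζ ≫ Spec.map _ = t'
        rw [← Spec.map_comp, this]
    have hmem : pullback.lift y t' hy (pt0 Ω) ∈ O ↔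
        tPoint ψ (toAlg y hy') e ≠ 0 := by
      rw [← hl, Scheme.Hom.comp_apply]
      exact (e₁.hom.homeomorph.injective.mem_set_image).trans (isUnit_iff_mem_basicOpen _ e)
    rw [hmem]
    constructor
    · intro h
      by_contra hne
      refine h (hey _ ?_)
      rw [Finset.mem_compl, Finset.mem_singleton]
      intro e2
      refine hne ((cancel_mono V.isoSpec.hom).1 ?_)
      rw [← Spec.map_preimage (y ≫ V.isoSpec.hom), ← Spec.map_preimage (x ≫ V.isoSpec.hom)]
      exact congrArg Spec.map (CommRingCat.hom_ext (congrArg AlgHom.toRingHom e2))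
    · rintro rfl
      rw [hex]
      exact one_ne_zero

/-- Etale locally on the base a given geometric point has a finite open piece of its own. -/
theorem exists_etale_piece [IsAlgClosed Ω] {X T : Scheme.{u}} (f : X ⟶ T) [LocallyOfFiniteType f]
    [IsSeparated f] [LocallyQuasiFinite f] (x : Spec (CommRingCat.of Ω) ⟶ X) :
    ∃ (T' : Scheme.{u}) (τ : T' ⟶ T) (_ : IsAffine T') (_ : Etale τ)
      (t' : Spec (CommRingCat.of Ω) ⟶ T') (_ : t' ≫ τ = x ≫ f) (O : (pullback f τ).Opens),
      IsFinite (O.ι ≫ pullback.snd f τ) ∧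
        ∀ (y : Spec (CommRingCat.of Ω) ⟶ X) (hy : y ≫ f = t' ≫ τ),
          pullback.lift y t' hy (pt0 Ω) ∈ O ↔ y = x := by
  obtain ⟨T₁, τ₁, hT₁, hτ₁, hnb⟩ := exists_etale_finite_nhd f (x (pt0 Ω))
  obtain ⟨V, x₁, hx₁V, hx₁, hfin⟩ := hnb _ _ _ (IsPullback.of_hasPullback f τ₁)
  have sqP := IsPullback.of_hasPullback (pullback.fst f τ₁) x
  have : Etale (pullback.snd (pullback.fst f τ₁) x) :=
    MorphismProperty.of_isPullback (P := @Etale) sqP
      (MorphismProperty.of_isPullback (P := @Etale) (IsPullback.of_hasPullback f τ₁).flip hτ₁)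
  obtain ⟨z, hz₁, -⟩ := Scheme.exists_preimage_of_isPullback sqP x₁ (pt0 Ω) hx₁
  obtain ⟨σ, hσ, hσz⟩ := exists_section_of_etale (pullback.snd (pullback.fst f τ₁) x) z
  let w := σ ≫ pullback.fst (pullback.fst f τ₁) x
  have hw : w ≫ pullback.fst f τ₁ = x := by
    rw [Category.assoc, pullback.condition, reassoc_of% hσ]
  have hwV : w (pt0 Ω) ∈ V := by
    rw [Scheme.Hom.comp_apply, hσz, hz₁]
    exact hx₁V
  have hrange : Set.range w ⊆ Set.range V.ι := by
    rw [V.range_ι]
    rintro _ ⟨p, rfl⟩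
    rwa [Subsingleton.elim (α := PrimeSpectrum Ω) p (pt0 Ω)]
  let xV := IsOpenImmersion.lift V.ι w hrange
  have := hfin
  have : IsAffine T₁ := hT₁
  obtain ⟨T', τ₂, hT', hτ₂, t', ht', O, hO, hOy⟩ :=
    exists_etale_piece_finite (V.ι ≫ pullback.snd f τ₁) xV
  have ht₂ : t' ≫ τ₂ = w ≫ pullback.snd f τ₁ := by
    rw [ht', ← Category.assoc, IsOpenImmersion.lift_fac]
  let m : pullback (V.ι ≫ pullback.snd f τ₁) τ₂ ⟶ pullback f (τ₂ ≫ τ₁) :=
    pullback.lift (pullback.fst _ _ ≫ V.ι ≫ pullback.fst f τ₁) (pullback.snd _ _) (by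
      rw [Category.assoc, Category.assoc, pullback.condition, ← Category.assoc V.ι,
        ← Category.assoc, pullback.condition, Category.assoc])
  have sqm : IsPullback (pullback.fst (V.ι ≫ pullback.snd f τ₁) τ₂) m V.ι
      (pullback.lift (pullback.fst f (τ₂ ≫ τ₁)) (pullback.snd f (τ₂ ≫ τ₁) ≫ τ₂)
        (by rw [Category.assoc, pullback.condition]) : pullback f (τ₂ ≫ τ₁) ⟶ pullback f τ₁) := by
    have sqk : IsPullback (pullback.lift (pullback.fst f (τ₂ ≫ τ₁)) (pullback.snd f (τ₂ ≫ τ₁) ≫ τ₂)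
        (by rw [Category.assoc, pullback.condition]) : pullback f (τ₂ ≫ τ₁) ⟶ pullback f τ₁)
        (pullback.snd f (τ₂ ≫ τ₁)) (pullback.snd f τ₁) τ₂ := by
      refine IsPullback.of_right ?_ (pullback.lift_snd _ _ _) (IsPullback.of_hasPullback f τ₁)
      rw [pullback.lift_fst]
      exact IsPullback.of_hasPullback f (τ₂ ≫ τ₁)
    refine IsPullback.of_bot ?_ ?_ sqk
    · rw [pullback.lift_snd]
      exact IsPullback.of_hasPullback (V.ι ≫ pullback.snd f τ₁) τ₂
    · apply pullback.hom_ext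
      · simp only [m, Category.assoc, pullback.lift_fst]
      · simp only [m, Category.assoc, pullback.lift_snd, pullback.lift_snd_assoc, pullback.condition]
  have : IsOpenImmersion m := MorphismProperty.of_isPullback (P := @IsOpenImmersion) sqm inferInstance
  refine ⟨T', τ₂ ≫ τ₁, hT', inferInstance, t', ?_, m ''ᵁ O, ?_, fun y hy => ?_⟩
  · rw [reassoc_of% ht₂, ← pullback.condition, ← Category.assoc, hw]
  · have e : (m ''ᵁ O).ι ≫ pullback.snd f (τ₂ ≫ τ₁) =
        (m.isoImage O).inv ≫ O.ι ≫ pullback.snd (V.ι ≫ pullback.snd f τ₁) τ₂ := by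
      have hs : m ≫ pullback.snd f (τ₂ ≫ τ₁) = pullback.snd (V.ι ≫ pullback.snd f τ₁) τ₂ :=
        pullback.lift_snd _ _ _
      rw [← Scheme.Hom.isoImage_inv_ι_assoc m O (pullback.snd f (τ₂ ≫ τ₁)), hs]
    rw [e]
    haveI := hO
    infer_instance
  · constructor
    · intro hmem
      obtain ⟨q, hqO, hq⟩ := hmem
      have hr : Set.range (pullback.lift y t' hy) ⊆ Set.range m := by
        rintro _ ⟨p, rfl⟩
        exact ⟨q, hq.trans (congrArg _ (Subsingleton.elim (α := PrimeSpectrum Ω) _ _))⟩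
      let L := IsOpenImmersion.lift m (pullback.lift y t' hy) hr
      have hL : L ≫ m = pullback.lift y t' hy := IsOpenImmersion.lift_fac _ _ _
      have hL2 : L ≫ pullback.snd _ _ = t' := by
        have := congrArg (· ≫ pullback.snd f (τ₂ ≫ τ₁)) hL
        simpa [m, pullback.lift_snd] using this
      have hL1 : (L ≫ pullback.fst _ _) ≫ V.ι ≫ pullback.fst f τ₁ = y := by
        have := congrArg (· ≫ pullback.fst f (τ₂ ≫ τ₁)) hL
        simpa [m, pullback.lift_fst] using this
      have hy2 : (L ≫ pullback.fst _ _) ≫ V.ι ≫ pullback.snd f τ₁ = t' ≫ τ₂ := by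
        rw [← hL2, Category.assoc, pullback.condition, Category.assoc]
      have hmem2 : pullback.lift (L ≫ pullback.fst _ _) t' hy2 (pt0 Ω) ∈ O := by
        have : pullback.lift (L ≫ pullback.fst _ _) t' hy2 = L :=
          pullback.hom_ext (pullback.lift_fst _ _ _) ((pullback.lift_snd _ _ _).trans hL2.symm)
        rw [this]
        have e2 : m (L (pt0 Ω)) = m q := by
          rw [← Scheme.Hom.comp_apply, hL]
          exact hq.symm
        rwa [m.isOpenEmbedding.injective e2]
      rw [← hL1, (hOy _ hy2).1 hmem2, ← Category.assoc, IsOpenImmersion.lift_fac, hw]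
    · rintro rfl
      refine ⟨pullback.lift xV t' (by rw [ht']) (pt0 Ω), (hOy _ _).2 rfl, ?_⟩
      refine (Scheme.Hom.comp_apply _ _ _).symm.trans (congrArg (fun g : Spec (CommRingCat.of Ω) ⟶ _ => g (pt0 Ω)) ?_)
      apply pullback.hom_ext
      · simp only [m, Category.assoc, pullback.lift_fst, pullback.lift_fst_assoc]
        rw [← Category.assoc, IsOpenImmersion.lift_fac, hw]
      · simp only [m, Category.assoc, pullback.lift_snd]

end Groth.Agent.SpPts86
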