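import Mathlib.RingTheory.Polynomial.UniversalFactorizationRing
import Mathlib.FieldTheory.IsAlgClosed.Basic
import Mathlib.RingTheory.Etale.Basic

/-!
Geometric points of a finite algebra are separated by idempotents after an etale extension.
-/

universe u

set_option autoImplicit false

open Polynomial TensorProduct

namespace Groth.Agent.SpPts86

variable {R B Ω : Type u} [CommRing R] [CommRing B] [Algebra R B] [Field Ω] [Algebra R Ω]

/-- The point of a tensor product given by points of the factors. -/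
noncomputable def tPoint {R' : Type u} [CommRing R'] [Algebra R R'] (ψ : R' →ₐ[R] Ω) (x : B →ₐ[R] Ω) :
    R' ⊗[R] B →ₐ[R] Ω :=
  Algebra.TensorProduct.lift ψ x fun _ _ => mul_comm _ _

theorem tPoint_tmul {R' : Type u} [CommRing R'] [Algebra R R'] (ψ : R' →ₐ[R] Ω) (x : B →ₐ[R] Ω)
    (r : R') (b : B) : tPoint ψ x (r ⊗ₜ b) = ψ r * x b := rfl

theorem tPoint_map {R₁ R₂ : Type u} [CommRing R₁] [Algebra R R₁] [CommRing R₂] [Algebra R R₂]
    (f : R₁ →ₐ[R] R₂) (ψ : R₂ →ₐ[R] Ω) (x : B →ₐ[R] Ω) (z : R₁ ⊗[R] B) :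
    tPoint ψ x (Algebra.TensorProduct.map f (AlgHom.id R B) z) = tPoint (ψ.comp f) x z := by
  induction z using TensorProduct.induction_on with
  | zero => simp
  | tmul r b => simp [tPoint_tmul]
  | add a b ha hb => simp [ha, hb]

theorem factor₁_map {S : Type u} [CommRing S] [Algebra R S] {n : ℕ} (m k : ℕ) (hn : n = m + k)
    (p : MonicDegreeEq R n) (f : UniversalCoprimeFactorizationRing m k hn p →ₐ[R] S) :
    (UniversalCoprimeFactorizationRing.homEquiv S m k hn p f).1.1.1 =
      (UniversalCoprimeFactorizationRing.factor₁ m k hn p).1.map f.toRingHom := by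
  simp [UniversalCoprimeFactorizationRing.homEquiv, UniversalFactorizationRing.homEquiv,
    UniversalCoprimeFactorizationRing.factor₁, UniversalFactorizationRing.factor₁,
    MonicDegreeEq.map, Polynomial.map_map]
  rfl

theorem factor₂_map {S : Type u} [CommRing S] [Algebra R S] {n : ℕ} (m k : ℕ) (hn : n = m + k)
    (p : MonicDegreeEq R n) (f : UniversalCoprimeFactorizationRing m k hn p →ₐ[R] S) :
    (UniversalCoprimeFactorizationRing.homEquiv S m k hn p f).1.2.1 =
      (UniversalCoprimeFactorizationRing.factor₂ m k hn p).1.map f.toRingHom := by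
  simp [UniversalCoprimeFactorizationRing.homEquiv, UniversalFactorizationRing.homEquiv,
    UniversalCoprimeFactorizationRing.factor₂, UniversalFactorizationRing.factor₂,
    MonicDegreeEq.map, Polynomial.map_map]
  rfl

theorem exists_etale_idempotent_pair [Algebra.IsIntegral R B] [IsAlgClosed Ω] (x y : B →ₐ[R] Ω)
    (hne : x ≠ y) :
    ∃ (R' : Type u) (_ : CommRing R') (_ : Algebra R R') (_ : Algebra.Etale R R')
      (ψ : R' →ₐ[R] Ω) (e : R' ⊗[R] B),
      IsIdempotentElem e ∧ tPoint ψ x e = 1 ∧ tPoint ψ y e = 0 := by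
  obtain ⟨b, hb⟩ : ∃ b, x b ≠ y b := by
    by_contra h
    push Not at h
    exact hne (AlgHom.ext h)
  obtain ⟨P, hP, hPb⟩ := Algebra.IsIntegral.isIntegral (R := R) b
  have hroot : ∀ z : B →ₐ[R] Ω, (P.map (algebraMap R Ω)).eval (z b) = 0 := fun z => by
    rw [Polynomial.eval_map, ← Polynomial.aeval_def, Polynomial.aeval_algHom_apply,
      Polynomial.aeval_def, hPb, map_zero]
  obtain ⟨q, hq, hqd⟩ := Polynomial.exists_eq_pow_rootMultiplicity_mul_and_not_dvd
    (P.map (algebraMap R Ω)) (hP.map (algebraMap R Ω)).ne_zero (x b)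
  set m := (P.map (algebraMap R Ω)).rootMultiplicity (x b) with hm
  have hqm : q.Monic := ((monic_X_sub_C (x b)).pow m).of_mul_monic_left (hq ▸ hP.map _)
  have h1m : ((X - C (x b)) ^ m).Monic := (monic_X_sub_C (x b)).pow m
  have hd : P.natDegree = m + q.natDegree := by
    rw [← hP.natDegree_map (algebraMap R Ω), hq, h1m.natDegree_mul hqm, natDegree_pow, natDegree_X_sub_C,
      mul_one]
  let p : MonicDegreeEq R P.natDegree := .mk P hP rfl
  let q₁ : MonicDegreeEq Ω m := .mk ((X - C (x b)) ^ m) h1m (by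
    rw [natDegree_pow, natDegree_X_sub_C, mul_one])
  let q₂ : MonicDegreeEq Ω q.natDegree := .mk q hqm rfl
  have hco : IsCoprime q₁.1 q₂.1 :=
    IsCoprime.pow_left (((Polynomial.irreducible_X_sub_C (x b)).coprime_iff_not_dvd).2 hqd)
  let ψ := (UniversalCoprimeFactorizationRing.homEquiv Ω m q.natDegree hd p).symm ⟨(q₁, q₂), hq.symm, hco⟩
  let F := (UniversalCoprimeFactorizationRing.factor₁ m q.natDegree hd p).1
  let G := (UniversalCoprimeFactorizationRing.factor₂ m q.natDegree hd p).1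
  have hψ : UniversalCoprimeFactorizationRing.homEquiv Ω m q.natDegree hd p ψ =
      ⟨(q₁, q₂), hq.symm, hco⟩ := Equiv.apply_symm_apply _ _
  have hF : F.map ψ.toRingHom = (X - C (x b)) ^ m := by
    have h := factor₁_map m q.natDegree hd p ψ
    rw [hψ] at h
    exact h.symm
  have hG : G.map ψ.toRingHom = q := by
    have h := factor₂_map m q.natDegree hd p ψ
    rw [hψ] at h
    exact h.symm
  obtain ⟨u, v, huv⟩ :=
    UniversalCoprimeFactorizationRing.isCoprime_factor₁_factor₂ m q.natDegree hd p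
  replace huv : u * F + v * G = 1 := huv
  let R' := UniversalCoprimeFactorizationRing m q.natDegree hd p
  let ev : R'[X] →+* R' ⊗[R] B :=
    eval₂RingHom (algebraMap R' (R' ⊗[R] B)) ((1 : R') ⊗ₜ b)
  have hev : ∀ (z : B →ₐ[R] Ω) (f : R'[X]), tPoint ψ z (ev f) = (f.map ψ.toRingHom).eval (z b) := by
    intro z f
    induction f using Polynomial.induction_on' with
    | add f g hf hg => simp only [map_add, Polynomial.map_add, eval_add, hf, hg]
    | monomial n a =>
      have e : algebraMap R' (R' ⊗[R] B) a = a ⊗ₜ 1 := rfl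
      simp [ev, tPoint_tmul, e]
  have hFG : ev (F * G) = 0 := by
    rw [UniversalCoprimeFactorizationRing.factor₁_mul_factor₂]
    change eval₂ _ _ (P.map (algebraMap R R')) = 0
    rw [eval₂_map, ← IsScalarTower.algebraMap_eq R R' (R' ⊗[R] B)]
    change Polynomial.aeval ((Algebra.TensorProduct.includeRight : B →ₐ[R] R' ⊗[R] B) b) P = 0
    rw [Polynomial.aeval_algHom_apply, Polynomial.aeval_def, hPb, map_zero]
  refine ⟨R', inferInstance, inferInstance, inferInstance, ψ, ev (v * G), ?_, ?_, ?_⟩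
  · have e : 1 - v * G = u * F := by rw [← huv]; ring
    have : ev (v * G) * ev (1 - v * G) = 0 := by
      rw [← map_mul, e, show v * G * (u * F) = (v * u) * (F * G) by ring, map_mul, hFG, mul_zero]
    rw [map_sub, map_one, mul_sub, mul_one, sub_eq_zero] at this
    exact this.symm
  · have hx0 : (X - C (x b)) ^ m ≠ 1 := fun h => by
      have h0 := hroot x
      rw [hq, h, one_mul] at h0
      exact hqd (dvd_iff_isRoot.2 h0)
    have hm0 : m ≠ 0 := fun h => hx0 (by rw [h, pow_zero])
    have h1 := congrArg (fun f => tPoint ψ x (ev f)) huv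
    simp only [map_add, map_one, hev, Polynomial.map_mul, eval_mul, hF] at h1
    simp only [eval_pow, eval_sub, eval_X, eval_C, sub_self, zero_pow hm0, mul_zero, zero_add] at h1
    rw [hev, Polynomial.map_mul, eval_mul]
    exact h1
  · rw [hev, Polynomial.map_mul, eval_mul, hG]
    have h0 := hroot y
    rw [hq, eval_mul] at h0
    have hy : ((X - C (x b)) ^ m).eval (y b) ≠ 0 := by
      simp only [eval_pow, eval_sub, eval_X, eval_C]
      exact pow_ne_zero _ (sub_ne_zero.2 (Ne.symm hb))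
    rw [(mul_eq_zero.1 h0).resolve_left hy, mul_zero]

/-- One point is separated from finitely many others. -/
theorem exists_etale_idempotent [Algebra.IsIntegral R B] [IsAlgClosed Ω] (x : B →ₐ[R] Ω)
    (A : Finset (B →ₐ[R] Ω)) (hA : x ∉ A) :
    ∃ (R' : Type u) (_ : CommRing R') (_ : Algebra R R') (_ : Algebra.Etale R R')
      (ψ : R' →ₐ[R] Ω) (e : R' ⊗[R] B),
      IsIdempotentElem e ∧ tPoint ψ x e = 1 ∧ ∀ y ∈ A, tPoint ψ y e = 0 := by
  classical
  induction A using Finset.induction_on with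
  | empty =>
    exact ⟨R, inferInstance, inferInstance, inferInstance, Algebra.ofId R Ω, 1, .one, map_one _,
      by simp⟩
  | insert y A hy ih =>
    rw [Finset.mem_insert, not_or] at hA
    obtain ⟨R₁, _, _, _, ψ₁, e₁, he₁, hx₁, hy₁⟩ := ih hA.2
    obtain ⟨R₂, _, _, _, ψ₂, e₂, he₂, hx₂, hy₂⟩ := exists_etale_idempotent_pair x y hA.1
    let ψ : R₁ ⊗[R] R₂ →ₐ[R] Ω := Algebra.TensorProduct.lift ψ₁ ψ₂ fun _ _ => mul_comm _ _
    let i₁ : R₁ →ₐ[R] R₁ ⊗[R] R₂ := Algebra.TensorProduct.includeLeft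
    let i₂ : R₂ →ₐ[R] R₁ ⊗[R] R₂ := Algebra.TensorProduct.includeRight
    have h1 : ψ.comp i₁ = ψ₁ := AlgHom.ext fun r => (show ψ₁ r * ψ₂ 1 = ψ₁ r by rw [map_one, mul_one])
    have h2 : ψ.comp i₂ = ψ₂ := AlgHom.ext fun r => (show ψ₁ 1 * ψ₂ r = ψ₂ r by rw [map_one, one_mul])
    have : Algebra.Etale R (R₁ ⊗[R] R₂) := Algebra.Etale.comp R R₁ (R₁ ⊗[R] R₂)
    refine ⟨R₁ ⊗[R] R₂, inferInstance, inferInstance, inferInstance, ψ,
      Algebra.TensorProduct.map i₁ (AlgHom.id R B) e₁ *
        Algebra.TensorProduct.map i₂ (AlgHom.id R B) e₂, (he₁.map _).mul (he₂.map _), ?_, ?_⟩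
    · rw [map_mul, tPoint_map, tPoint_map, h1, h2, hx₁, hx₂, mul_one]
    · intro z hz
      rw [map_mul, tPoint_map, tPoint_map, h1, h2]
      rcases Finset.mem_insert.1 hz with rfl | hz
      · rw [hy₂, mul_zero]
      · rw [hy₁ z hz, zero_mul]

theorem finite_algHom [Algebra.FiniteType R B] [Algebra.IsIntegral R B] : Finite (B →ₐ[R] Ω) := by
  classical
  obtain ⟨s, hs⟩ := (inferInstance : Algebra.FiniteType R B).out
  have hP : ∀ b : B, ∃ P : R[X], P.Monic ∧ P.eval₂ (algebraMap R B) b = 0 := fun b =>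
    Algebra.IsIntegral.isIntegral b
  choose P hP hPb using hP
  let f : (B →ₐ[R] Ω) → ∀ b : s, {r : Ω // r ∈ ((P b.1).map (algebraMap R Ω)).roots.toFinset} :=
    fun z b => ⟨z b.1, by
      rw [Multiset.mem_toFinset, mem_roots ((hP b.1).map _).ne_zero, IsRoot, eval_map, ← aeval_def,
        aeval_algHom_apply, aeval_def, hPb, map_zero]⟩
  refine Finite.of_injective f fun z w h => AlgHom.ext_of_adjoin_eq_top hs fun b hb => ?_
  exact congrArg Subtype.val (congrFun h ⟨b, hb⟩)

end Groth.Agent.SpPts86
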