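import Groth.Agent.SpPts86.SliceFlat
import Groth.Agent.S9334
import Groth.Agent.S9389

/-!
Through every finite type point of a flat relation there is a flat quasi-finite slice.
-/

universe u

set_option autoImplicit false

open CategoryTheory CategoryTheory.Limits AlgebraicGeometry

namespace Groth.Agent.SpPts86

set_option maxHeartbeats 800000 in
/-- For jointly monomorphic `s, t : R ⟶ U` with `s` flat, locally of finite presentation, a point of
finite type in the image of `s` is covered by the flat quasi-finite locus of a slice. -/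
theorem exists_slice {K : Type u} [Field K] {R U : Scheme.{u}} (s t : R ⟶ U) [Flat s]
    [LocallyOfFinitePresentation s] [LocallyOfFiniteType t]
    (hmono : ∀ (T : Scheme.{u}) (a b : T ⟶ R), a ≫ s = b ≫ s → a ≫ t = b ≫ t → a = b)
    (x₀ : Spec (CommRingCat.of K) ⟶ U) [LocallyOfFiniteType x₀] [Nonempty ↥(pullback x₀ s)] :
    ∃ (Z : Scheme.{u}) (i : Z ⟶ U) (_ : LocallyOfFinitePresentation i) (z : ↥(pullback i t)),
      (pullback.snd i t ≫ s) z ∈ Set.range x₀ ∧
      ((pullback.snd i t ≫ s).stalkMap z).hom.Flat ∧ (pullback.snd i t ≫ s).QuasiFiniteAt z := by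
  let q := pullback.fst x₀ s
  let g := pullback.snd x₀ s ≫ t
  have hmonoV : ∀ (T : Scheme.{u}) (a b : T ⟶ pullback x₀ s), a ≫ q = b ≫ q → a ≫ g = b ≫ g → a = b := by
    intro T a b h₁ h₂
    refine pullback.hom_ext h₁ (hmono T _ _ ?_ (by simpa only [Category.assoc] using h₂))
    rw [Category.assoc, Category.assoc, ← pullback.condition, reassoc_of% h₁]
  obtain ⟨r, W, hW, hr, os, hrc, hos, hreg, hcut⟩ := exists_cut q g hmonoV
  let mkO : Γ(U, W) ⟶ CommRingCat.of (Γ(U, W) ⧸ Ideal.ofList os) :=
    CommRingCat.ofHom (Ideal.Quotient.mk (Ideal.ofList os))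
  have hfg : (RingHom.ker (Ideal.Quotient.mk (Ideal.ofList os))).FG := by
    classical
    rw [Ideal.mk_ker]
    exact ⟨os.toFinset, congrArg Ideal.span (Set.ext fun x => List.mem_toFinset)⟩
  have : IsClosedImmersion (Spec.map mkO) :=
    IsClosedImmersion.spec_of_surjective _ Ideal.Quotient.mk_surjective
  have : LocallyOfFinitePresentation (Spec.map mkO) :=
    (HasRingHomProperty.Spec_iff (P := @LocallyOfFinitePresentation)).2
      (RingHom.FinitePresentation.of_surjective _ Ideal.Quotient.mk_surjective hfg)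
  let i := Spec.map mkO ≫ hW.fromSpec
  have : IsPreimmersion (pullback.snd i g) :=
    MorphismProperty.pullback_snd (P := @IsPreimmersion) i g inferInstance
  obtain ⟨pz, hpz⟩ : hW.primeIdealOf ⟨g r, hr⟩ ∈ Set.range (Spec.map mkO) := by
    refine (range_comap_of_surjective _ mkO.hom Ideal.Quotient.mk_surjective).ge ?_
    rw [PrimeSpectrum.mem_zeroLocus, SetLike.coe_subset_coe]
    change RingHom.ker (Ideal.Quotient.mk _) ≤ _
    rw [Ideal.mk_ker]
    exact Ideal.span_le.2 fun o ho => hos o ho
  obtain ⟨z₀, -, hz₀⟩ := Scheme.Pullback.exists_preimage_pullback (f := i) (g := g) pz r (by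
    change (Spec.map mkO ≫ hW.fromSpec) pz = g r
    rw [Scheme.Hom.comp_apply, hpz, hW.fromSpec_primeIdealOf])
  let gP : pullback i g ⟶ pullback i t :=
    pullback.lift (pullback.fst i g) (pullback.snd i g ≫ pullback.snd x₀ s)
      (by rw [Category.assoc]; exact pullback.condition)
  have hsnd : gP ≫ pullback.snd i t = pullback.snd i g ≫ pullback.snd x₀ s := pullback.lift_snd _ _ _
  have hz : pullback.snd i t (gP z₀) = pullback.snd x₀ s r := by
    rw [← Scheme.Hom.comp_apply, hsnd, Scheme.Hom.comp_apply, hz₀]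
  refine ⟨_, i, inferInstance, gP z₀, ⟨q r, ?_⟩, flat_slice_point s t x₀ r hW hr os hreg _ hz, ?_⟩
  · rw [Scheme.Hom.comp_apply, hz, ← Scheme.Hom.comp_apply, ← Scheme.Hom.comp_apply, pullback.condition]
  have sq : IsPullback gP (pullback.snd i g ≫ q) (pullback.snd i t ≫ s) x₀ :=
    IsPullback.paste_vert
      (IsPullback.of_right (by rw [show gP ≫ pullback.fst i t = pullback.fst i g from pullback.lift_fst _ _ _]
                               exact IsPullback.of_hasPullback i g) hsnd (IsPullback.of_hasPullback i t))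
      (IsPullback.of_hasPullback x₀ s).flip
  have hqf : (pullback.snd i g ≫ q).QuasiFiniteAt z₀ := by
    let f' := pullback.snd i g ≫ q
    have hinj := (pullback.snd i g).isEmbedding.injective
    have hclosed : IsClosed ({z₀} : Set ↥(pullback i g)) := by
      have : ({z₀} : Set ↥(pullback i g)) = pullback.snd i g ⁻¹' {r} :=
        Set.ext fun w => ⟨fun h => (congrArg _ h).trans hz₀, fun h => hinj (h.trans hz₀.symm)⟩
      rw [this]
      exact hrc.preimage (pullback.snd i g).continuous
    have hgen : ∀ w : ↥(pullback i g), w ⤳ z₀ → w = z₀ := by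
      intro w hw
      have h1 : pullback.snd i g w ⤳ r := hz₀ ▸ hw.map (pullback.snd i g).continuous
      refine hinj ((hcut _ h1 (Spec.map mkO (pullback.fst i g w)) ?_ fun o ho => ?_).trans hz₀.symm)
      · rw [← Scheme.Hom.comp_apply, ← Scheme.Hom.comp_apply, pullback.condition, Scheme.Hom.comp_apply]
      · change mkO.hom o ∈ (pullback.fst i g w).asIdeal
        rw [show mkO.hom o = 0 from Ideal.Quotient.eq_zero_iff_mem.2 (Ideal.subset_span ho)]
        exact Ideal.zero_mem _
    refine (Groth.Agent.S9334.result f' z₀).2 ⟨?_, fun x' hx' => ?_⟩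
    · have : ({f'.asFiber z₀} : Set _) = f'.fiberι (f' z₀) ⁻¹' {z₀} := Set.ext fun w => ⟨fun h =>
        (congrArg _ h).trans (Scheme.Hom.fiberι_asFiber f' z₀), fun h =>
        (f'.fiberι _).isEmbedding.injective (h.trans (Scheme.Hom.fiberι_asFiber f' z₀).symm)⟩
      rw [this]
      exact hclosed.preimage (f'.fiberι (f' z₀)).continuous
    · refine (f'.fiberι _).isEmbedding.injective ((hgen _ ?_).trans (Scheme.Hom.fiberι_asFiber f' z₀).symm)
      exact (hx'.map (f'.fiberι _).continuous).trans (specializes_of_eq (Scheme.Hom.fiberι_asFiber f' z₀))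
  exact (Set.ext_iff.1 (Groth.Agent.S9389.result _ x₀ gP (pullback.snd i g ≫ q) sq) z₀).1 hqf

end Groth.Agent.SpPts86
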