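import Groth.Agent.SpPts86.Subspace
import Mathlib.CategoryTheory.Sites.Pullback
import Mathlib.CategoryTheory.Adjunction.Unique

/-!
Sheaves on schemes over `S` as sheaves on schemes over `S'` with a map to `h_S`.
-/

universe u

set_option autoImplicit false
set_option backward.isDefEq.respectTransparency false
set_option linter.style.haveILetI false

open CategoryTheory CategoryTheory.Limits AlgebraicGeometry Opposite
open AlgSp

namespace Groth.Agent.SpPts86.Slice

variable {S S' : Scheme.{u}} (g : S ⟶ S')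

/-- A section over a scheme over `S'` of the extension of a sheaf on schemes over `S`. -/
structure ESec (F : Sp S) (T' : Over S') : Type (u + 1) where
  hom : T'.left ⟶ S
  w : hom ≫ g = T'.hom
  sec : F.obj.obj (op (Over.mk hom))

variable {g}
variable {F G : Sp S} {T' T'' : Over S'}

/-- The value of a section on a scheme over `S` mapping compatibly. -/
noncomputable def ESec.val (e : ESec g F T') {T : Over S} (v : T.left ⟶ T'.left) (hv : v ≫ e.hom = T.hom) :
    F.obj.obj (op T) :=
  F.obj.map (Over.homMk v hv : T ⟶ Over.mk e.hom).op e.sec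

theorem ESec.map_val (e : ESec g F T') {T T₁ : Over S} (b : T₁ ⟶ T) (v : T.left ⟶ T'.left)
    (hv : v ≫ e.hom = T.hom) :
    F.obj.map b.op (e.val v hv) = e.val (b.left ≫ v) (by rw [Category.assoc, hv, Over.w b]) := by
  rw [ESec.val, ESec.val, ← FunctorToTypes.map_comp_apply, ← op_comp]
  congr

theorem ESec.val_congr {e e' : ESec g F T'} (h : e = e') {T : Over S} {v v' : T.left ⟶ T'.left}
    (hv : v ≫ e.hom = T.hom) (hv' : v' ≫ e'.hom = T.hom) (hvv : v = v') : e.val v hv = e'.val v' hv' := by
  subst h hvv; rfl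

theorem ESec.val_self (e : ESec g F T') :
    e.val (T := Over.mk e.hom) (𝟙 _) (Category.id_comp _) = e.sec := by
  have : (Over.homMk (𝟙 _) (Category.id_comp e.hom) : Over.mk e.hom ⟶ Over.mk e.hom) = 𝟙 _ := by ext; rfl
  rw [ESec.val, this, op_id, FunctorToTypes.map_id_apply]

theorem ESec.ext' {e e' : ESec g F T'} (h : e.hom = e'.hom)
    (hs : e.sec = e'.val (T := Over.mk e.hom) (𝟙 _) (by rw [Category.id_comp]; exact h.symm)) : e = e' := by
  obtain ⟨eh, ew, es⟩ := e
  obtain ⟨eh', ew', es'⟩ := e'
  change eh = eh' at h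
  subst h
  rw [ESec.mk.injEq]
  exact ⟨rfl, heq_of_eq (hs.trans (ESec.val_self (g := g) (F := F) ⟨eh, ew', es'⟩))⟩

/-- Restriction of sections. -/
noncomputable def ESec.map (f : T'' ⟶ T') (e : ESec g F T') : ESec g F T'' where
  hom := f.left ≫ e.hom
  w := by rw [Category.assoc, e.w, Over.w f]
  sec := e.val f.left rfl

@[simp] theorem ESec.map_hom (f : T'' ⟶ T') (e : ESec g F T') : (e.map f).hom = f.left ≫ e.hom := rfl

theorem ESec.val_map (f : T'' ⟶ T') (e : ESec g F T') {T : Over S} (v : T.left ⟶ T''.left)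
    (hv : v ≫ f.left ≫ e.hom = T.hom) :
    (e.map f).val v hv = e.val (v ≫ f.left) (by rw [Category.assoc, hv]) :=
  ESec.map_val e (Over.homMk v hv : T ⟶ Over.mk (f.left ≫ e.hom)) f.left rfl

variable (g)

/-- The extension of a sheaf on schemes over `S` to schemes over `S'`, as a presheaf. -/
noncomputable def ePsh (F : Sp S) : (Over S')ᵒᵖ ⥤ Type (u + 1) where
  obj T' := ESec g F T'.unop
  map f := ↾fun e => e.map f.unop
  map_id T' := by
    ext e
    exact ESec.ext' (e := e.map (𝟙 T'.unop)) (e' := e) (Category.id_comp _) (ESec.val_congr rfl _ _ rfl)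
  map_comp {A B C} f f' := by
    ext e
    refine ESec.ext' (e := e.map (f'.unop ≫ f.unop)) (e' := (e.map f.unop).map f'.unop)
      (by simp [ESec.map_hom]) ?_
    rw [ESec.val_map, ESec.val_map]
    exact ESec.val_congr rfl _ _ (by simp)

theorem hom_ext_cover {T : Scheme.{u}} {R : Sieve T} (hR : R ∈ Scheme.fppfTopology T) {P : Scheme.{u}}
    {a b : T ⟶ P} (h : ∀ ⦃Z : Scheme.{u}⦄ (f : Z ⟶ T), R f → f ≫ a = f ≫ b) : a = b :=
  ((GrothendieckTopology.Subcanonical.isSheaf_of_isRepresentable (J := Scheme.fppfTopology)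
    (yoneda.obj P)) _ hR).isSeparatedFor.ext fun _ f hf => h f hf

theorem isSheaf_ePsh (F : Sp S) : Presieve.IsSheaf (J S') (ePsh g F) := by
  intro T' R hR x hx
  have hR' : Sieve.overEquiv T' R ∈ Scheme.fppfTopology T'.left := (GrothendieckTopology.mem_over_iff _ _).1 hR
  have key : ∀ {Y₁ Y₂ : Over S'} (f₁ : Y₁ ⟶ T') (h₁ : R f₁) (f₂ : Y₂ ⟶ T') (h₂ : R f₂)
      {Z : Scheme.{u}} (v₁ : Z ⟶ Y₁.left) (v₂ : Z ⟶ Y₂.left) (e : v₁ ≫ f₁.left = v₂ ≫ f₂.left),
      v₁ ≫ (x f₁ h₁).hom = v₂ ≫ (x f₂ h₂).hom ∧
        ∀ (σ : Z ⟶ S) (hv₁ : v₁ ≫ (x f₁ h₁).hom = σ) (hv₂ : v₂ ≫ (x f₂ h₂).hom = σ),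
          (x f₁ h₁).val (T := Over.mk σ) v₁ hv₁ = (x f₂ h₂).val (T := Over.mk σ) v₂ hv₂ := by
    intro Y₁ Y₂ f₁ h₁ f₂ h₂ Z v₁ v₂ e
    let Z' : Over S' := Over.mk (v₁ ≫ Y₁.hom)
    let b₁ : Z' ⟶ Y₁ := Over.homMk v₁ rfl
    let b₂ : Z' ⟶ Y₂ := Over.homMk v₂ (by
      show v₂ ≫ Y₂.hom = v₁ ≫ Y₁.hom
      rw [← Over.w f₂, ← Over.w f₁, reassoc_of% e])
    have hb : (x f₁ h₁).map b₁ = (x f₂ h₂).map b₂ := hx b₁ b₂ h₁ h₂ (Over.OverMorphism.ext e)
    refine ⟨congrArg ESec.hom hb, fun σ hv₁ hv₂ => ?_⟩
    have := ESec.val_congr hb (T := Over.mk σ) (v := 𝟙 _) (v' := 𝟙 _)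
      (by show 𝟙 Z ≫ v₁ ≫ _ = σ; rw [Category.id_comp, hv₁])
      (by show 𝟙 Z ≫ v₂ ≫ _ = σ; rw [Category.id_comp, hv₂]) rfl
    rw [ESec.val_map, ESec.val_map] at this
    exact (ESec.val_congr rfl _ _ (by simp [b₁])).trans (this.trans (ESec.val_congr rfl _ _ (by simp [b₂])))
  let mkY : ∀ {Z : Scheme.{u}} (a : Z ⟶ T'.left), Over.mk (a ≫ T'.hom) ⟶ T' := fun a => Over.homMk a rfl
  -- glue the structure map
  obtain ⟨h₀, hh₀, -⟩ := (GrothendieckTopology.Subcanonical.isSheaf_of_isRepresentable (J := Scheme.fppfTopology)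
    (yoneda.obj S)) _ hR' (fun Z a ha => (x (mkY a) ((Sieve.overEquiv_iff R a).1 ha)).hom)
    (fun Y₁ Y₂ Z v₁ v₂ a₁ a₂ h₁ h₂ e =>
      (key (mkY a₁) ((Sieve.overEquiv_iff R a₁).1 h₁) (mkY a₂) ((Sieve.overEquiv_iff R a₂).1 h₂) v₁ v₂ e).1)
  obtain ⟨h, hh⟩ : ∃ h : T'.left ⟶ S, ∀ ⦃Z : Scheme.{u}⦄ (a : Z ⟶ T'.left) (ha : Sieve.overEquiv T' R a),
      a ≫ h = (x (mkY a) ((Sieve.overEquiv_iff R a).1 ha)).hom := ⟨h₀, fun Z a ha => hh₀ a ha⟩
  have hh' : ∀ {Y : Over S'} (f : Y ⟶ T') (hf : R f), f.left ≫ h = (x f hf).hom := by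
    intro Y f hf
    have hm : Sieve.overEquiv T' R f.left := by
      refine (Sieve.overEquiv_iff R _).2 ?_
      have : (Over.homMk f.left rfl : Over.mk (f.left ≫ T'.hom) ⟶ T') =
          Over.homMk (U := Over.mk (f.left ≫ T'.hom)) (V := Y) (𝟙 Y.left) (by simp) ≫ f := by ext; simp
      rw [this]; exact R.downward_closed hf _
    refine (hh f.left hm).trans ?_
    have := (key (mkY f.left) ((Sieve.overEquiv_iff R _).1 hm) f hf (𝟙 _) (𝟙 _) rfl).1
    simpa using this
  have hw : h ≫ g = T'.hom := by
    refine hom_ext_cover hR' fun Z a ha => ?_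
    rw [← Category.assoc, hh a ha]
    exact (x (mkY a) _).w
  -- glue the section
  let T : Over S := Over.mk h
  let R₁ : Sieve T := (Sieve.overEquiv T).symm (Sieve.overEquiv T' R)
  have hR₁ : R₁ ∈ J S T := by
    rw [GrothendieckTopology.mem_over_iff]
    simp only [R₁, OrderIso.apply_symm_apply]
    exact hR'
  have hmem : ∀ {T₁ : Over S} {a : T₁ ⟶ T}, R₁ a → R (mkY a.left) := fun ha => (Sieve.overEquiv_iff R _).1 ha
  have hv : ∀ {T₁ : Over S} {a : T₁ ⟶ T} (ha : R₁ a), 𝟙 T₁.left ≫ (x (mkY a.left) (hmem ha)).hom = T₁.hom :=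
    fun {T₁} {a} ha => by
      rw [Category.id_comp, ← hh' (mkY a.left) (hmem ha)]
      exact Over.w a
  obtain ⟨s, hs, hsu⟩ := ((isSheaf_iff_isSheaf_of_type _ _).1 F.property) _ hR₁
    (fun T₁ a ha => (x (mkY a.left) (hmem ha)).val (T := T₁) (𝟙 _) (hv ha))
    (fun Y₁ Y₂ Z b₁ b₂ a₁ a₂ h₁ h₂ e => by
      rw [ESec.map_val, ESec.map_val]
      exact (key (mkY a₁.left) (hmem h₁) (mkY a₂.left) (hmem h₂) (b₁.left ≫ 𝟙 _) (b₂.left ≫ 𝟙 _)
        (by simpa [mkY] using congrArg CommaMorphism.left e)).2 Z.hom _ _)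
  refine ⟨⟨h, hw, s⟩, fun Y f hf => ?_, fun t ht => ?_⟩
  · refine ESec.ext' (e := ESec.map f ⟨h, hw, s⟩) (e' := x f hf) (hh' f hf) ?_
    let a : Over.mk (f.left ≫ h) ⟶ T := Over.homMk f.left rfl
    have ha : R₁ a := by
      refine (Sieve.overEquiv_iff R _).2 ?_
      show R (Over.homMk f.left rfl : Over.mk (f.left ≫ T'.hom) ⟶ T')
      have : (Over.homMk f.left rfl : Over.mk (f.left ≫ T'.hom) ⟶ T') =
          Over.homMk (U := Over.mk (f.left ≫ T'.hom)) (V := Y) (𝟙 Y.left) (by simp) ≫ f := by ext; simp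
      rw [this]; exact R.downward_closed hf _
    refine (hs a ha).trans ?_
    exact (key (mkY f.left) (hmem ha) f hf (𝟙 _) (𝟙 _) rfl).2 _ _ _
  · have hth : t.hom = h := by
      refine hom_ext_cover hR' fun Z a ha => ?_
      rw [hh a ha, ← ht (mkY a) ((Sieve.overEquiv_iff R a).1 ha)]
      rfl
    symm
    refine ESec.ext' (e' := t) hth.symm ?_
    refine (hsu _ fun T₁ a ha => ?_).symm
    rw [ESec.map_val]
    have := ESec.val_congr (ht (mkY a.left) (hmem ha)) (T := T₁) (v := 𝟙 _) (v' := 𝟙 _)
      (by show 𝟙 _ ≫ a.left ≫ t.hom = _; rw [hth, Category.id_comp]; exact Over.w a) (hv ha) rfl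
    refine Eq.trans ?_ this
    exact (ESec.val_congr rfl _ _ ((Category.comp_id _).trans (Category.id_comp _).symm)).trans (ESec.val_map (mkY a.left) t _ _).symm

/-- The extension of a sheaf on schemes over `S` to schemes over `S'`. -/
noncomputable def eSp (F : Sp S) : Sp S' :=
  ⟨ePsh g F, (isSheaf_iff_isSheaf_of_type _ _).2 (isSheaf_ePsh g F)⟩


/-- `h_S` as a sheaf on schemes over `S'`. -/
noncomputable abbrev hB : Sp S' := (yon S').obj (Over.mk g)

/-- The restriction functor. -/
noncomputable abbrev res : Sp S' ⥤ Sp S := Scheme.fppfTopology.overMapPullback (Type (u + 1)) g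

theorem map_map_eq (b : F ⟶ G) {A B : Over S} (a : A ⟶ B) (x : F.obj.obj (op B)) :
    b.hom.app (op A) (F.obj.map a.op x) = G.obj.map a.op (b.hom.app (op B) x) :=
  FunctorToTypes.naturality b.hom a.op x

theorem val_mapSec (b : F ⟶ G) (e : ESec g F T') {T : Over S} (v : T.left ⟶ T'.left) (hv : v ≫ e.hom = T.hom) :
    (⟨e.hom, e.w, b.hom.app _ e.sec⟩ : ESec g G T').val v hv = b.hom.app _ (e.val v hv) :=
  (map_map_eq b _ _).symm

/-- The extension functor. -/
noncomputable def eFun : Sp S ⥤ Sp S' where
  obj F := eSp g F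
  map {F G} b := ⟨
    { app := fun T' => ↾fun (e : ESec g F T'.unop) => (⟨e.hom, e.w, b.hom.app _ e.sec⟩ : ESec g G T'.unop)
      naturality := fun A B f => by
        ext (e : ESec g F A.unop)
        exact ESec.ext' (g := g) (e := ⟨(e.map f.unop).hom, (e.map f.unop).w, b.hom.app _ (e.map f.unop).sec⟩)
          (e' := ESec.map f.unop ⟨e.hom, e.w, b.hom.app _ e.sec⟩) rfl
          ((map_map_eq b _ _).trans (ESec.val_self (g := g)
            (ESec.map f.unop (⟨e.hom, e.w, b.hom.app _ e.sec⟩ : ESec g G A.unop))).symm) }⟩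
  map_id F := rfl
  map_comp b b' := rfl

/-- The structure map of an extension. -/
noncomputable def eπ (F : Sp S) : (eFun g).obj F ⟶ hB g := ⟨
  { app := fun T' => ↾fun (e : ESec g F T'.unop) => ULift.up (Over.homMk e.hom e.w : T'.unop ⟶ Over.mk g)
    naturality := fun A B f => by
      ext (e : ESec g F A.unop)
      rfl }⟩

theorem eπ_naturality (b : F ⟶ G) : (eFun g).map b ≫ eπ g G = eπ g F := rfl

/-- The extension functor with values over `h_S`. -/
noncomputable def eOver : Sp S ⥤ Over (hB g) where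
  obj F := Over.mk (eπ g F)
  map b := Over.homMk ((eFun g).map b) (eπ_naturality g b)

/-- A section seen as a section of the extension. -/
noncomputable def canon {T : Over S} (x : F.obj.obj (op T)) : ESec g F ((Over.map g).obj T) where
  hom := T.hom
  w := rfl
  sec := F.obj.map (Over.homMk (𝟙 _) (Category.id_comp _) : Over.mk T.hom ⟶ T).op x

theorem canon_val {T : Over S} (x : F.obj.obj (op T)) {T₁ : Over S} (v : T₁.left ⟶ T.left)
    (hv : v ≫ T.hom = T₁.hom) :
    (canon g x).val v hv = F.obj.map (Over.homMk v hv : T₁ ⟶ T).op x := by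
  change F.obj.map _ (F.obj.map _ x) = _
  rw [← FunctorToTypes.map_comp_apply, ← op_comp]
  congr 3 <;> (ext; exact Category.comp_id _)

theorem canon_natural {A B : Over S} (a : A ⟶ B) (x : F.obj.obj (op B)) :
    ESec.map ((Over.map g).map a) (canon g x) = canon g (F.obj.map a.op x) := by
  refine ESec.ext' (Over.w a) ?_
  refine (canon_val g x (T₁ := Over.mk (a.left ≫ B.hom)) a.left rfl).trans ?_
  rw [canon_val, ← FunctorToTypes.map_comp_apply, ← op_comp]
  congr 3 <;> (ext; exact (Category.id_comp _).symm)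

theorem eq_map_canon (e : ESec g F T') :
    e = ESec.map (Over.homMk (𝟙 T'.left) (by simpa using e.w) : T' ⟶ (Over.map g).obj (Over.mk e.hom))
      (canon g e.sec) := by
  refine ESec.ext' (Category.id_comp _).symm ?_
  rw [ESec.val_map, canon_val]
  refine (ESec.val_self e).symm.trans ?_
  unfold ESec.val
  congr 3 <;> (ext; exact (Category.id_comp _).symm)

theorem eFun_ext {H : Sp S'} {a b : (eFun g).obj F ⟶ H}
    (h : ∀ (T : Over S) (x : F.obj.obj (op T)), a.hom.app (op ((Over.map g).obj T)) (canon g x) =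
      b.hom.app (op ((Over.map g).obj T)) (canon g x)) : a = b := by
  apply Sheaf.hom_ext
  ext T' (e : ESec g F T'.unop)
  obtain ⟨T'⟩ := T'
  rw [eq_map_canon g e]
  refine (FunctorToTypes.naturality a.hom _ _).trans ?_
  refine (congrArg _ (h _ _)).trans ?_
  exact (FunctorToTypes.naturality b.hom _ _).symm

/-- Maps from an extension are maps to the restriction. -/
noncomputable def eHomEquiv (F : Sp S) (H : Sp S') : ((eFun g).obj F ⟶ H) ≃ (F ⟶ (res g).obj H) where
  toFun a := ⟨
    { app := fun T => ↾fun x => a.hom.app (op ((Over.map g).obj T.unop)) (canon g x)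
      naturality := fun A B f => by
        ext x
        exact (congrArg _ (canon_natural g f.unop x).symm).trans
          (FunctorToTypes.naturality a.hom ((Over.map g).map f.unop).op _) }⟩
  invFun b := ⟨
    { app := fun T' => ↾fun (e : ESec g F T'.unop) => H.obj.map
        (Over.homMk (𝟙 T'.unop.left) (by simpa using e.w) : T'.unop ⟶ (Over.map g).obj (Over.mk e.hom)).op
        (b.hom.app (op (Over.mk e.hom)) e.sec)
      naturality := fun A B f => by
        ext (e : ESec g F A.unop)
        change H.obj.map _ (b.hom.app _ (F.obj.map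
          (Over.homMk f.unop.left rfl : Over.mk (f.unop.left ≫ e.hom) ⟶ Over.mk e.hom).op e.sec)) =
          H.obj.map f (H.obj.map _ (b.hom.app _ e.sec))
        rw [map_map_eq b]
        change H.obj.map _ (H.obj.map ((Over.map g).map _).op _) = _
        rw [← FunctorToTypes.map_comp_apply, ← FunctorToTypes.map_comp_apply, ← op_comp,
          ← Quiver.Hom.op_unop f, ← op_comp]
        congr 3 <;> (ext; exact (Category.id_comp _).trans (Category.comp_id _).symm) }⟩
  left_inv a := by
    apply eFun_ext g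
    intro T x
    change H.obj.map _ (a.hom.app _ (canon g (canon g x).sec)) = _
    refine (FunctorToTypes.naturality a.hom _ _).symm.trans (congrArg _ ?_)
    exact (eq_map_canon g (canon g x)).symm
  right_inv b := by
    apply Sheaf.hom_ext
    ext T x
    change H.obj.map _ (b.hom.app _ (F.obj.map _ x)) = _
    rw [map_map_eq b]
    change H.obj.map _ (H.obj.map ((Over.map g).map _).op _) = _
    rw [← FunctorToTypes.map_comp_apply, ← op_comp]
    refine Eq.trans ?_ (FunctorToTypes.map_id_apply H.obj _)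
    rw [← op_id]
    congr 3 <;> (ext; exact Category.comp_id _)

/-- The extension is left adjoint to the restriction. -/
noncomputable def eAdj : eFun g ⊣ res g :=
  Adjunction.mkOfHomEquiv
    { homEquiv := eHomEquiv g
      homEquiv_naturality_left_symm := fun a b => by
        apply Sheaf.hom_ext
        ext T' e
        rfl
      homEquiv_naturality_right := fun a b => by
        apply Sheaf.hom_ext
        ext T x
        rfl }

/-- The left adjoint of the restriction is the extension. -/
noncomputable def pullbackIso :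
    (Over.map g).sheafPullback (Type (u + 1)) (AlgSp.J S) (AlgSp.J S') ≅ eFun g :=
  ((Over.map g).sheafAdjunctionContinuous (Type (u + 1)) (AlgSp.J S) (AlgSp.J S')).leftAdjointUniq (eAdj g)

instance : (eOver g).Faithful where
  map_injective {F G} b b' h := by
    apply Sheaf.hom_ext
    ext T x
    have h' : (eFun g).map b = (eFun g).map b' := congrArg CommaMorphism.left h
    have := congrArg (fun k : (eFun g).obj F ⟶ (eFun g).obj G => k.hom.app (op ((Over.map g).obj T.unop)) (canon g x)) h'
    have key := ESec.val_congr this (T := T.unop) (v := 𝟙 _) (v' := 𝟙 _) (Category.id_comp _) (Category.id_comp _) rfl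
    have e : (canon g x).val (T := T.unop) (𝟙 _) (Category.id_comp _) = x := by
      rw [canon_val]
      refine Eq.trans ?_ (FunctorToTypes.map_id_apply F.obj x)
      congr 1
    exact ((congrArg _ e).symm.trans ((val_mapSec g b (canon g x) _ _).symm.trans key)).trans
      ((val_mapSec g b' (canon g x) _ _).trans (congrArg _ e))

theorem hom_of_over (a : (eFun g).obj F ⟶ (eFun g).obj G) (w : a ≫ eπ g G = eπ g F) (e : ESec g F T') :
    (a.hom.app (op T') e : ESec g G T').hom = e.hom :=
  congrArg (fun q : ULift.{u + 1} (T' ⟶ Over.mk g) => q.down.left)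
    (congrArg (fun k : (eFun g).obj F ⟶ hB g => k.hom.app (op T') e) w)

instance : (eOver g).Full where
  map_surjective {F G} k := by
    let a : (eFun g).obj F ⟶ (eFun g).obj G := k.left
    have w : a ≫ eπ g G = eπ g F := Over.w k
    have hh : ∀ (T : Over S) (x : F.obj.obj (op T)), 𝟙 T.left ≫
        (a.hom.app (op ((Over.map g).obj T)) (canon g x) : ESec g G _).hom = T.hom := fun T x => by
      rw [Category.id_comp]; exact hom_of_over g a w _
    let b : F ⟶ G := ⟨
      { app := fun T => ↾fun x => (a.hom.app (op ((Over.map g).obj T.unop)) (canon g x) : ESec g G _).val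
          (T := T.unop) (𝟙 _) (hh _ x)
        naturality := fun A B f => by
          ext x
          have e1 : (a.hom.app (op ((Over.map g).obj B.unop)) (canon g (F.obj.map f x)) : ESec g G _) =
              ESec.map ((Over.map g).map f.unop) (a.hom.app (op ((Over.map g).obj A.unop)) (canon g x)) :=
            (congrArg _ (canon_natural g f.unop x).symm).trans
              (FunctorToTypes.naturality a.hom ((Over.map g).map f.unop).op _)
          refine (ESec.val_congr e1 _ (by
            change 𝟙 _ ≫ f.unop.left ≫ _ = _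
            exact (Category.id_comp _).trans ((congrArg (f.unop.left ≫ ·) ((Category.id_comp _).symm.trans (hh _ x))).trans (Over.w f.unop))) rfl).trans ?_
          rw [ESec.val_map]
          change _ = G.obj.map f.unop.op
            ((a.hom.app (op ((Over.map g).obj A.unop)) (canon g x) : ESec g G _).val (T := A.unop) (𝟙 _) (hh A.unop x))
          refine Eq.trans ?_ (ESec.map_val _ f.unop _ _).symm
          exact ESec.val_congr rfl _ _ ((Category.id_comp _).trans (Category.comp_id _).symm) }⟩
    refine ⟨b, Over.OverMorphism.ext (eFun_ext g fun T x => ?_)⟩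
    refine ESec.ext' (hom_of_over g a w (canon g x)).symm ?_
    change b.hom.app _ (F.obj.map _ x) = _
    rw [map_map_eq b]
    change G.obj.map (Over.homMk (𝟙 T.left) (Category.id_comp T.hom) : Over.mk T.hom ⟶ T).op
      ((a.hom.app (op ((Over.map g).obj T)) (canon g x) : ESec g G _).val (T := T) (𝟙 _) (hh T x)) = _
    refine (ESec.map_val _ _ _ _).trans ?_
    exact ESec.val_congr rfl _ _ (Category.comp_id _)

/-- The sections of the restriction over the tautological point of `h_S`. -/
def sliceSub {H : Sp S'} (π : H ⟶ hB g) : Subfunctor ((res g).obj H).obj where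
  obj T := {x | π.hom.app (op ((Over.map g).obj T.unop)) x =
    ULift.up (Over.homMk T.unop.hom rfl : (Over.map g).obj T.unop ⟶ Over.mk g)}
  map := by
    intro A B f x hx
    refine (FunctorToTypes.naturality π.hom ((Over.map g).map f.unop).op x).trans ?_
    refine (congrArg _ hx).trans ?_
    refine congrArg ULift.up ?_
    apply Over.OverMorphism.ext
    exact Over.w f.unop

theorem isSheaf_sliceSub {H : Sp S'} (π : H ⟶ hB g) : Presieve.IsSheaf (J S) (sliceSub g π).toFunctor := by
  have hF : Presieve.IsSheaf (J S) ((res g).obj H).obj :=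
    (isSheaf_iff_isSheaf_of_type _ _).1 ((res g).obj H).property
  rw [Subfunctor.isSheaf_iff _ hF]
  rintro ⟨T⟩ x hx
  refine ((isSheaf_iff_isSheaf_of_type _ _).1 ((res g).obj (hB g)).property _ hx).isSeparatedFor.ext
    fun V f hf => ?_
  refine (FunctorToTypes.naturality π.hom ((Over.map g).map f).op x).symm.trans ?_
  refine Eq.trans hf ?_
  refine congrArg ULift.up ?_
  apply Over.OverMorphism.ext
  exact (Over.w f).symm

instance : (eOver g).EssSurj where
  mem_essImage X := by
    let F : Sp S := ⟨(sliceSub g X.hom).toFunctor, (isSheaf_iff_isSheaf_of_type _ _).2 (isSheaf_sliceSub g X.hom)⟩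
    let a : (eFun g).obj F ⟶ X.left := (eHomEquiv g F X.left).symm ⟨(sliceSub g X.hom).ι⟩
    have ha : ∀ (T' : Over S') (e : ESec g F T'), a.hom.app (op T') e = X.left.obj.map
        (Over.homMk (𝟙 T'.left) (by simpa using e.w) : T' ⟶ (Over.map g).obj (Over.mk e.hom)).op e.sec.1 :=
      fun T' e => rfl
    have w : ∀ (T' : Over S') (e : ESec g F T'),
        X.hom.hom.app (op T') (a.hom.app (op T') e) = ULift.up (Over.homMk e.hom e.w : T' ⟶ Over.mk g) := by
      intro T' e
      rw [ha]
      refine (FunctorToTypes.naturality X.hom.hom _ _).trans ?_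
      refine (congrArg _ e.sec.2).trans ?_
      refine congrArg ULift.up ?_
      apply Over.OverMorphism.ext
      exact Category.id_comp _
    have hbij : ∀ T', Function.Bijective (a.hom.app T') := by
      rintro ⟨T'⟩
      refine ⟨fun e e' h => ?_, fun y => ?_⟩
      · have hh : (e : ESec g F T').hom = (e' : ESec g F T').hom := by
          have := congrArg (fun y => (X.hom.hom.app (op T') y).down.left) h
          simpa [w] using this
        refine ESec.ext' hh (Subtype.ext ?_)
        rw [ha, ha] at h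
        change (e : ESec g F T').sec.1 = X.left.obj.map ((Over.map g).map _).op (e' : ESec g F T').sec.1
        have h2 := congrArg (X.left.obj.map
          (Over.homMk (𝟙 T'.left) (by simpa using (e : ESec g F T').w.symm) :
            (Over.map g).obj (Over.mk (e : ESec g F T').hom) ⟶ T').op) h
        rw [← FunctorToTypes.map_comp_apply, ← FunctorToTypes.map_comp_apply, ← op_comp, ← op_comp] at h2
        refine Eq.trans ?_ (h2.trans ?_)
        · refine (FunctorToTypes.map_id_apply X.left.obj _).symm.trans ?_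
          rw [← op_id]
          congr 3 <;> (ext; exact (Category.comp_id _).symm)
        · congr 3 <;> (ext; exact Category.comp_id _)
      · let q : T' ⟶ Over.mk g := (X.hom.hom.app (op T') y).down
        let i : (Over.map g).obj (Over.mk q.left) ⟶ T' := Over.homMk (𝟙 _) (by
          simpa using (Over.w q).symm)
        refine ⟨(⟨q.left, Over.w q, ⟨X.left.obj.map i.op y, ?_⟩⟩ : ESec g F T'), ?_⟩
        · refine (FunctorToTypes.naturality X.hom.hom i.op y).trans (congrArg ULift.up ?_)
          apply Over.OverMorphism.ext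
          exact Category.id_comp _
        · rw [ha]
          change X.left.obj.map _ (X.left.obj.map i.op y) = y
          rw [← FunctorToTypes.map_comp_apply, ← op_comp]
          refine Eq.trans ?_ (FunctorToTypes.map_id_apply X.left.obj y)
          rw [← op_id]
          congr 3 <;> (ext; exact Category.comp_id _)
    have : ∀ T', IsIso (a.hom.app T') := fun T' => (isIso_iff_bijective _).2 (hbij T')
    have : IsIso a.hom := NatIso.isIso_of_isIso_app _
    have : IsIso a := ⟨⟨inv a.hom⟩, Sheaf.hom_ext (IsIso.hom_inv_id _), Sheaf.hom_ext (IsIso.inv_hom_id _)⟩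
    refine ⟨F, ⟨Over.isoMk (asIso a) ?_⟩⟩
    apply Sheaf.hom_ext
    ext T' e
    exact w T'.unop e

instance : (eOver g).IsEquivalence where

/-- The extension of a scheme, as a comparison map. -/
noncomputable def eYonHom (X : Over S) :
    (eFun g).obj ((yon S).obj X) ⟶ (yon S').obj ((Over.map g).obj X) := ⟨
    { app := fun T' => ↾fun (e : ESec g ((yon S).obj X) T'.unop) => ULift.up
        (Over.homMk e.sec.down.left (by
          change e.sec.down.left ≫ X.hom ≫ g = T'.unop.hom
          rw [← Category.assoc, Over.w e.sec.down]; exact e.w) : T'.unop ⟶ (Over.map g).obj X)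
      naturality := fun A B f => by
        ext (e : ESec g ((yon S).obj X) A.unop)
        refine congrArg ULift.up ?_
        apply Over.OverMorphism.ext
        rfl }⟩

instance (X : Over S) : IsIso (eYonHom g X) := by
  let a := eYonHom g X
  have hbij : ∀ T', Function.Bijective (a.hom.app T') := by
    rintro ⟨T'⟩
    refine ⟨fun e e' h => ?_, fun y => ?_⟩
    · have h' : (e : ESec g ((yon S).obj X) T').sec.down.left = (e' : ESec g ((yon S).obj X) T').sec.down.left :=
        congrArg (fun q : ULift.{u + 1} (T' ⟶ (Over.map g).obj X) => q.down.left) h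
      have hh : (e : ESec g ((yon S).obj X) T').hom = (e' : ESec g ((yon S).obj X) T').hom :=
        (Over.w (e : ESec g ((yon S).obj X) T').sec.down).symm.trans
          (((congrArg (· ≫ X.hom) h')).trans (Over.w (e' : ESec g ((yon S).obj X) T').sec.down))
      refine ESec.ext' hh (ULift.ext _ _ ?_)
      apply Over.OverMorphism.ext
      exact h'.trans (Category.id_comp _).symm
    · refine ⟨(⟨y.down.left ≫ X.hom, by rw [Category.assoc]; exact Over.w y.down,
        ULift.up (Over.homMk y.down.left rfl)⟩ : ESec g ((yon S).obj X) T'), ?_⟩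
      refine ULift.ext _ _ ?_
      apply Over.OverMorphism.ext
      rfl
  have : ∀ T', IsIso (a.hom.app T') := fun T' => (isIso_iff_bijective _).2 (hbij T')
  have : IsIso a.hom := NatIso.isIso_of_isIso_app _
  have : IsIso a := ⟨⟨inv a.hom⟩, Sheaf.hom_ext (IsIso.hom_inv_id _), Sheaf.hom_ext (IsIso.inv_hom_id _)⟩
  exact this

/-- The extension of a scheme. -/
noncomputable def eYon (X : Over S) :
    (eFun g).obj ((yon S).obj X) ≅ (yon S').obj ((Over.map g).obj X) :=
  asIso (eYonHom g X)

theorem eYon_π (X : Over S) :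
    (eYon g X).hom ≫ (yon S').map (Over.homMk X.hom rfl : (Over.map g).obj X ⟶ Over.mk g) = eπ g _ := by
  apply Sheaf.hom_ext
  ext T' (e : ESec g ((yon S).obj X) T'.unop)
  refine congrArg ULift.up ?_
  apply Over.OverMorphism.ext
  exact Over.w e.sec.down

theorem eYon_natural {X Y : Over S} (b : X ⟶ Y) :
    (eFun g).map ((yon S).map b) ≫ (eYon g Y).hom = (eYon g X).hom ≫ (yon S').map ((Over.map g).map b) := by
  apply Sheaf.hom_ext
  ext T' (e : ESec g ((yon S).obj X) T'.unop)
  refine congrArg ULift.up ?_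
  apply Over.OverMorphism.ext
  rfl

/-- The restriction of a represented sheaf is represented by the base change. -/
noncomputable def resYon (X' : Over S') :
    ((res g).obj ((yon S').obj X')).obj.RepresentableBy (Over.mk (pullback.snd X'.hom g)) where
  homEquiv {T} := (((Over.mapPullbackAdj g).homEquiv T X').symm).trans Equiv.ulift.symm
  homEquiv_comp {T T₁} a b := by
    change ULift.up _ = ULift.up _
    exact congrArg ULift.up ((Over.mapPullbackAdj g).homEquiv_naturality_left_symm a b)

end Groth.Agent.SpPts86.Slice
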