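import Mathlib.RingTheory.Valuation.LocalSubring
import Mathlib.RingTheory.MvPolynomial.Basic
import Mathlib.RingTheory.Localization.AtPrime.Basic

/-!
Composite valuation subrings and valuation subrings with large residue fields.
-/

universe u

set_option autoImplicit false

open IsLocalRing

namespace Groth.Agent.SpPts86

/-- The composite of a valuation subring with a valuation subring of its residue field. -/
def valComposite {K : Type u} [Field K] (B : ValuationSubring K)
    (A : ValuationSubring (ResidueField B)) : ValuationSubring K where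
  toSubring := (A.toSubring.comap (residue B)).map B.subtype
  mem_or_inv_mem' x := by
    by_cases hx : x ∈ B
    · by_cases hu : IsUnit (⟨x, hx⟩ : B)
      · obtain ⟨w, hw⟩ := hu
        have hi : ((↑w⁻¹ : B) : K) = x⁻¹ := by
          refine eq_inv_of_mul_eq_one_left ?_
          have h1 : ((↑w⁻¹ * ↑w : B) : K) = 1 := by rw [Units.inv_mul]; rfl
          rw [hw] at h1
          exact h1
        rcases A.mem_or_inv_mem (residue B ↑w) with h | h
        · exact Or.inl ⟨↑w, h, congrArg Subtype.val hw⟩
        · refine Or.inr ⟨↑w⁻¹, ?_, hi⟩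
          show residue B ↑w⁻¹ ∈ A
          rw [map_units_inv]
          exact h
      · refine Or.inl ⟨⟨x, hx⟩, ?_, rfl⟩
        show residue B ⟨x, hx⟩ ∈ A
        rw [(residue_eq_zero_iff _).2 ((mem_maximalIdeal _).2 hu)]
        exact zero_mem A
    · have hx' := (B.mem_or_inv_mem x).resolve_left hx
      refine Or.inr ⟨⟨x⁻¹, hx'⟩, ?_, rfl⟩
      show residue B ⟨x⁻¹, hx'⟩ ∈ A
      rw [(residue_eq_zero_iff _).2 ((mem_maximalIdeal _).2 fun hu => ?_)]
      · exact zero_mem A
      · obtain ⟨v, hv⟩ := hu.exists_right_inv
        have h1 : x⁻¹ * (v : K) = 1 := congrArg Subtype.val hv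
        have h2 : (v : K) = x := by rw [eq_inv_of_mul_eq_one_right h1, inv_inv]
        exact hx (h2 ▸ v.2)

theorem valComposite_le {K : Type u} [Field K] (B : ValuationSubring K)
    (A : ValuationSubring (ResidueField B)) : valComposite B A ≤ B := by
  rintro x ⟨y, -, rfl⟩
  exact y.2

theorem mem_valComposite_iff {K : Type u} [Field K] (B : ValuationSubring K)
    (A : ValuationSubring (ResidueField B)) (b : B) :
    (b : K) ∈ valComposite B A ↔ residue B b ∈ A :=
  ⟨fun ⟨y, hy, e⟩ => (Subtype.ext e : y = b) ▸ hy, fun h => ⟨b, h, rfl⟩⟩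

/-- A valuation subring over a given ring with residue field containing a given field. -/
theorem exists_valuationSubring_residue {R : Type u} [CommRing R] {F L : Type u} [Field F] [Field L]
    (g : R →+* F) (β : R →+* L) (hker : RingHom.ker g ≤ RingHom.ker β) :
    ∃ (Ω : Type u) (_ : Field Ω) (ι : F →+* Ω) (B : ValuationSubring Ω) (i : R →+* B)
      (τ : L →+* ResidueField B),
      B.subtype.comp i = ι.comp g ∧ (residue B).comp i = τ.comp β := by
  let ev : MvPolynomial L R →+* L := MvPolynomial.eval₂Hom β id
  have hev : Function.Surjective ev := fun l => ⟨MvPolynomial.X l, MvPolynomial.eval₂Hom_X' _ _ _⟩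
  let P := RingHom.ker ev
  haveI : P.IsPrime := RingHom.ker_isPrime ev
  let Ω := FractionRing (MvPolynomial L F)
  let G : MvPolynomial L R →+* Ω := (algebraMap (MvPolynomial L F) Ω).comp (MvPolynomial.map g)
  have hG : ∀ y : P.primeCompl, IsUnit (G y) := by
    rintro ⟨y, hy⟩
    refine (isUnit_iff_ne_zero).2 fun h0 => hy ?_
    have h1 : MvPolynomial.map g y = 0 :=
      IsFractionRing.injective (MvPolynomial L F) Ω (h0.trans (map_zero _).symm)
    show ev y = 0
    rw [MvPolynomial.as_sum y, map_sum]
    refine Finset.sum_eq_zero fun m _ => ?_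
    have h2 : β (MvPolynomial.coeff m y) = 0 := hker (by
      show g (MvPolynomial.coeff m y) = 0
      rw [← MvPolynomial.coeff_map, h1, MvPolynomial.coeff_zero])
    show MvPolynomial.eval₂ β id (MvPolynomial.monomial m _) = 0
    rw [MvPolynomial.eval₂_monomial, h2, zero_mul]
  have hev' : ∀ y : P.primeCompl, IsUnit (ev y) := fun y => isUnit_iff_ne_zero.2 y.2
  let G' : Localization.AtPrime P →+* Ω := IsLocalization.lift hG
  let ev' : Localization.AtPrime P →+* L := IsLocalization.lift hev'
  have hev2 : Function.Surjective ev' := fun l => by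
    obtain ⟨p, rfl⟩ := hev l
    exact ⟨algebraMap _ _ p, IsLocalization.lift_eq _ _⟩
  obtain ⟨B, hB, hloc⟩ := exists_factor_valuationRing G'
  let G'' : Localization.AtPrime P →+* B := G'.codRestrict B.toSubring hB
  haveI : IsLocalHom G'' := hloc
  have hker2 : RingHom.ker ev' ≤ RingHom.ker ((residue B).comp G'') := by
    intro z hz
    show residue B (G'' z) = 0
    rw [residue_eq_zero_iff, mem_maximalIdeal]
    intro hu
    exact (IsUnit.map ev' (isUnit_of_map_unit G'' z hu)).ne_zero hz
  let τ : L →+* ResidueField B := RingHom.liftOfRightInverse ev' (Function.surjInv hev2)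
    (Function.rightInverse_surjInv hev2) ⟨(residue B).comp G'', hker2⟩
  refine ⟨Ω, inferInstance, (algebraMap (MvPolynomial L F) Ω).comp (MvPolynomial.C (σ := L)), B,
    G''.comp ((algebraMap (MvPolynomial L R) _).comp MvPolynomial.C), τ, ?_, ?_⟩
  · ext r
    show G' (algebraMap (MvPolynomial L R) _ (MvPolynomial.C r)) = _
    rw [IsLocalization.lift_eq]
    show algebraMap (MvPolynomial L F) Ω (MvPolynomial.map g (MvPolynomial.C r)) = _
    rw [MvPolynomial.map_C]
    rfl
  · ext r
    have h1 : β r = ev' (algebraMap (MvPolynomial L R) _ (MvPolynomial.C r)) :=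
      ((IsLocalization.lift_eq hev' _).trans (MvPolynomial.eval₂Hom_C _ _ _)).symm
    show _ = τ (β r)
    rw [h1]
    exact (RingHom.liftOfRightInverse_comp_apply ev' _ (Function.rightInverse_surjInv hev2)
      ⟨(residue B).comp G'', hker2⟩ _).symm

end Groth.Agent.SpPts86
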